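import Cfsg.Agent.Lib.Fusion.NormalCriteria
import Cfsg.Agent.Lib.SylowCount.Basic

/-!
Tools for the saturation criterion: Sylow subgroups sitting inside a given subgroup, stabilizers
`Aut_F(R)_Q`, and twisting an isomorphism inside a prescribed group of automorphisms.
-/

set_option autoImplicit false
set_option linter.unusedSectionVars false

namespace Cfsg.Agent.Fusion

open Cfsg Cfsg.FusionSystem
open scoped Pointwise

section SylowInside

variable {X : Type*} [Group X] {p : ℕ}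

/-- Some Sylow subgroup of `B` lies in `T`. -/
def SylowInside (p : ℕ) (B T : Subgroup X) : Prop :=
  ∃ U : Sylow p B, (U : Subgroup B).map B.subtype ≤ T

variable [Finite X] [Fact p.Prime]

theorem SylowInside.absorb {B T V : Subgroup X} (h : SylowInside p B T) (hV : V ≤ B)
    (hVp : IsPGroup p V) : ∃ k ∈ B, ∀ v ∈ V, k * v * k⁻¹ ∈ T := by
  obtain ⟨U, hU⟩ := h
  obtain ⟨U', hU'⟩ := (hVp.comap_subtype (K := B)).exists_le_sylow
  obtain ⟨k, hk⟩ := MulAction.exists_smul_eq B U' U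
  refine ⟨k, k.2, fun v hv => hU ⟨k * ⟨v, hV hv⟩ * k⁻¹, ?_, rfl⟩⟩
  rw [← hk, Sylow.coe_subgroup_smul]
  exact Subgroup.smul_mem_pointwise_smul _ (MulAut.conj k) _ (hU' hv)

theorem SylowInside.of_normal {B T K : Subgroup X} (h : SylowInside p B T) (hKB : K ≤ B)
    (hn : (K.subgroupOf B).Normal) : SylowInside p K T := by
  obtain ⟨U, hU⟩ := h
  obtain ⟨R, hR⟩ := Cfsg.Agent.SylowCount.exists_sylow_inf U (K.subgroupOf B)
  let e := Subgroup.subgroupOfEquivOfLe hKB
  refine ⟨R.mapSurjective (f := e.toMonoidHom) e.surjective, ?_⟩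
  rintro _ ⟨y, hy, rfl⟩
  obtain ⟨x, hx, rfl⟩ := hy
  rw [hR] at hx
  exact hU ⟨x, hx, rfl⟩

/-- A conjugate of `B` has a Sylow subgroup inside a Sylow subgroup of an overgroup. -/
theorem exists_conj_sylowInside {A B T : Subgroup X} (hBA : B ≤ A) (U : Sylow p A)
    (hU : (U : Subgroup A).map A.subtype ≤ T) :
    ∃ β ∈ A, SylowInside p (B.map (MulAut.conj β).toMonoidHom) T := by
  obtain ⟨W⟩ : Nonempty (Sylow p B) := Sylow.nonempty
  obtain ⟨W', hW'⟩ :=
    ((W.2.map B.subtype).comap_subtype (K := A)).exists_le_sylow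
  obtain ⟨β, hβ⟩ := MulAction.exists_smul_eq A W' U
  refine ⟨β, β.2, ?_⟩
  let e := B.equivMapOfInjective (MulAut.conj (β : X)).toMonoidHom (MulAut.conj (β : X)).injective
  refine ⟨W.mapSurjective (f := e.toMonoidHom) e.surjective, ?_⟩
  rintro _ ⟨y, hy, rfl⟩
  obtain ⟨x, hx, rfl⟩ := hy
  refine hU ⟨β * ⟨x, hBA x.2⟩ * β⁻¹, ?_, rfl⟩
  rw [← hβ, Sylow.coe_subgroup_smul]
  exact Subgroup.smul_mem_pointwise_smul _ (MulAut.conj β) _ (hW' ⟨x, hx, rfl⟩)

theorem sylowInside_of_le {B T L : Subgroup X} (U : Sylow p B)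
    (hU : (U : Subgroup B).map B.subtype ≤ T) (hLB : L ≤ B)
    (hUL : ∀ u : B, u ∈ (U : Subgroup B) → (u : X) ∈ L) : SylowInside p L T := by
  have hle : (U : Subgroup B) ≤ L.subgroupOf B := fun u hu => hUL u hu
  let e := Subgroup.subgroupOfEquivOfLe hLB
  refine ⟨(U.subtype hle).mapSurjective (f := e.toMonoidHom) e.surjective, ?_⟩
  rintro _ ⟨y, hy, rfl⟩
  obtain ⟨x, hx, rfl⟩ := hy
  exact hU ⟨x, hx, rfl⟩

/-- A normal `p`-subgroup lies in any subgroup containing a Sylow subgroup. -/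
theorem SylowInside.le_of_normal_pGroup {B T K : Subgroup X} (h : SylowInside p B T)
    (hKB : K ≤ B) (hn : (K.subgroupOf B).Normal) (hK : IsPGroup p K) : K ≤ T := by
  obtain ⟨U, hU⟩ := h.of_normal hKB hn
  intro x hx
  have h1 : (U : Subgroup K) = ⊤ := (U.is_maximal' (hK.to_subgroup ⊤) le_top).symm
  exact hU ⟨⟨x, hx⟩, h1.symm ▸ Subgroup.mem_top _, rfl⟩

end SylowInside

variable {Ω : Type*} [Group Ω] {S : Subgroup Ω} {F : FusionSystem S} {p : ℕ}

/-- `g` normalizes both `A` and `B`, hence their join. -/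
theorem mem_normalizer_of_forall {P : Subgroup Ω} [Finite P] {g : Ω}
    (h : ∀ x ∈ P, g * x * g⁻¹ ∈ P) : g ∈ Subgroup.normalizer (P : Set Ω) := by
  let f : P → P := fun x => ⟨g * x * g⁻¹, h x x.2⟩
  have hf : Function.Injective f := fun a b hab =>
    Subtype.ext (mul_left_cancel (mul_right_cancel (congrArg Subtype.val hab)))
  refine Subgroup.mem_normalizer_iff.2 fun y => ⟨h y, fun hy => ?_⟩
  obtain ⟨x, hx⟩ := (Finite.injective_iff_surjective.1 hf) ⟨_, hy⟩
  rw [← mul_left_cancel (mul_right_cancel (congrArg Subtype.val hx))]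
  exact x.2

/-! ### Stabilizers -/

/-- The elements of `Aut_F(R)` carrying `Q` to itself. -/
def stabAut (F : FusionSystem S) (R Q : Subgroup Ω) : Subgroup (MulAut R) where
  carrier := {a | a ∈ F.autGroup R ∧ ∀ x : R, (x : Ω) ∈ Q ↔ ((a x : R) : Ω) ∈ Q}
  one_mem' := ⟨one_mem _, fun _ => Iff.rfl⟩
  mul_mem' := fun {a b} ha hb =>
    ⟨mul_mem ha.1 hb.1, fun x => (hb.2 x).trans (ha.2 (b x))⟩
  inv_mem' := fun {a} ha => ⟨inv_mem ha.1, fun x => by
    have h := ha.2 (a⁻¹ x)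
    rw [MulAut.apply_inv_self] at h
    exact h.symm⟩

theorem mem_stabAut {R Q : Subgroup Ω} {a : MulAut R} :
    a ∈ stabAut F R Q ↔ a ∈ F.autGroup R ∧ ∀ x : R, (x : Ω) ∈ Q ↔ ((a x : R) : Ω) ∈ Q := Iff.rfl

theorem stabAut_le (R Q : Subgroup Ω) : stabAut F R Q ≤ F.autGroup R := fun _ h => h.1

/-- The image of `Q` under an automorphism of `R`. -/
def autImage {R : Subgroup Ω} (β : MulAut R) (Q : Subgroup Ω) : Subgroup Ω :=
  (Q.subgroupOf R).map (R.subtype.comp β.toMonoidHom)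

theorem mem_autImage {R : Subgroup Ω} {β : MulAut R} {Q : Subgroup Ω} {x : R} :
    ((β x : R) : Ω) ∈ autImage β Q ↔ (x : Ω) ∈ Q := by
  constructor
  · rintro ⟨y, hy, h⟩
    rwa [← β.injective (Subtype.ext h : β y = β x)]
  · exact fun h => ⟨x, h, rfl⟩

theorem autImage_le {R : Subgroup Ω} (β : MulAut R) (Q : Subgroup Ω) : autImage β Q ≤ R := by
  rintro _ ⟨x, -, rfl⟩
  exact (β x).2

theorem map_stabAut {R Q : Subgroup Ω} {β : MulAut R} (hβ : β ∈ F.autGroup R) :
    (stabAut F R Q).map (MulAut.conj β).toMonoidHom = stabAut F R (autImage β Q) := by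
  ext a
  constructor
  · rintro ⟨b, hb, rfl⟩
    refine ⟨mul_mem (mul_mem hβ hb.1) (inv_mem hβ), fun x => ?_⟩
    obtain ⟨y, rfl⟩ := β.surjective x
    show ((β y : R) : Ω) ∈ autImage β Q ↔ ((β (b (β⁻¹ (β y))) : R) : Ω) ∈ autImage β Q
    rw [MulAut.inv_apply_self, mem_autImage, mem_autImage]
    exact hb.2 y
  · intro ha
    refine ⟨β⁻¹ * a * β, ⟨mul_mem (mul_mem (inv_mem hβ) ha.1) hβ, fun x => ?_⟩, ?_⟩
    · have h := ha.2 (β x)
      rw [mem_autImage] at h
      rw [h, ← mem_autImage (β := β) (x := (β⁻¹ * a * β) x), MulAut.mul_apply, MulAut.mul_apply,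
        MulAut.apply_inv_self]
    · show β * (β⁻¹ * a * β) * β⁻¹ = a
      group

variable [Finite S]

/-- Restriction of the stabilizer of `Q` to `Q`. -/
def restrictStab (F : FusionSystem S) {R Q : Subgroup Ω} (hQ : Q ≤ R) :
    stabAut F R Q →* MulAut Q where
  toFun b :=
    { toFun := fun y => ⟨((b : MulAut R) (Subgroup.inclusion hQ y) : R), (b.2.2 _).1 y.2⟩
      invFun := fun y => ⟨(((b⁻¹ : stabAut F R Q) : MulAut R) (Subgroup.inclusion hQ y) : R),
        ((b⁻¹ : stabAut F R Q).2.2 _).1 y.2⟩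
      left_inv := fun y => by
        ext
        show (((b : MulAut R)⁻¹ ((b : MulAut R) (Subgroup.inclusion hQ y)) : R) : Ω) = _
        rw [MulAut.inv_apply_self]
        rfl
      right_inv := fun y => by
        ext
        show (((b : MulAut R) ((b : MulAut R)⁻¹ (Subgroup.inclusion hQ y)) : R) : Ω) = _
        rw [MulAut.apply_inv_self]
        rfl
      map_mul' := fun x y => Subtype.ext (by simp) }
  map_one' := MulEquiv.ext fun _ => rfl
  map_mul' _ _ := MulEquiv.ext fun _ => rfl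

theorem coe_restrictStab {R Q : Subgroup Ω} (hQ : Q ≤ R) (b : stabAut F R Q) (y : Q) :
    ((restrictStab F hQ b y : Q) : Ω) = ((b : MulAut R) (Subgroup.inclusion hQ y) : R) := rfl

theorem restrictStab_mem {R Q : Subgroup Ω} (hR : R ≤ S) (hQ : Q ≤ R) (b : stabAut F R Q) :
    restrictStab F hQ b ∈ F.autGroup Q :=
  (mem_autGroup_iff (hQ.trans hR)).2
    (mem_of_le ((mem_autGroup_iff hR).1 b.2.1) hQ fun y => rfl)

variable {P R R' Q : Subgroup Ω} {θ : R →* Ω}

/-- Transported conjugations lie in the stabilizer. -/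
theorem congr_conjAut_mem_stab (hθ : θ ∈ F.Hom R) (hr : θ.range = R')
    (hQ : (P.subgroupOf R).map θ = Q) {g : Ω} (hgS : g ∈ S)
    (hgR : g ∈ Subgroup.normalizer (R : Set Ω)) (hgP : g ∈ Subgroup.normalizer (P : Set Ω)) :
    MulAut.congr (homEquiv hθ hr) (conjAut hgR) ∈ stabAut F R' Q := by
  refine ⟨congr_mem_autGroup hθ hr
    (autInducedBy_le_autGroup F (dom_le hθ) (conjAut_mem_autInducedBy hgS hgR)), fun y => ?_⟩
  obtain ⟨x, rfl⟩ := (homEquiv hθ hr).surjective y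
  rw [congr_apply, coe_homEquiv, coe_homEquiv]
  have key : ∀ z : R, θ z ∈ Q ↔ (z : Ω) ∈ P := by
    intro z
    constructor
    · intro h
      obtain ⟨w, hw, he⟩ := hQ.ge h
      rwa [← F.injective_of_mem hθ he]
    · exact fun h => hQ.le ⟨z, h, rfl⟩
  rw [key, key]
  exact Subgroup.mem_normalizer_iff.1 hgP x

/-- Twisting inside a subgroup `K` of `Aut_F(R')` with a Sylow subgroup in `Aut_S(R')`. -/
theorem exists_twist_in [Fact p.Prime] (hS : IsPGroup p S) (hrec : F.IsReceptive R')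
    (hθ : θ ∈ F.Hom R) (hr : θ.range = R') (K : Subgroup (MulAut R')) (hKA : K ≤ F.autGroup R')
    (hK : SylowInside p K (autInducedBy S R')) (D : Subgroup Ω) (hDS : D ≤ S)
    (hDR : D ≤ Subgroup.normalizer (R : Set Ω))
    (hDK : ∀ g (hg : g ∈ D), MulAut.congr (homEquiv hθ hr) (conjAut (hDR hg)) ∈ K) :
    ∃ k ∈ K, ∃ ψ ∈ F.Hom (R ⊔ D), ∀ x : R,
      ψ (Subgroup.inclusion le_sup_left x) = ((k (homEquiv hθ hr x) : R') : Ω) := by
  have hRS := dom_le hθ
  have := finite_mulAut (Ω := Ω) hrec.1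
  let f : D →* MulAut R' := (MulAut.congr (homEquiv hθ hr)).toMonoidHom.comp
    (R.normalizerMonoidHom.comp (Subgroup.inclusion hDR))
  have hf : ∀ g : D, f g = MulAut.congr (homEquiv hθ hr) (conjAut (hDR g.2)) := fun g => rfl
  have hV : f.range ≤ K := by
    rintro _ ⟨g, rfl⟩
    rw [hf]
    exact hDK g g.2
  obtain ⟨k, hk, hkV⟩ := hK.absorb hV
    (IsPGroup.of_surjective (hS.to_le hDS) f.rangeRestrict f.rangeRestrict_surjective)
  let φ : R →* Ω := (R'.subtype.comp k.toMonoidHom).comp (homEquiv hθ hr).toMonoidHom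
  have hφv : ∀ x : R, φ x = ((k (homEquiv hθ hr x) : R') : Ω) := fun x => rfl
  have hφ : φ ∈ F.Hom R := aut_comp_mem hθ hr (hKA hk) hφv
  have hφr : φ.range = R' := range_eq_of_aut hθ hr _ hφv
  have hle : R ⊔ D ≤ extender S R φ := by
    refine sup_le (le_extender hRS fun x => apply_mem hφ x) fun g hg => ?_
    refine (mem_extender_iff_congr hφ hφr).2 ⟨hDS hg, hDR hg, ?_⟩
    have h1 := hkV _ ⟨⟨g, hg⟩, rfl⟩
    have he : homEquiv hφ hφr = (homEquiv hθ hr).trans k :=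
      MulEquiv.ext fun x => Subtype.ext rfl
    rw [he]
    convert h1 using 1
    exact MulEquiv.ext fun y => rfl
  obtain ⟨ψ, hψ, he⟩ := exists_extension hrec hφ hφr hle
  exact ⟨k, hk, ψ, hψ, fun x => (he x x.2 _).trans (hφv x)⟩

end Cfsg.Agent.Fusion
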