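import Cfsg.Agent.Lib.Fusion.Basic
import Cfsg.Prelude.Def_FusionComponents

/-!
Existence of the normalizer system, the centralizer system and the factor system modulo a strongly
closed subgroup.
-/

set_option autoImplicit false

namespace Cfsg.Agent.Fusion

open Cfsg Cfsg.FusionSystem

variable {Ω : Type*} [Group Ω] {S : Subgroup Ω} {F : FusionSystem S}

/-- A map on `A ⊔ B` takes values in `K` as soon as it does so on `A` and on `B`. -/
theorem forall_sup_mem {A B K : Subgroup Ω} (ψ : ↥(A ⊔ B) →* Ω)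
    (hA : ∀ x : A, ψ (Subgroup.inclusion le_sup_left x) ∈ K)
    (hB : ∀ x : B, ψ (Subgroup.inclusion le_sup_right x) ∈ K) (z : ↥(A ⊔ B)) : ψ z ∈ K := by
  have h : A.subgroupOf (A ⊔ B) ⊔ B.subgroupOf (A ⊔ B) ≤ K.comap ψ := by
    refine sup_le (fun x hx => ?_) (fun x hx => ?_)
    · exact hA ⟨x, hx⟩
    · exact hB ⟨x, hx⟩
  have hz : z ∈ A.subgroupOf (A ⊔ B) ⊔ B.subgroupOf (A ⊔ B) := by
    rw [← Subgroup.subgroupOf_sup le_sup_left le_sup_right, Subgroup.subgroupOf_self]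
    exact Subgroup.mem_top z
  exact h hz

/-- Two maps on `A ⊔ B` agreeing on `A` and on `B` are equal. -/
theorem hom_sup_ext {M : Type*} [Group M] {A B : Subgroup Ω} {f g : ↥(A ⊔ B) →* M}
    (hA : ∀ x : A, f (Subgroup.inclusion le_sup_left x) = g (Subgroup.inclusion le_sup_left x))
    (hB : ∀ x : B, f (Subgroup.inclusion le_sup_right x) = g (Subgroup.inclusion le_sup_right x)) :
    f = g := by
  have h : A.subgroupOf (A ⊔ B) ⊔ B.subgroupOf (A ⊔ B) ≤ f.eqLocus g := by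
    refine sup_le (fun x hx => ?_) (fun x hx => ?_)
    · exact hA ⟨x, hx⟩
    · exact hB ⟨x, hx⟩
  rw [← Subgroup.subgroupOf_sup le_sup_left le_sup_right, Subgroup.subgroupOf_self] at h
  exact MonoidHom.ext fun z => h (Subgroup.mem_top z)

theorem map_subgroupOf_le {Q R : Subgroup Ω} {ψ : R →* Ω} (hQ : (Q.subgroupOf R).map ψ = Q)
    (hQR : Q ≤ R) (x : Q) : ψ (Subgroup.inclusion hQR x) ∈ Q :=
  hQ.le ⟨_, x.2, rfl⟩

/-- The range of an extension to `P ⊔ Q`. -/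
theorem range_sup_eq {P Q Q' : Subgroup Ω} {φ : P →* Ω} {ψ : ↥(P ⊔ Q) →* Ω}
    (hφ : ∀ x : P, ψ (Subgroup.inclusion le_sup_left x) = φ x)
    (hQ : (Q.subgroupOf (P ⊔ Q)).map ψ = Q') : ψ.range = φ.range ⊔ Q' := by
  rw [MonoidHom.range_eq_map, ← Subgroup.subgroupOf_self (H := P ⊔ Q),
    Subgroup.subgroupOf_sup le_sup_left le_sup_right, Subgroup.map_sup, hQ]
  congr 1
  ext y
  constructor
  · rintro ⟨x, hx, rfl⟩
    exact ⟨⟨x, hx⟩, (hφ ⟨x, hx⟩).symm⟩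
  · rintro ⟨x, rfl⟩
    exact ⟨_, x.2, hφ x⟩

/-- The normalizer system `N_F(Q)`. -/
def normalizerSystem (F : FusionSystem S) (Q : Subgroup Ω) (hQ : Q ≤ S) :
    FusionSystem (normalizerIn S Q) where
  Hom P := F.normalizerHom Q P
  le_of_mem h := ⟨h.2.1, h.2.2.1⟩
  injective_of_mem h := F.injective_of_mem h.1
  conj_mem := by
    intro P g hP hg
    have hPS : P ≤ S := hP.trans inf_le_left
    refine ⟨F.conj_mem hPS hg.1, hP, fun x => ?_, conjHom (P ⊔ Q) g,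
      F.conj_mem (sup_le hPS hQ) hg.1, fun x => rfl, ?_⟩
    · exact mul_mem (mul_mem hg (hP x.2)) (inv_mem hg)
    · ext y
      constructor
      · rintro ⟨⟨z, hz⟩, hzQ, rfl⟩
        exact (Subgroup.mem_normalizer_iff.1 hg.2 z).1 hzQ
      · intro hy
        have hz : g⁻¹ * y * g ∈ Q := by
          have := (Subgroup.mem_normalizer_iff.1 hg.2 (g⁻¹ * y * g)).2 (by simpa [mul_assoc] using hy)
          exact this
        exact ⟨⟨_, Subgroup.mem_sup_right hz⟩, hz, by simp [conjHom_apply, mul_assoc]⟩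
  comp_mem := by
    rintro P R φ χ ⟨hφ, hP, hφN, ψ, hψ, hψP, hψQ⟩ ⟨hχ, -, hχN, ρ, hρ, hρR, hρQ⟩ h
    have hmem : ∀ z, ψ z ∈ R ⊔ Q := forall_sup_mem ψ
      (fun x => Subgroup.mem_sup_left (hψP x ▸ h x))
      (fun x => Subgroup.mem_sup_right (map_subgroupOf_le hψQ le_sup_right x))
    refine ⟨F.comp_mem hφ hχ h, hP, fun x => hχN _, ρ.comp (ψ.codRestrict (R ⊔ Q) hmem),
      F.comp_mem hψ hρ hmem, fun x => ?_, ?_⟩
    · show ρ ⟨ψ _, _⟩ = χ ⟨φ x, h x⟩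
      rw [← hρR ⟨φ x, h x⟩]
      exact congrArg ρ (Subtype.ext (hψP x))
    · ext y
      constructor
      · rintro ⟨z, hz, rfl⟩
        exact hρQ.le ⟨⟨ψ z, hmem z⟩, hψQ.le ⟨z, hz, rfl⟩, rfl⟩
      · intro hy
        obtain ⟨w, hw, rfl⟩ := hρQ.ge hy
        obtain ⟨z, hz, hzw⟩ := hψQ.ge hw
        exact ⟨z, hz, congrArg ρ (Subtype.ext hzw)⟩
  inv_mem := by
    intro P φ hmem
    obtain ⟨hφ, hP, hφN, ψ, hψ, hψP, hψQ⟩ := hmem
    obtain ⟨ρ, hρ, -, hi, -⟩ := exists_inverse hψ (range_sup_eq hψP hψQ)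
    have hin : ∀ (x : P) (h : φ x ∈ φ.range ⊔ Q), ρ ⟨φ x, h⟩ = (x : Ω) := by
      intro x h
      have := hi (Subgroup.inclusion le_sup_left x) (by rw [hψP]; exact h)
      simpa [hψP] using this
    refine ⟨ρ.comp (Subgroup.inclusion le_sup_left), ⟨restrict_mem hρ le_sup_left, ?_, ?_, ρ, hρ,
      fun y => rfl, ?_⟩, fun x => hin x _⟩
    · rintro _ ⟨x, rfl⟩
      exact hφN x
    · rintro ⟨_, x, rfl⟩
      show ρ ⟨φ x, Subgroup.mem_sup_left ⟨x, rfl⟩⟩ ∈ _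
      rw [hin x]
      exact hP x.2
    · ext y
      constructor
      · rintro ⟨⟨z, hz⟩, hzQ, rfl⟩
        obtain ⟨w, hw, rfl⟩ := hψQ.ge hzQ
        rw [hi w]
        exact hw
      · intro hy
        have hw := map_subgroupOf_le hψQ le_sup_right ⟨y, hy⟩
        exact ⟨⟨_, Subgroup.mem_sup_right hw⟩, hw, hi _ _⟩

theorem normalizerSystem_spec (F : FusionSystem S) (Q : Subgroup Ω) (hQ : Q ≤ S) :
    F.IsNormalizerSystem Q (normalizerSystem F Q hQ) := fun _ => rfl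

/-- The centralizer system `C_F(Q)`. -/
def centralizerSystem (F : FusionSystem S) (Q : Subgroup Ω) (hQ : Q ≤ S) :
    FusionSystem (centralizerIn S Q) where
  Hom P := F.centralizerHom Q P
  le_of_mem h := ⟨h.2.1, h.2.2.1⟩
  injective_of_mem h := F.injective_of_mem h.1
  conj_mem := by
    intro P g hP hg
    have hPS : P ≤ S := hP.trans inf_le_left
    refine ⟨F.conj_mem hPS hg.1, hP, fun x => ?_, conjHom (P ⊔ Q) g,
      F.conj_mem (sup_le hPS hQ) hg.1, fun x => rfl, fun x => ?_⟩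
    · exact mul_mem (mul_mem hg (hP x.2)) (inv_mem hg)
    · show g * (x : Ω) * g⁻¹ = x
      rw [← hg.2 x x.2, mul_inv_cancel_right]
  comp_mem := by
    rintro P R φ χ ⟨hφ, hP, hφN, ψ, hψ, hψP, hψQ⟩ ⟨hχ, -, hχN, ρ, hρ, hρR, hρQ⟩ h
    have hmem : ∀ z, ψ z ∈ R ⊔ Q := forall_sup_mem ψ
      (fun x => Subgroup.mem_sup_left (hψP x ▸ h x))
      (fun x => Subgroup.mem_sup_right (by rw [hψQ x]; exact x.2))
    refine ⟨F.comp_mem hφ hχ h, hP, fun x => hχN _, ρ.comp (ψ.codRestrict (R ⊔ Q) hmem),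
      F.comp_mem hψ hρ hmem, fun x => ?_, fun x => ?_⟩
    · show ρ ⟨ψ _, _⟩ = χ ⟨φ x, h x⟩
      rw [← hρR ⟨φ x, h x⟩]
      exact congrArg ρ (Subtype.ext (hψP x))
    · show ρ ⟨ψ _, _⟩ = x
      rw [show (⟨ψ (Subgroup.inclusion le_sup_right x), hmem _⟩ : ↥(R ⊔ Q)) =
        Subgroup.inclusion le_sup_right x from Subtype.ext (hψQ x)]
      exact hρQ x
  inv_mem := by
    intro P φ hmem
    obtain ⟨hφ, hP, hφN, ψ, hψ, hψP, hψQ⟩ := hmem
    have hQmap : (Q.subgroupOf (P ⊔ Q)).map ψ = Q := by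
      ext y
      constructor
      · rintro ⟨z, hz, rfl⟩
        have := hψQ ⟨z, hz⟩
        exact (show ψ z = (z : Ω) from this).symm ▸ hz
      · intro hy
        exact ⟨_, hy, hψQ ⟨y, hy⟩⟩
    obtain ⟨ρ, hρ, -, hi, -⟩ := exists_inverse hψ (range_sup_eq hψP hQmap)
    have hin : ∀ (x : P) (h : φ x ∈ φ.range ⊔ Q), ρ ⟨φ x, h⟩ = (x : Ω) := by
      intro x h
      have := hi (Subgroup.inclusion le_sup_left x) (by rw [hψP]; exact h)
      simpa [hψP] using this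
    refine ⟨ρ.comp (Subgroup.inclusion le_sup_left), ⟨restrict_mem hρ le_sup_left, ?_, ?_, ρ, hρ,
      fun y => rfl, fun y => ?_⟩, fun x => hin x _⟩
    · rintro _ ⟨x, rfl⟩
      exact hφN x
    · rintro ⟨_, x, rfl⟩
      show ρ ⟨φ x, Subgroup.mem_sup_left ⟨x, rfl⟩⟩ ∈ _
      rw [hin x]
      exact hP x.2
    · have := hi (Subgroup.inclusion le_sup_right y) (by rw [hψQ]; exact Subgroup.mem_sup_right y.2)
      refine (congrArg ρ (Subtype.ext ?_)).trans this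
      exact (hψQ y).symm

theorem centralizerSystem_spec (F : FusionSystem S) (Q : Subgroup Ω) (hQ : Q ≤ S) :
    F.IsCentralizerSystem Q (centralizerSystem F Q hQ) := fun _ => rfl

/-! ### Factor systems -/

variable {Ω' : Type*} [Group Ω']

theorem mem_preimageAlong {θ : S →* Ω'} {P' : Subgroup Ω'} {x : Ω} :
    x ∈ preimageAlong θ P' ↔ ∃ hx : x ∈ S, θ ⟨x, hx⟩ ∈ P' := by
  constructor
  · rintro ⟨y, hy, rfl⟩
    exact ⟨y.2, hy⟩
  · rintro ⟨hx, h⟩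
    exact ⟨⟨x, hx⟩, h, rfl⟩

theorem preimageAlong_le (θ : S →* Ω') (P' : Subgroup Ω') : preimageAlong θ P' ≤ S :=
  Subgroup.map_subtype_le _

/-- A map whose source contains a strongly closed subgroup carries it onto itself. -/
theorem image_stronglyClosed [Finite S] {T R : Subgroup Ω} (hT : F.StronglyClosed T)
    {φ : R →* Ω} (hφ : φ ∈ F.Hom R) (hTR : T ≤ R) : (T.subgroupOf R).map φ = T :=
  (map_subgroupOf_eq_iff hφ hTR).2 fun x hx =>
    hT.2 T le_rfl _ (restrict_mem hφ hTR) ⟨x, hx⟩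

/-- The factor system modulo a strongly closed subgroup, along any `θ` with that kernel. -/
noncomputable def factorSystem [Finite S] (F : FusionSystem S) {S₀ : Subgroup Ω}
    (hS₀ : F.StronglyClosed S₀) {S' : Subgroup Ω'} (θ : S →* Ω')
    (hker : ∀ s : S, θ s = 1 ↔ (s : Ω) ∈ S₀) (hr : θ.range = S') : FusionSystem S' where
  Hom P' := {φ' | P' ≤ S' ∧ ∃ φ ∈ F.Hom (preimageAlong θ P'), InducedAlong θ φ φ'}
  le_of_mem := by
    rintro P' φ' ⟨hP', φ, hφ, hP, hφS, hP'2, h⟩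
    refine ⟨hP', fun y => ?_⟩
    obtain ⟨⟨s, hs⟩, hsy⟩ := hr.ge (hP' y.2)
    have hx : s ∈ preimageAlong θ P' := mem_preimageAlong.2 ⟨hs, hsy ▸ y.2⟩
    have := h ⟨s, hx⟩
    rw [show (⟨θ ⟨s, hs⟩, hP'2 ⟨s, hx⟩⟩ : P') = y from Subtype.ext hsy] at this
    rw [this]
    exact hr ▸ ⟨_, rfl⟩
  injective_of_mem := by
    rintro P' φ' ⟨hP', φ, hφ, hP, hφS, hP'2, h⟩
    rw [injective_iff_map_eq_one]
    intro y hy
    obtain ⟨⟨s, hs⟩, hsy⟩ := hr.ge (hP' y.2)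
    have hx : s ∈ preimageAlong θ P' := mem_preimageAlong.2 ⟨hs, hsy ▸ y.2⟩
    have hle : S₀ ≤ preimageAlong θ P' := fun z hz =>
      mem_preimageAlong.2 ⟨hS₀.1 hz, by rw [(hker ⟨z, hS₀.1 hz⟩).2 hz]; exact one_mem _⟩
    have he : y = ⟨θ ⟨s, hs⟩, hP'2 ⟨s, hx⟩⟩ := Subtype.ext hsy.symm
    have h1 := h ⟨s, hx⟩
    rw [← he, hy] at h1
    obtain ⟨z, hz, hze⟩ :=
      (image_stronglyClosed hS₀ hφ hle).ge ((hker ⟨φ ⟨s, hx⟩, hφS _⟩).1 h1.symm)
    have hzs : (⟨s, hx⟩ : preimageAlong θ P') = z := F.injective_of_mem hφ hze.symm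
    rw [he]
    exact Subtype.ext ((hker ⟨s, hs⟩).2 (by rw [← hzs] at hz; exact hz))
  conj_mem := by
    intro P' g' hP' hg'
    obtain ⟨g, rfl⟩ := hr.ge hg'
    refine ⟨hP', conjHom _ g, F.conj_mem (preimageAlong_le θ P') g.2, preimageAlong_le θ P',
      fun x => apply_mem (F.conj_mem (preimageAlong_le θ P') g.2) x,
      fun x => (mem_preimageAlong.1 x.2).2, fun x => ?_⟩
    show θ g * θ _ * (θ g)⁻¹ = θ _
    rw [← map_inv, ← map_mul, ← map_mul]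
    rfl
  comp_mem := by
    rintro P' Q' φ' χ' ⟨hP', φ, hφ, hP, hφS, hP2, h1⟩ ⟨hQ', χ, hχ, hQ, hχS, hQ2, h2⟩ hv
    have hmem : ∀ x, φ x ∈ preimageAlong θ Q' := fun x =>
      mem_preimageAlong.2 ⟨hφS x, h1 x ▸ hv _⟩
    refine ⟨hP', χ.comp (φ.codRestrict _ hmem), F.comp_mem hφ hχ hmem, hP, fun x => hχS _, hP2,
      fun x => ?_⟩
    show χ' ⟨φ' _, _⟩ = θ ⟨χ _, _⟩
    have h3 := h2 ⟨φ x, hmem x⟩
    rw [show (⟨φ' ⟨θ ⟨x, hP x.2⟩, hP2 x⟩, hv _⟩ : Q') = ⟨θ ⟨φ x, hQ (hmem x)⟩, hQ2 ⟨φ x, hmem x⟩⟩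
      from Subtype.ext (h1 x), h3]
    rfl
  inv_mem := by
    intro P' φ' hmem
    obtain ⟨hP', φ, hφ, hP, hφS, hP2, h⟩ := hmem
    have hinj : Function.Injective φ' := by
      rw [injective_iff_map_eq_one]
      intro y hy
      obtain ⟨⟨s, hs⟩, hsy⟩ := hr.ge (hP' y.2)
      have hx : s ∈ preimageAlong θ P' := mem_preimageAlong.2 ⟨hs, hsy ▸ y.2⟩
      have hle : S₀ ≤ preimageAlong θ P' := fun z hz =>
        mem_preimageAlong.2 ⟨hS₀.1 hz, by rw [(hker ⟨z, hS₀.1 hz⟩).2 hz]; exact one_mem _⟩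
      have he : y = ⟨θ ⟨s, hs⟩, hP2 ⟨s, hx⟩⟩ := Subtype.ext hsy.symm
      have h1 := h ⟨s, hx⟩
      rw [← he, hy] at h1
      obtain ⟨z, hz, hze⟩ :=
        (image_stronglyClosed hS₀ hφ hle).ge ((hker ⟨φ ⟨s, hx⟩, hφS _⟩).1 h1.symm)
      have hzs : (⟨s, hx⟩ : preimageAlong θ P') = z := F.injective_of_mem hφ hze.symm
      rw [he]
      exact Subtype.ext ((hker ⟨s, hs⟩).2 (by rw [← hzs] at hz; exact hz))
    have hle : S₀ ≤ preimageAlong θ P' := fun z hz =>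
      mem_preimageAlong.2 ⟨hS₀.1 hz, by rw [(hker ⟨z, hS₀.1 hz⟩).2 hz]; exact one_mem _⟩
    have hrange : φ.range = preimageAlong θ φ'.range := by
      ext y
      constructor
      · rintro ⟨x, rfl⟩
        exact mem_preimageAlong.2 ⟨hφS x, ⟨_, h x⟩⟩
      · intro hy
        obtain ⟨hyS, w, hw⟩ := mem_preimageAlong.1 hy
        obtain ⟨⟨s, hs⟩, hsw⟩ := hr.ge (hP' w.2)
        have hx : s ∈ preimageAlong θ P' := mem_preimageAlong.2 ⟨hs, hsw ▸ w.2⟩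
        have h1 := h ⟨s, hx⟩
        rw [show (⟨θ ⟨s, hs⟩, hP2 ⟨s, hx⟩⟩ : P') = w from Subtype.ext hsw, hw] at h1
        have hd : (φ ⟨s, hx⟩)⁻¹ * y ∈ S₀ := by
          have := (hker ((⟨φ ⟨s, hx⟩, hφS _⟩ : S)⁻¹ * ⟨y, hyS⟩)).1 (by
            rw [map_mul, map_inv, ← h1, inv_mul_cancel])
          exact this
        obtain ⟨z, -, hz⟩ := (image_stronglyClosed hS₀ hφ hle).ge hd
        exact ⟨⟨s, hx⟩ * z, by rw [map_mul, hz, mul_inv_cancel_left]⟩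
    obtain ⟨ψ, hψ, -, hi, -⟩ := exists_inverse hφ hrange
    let e := MonoidHom.ofInjective hinj
    refine ⟨P'.subtype.comp e.symm.toMonoidHom, ⟨?_, ψ, hψ, dom_le hψ, fun x => apply_mem hψ x,
      fun x => (mem_preimageAlong.1 x.2).2, fun y => ?_⟩, fun x => ?_⟩
    · rintro _ ⟨w, rfl⟩
      obtain ⟨⟨s, hs⟩, hsw⟩ := hr.ge (hP' w.2)
      have hx : s ∈ preimageAlong θ P' := mem_preimageAlong.2 ⟨hs, hsw ▸ w.2⟩
      have h1 := h ⟨s, hx⟩
      rw [show (⟨θ ⟨s, hs⟩, hP2 ⟨s, hx⟩⟩ : P') = w from Subtype.ext hsw] at h1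
      rw [h1]
      exact hr ▸ ⟨_, rfl⟩
    · obtain ⟨x, hx⟩ := hrange.ge y.2
      obtain rfl : y = ⟨φ x, hrange.le ⟨x, rfl⟩⟩ := Subtype.ext hx.symm
      have h2 := hi x (hrange.le ⟨x, rfl⟩)
      show ((e.symm ⟨θ ⟨φ x, _⟩, _⟩ : P') : Ω') = θ ⟨ψ _, _⟩
      rw [show e.symm ⟨θ ⟨φ x, _⟩, _⟩ = ⟨θ ⟨x, hP x.2⟩, hP2 x⟩ from
        e.symm_apply_eq.2 (Subtype.ext (h x).symm)]
      exact congrArg θ (Subtype.ext h2.symm)
    · show ((e.symm (e x) : P') : Ω') = x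
      rw [e.symm_apply_apply]

theorem factorSystem_spec [Finite S] (F : FusionSystem S) {S₀ : Subgroup Ω}
    (hS₀ : F.StronglyClosed S₀) {S' : Subgroup Ω'} (θ : S →* Ω')
    (hker : ∀ s : S, θ s = 1 ↔ (s : Ω) ∈ S₀) (hr : θ.range = S') :
    F.IsFactorSystem S₀ θ (factorSystem F hS₀ θ hker hr) :=
  ⟨hS₀.1, hker, hr, fun _ _ => Iff.rfl⟩

end Cfsg.Agent.Fusion
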