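import Cfsg.Agent.Lib.Fusion.Saturated
import Cfsg.Agent.Lib.Fusion.Constructions

/-!
Saturation of `K`-normalizer systems. `Q` is receptive in the saturated system `F`, `K ≤ Aut(Q)`,
and every `p`-subgroup of `Aut_F(Q) ∩ K` is conjugate in `Aut_F(Q) ∩ K` into `Aut_S(Q)`. Then the
`K`-normalizer system over `T = N_S^K(Q)` is saturated. The cases `K = Aut(Q)` and `K = 1` are the
normalizer and the centralizer systems.
-/

set_option autoImplicit false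

namespace Cfsg.Agent.Fusion

open Cfsg Cfsg.FusionSystem

namespace KNorm

variable {Ω : Type*} [Group Ω] {S : Subgroup Ω}

theorem normalizer_inf_normalizer_le_normalizer_sup {A B : Subgroup Ω} {g : Ω}
    (h : g ∈ Subgroup.normalizer (A : Set Ω) ∧ g ∈ Subgroup.normalizer (B : Set Ω)) :
    g ∈ Subgroup.normalizer ((A ⊔ B : Subgroup Ω) : Set Ω) := by
  have key : ∀ g : Ω, g ∈ Subgroup.normalizer (A : Set Ω) →
      g ∈ Subgroup.normalizer (B : Set Ω) → ∀ y ∈ A ⊔ B, g * y * g⁻¹ ∈ A ⊔ B := by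
    intro g hA hB
    have hle : A ⊔ B ≤ (A ⊔ B).comap (MulAut.conj g).toMonoidHom :=
      sup_le (fun y hy => Subgroup.mem_sup_left ((Subgroup.mem_normalizer_iff.1 hA y).1 hy))
        (fun y hy => Subgroup.mem_sup_right ((Subgroup.mem_normalizer_iff.1 hB y).1 hy))
    exact fun y hy => hle hy
  refine Subgroup.mem_normalizer_iff.2 fun y => ⟨key g h.1 h.2 y, fun hy => ?_⟩
  simpa [mul_assoc] using key g⁻¹ (Subgroup.inv_mem _ h.1) (Subgroup.inv_mem _ h.2) _ hy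

/-- The data of a `K`-normalizer system. -/
structure Data (F : FusionSystem S) (p : ℕ) where
  Q : Subgroup Ω
  K : Subgroup (MulAut Q)
  T : Subgroup Ω
  E : FusionSystem T
  receptive : F.IsReceptive Q
  sylow : ∀ V : Subgroup (MulAut Q), V ≤ F.autGroup Q ⊓ K → IsPGroup p V →
    ∃ k ∈ F.autGroup Q ⊓ K, ∀ v ∈ V, k * v * k⁻¹ ∈ autInducedBy S Q
  mem_T : ∀ g : Ω, g ∈ T ↔ g ∈ S ∧ ∃ hg : g ∈ Subgroup.normalizer (Q : Set Ω), conjAut hg ∈ K
  mem_E : ∀ (P : Subgroup Ω) (φ : P →* Ω), φ ∈ E.Hom P ↔ φ ∈ F.Hom P ∧ P ≤ T ∧ (∀ x, φ x ∈ T) ∧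
    ∃ ψ ∈ F.Hom (P ⊔ Q), (∀ x : P, ψ (Subgroup.inclusion le_sup_left x) = φ x) ∧
      ∃ k ∈ K, ∀ x : Q, ψ (Subgroup.inclusion le_sup_right x) = (k x : Ω)

variable {F : FusionSystem S} {p : ℕ} (D : Data F p)

theorem Data.T_le : D.T ≤ S := fun _ hg => ((D.mem_T _).1 hg).1

theorem Data.sup_le' {P : Subgroup Ω} (hP : P ≤ D.T) : P ⊔ D.Q ≤ S :=
  sup_le (hP.trans D.T_le) D.receptive.1

/-- An isomorphism `P ⊔ Q → P₁ ⊔ Q` of `F` carrying `P` to `P₁` and inducing an element of `K`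
on `Q`. -/
structure Iso (P P₁ : Subgroup Ω) where
  e : ↥(P ⊔ D.Q) ≃* ↥(P₁ ⊔ D.Q)
  eP : P ≃* P₁
  k : MulAut D.Q
  k_mem : k ∈ D.K
  mem : (P₁ ⊔ D.Q).subtype.comp e.toMonoidHom ∈ F.Hom (P ⊔ D.Q)
  onP : ∀ x : P, (e (Subgroup.inclusion le_sup_left x) : Ω) = eP x
  onQ : ∀ x : D.Q, (e (Subgroup.inclusion le_sup_right x) : Ω) = k x

theorem exists_iso [Finite S] {P P₁ : Subgroup Ω} {φ : P →* Ω} (hφ : φ ∈ F.Hom P)
    (hr : φ.range = P₁) {ψ : ↥(P ⊔ D.Q) →* Ω} (hψ : ψ ∈ F.Hom (P ⊔ D.Q))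
    (hP : ∀ x : P, ψ (Subgroup.inclusion le_sup_left x) = φ x) {k : MulAut D.Q} (hk : k ∈ D.K)
    (hQ : ∀ x : D.Q, ψ (Subgroup.inclusion le_sup_right x) = (k x : Ω)) :
    ∃ i : Iso D P P₁, (∀ x : P, (i.eP x : Ω) = φ x) ∧ (∀ z, (i.e z : Ω) = ψ z) ∧ i.k = k := by
  have hrange : ψ.range = P₁ ⊔ D.Q := by
    rw [range_sup_eq hP (Q' := D.Q), hr]
    ext y
    constructor
    · rintro ⟨⟨z, hz⟩, hzQ, rfl⟩
      rw [show ψ ⟨z, hz⟩ = _ from hQ ⟨z, hzQ⟩]
      exact (k _).2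
    · intro hy
      refine ⟨Subgroup.inclusion le_sup_right (k.symm ⟨y, hy⟩), (k.symm ⟨y, hy⟩).2, ?_⟩
      rw [hQ, MulEquiv.apply_symm_apply]
  exact ⟨⟨homEquiv hψ hrange, homEquiv hφ hr, k, hk, mem_of_le hψ le_rfl fun _ => rfl,
    hP, hQ⟩, fun _ => rfl, fun _ => rfl, rfl⟩

/-- The inverse isomorphism. -/
def Iso.symm {P P₁ : Subgroup Ω} (i : Iso D P P₁) : Iso D P₁ P where
  e := i.e.symm
  eP := i.eP.symm
  k := i.k⁻¹
  k_mem := D.K.inv_mem i.k_mem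
  mem := by
    refine inv_mem' i.mem ?_ fun x hx => ?_
    · ext y
      exact ⟨fun ⟨x, hx⟩ => hx ▸ (i.e x).2, fun hy => ⟨i.e.symm ⟨y, hy⟩, by simp⟩⟩
    · exact congrArg Subtype.val (i.e.symm_apply_apply x)
  onP x := by
    have h := i.onP (i.eP.symm x)
    rw [MulEquiv.apply_symm_apply] at h
    have h' : Subgroup.inclusion le_sup_left x = i.e (Subgroup.inclusion le_sup_left (i.eP.symm x)) :=
      Subtype.ext h.symm
    rw [h', MulEquiv.symm_apply_apply]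
    rfl
  onQ x := by
    have h := i.onQ (i.k⁻¹ x)
    rw [MulAut.apply_inv_self] at h
    have h' : Subgroup.inclusion le_sup_right x = i.e (Subgroup.inclusion le_sup_right (i.k⁻¹ x)) :=
      Subtype.ext h.symm
    rw [h', MulEquiv.symm_apply_apply]
    rfl

/-- Pairs of compatible automorphisms of `P ⊔ Q` and `P` acting on `Q` through `K`. -/
def W (P : Subgroup Ω) (hP : P ≤ D.T) : Subgroup (MulAut ↥(P ⊔ D.Q) × MulAut P) where
  carrier := {w | w.1 ∈ F.autGroup (P ⊔ D.Q) ∧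
    (∀ x : P, (w.1 (Subgroup.inclusion le_sup_left x) : Ω) = w.2 x) ∧
    ∃ k ∈ D.K, ∀ x : D.Q, (w.1 (Subgroup.inclusion le_sup_right x) : Ω) = k x}
  one_mem' := ⟨Subgroup.one_mem _, fun _ => rfl, 1, D.K.one_mem, fun _ => rfl⟩
  mul_mem' := by
    rintro a b ⟨ha, haP, k, hk, haQ⟩ ⟨hb, hbP, l, hl, hbQ⟩
    refine ⟨Subgroup.mul_mem _ ha hb, fun x => ?_, k * l, D.K.mul_mem hk hl, fun x => ?_⟩
    · show (a.1 (b.1 (Subgroup.inclusion le_sup_left x)) : Ω) = a.2 (b.2 x)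
      rw [← haP]
      exact congrArg (fun z => (a.1 z : Ω)) (Subtype.ext (hbP x))
    · show (a.1 (b.1 (Subgroup.inclusion le_sup_right x)) : Ω) = k (l x)
      rw [← haQ]
      exact congrArg (fun z => (a.1 z : Ω)) (Subtype.ext (hbQ x))
  inv_mem' := by
    rintro a ⟨ha, haP, k, hk, haQ⟩
    have := hP
    refine ⟨Subgroup.inv_mem _ ha, fun x => ?_, k⁻¹, D.K.inv_mem hk, fun x => ?_⟩
    · have h := haP (a.2⁻¹ x)
      rw [MulAut.apply_inv_self] at h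
      have h' : Subgroup.inclusion le_sup_left x = a.1 (Subgroup.inclusion le_sup_left (a.2⁻¹ x)) :=
        Subtype.ext h.symm
      show ((a.1⁻¹ (Subgroup.inclusion le_sup_left x)) : Ω) = (a.2⁻¹ x : Ω)
      rw [h', MulAut.inv_apply_self]
      rfl
    · have h := haQ (k⁻¹ x)
      rw [MulAut.apply_inv_self] at h
      have h' : Subgroup.inclusion le_sup_right x = a.1 (Subgroup.inclusion le_sup_right (k⁻¹ x)) :=
        Subtype.ext h.symm
      show ((a.1⁻¹ (Subgroup.inclusion le_sup_right x)) : Ω) = (k⁻¹ x : Ω)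
      rw [h', MulAut.inv_apply_self]
      rfl

theorem finite_pairs [Finite S] {P : Subgroup Ω} (hP : P ≤ D.T) :
    Finite (MulAut ↥(P ⊔ D.Q) × MulAut P) := by
  have := finite_mulAut (Ω := Ω) (D.sup_le' hP)
  have := finite_mulAut (Ω := Ω) (hP.trans D.T_le)
  infer_instance

/-- Transport of pairs along an isomorphism. -/
def transport {P P₁ : Subgroup Ω} (i : Iso D P P₁) :
    MulAut ↥(P ⊔ D.Q) × MulAut P ≃* MulAut ↥(P₁ ⊔ D.Q) × MulAut P₁ :=
  (MulAut.congr i.e).prodCongr (MulAut.congr i.eP)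

theorem transport_mem {P P₁ : Subgroup Ω} (i : Iso D P P₁) (hP : P ≤ D.T) (hP₁ : P₁ ≤ D.T)
    {w : MulAut ↥(P ⊔ D.Q) × MulAut P} (hw : w ∈ W D P hP) : transport D i w ∈ W D P₁ hP₁ := by
  obtain ⟨hA, hwP, k, hk, hwQ⟩ := hw
  have hr : ((P₁ ⊔ D.Q).subtype.comp i.e.toMonoidHom).range = P₁ ⊔ D.Q := by
    ext y
    exact ⟨fun ⟨x, hx⟩ => hx ▸ (i.e x).2, fun hy => ⟨i.e.symm ⟨y, hy⟩, by simp⟩⟩
  refine ⟨?_, fun x => ?_, i.k * k * i.k⁻¹,
    D.K.mul_mem (D.K.mul_mem i.k_mem hk) (D.K.inv_mem i.k_mem), fun x => ?_⟩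
  · have he : homEquiv i.mem hr = i.e := MulEquiv.ext fun x => Subtype.ext rfl
    have h := congr_mem_autGroup i.mem hr hA
    rw [he] at h
    exact h
  · obtain ⟨y, rfl⟩ := i.eP.surjective x
    have h1 : Subgroup.inclusion le_sup_left (i.eP y) =
        i.e (Subgroup.inclusion le_sup_left y) := Subtype.ext (i.onP y).symm
    show (MulAut.congr i.e w.1 (Subgroup.inclusion le_sup_left (i.eP y)) : Ω) =
      MulAut.congr i.eP w.2 (i.eP y)
    rw [h1, congr_apply, congr_apply, ← i.onP]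
    exact congrArg (fun z => (i.e z : Ω)) (Subtype.ext (hwP y))
  · obtain ⟨y, rfl⟩ := i.k.surjective x
    have h1 : Subgroup.inclusion le_sup_right (i.k y) =
        i.e (Subgroup.inclusion le_sup_right y) := Subtype.ext (i.onQ y).symm
    show (MulAut.congr i.e w.1 (Subgroup.inclusion le_sup_right (i.k y)) : Ω) =
      i.k (k (i.k⁻¹ (i.k y)))
    rw [MulAut.inv_apply_self, h1, congr_apply, ← i.onQ]
    exact congrArg (fun z => (i.e z : Ω)) (Subtype.ext (hwQ y))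

theorem card_W_eq [Finite S] {P P₁ : Subgroup Ω} (i : Iso D P P₁) (hP : P ≤ D.T)
    (hP₁ : P₁ ≤ D.T) : Nat.card (W D P hP) = Nat.card (W D P₁ hP₁) := by
  have := finite_pairs D hP
  have := finite_pairs D hP₁
  apply le_antisymm
  · exact Nat.card_le_card_of_injective (fun w => (⟨_, transport_mem D i hP hP₁ w.2⟩ : W D P₁ hP₁))
      fun a b h => Subtype.ext ((transport D i).injective (congrArg Subtype.val h))
  · exact Nat.card_le_card_of_injective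
      (fun w => (⟨_, transport_mem D i.symm hP₁ hP w.2⟩ : W D P hP))
      fun a b h => Subtype.ext ((transport D i.symm).injective (congrArg Subtype.val h))

theorem mem_normalizer_sup {P : Subgroup Ω} {g : Ω} (hgT : g ∈ D.T)
    (hgP : g ∈ Subgroup.normalizer (P : Set Ω)) :
    g ∈ Subgroup.normalizer ((P ⊔ D.Q : Subgroup Ω) : Set Ω) :=
  normalizer_inf_normalizer_le_normalizer_sup ⟨hgP, ((D.mem_T g).1 hgT).2.1⟩

/-- The pairs induced by `N_T(P)`. -/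
noncomputable def conjPair (P : Subgroup Ω) :
    normalizerIn D.T P →* MulAut ↥(P ⊔ D.Q) × MulAut P :=
  MonoidHom.prod
    ((P ⊔ D.Q).normalizerMonoidHom.comp
      (Subgroup.inclusion fun _ hg => mem_normalizer_sup D hg.1 hg.2))
    (normalizerAut D.T P)

theorem range_conjPair_le {P : Subgroup Ω} (hP : P ≤ D.T) :
    (conjPair D P).range ≤ W D P hP := by
  rintro _ ⟨g, rfl⟩
  obtain ⟨hgS, hgN, hgK⟩ := (D.mem_T g).1 g.2.1
  refine ⟨?_, fun x => rfl, conjAut hgN, hgK, fun x => rfl⟩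
  exact autInducedBy_le_autGroup F (D.sup_le' hP)
    (conjAut_mem_autInducedBy hgS (mem_normalizer_sup D g.2.1 g.2.2))

theorem snd_mem_autInducedBy {P : Subgroup Ω} {u : MulAut ↥(P ⊔ D.Q) × MulAut P}
    (hu : u ∈ (conjPair D P).range) : u.2 ∈ autInducedBy D.T P := by
  obtain ⟨g, rfl⟩ := hu
  rw [← range_normalizerAut]
  exact ⟨g, rfl⟩

/-- The isomorphism moving `P` to a good conjugate. -/
theorem exists_good [Finite S] [Fact p.Prime] (hS : IsPGroup p S) (hF : F.IsSaturated p)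
    {P : Subgroup Ω} (hP : P ≤ D.T) :
    ∃ (P₁ : Subgroup Ω) (hP₁ : P₁ ≤ D.T), D.E.IsConj P P₁ ∧ F.IsReceptive (P₁ ⊔ D.Q) ∧
      ∃ Sy : Sylow p (W D P₁ hP₁),
        (Sy : Subgroup (W D P₁ hP₁)) = ((conjPair D P₁).range).subgroupOf (W D P₁ hP₁) := by
  have hR := D.sup_le' hP
  have hQS := D.receptive.1
  have := finite_pairs D hP
  obtain ⟨R₀, hR₀c, hR₀n⟩ := exists_fullyNormalized F hR
  obtain ⟨φ, hφ, hφr⟩ := hR₀c
  obtain ⟨-, Sy₀, hSy₀⟩ := isFullyAutomized_of_fullyNormalized hS hF hR₀n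
  have := finite_mulAut (Ω := Ω) hR₀n.1
  obtain ⟨V⟩ : Nonempty (Sylow p (W D P hP)) := inferInstance
  let f : W D P hP →* F.autGroup R₀ :=
    ((MulAut.congr (homEquiv hφ hφr)).toMonoidHom.comp
      ((MonoidHom.fst _ _).comp (W D P hP).subtype)).codRestrict _
      fun w => congr_mem_autGroup hφ hφr w.2.1
  obtain ⟨V', hV'⟩ := (V.isPGroup'.map f).exists_le_sylow
  obtain ⟨a, ha⟩ := MulAction.exists_smul_eq (F.autGroup R₀) V' Sy₀
  let φ₀ : ↥(P ⊔ D.Q) →* Ω :=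
    R₀.subtype.comp ((homEquiv hφ hφr).trans (a : MulAut R₀)).toMonoidHom
  have hφ₀ : φ₀ ∈ F.Hom _ := aut_comp_mem hφ hφr a.2 fun x => rfl
  have hφ₀r : φ₀.range = R₀ := range_eq_of_aut hφ hφr (a : MulAut R₀) fun x => rfl
  -- elements of `S` realising `V`
  have hgv : ∀ v ∈ (V : Subgroup (W D P hP)), ∃ g ∈ S,
      ∀ z, φ₀ ((v : MulAut ↥(P ⊔ D.Q) × MulAut P).1 z) = g * φ₀ z * g⁻¹ := by
    intro v hv
    have h1 : a * f v * a⁻¹ ∈ (Sy₀ : Subgroup (F.autGroup R₀)) := by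
      rw [← ha, Sylow.coe_subgroup_smul]
      exact Subgroup.smul_mem_pointwise_smul _ (MulAut.conj a) _ (hV' ⟨v, hv, rfl⟩)
    rw [hSy₀, Subgroup.mem_subgroupOf] at h1
    obtain ⟨g, hg, hgx⟩ := mem_autInducedBy_iff.1 h1
    refine ⟨g, hg, fun z => ?_⟩
    have h2 := hgx ⟨φ₀ z, hφ₀r.le ⟨z, rfl⟩⟩
    refine Eq.trans ?_ h2
    show (((a : MulAut R₀) (homEquiv hφ hφr ((v : MulAut ↥(P ⊔ D.Q) × MulAut P).1 z)) : R₀) : Ω) =
      (((a : MulAut R₀) (MulAut.congr (homEquiv hφ hφr) (v : MulAut ↥(P ⊔ D.Q) × MulAut P).1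
        ((a : MulAut R₀)⁻¹ ((a : MulAut R₀) (homEquiv hφ hφr z)))) : R₀) : Ω)
    rw [MulAut.inv_apply_self, congr_apply]
  -- the image of `Q`
  have hQR : D.Q ≤ P ⊔ D.Q := le_sup_right
  set φQ := φ₀.comp (Subgroup.inclusion hQR) with hφQdef
  have hφQ : φQ ∈ F.Hom D.Q := restrict_mem hφ₀ hQR
  set Q₀ := φQ.range with hQ₀
  obtain ⟨χ, hχ, hχr, hχi, -⟩ := exists_inverse hφQ hQ₀.symm
  have hVQle : (autInducedBy S Q₀).map (MulAut.congr (homEquiv hχ hχr)).toMonoidHom ⊓ D.K ≤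
      F.autGroup D.Q ⊓ D.K :=
    inf_le_inf_right _ (map_autInducedBy_le hχ hχr)
  obtain ⟨k, ⟨hkA, hkK⟩, hk⟩ := D.sylow _ hVQle
    (((isPGroup_autInducedBy hS Q₀).map _).to_le inf_le_left)
  let lam : Q₀ →* Ω := D.Q.subtype.comp ((homEquiv hχ hχr).trans k).toMonoidHom
  have hlam : lam ∈ F.Hom Q₀ := aut_comp_mem hχ hχr hkA fun x => rfl
  have hlamr : lam.range = D.Q := range_eq_of_aut hχ hχr k fun x => rfl
  have hlamQ : ∀ x : D.Q, lam ⟨φQ x, ⟨x, rfl⟩⟩ = (k x : Ω) := by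
    intro x
    show ((k (homEquiv hχ hχr ⟨φQ x, ⟨x, rfl⟩⟩) : D.Q) : Ω) = _
    rw [show homEquiv hχ hχr ⟨φQ x, ⟨x, rfl⟩⟩ = x from Subtype.ext (hχi x _)]
  -- membership criterion for the extender of `lam`
  have hext : ∀ g ∈ S, ∀ k' ∈ D.K, (∀ x : D.Q, g * φQ x * g⁻¹ = φQ (k' x)) →
      g ∈ extender S Q₀ lam := by
    intro g hg k' hk' hgx
    have hgN : g ∈ Subgroup.normalizer (Q₀ : Set Ω) := by
      refine Subgroup.mem_normalizer_iff.2 fun y => ⟨?_, ?_⟩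
      · rintro ⟨x, rfl⟩
        exact ⟨k' x, (hgx x).symm⟩
      · rintro ⟨x, hx⟩
        obtain ⟨x', rfl⟩ := k'.surjective x
        exact ⟨x', mul_left_cancel (mul_right_cancel ((hgx x').trans hx))⟩
    refine (mem_extender_iff_congr hlam hlamr).2 ⟨hg, hgN, ?_⟩
    have h1 : MulAut.congr (homEquiv hχ hχr) (conjAut hgN) = k' := by
      refine MulEquiv.ext fun x => ?_
      have hex : homEquiv hχ hχr ⟨φQ x, ⟨x, rfl⟩⟩ = x := Subtype.ext (hχi x _)
      conv_lhs => rw [← hex]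
      rw [congr_apply]
      refine Subtype.ext ?_
      rw [coe_homEquiv, show conjAut hgN ⟨φQ x, ⟨x, rfl⟩⟩ = ⟨φQ (k' x), ⟨k' x, rfl⟩⟩ from
        Subtype.ext (hgx x)]
      exact hχi _ _
    have h2 := hk k' ⟨⟨_, conjAut_mem_autInducedBy hg hgN, h1⟩, hk'⟩
    have he : homEquiv hlam hlamr = (homEquiv hχ hχr).trans k :=
      MulEquiv.ext fun x => Subtype.ext rfl
    rw [he]
    convert h2 using 1
    rw [← h1]
    exact MulEquiv.ext fun y => rfl
  obtain ⟨ψ, hψ, hψe⟩ := exists_extension D.receptive hlam hlamr (le_refl _)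
  have hψQ : ∀ (x : D.Q) (h : φQ x ∈ extender S Q₀ lam), ψ ⟨φQ x, h⟩ = (k x : Ω) :=
    fun x h => (hψe _ ⟨x, rfl⟩ h).trans (hlamQ x)
  have hQmem : ∀ x : D.Q, φQ x ∈ extender S Q₀ lam := fun x =>
    le_extender (range_le hφQ) (apply_mem hlam) ⟨x, rfl⟩
  have hPmem : ∀ x : P, φ₀ (Subgroup.inclusion le_sup_left x) ∈ extender S Q₀ lam := by
    intro x
    obtain ⟨-, hxN, hxK⟩ := (D.mem_T x).1 (hP x.2)
    refine hext _ (apply_mem hφ₀ _) _ hxK fun y => ?_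
    show φ₀ _ * φ₀ _ * (φ₀ _)⁻¹ = φ₀ _
    rw [← map_inv, ← map_mul, ← map_mul]
    exact congrArg φ₀ (Subtype.ext rfl)
  have hmem : ∀ z, φ₀ z ∈ extender S Q₀ lam := forall_sup_mem φ₀ hPmem hQmem
  set θ := ψ.comp (φ₀.codRestrict _ hmem) with hθdef
  have hθ : θ ∈ F.Hom (P ⊔ D.Q) := F.comp_mem hφ₀ hψ hmem
  have hθQ : ∀ x : D.Q, θ (Subgroup.inclusion le_sup_right x) = (k x : Ω) := fun x => hψQ x _
  set θP := θ.comp (Subgroup.inclusion (le_sup_left : P ≤ P ⊔ D.Q)) with hθP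
  set P₁ := θP.range with hP₁def
  obtain ⟨i, hiP, hie, hik⟩ :=
    exists_iso D (restrict_mem hθ le_sup_left) hP₁def.symm hθ (fun x => rfl) hkK hθQ
  -- the images of elements normalising `Q₀` suitably lie in `T`
  have hψT : ∀ (g : Ω) (hg : g ∈ extender S Q₀ lam) (k' : MulAut D.Q), k' ∈ D.K →
      (∀ x : D.Q, g * φQ x * g⁻¹ = φQ (k' x)) → ψ ⟨g, hg⟩ ∈ D.T := by
    intro g hg k' hk' hgx
    have hx : ∀ y : D.Q, ψ ⟨g, hg⟩ * (y : Ω) * (ψ ⟨g, hg⟩)⁻¹ = ((k * k' * k⁻¹) y : Ω) := by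
      intro y
      obtain ⟨x, rfl⟩ := k.surjective y
      rw [← hψQ x (hQmem x), ← map_inv, ← map_mul, ← map_mul]
      refine (congrArg ψ (Subtype.ext (hgx x) :
        _ = (⟨φQ (k' x), hQmem _⟩ : extender S Q₀ lam))).trans ?_
      rw [hψQ]
      show ((k (k' x) : D.Q) : Ω) = (k (k' (k⁻¹ (k x))) : Ω)
      rw [MulAut.inv_apply_self]
    have hN := mem_normalizer_of_aut (α := k * k' * k⁻¹) fun y => (hx y).symm
    refine (D.mem_T _).2 ⟨apply_mem hψ _, hN, ?_⟩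
    rw [show conjAut hN = k * k' * k⁻¹ from MulEquiv.ext fun y => Subtype.ext (hx y)]
    exact D.K.mul_mem (D.K.mul_mem hkK hk') (D.K.inv_mem hkK)
  have hθPT : ∀ x : P, θP x ∈ D.T := by
    intro x
    obtain ⟨-, hxN, hxK⟩ := (D.mem_T x).1 (hP x.2)
    refine hψT _ _ _ hxK fun y => ?_
    show φ₀ _ * φ₀ _ * (φ₀ _)⁻¹ = φ₀ _
    rw [← map_inv, ← map_mul, ← map_mul]
    exact congrArg φ₀ (Subtype.ext rfl)
  have hP₁T : P₁ ≤ D.T := by
    rintro _ ⟨x, rfl⟩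
    exact hθPT x
  have hconjE : D.E.IsConj P P₁ :=
    ⟨θP, (D.mem_E P θP).2 ⟨restrict_mem hθ le_sup_left, hP, hθPT, θ, hθ, fun x => rfl, k, hkK,
      hθQ⟩, rfl⟩
  have hR₁S := D.sup_le' hP₁T
  -- the centralizer
  have hrec : F.IsReceptive (P₁ ⊔ D.Q) := by
    refine isReceptive_of_fullyCentralized hS hF ⟨hR₁S, fun R hR' => ?_⟩
    have hconj : F.IsConj (P ⊔ D.Q) (P₁ ⊔ D.Q) :=
      ⟨_, i.mem, by
        ext y
        exact ⟨fun ⟨x, hx⟩ => hx ▸ (i.e x).2, fun hy => ⟨i.e.symm ⟨y, hy⟩, by simp⟩⟩⟩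
    refine ((isFullyCentralized_of_fullyNormalized hS hF hR₀n).2 R
      (isConj_trans (isConj_symm ⟨φ, hφ, hφr⟩) (isConj_trans hconj hR'))).trans ?_
    have := finite_of_le (centralizerIn_le S (P₁ ⊔ D.Q))
    have hcomm : ∀ c ∈ centralizerIn S R₀, ∀ z, φ₀ z * c = c * φ₀ z := fun c hc z =>
      (mem_centralizerIn.1 hc).2 _ (hφ₀r.le ⟨z, rfl⟩)
    have hcmem : ∀ c ∈ centralizerIn S R₀, c ∈ extender S Q₀ lam := fun c hc =>
      hext c hc.1 1 D.K.one_mem fun x => by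
        show c * φ₀ _ * c⁻¹ = φ₀ _
        rw [← hcomm c hc, mul_inv_cancel_right]
        rfl
    refine Nat.card_le_card_of_injective (fun c : centralizerIn S R₀ =>
      (⟨ψ ⟨c, hcmem c c.2⟩, ?_⟩ : centralizerIn S (P₁ ⊔ D.Q))) fun c d h => ?_
    · refine mem_centralizerIn.2 ⟨apply_mem hψ _, fun y hy => ?_⟩
      obtain ⟨z, hz⟩ := i.e.surjective ⟨y, hy⟩
      rw [show y = ψ ⟨φ₀ z, hmem z⟩ from
        (congrArg Subtype.val hz).symm.trans (hie z), ← map_mul, ← map_mul]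
      exact congrArg ψ (Subtype.ext (hcomm c c.2 z))
    · exact Subtype.ext (congrArg (fun z : extender S Q₀ lam => (z : Ω))
        (F.injective_of_mem hψ (congrArg Subtype.val h)))
  -- the Sylow subgroup
  refine ⟨P₁, hP₁T, hconjE, hrec, ?_⟩
  have := finite_pairs D hP₁T
  have := finite_of_le ((normalizerIn_le D.T P₁).trans D.T_le)
  set U := ((conjPair D P₁).range).subgroupOf (W D P₁ hP₁T) with hU
  have hUp : IsPGroup p U :=
    (IsPGroup.of_surjective (hS.to_le ((normalizerIn_le D.T P₁).trans D.T_le)) _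
      (conjPair D P₁).rangeRestrict_surjective).of_equiv
      (Subgroup.subgroupOfEquivOfLe (range_conjPair_le D hP₁T)).symm
  obtain ⟨U', hU'⟩ := hUp.exists_le_sylow
  let tr : W D P hP →* W D P₁ hP₁T :=
    ((transport D i).toMonoidHom.comp (W D P hP).subtype).codRestrict _
      fun w => transport_mem D i hP hP₁T w.2
  have htr : Function.Injective tr := fun a b h =>
    Subtype.ext ((transport D i).injective (congrArg Subtype.val h))
  have hVU : (V : Subgroup (W D P hP)).map tr ≤ U := by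
    rintro _ ⟨v, hv, rfl⟩
    obtain ⟨g, hg, hgv'⟩ := hgv v hv
    obtain ⟨-, hvP, kv, hkv, hvQ⟩ := v.2
    have hgQ : ∀ x : D.Q, g * φQ x * g⁻¹ = φQ (kv x) := fun x => by
      refine (hgv' _).symm.trans ?_
      exact congrArg φ₀ (Subtype.ext (hvQ x))
    have hgm := hext g hg kv hkv hgQ
    have hval : ∀ z, (i.e ((v : MulAut ↥(P ⊔ D.Q) × MulAut P).1 z) : Ω) =
        ψ ⟨g, hgm⟩ * (i.e z : Ω) * (ψ ⟨g, hgm⟩)⁻¹ := by
      intro z
      rw [hie, hie]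
      show ψ ⟨φ₀ _, _⟩ = ψ ⟨g, hgm⟩ * ψ ⟨φ₀ z, _⟩ * (ψ ⟨g, hgm⟩)⁻¹
      rw [← map_inv, ← map_mul, ← map_mul]
      exact congrArg ψ (Subtype.ext (hgv' z))
    have hvalP : ∀ x : P, (i.eP ((v : MulAut ↥(P ⊔ D.Q) × MulAut P).2 x) : Ω) =
        ψ ⟨g, hgm⟩ * (i.eP x : Ω) * (ψ ⟨g, hgm⟩)⁻¹ := by
      intro x
      rw [← i.onP, ← i.onP, ← hval]
      exact congrArg (fun z => (i.e z : Ω)) (Subtype.ext (hvP x).symm)
    have hN : ψ ⟨g, hgm⟩ ∈ Subgroup.normalizer (P₁ : Set Ω) :=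
      mem_normalizer_of_aut (α := MulAut.congr i.eP (v : MulAut ↥(P ⊔ D.Q) × MulAut P).2)
        fun y => by
          obtain ⟨x, rfl⟩ := i.eP.surjective y
          rw [congr_apply]
          exact hvalP x
    refine Subgroup.mem_subgroupOf.2 ⟨⟨_, hψT g hgm kv hkv hgQ, hN⟩, Prod.ext ?_ ?_⟩
    · refine MulEquiv.ext fun y => Subtype.ext ?_
      obtain ⟨z, rfl⟩ := i.e.surjective y
      show ψ ⟨g, hgm⟩ * (i.e z : Ω) * (ψ ⟨g, hgm⟩)⁻¹ =
        (MulAut.congr i.e (v : MulAut ↥(P ⊔ D.Q) × MulAut P).1 (i.e z) : Ω)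
      rw [congr_apply]
      exact (hval z).symm
    · refine MulEquiv.ext fun y => Subtype.ext ?_
      obtain ⟨x, rfl⟩ := i.eP.surjective y
      show ψ ⟨g, hgm⟩ * (i.eP x : Ω) * (ψ ⟨g, hgm⟩)⁻¹ =
        (MulAut.congr i.eP (v : MulAut ↥(P ⊔ D.Q) × MulAut P).2 (i.eP x) : Ω)
      rw [congr_apply]
      exact (hvalP x).symm
  refine ⟨U', (Subgroup.eq_of_le_of_card_ge hU' ?_).symm⟩
  calc Nat.card U' = Nat.card V := by
        rw [U'.card_eq_multiplicity, V.card_eq_multiplicity, card_W_eq D i hP hP₁T]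
    _ = Nat.card ((V : Subgroup (W D P hP)).map tr) :=
        (Subgroup.card_map_of_injective htr).symm
    _ ≤ Nat.card U := Subgroup.card_le_of_le hVU

/-- `K`-normalizer systems are saturated. -/
theorem saturated [Finite S] [Fact p.Prime] (hS : IsPGroup p S) (hF : F.IsSaturated p) :
    D.E.IsSaturated p := by
  intro P hP
  obtain ⟨P₁, hP₁, hconj, hrec, Sy, hSy⟩ := exists_good D hS hF hP
  have := finite_pairs D hP₁
  have hsnd : ∀ w : W D P₁ hP₁,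
      (w : MulAut ↥(P₁ ⊔ D.Q) × MulAut P₁).2 ∈ D.E.autGroup P₁ := by
    rintro ⟨w, hA, hwP, k, hk, hwQ⟩
    obtain ⟨hmem, -⟩ := hom_of_mem_autGroup (D.sup_le' hP₁) hA
    refine Subgroup.subset_closure ((D.mem_E _ _).2
      ⟨mem_of_le hmem le_sup_left fun x => (hwP x).symm, hP₁, fun x => hP₁ (w.2 x).2,
        _, hmem, hwP, k, hk, hwQ⟩)
  refine ⟨P₁, hconj, ⟨hP₁, ?_⟩, ⟨hP₁, ?_⟩⟩
  · let pr : W D P₁ hP₁ →* D.E.autGroup P₁ :=
      ((MonoidHom.snd _ _).comp (W D P₁ hP₁).subtype).codRestrict _ hsnd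
    have hpr : Function.Surjective pr := by
      rintro ⟨β, hβ⟩
      obtain ⟨hmem, hr⟩ := hom_of_mem_autGroup hP₁ hβ
      obtain ⟨hφ, -, -, ψ, hψ, hψP, k, hk, hψQ⟩ := (D.mem_E _ _).1 hmem
      have : Finite S := ‹_›
      obtain ⟨i, hiP, hie, -⟩ := exists_iso D hφ hr hψ hψP hk hψQ
      refine ⟨⟨(i.e, β), ?_, fun x => ?_, k, hk, fun x => ?_⟩, Subtype.ext rfl⟩
      · exact Subgroup.subset_closure i.mem
      · exact (hie _).trans (hψP x)
      · exact (hie _).trans (hψQ x)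
    refine ⟨Sy.mapSurjective hpr, ?_⟩
    rw [Sylow.coe_mapSurjective, hSy]
    ext β
    constructor
    · rintro ⟨w, hw, rfl⟩
      exact snd_mem_autInducedBy D (Subgroup.mem_subgroupOf.1 hw)
    · intro hβ
      rw [Subgroup.mem_subgroupOf, ← range_normalizerAut] at hβ
      obtain ⟨g, hg⟩ := hβ
      exact ⟨⟨conjPair D P₁ g, range_conjPair_le D hP₁ ⟨g, rfl⟩⟩, ⟨g, rfl⟩, Subtype.ext hg⟩
  · intro P₂ χ hχE hχr
    obtain ⟨hχ, hP₂, -, ψ, hψ, hψP, k, hk, hψQ⟩ := (D.mem_E _ _).1 hχE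
    obtain ⟨i, hiP, hie, -⟩ := exists_iso D hχ hχr hψ hψP hk hψQ
    set N := extender D.T P₂ χ with hN
    have hNle : N ≤ normalizerIn D.T P₂ := extender_le _ _ _
    have := finite_of_le ((hNle.trans (normalizerIn_le _ _)).trans D.T_le)
    let W' : Subgroup (W D P₁ hP₁) :=
      (autInducedBy D.T P₁).comap ((MonoidHom.snd _ _).comp (W D P₁ hP₁).subtype)
    let v : N →* W D P₁ hP₁ :=
      ((transport D i).toMonoidHom.comp ((conjPair D P₂).comp (Subgroup.inclusion hNle))).codRestrict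
        _ fun g => transport_mem D i hP₂ hP₁ (range_conjPair_le D hP₂ ⟨_, rfl⟩)
    have hv : v.range ≤ W' := by
      rintro _ ⟨g, rfl⟩
      obtain ⟨hgT, hgN, h, hh, hx⟩ := mem_extender_iff.1 g.2
      refine Subgroup.mem_comap.2 (mem_autInducedBy_iff.2 ⟨h, hh, fun y => ?_⟩)
      obtain ⟨x, rfl⟩ := i.eP.surjective y
      show ((MulAut.congr i.eP (normalizerAut D.T P₂ _) (i.eP x) : P₁) : Ω) = _
      rw [congr_apply, hiP, hiP]
      exact hx x _
    have hUW' : (Sy : Subgroup (W D P₁ hP₁)) ≤ W' := by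
      rw [hSy]
      intro w hw
      exact snd_mem_autInducedBy D (Subgroup.mem_subgroupOf.1 hw)
    have hvp : IsPGroup p (v.range.subgroupOf W') :=
      (IsPGroup.of_surjective (hS.to_le ((hNle.trans (normalizerIn_le _ _)).trans D.T_le)) _
        v.rangeRestrict_surjective).of_equiv (Subgroup.subgroupOfEquivOfLe hv).symm
    obtain ⟨V₁, hV₁⟩ := hvp.exists_le_sylow
    obtain ⟨w, hw⟩ := MulAction.exists_smul_eq W' V₁ (Sy.subtype hUW')
    have hwv : ∀ g : N, (w : W D P₁ hP₁) * v g * (w : W D P₁ hP₁)⁻¹ ∈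
        (Sy : Subgroup (W D P₁ hP₁)) := by
      intro g
      have h1 : w * ⟨v g, hv ⟨g, rfl⟩⟩ * w⁻¹ ∈ ((Sy.subtype hUW' : Sylow p W') : Subgroup W') := by
        rw [← hw, Sylow.coe_subgroup_smul]
        exact Subgroup.smul_mem_pointwise_smul _ (MulAut.conj w) _
          (hV₁ (Subgroup.mem_subgroupOf.2 ⟨g, rfl⟩))
      exact h1
    obtain ⟨h, hh, hhx⟩ := mem_autInducedBy_iff.1 (Subgroup.mem_comap.1 w.2)
    set u : W D P₁ hP₁ :=
      ⟨conjPair D P₁ ⟨h, hh, mem_normalizer_of_aut hhx⟩, range_conjPair_le D hP₁ ⟨_, rfl⟩⟩ with hu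
    have huU : u ∈ (Sy : Subgroup (W D P₁ hP₁)) := hSy.ge ⟨_, rfl⟩
    set m : W D P₁ hP₁ := u⁻¹ * (w : W D P₁ hP₁) with hm
    have hmU : ∀ g : N, m * v g * m⁻¹ ∈ (Sy : Subgroup (W D P₁ hP₁)) := by
      intro g
      have h1 := Subgroup.mul_mem _ (Subgroup.mul_mem _ (Subgroup.inv_mem _ huU) (hwv g)) huU
      simpa [hm, mul_assoc] using h1
    have hm2 : (m : MulAut ↥(P₁ ⊔ D.Q) × MulAut P₁).2 = 1 := by
      have h1 : (u : MulAut ↥(P₁ ⊔ D.Q) × MulAut P₁).2 =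
          ((w : W D P₁ hP₁) : MulAut ↥(P₁ ⊔ D.Q) × MulAut P₁).2 :=
        MulEquiv.ext fun x => Subtype.ext (hhx x).symm
      show (u : MulAut ↥(P₁ ⊔ D.Q) × MulAut P₁).2⁻¹ * _ = 1
      rw [h1]
      exact inv_mul_cancel _
    obtain ⟨hmA, hmP, km, hkm, hmQ⟩ := m.2
    let χ₁ : ↥(P₂ ⊔ D.Q) →* Ω :=
      (P₁ ⊔ D.Q).subtype.comp (i.e.trans (m : MulAut ↥(P₁ ⊔ D.Q) × MulAut P₁).1).toMonoidHom
    have hχ₁ : χ₁ ∈ F.Hom _ :=
      comp_mem' i.mem ((mem_autGroup_iff (D.sup_le' hP₁)).1 hmA) (fun z => (i.e z).2) fun z => rfl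
    have hχ₁r : χ₁.range = P₁ ⊔ D.Q := by
      ext y
      constructor
      · rintro ⟨z, rfl⟩
        exact Subtype.property _
      · intro hy
        obtain ⟨z, hz⟩ := (i.e.trans (m : MulAut ↥(P₁ ⊔ D.Q) × MulAut P₁).1).surjective ⟨y, hy⟩
        exact ⟨z, congrArg Subtype.val hz⟩
    have hNext : N ≤ extender S (P₂ ⊔ D.Q) χ₁ := by
      intro g hg
      obtain ⟨hgT, hgN⟩ := hNle hg
      have hgN' := mem_normalizer_sup D hgT hgN
      refine (mem_extender_iff_congr hχ₁ hχ₁r).2 ⟨D.T_le hgT, hgN', ?_⟩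
      have h1 := hmU ⟨g, hg⟩
      rw [hSy, Subgroup.mem_subgroupOf] at h1
      obtain ⟨g', hg'⟩ := h1
      have he : homEquiv hχ₁ hχ₁r = i.e.trans (m : MulAut ↥(P₁ ⊔ D.Q) × MulAut P₁).1 :=
        MulEquiv.ext fun z => Subtype.ext rfl
      rw [he]
      have h2 : (conjPair D P₁ g').1 ∈ autInducedBy S (P₁ ⊔ D.Q) :=
        conjAut_mem_autInducedBy (D.T_le g'.2.1) (mem_normalizer_sup D g'.2.1 g'.2.2)
      rw [hg'] at h2
      convert h2 using 1
      exact MulEquiv.ext fun y => rfl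
    have hRext := le_extender (D.sup_le' hP₂) (apply_mem hχ₁)
    have hsup : N ⊔ D.Q ≤ extender S (P₂ ⊔ D.Q) χ₁ :=
      sup_le hNext (le_sup_right.trans hRext)
    obtain ⟨η, hη, hηe⟩ := exists_extension hrec hχ₁ hχ₁r hsup
    have hηQ : ∀ x : D.Q, η (Subgroup.inclusion le_sup_right x) = ((km * i.k) x : Ω) := by
      intro x
      refine (hηe x (le_sup_right (a := P₂) x.2) (le_sup_right (a := N) x.2)).trans ?_
      show ((m : MulAut ↥(P₁ ⊔ D.Q) × MulAut P₁).1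
        (i.e (Subgroup.inclusion le_sup_right x)) : Ω) = (km (i.k x) : Ω)
      rw [← hmQ]
      exact congrArg (fun z => ((m : MulAut ↥(P₁ ⊔ D.Q) × MulAut P₁).1 z : Ω))
        (Subtype.ext (i.onQ x))
    refine ⟨η.comp (Subgroup.inclusion le_sup_left), (D.mem_E _ _).2
      ⟨restrict_mem hη le_sup_left, hNle.trans inf_le_left, fun g => ?_, η, hη, fun x => rfl,
        km * i.k, D.K.mul_mem hkm i.k_mem, hηQ⟩, ?_⟩
    · obtain ⟨-, hgQ, hgK⟩ := (D.mem_T g).1 (hNle g.2).1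
      set c := (km * i.k) * conjAut hgQ * (km * i.k)⁻¹ with hc
      have hx : ∀ y : D.Q, (c y : Ω) = η (Subgroup.inclusion le_sup_left g) * (y : Ω) *
          (η (Subgroup.inclusion le_sup_left g))⁻¹ := by
        intro y
        obtain ⟨x, rfl⟩ := (km * i.k).surjective y
        show (((km * i.k) (conjAut hgQ ((km * i.k)⁻¹ ((km * i.k) x))) : D.Q) : Ω) = _
        rw [MulAut.inv_apply_self, ← hηQ, ← hηQ, ← map_inv, ← map_mul, ← map_mul]
        exact congrArg η (Subtype.ext rfl)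
      have hNq := mem_normalizer_of_aut hx
      refine (D.mem_T _).2 ⟨apply_mem hη _, hNq, ?_⟩
      show conjAut hNq ∈ D.K
      rw [show conjAut hNq = c from MulEquiv.ext fun y => Subtype.ext (hx y).symm]
      exact D.K.mul_mem (D.K.mul_mem (D.K.mul_mem hkm i.k_mem) hgK)
        (D.K.inv_mem (D.K.mul_mem hkm i.k_mem))
    · intro x hxP hxN
      refine (hηe x (le_sup_left (b := D.Q) hxP) (le_sup_left (b := D.Q) hxN)).trans ?_
      show ((m : MulAut ↥(P₁ ⊔ D.Q) × MulAut P₁).1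
        (i.e (Subgroup.inclusion le_sup_left ⟨x, hxP⟩)) : Ω) = χ ⟨x, hxP⟩
      rw [show i.e (Subgroup.inclusion le_sup_left ⟨x, hxP⟩) =
        Subgroup.inclusion le_sup_left (i.eP ⟨x, hxP⟩) from Subtype.ext (i.onP _), hmP, hm2]
      exact hiP _

end KNorm

variable {Ω : Type*} [Group Ω] {S : Subgroup Ω} {F : FusionSystem S} {p : ℕ}

/-- `N_F(Q)` is saturated for `Q` fully automized and receptive. -/
theorem normalizerSystem_saturated [Finite S] [Fact p.Prime] (hS : IsPGroup p S)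
    (hF : F.IsSaturated p) {Q : Subgroup Ω} (hQ : F.IsFullyNormalized Q)
    {E : FusionSystem (normalizerIn S Q)} (hE : F.IsNormalizerSystem Q E) :
    E.IsSaturated p := by
  obtain ⟨-, R, hR⟩ := isFullyAutomized_of_fullyNormalized hS hF hQ
  have := finite_mulAut (Ω := Ω) hQ.1
  refine KNorm.saturated (F := F)
    { Q := Q, K := ⊤, T := _, E := E, receptive := isReceptive_of_fullyNormalized hS hF hQ,
      sylow := ?_, mem_T := ?_, mem_E := ?_ } hS hF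
  · intro V hV hVp
    obtain ⟨V', hV'⟩ :=
      (hVp.of_equiv (Subgroup.subgroupOfEquivOfLe (hV.trans inf_le_left)).symm).exists_le_sylow
    obtain ⟨a, ha⟩ := MulAction.exists_smul_eq (F.autGroup Q) V' R
    refine ⟨a, ⟨a.2, trivial⟩, fun v hv => ?_⟩
    have h1 : a * ⟨v, (hV hv).1⟩ * a⁻¹ ∈ (R : Subgroup (F.autGroup Q)) := by
      rw [← ha, Sylow.coe_subgroup_smul]
      exact Subgroup.smul_mem_pointwise_smul _ (MulAut.conj a) _ (hV' hv)
    rw [hR] at h1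
    exact h1
  · exact fun g => ⟨fun h => ⟨h.1, h.2, trivial⟩, fun h => ⟨h.1, h.2.1⟩⟩
  · intro P φ
    rw [hE P]
    constructor
    · rintro ⟨hφ, hP, hv, ψ, hψ, hψP, hψQ⟩
      have hr : (ψ.comp (Subgroup.inclusion (le_sup_right : Q ≤ P ⊔ Q))).range = Q := by
        rw [MonoidHom.range_comp, Subgroup.inclusion_range, hψQ]
      exact ⟨hφ, hP, hv, ψ, hψ, hψP, toAut (restrict_mem hψ le_sup_right) hr, trivial,
        fun x => rfl⟩
    · rintro ⟨hφ, hP, hv, ψ, hψ, hψP, k, -, hψQ⟩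
      refine ⟨hφ, hP, hv, ψ, hψ, hψP, ?_⟩
      ext y
      constructor
      · rintro ⟨⟨z, hz⟩, hzQ, rfl⟩
        rw [show ψ ⟨z, hz⟩ = _ from hψQ ⟨z, hzQ⟩]
        exact Subtype.property _
      · intro hy
        refine ⟨Subgroup.inclusion le_sup_right (k.symm ⟨y, hy⟩), (k.symm ⟨y, hy⟩).2, ?_⟩
        rw [hψQ, MulEquiv.apply_symm_apply]

/-- `C_F(Q)` is saturated for `Q` fully centralized. -/
theorem centralizerSystem_saturated [Finite S] [Fact p.Prime] (hS : IsPGroup p S)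
    (hF : F.IsSaturated p) {Q : Subgroup Ω} (hQ : F.IsFullyCentralized Q)
    {E : FusionSystem (centralizerIn S Q)} (hE : F.IsCentralizerSystem Q E) :
    E.IsSaturated p := by
  refine KNorm.saturated (F := F)
    { Q := Q, K := ⊥, T := _, E := E, receptive := isReceptive_of_fullyCentralized hS hF hQ,
      sylow := ?_, mem_T := ?_, mem_E := ?_ } hS hF
  · intro V hV _
    refine ⟨1, Subgroup.one_mem _, fun v hv => ?_⟩
    rw [Subgroup.mem_bot.1 (hV hv).2]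
    simp
  · intro g
    constructor
    · intro hg
      refine ⟨hg.1, Subgroup.centralizer_le_normalizer _ hg.2, ?_⟩
      refine Subgroup.mem_bot.2 (MulEquiv.ext fun x => Subtype.ext ?_)
      show g * (x : Ω) * g⁻¹ = x
      rw [← hg.2 x x.2, mul_inv_cancel_right]
    · rintro ⟨hgS, hgN, hg1⟩
      refine mem_centralizerIn.2 ⟨hgS, fun x hx => ?_⟩
      have h : g * x * g⁻¹ = x :=
        congrArg (fun a : MulAut Q => ((a ⟨x, hx⟩ : Q) : Ω)) (Subgroup.mem_bot.1 hg1)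
      calc x * g = (g * x * g⁻¹) * g := by rw [h]
        _ = g * x := by group
  · intro P φ
    rw [hE P]
    constructor
    · rintro ⟨hφ, hP, hv, ψ, hψ, hψP, hψQ⟩
      exact ⟨hφ, hP, hv, ψ, hψ, hψP, 1, Subgroup.mem_bot.2 rfl, hψQ⟩
    · rintro ⟨hφ, hP, hv, ψ, hψ, hψP, k, hk, hψQ⟩
      rw [Subgroup.mem_bot] at hk
      subst hk
      exact ⟨hφ, hP, hv, ψ, hψ, hψP, hψQ⟩

end Cfsg.Agent.Fusion
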