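import Cfsg.Agent.Lib.Fusion.Basic

/-!
The Frobenius criterion for fusion systems: if every automorphism group of a saturated system is a
`p`-group then the system is the inner system.
-/

set_option autoImplicit false

namespace Cfsg.Agent.Fusion

open Cfsg Cfsg.FusionSystem

variable {Ω : Type*} [Group Ω] {S : Subgroup Ω} {F : FusionSystem S} {p : ℕ}

/-- Normalizers grow in a finite `p`-group. -/
theorem lt_normalizerIn [Finite S] [Fact p.Prime] (hS : IsPGroup p S) {R : Subgroup Ω}
    (hR : R < S) : R < normalizerIn S R := by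
  have : Group.IsNilpotent ↥S := hS.isNilpotent
  have hne : R.subgroupOf S < ⊤ := by
    refine lt_top_iff_ne_top.2 fun h => hR.not_ge ?_
    exact Subgroup.subgroupOf_eq_top.1 h
  obtain ⟨g, hgN, hg⟩ := SetLike.exists_of_lt
    (Group.normalizerCondition_of_isNilpotent (R.subgroupOf S) hne)
  refine lt_of_le_of_ne (le_normalizerIn hR.le) fun h => hg ?_
  refine h.ge ⟨g.2, ?_⟩
  have h1 := Subgroup.mem_normalizer_iff.1 hgN
  refine Subgroup.mem_normalizer_iff.2 fun y => ⟨fun hy => ?_, fun hy => ?_⟩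
  · exact (h1 ⟨y, hR.le hy⟩).1 hy
  · have hyS : y ∈ S := by
      have := S.mul_mem (S.mul_mem (S.inv_mem g.2) (hR.le hy)) g.2
      simpa [mul_assoc] using this
    exact (h1 ⟨y, hyS⟩).2 hy

/-- If `R` is fully automized and `Aut_F(R)` is a `p`-group then `Aut_F(R) = Aut_S(R)`. -/
theorem autGroup_eq_of_isPGroup [Fact p.Prime] {Q : Subgroup Ω} (hQ : F.IsFullyAutomized p Q)
    (h : IsPGroup p (F.autGroup Q)) : F.autGroup Q ≤ autInducedBy S Q := by
  obtain ⟨-, R, hR⟩ := hQ
  have hT : IsPGroup p (⊤ : Subgroup (F.autGroup Q)) := h.to_subgroup ⊤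
  have htop := R.is_maximal' hT le_top
  rw [hR] at htop
  intro α hα
  exact htop.le (show (⟨α, hα⟩ : F.autGroup Q) ∈ ⊤ from trivial)

/-- Frobenius' criterion: when all automorphism groups are `p`-groups, every map is conjugation
by an element of `S`. -/
theorem exists_conj_of_isPGroup [Finite S] [Fact p.Prime] (hS : IsPGroup p S)
    (hF : F.IsSaturated p) (h : ∀ P : Subgroup Ω, P ≤ S → IsPGroup p (F.autGroup P)) :
    ∀ {P : Subgroup Ω} {φ : P →* Ω}, φ ∈ F.Hom P →
      ∃ g ∈ S, ∀ x : P, φ x = g * (x : Ω) * g⁻¹ := by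
  suffices H : ∀ (n : ℕ) (P : Subgroup Ω), Nat.card S ≤ Nat.card P + n → ∀ φ ∈ F.Hom P,
      ∃ g ∈ S, ∀ x : P, φ x = g * (x : Ω) * g⁻¹ from
    fun {P φ} hφ => H (Nat.card S) P (Nat.le_add_left _ _) φ hφ
  intro n
  induction n using Nat.strong_induction_on with
  | _ n ih =>
    intro P hcard φ hφ
    obtain ⟨Q, hPQ, hQa, hQr⟩ := hF P (dom_le hφ)
    have hQS := hQa.1
    have hcQ := isConj_card hPQ
    have key : ∀ (R : Subgroup Ω) (ψ : R →* Ω), ψ ∈ F.Hom R → ψ.range = Q →
        ∃ g ∈ S, ∀ x : R, ψ x = g * (x : Ω) * g⁻¹ := by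
      intro R ψ hψ hr
      have hRS := dom_le hψ
      have hcR : Nat.card R = Nat.card P := by rw [← card_range hψ, hr, hcQ]
      by_cases hR : R = S
      · subst hR
        have := finite_of_le (Ω := Ω) hQS
        have hQ : Q = R := Subgroup.eq_of_le_of_card_ge hQS (by rw [← card_range hψ, hr])
        rw [hQ] at hr hQa
        have hα := autGroup_eq_of_isPGroup hQa (h R hRS) (toAut_mem hψ hr)
        obtain ⟨g, hg, hx⟩ := mem_autInducedBy_iff.1 hα
        exact ⟨g, hg, hx⟩
      · have hlt := lt_normalizerIn hS (lt_of_le_of_ne hRS hR)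
        have hext : normalizerIn S R ≤ extender S R ψ := fun g hg => by
          obtain ⟨hgS, hgN⟩ := hg
          have hα : MulAut.congr (homEquiv hψ hr) (conjAut hgN) ∈ F.autGroup Q :=
            congr_mem_autGroup hψ hr
              (autInducedBy_le_autGroup F hRS (conjAut_mem_autInducedBy hgS hgN))
          obtain ⟨k, hk, hx⟩ :=
            mem_autInducedBy_iff.1 (autGroup_eq_of_isPGroup hQa (h Q hQS) hα)
          refine mem_extender_iff.2 ⟨hgS, hgN, k, hk, fun x hx' => ?_⟩
          have hxx := hx (homEquiv hψ hr x)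
          rw [show MulAut.congr (homEquiv hψ hr) (conjAut hgN) (homEquiv hψ hr x)
            = homEquiv hψ hr (conjAut hgN x) by simp [MulAut.congr]] at hxx
          exact hxx
        obtain ⟨χ, hχ, hχe⟩ := exists_extension hQr hψ hr hext
        have : Finite (normalizerIn S R) := finite_of_le (normalizerIn_le S R)
        have hlt' : Nat.card R < Nat.card (normalizerIn S R) :=
          Set.Finite.card_lt_card (Set.toFinite _) (SetLike.coe_ssubset_coe.2 hlt)
        have : Nat.card (normalizerIn S R) ≤ Nat.card S :=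
          Subgroup.card_le_of_le (normalizerIn_le S R)
        obtain ⟨g, hg, hx⟩ := ih (Nat.card S - Nat.card (normalizerIn S R)) (by omega)
          (normalizerIn S R) (by omega) χ hχ
        refine ⟨g, hg, fun x => ?_⟩
        rw [← hχe x x.2 (hlt.le x.2)]
        exact hx _
    obtain ⟨χ, hχ, hχr⟩ := hPQ
    obtain ⟨ψ, hψ, hψr⟩ :=
      isConj_trans (isConj_symm ⟨φ, hφ, rfl⟩) (⟨χ, hχ, hχr⟩ : F.IsConj P Q)
    obtain ⟨k, hk, hψx⟩ := key φ.range ψ hψ hψr
    -- the composite `ψ ∘ φ` is an isomorphism from `P` onto `Q`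
    have hc : ∀ x : P, φ x ∈ φ.range := fun x => ⟨x, rfl⟩
    have hcomp := F.comp_mem hφ hψ hc
    have hcr : (ψ.comp (φ.codRestrict φ.range hc)).range = Q := by
      rw [← hψr]
      ext y
      constructor
      · rintro ⟨x, rfl⟩
        exact ⟨_, rfl⟩
      · rintro ⟨⟨_, x, rfl⟩, rfl⟩
        exact ⟨x, rfl⟩
    obtain ⟨g, hg, hx⟩ := key P _ hcomp hcr
    refine ⟨k⁻¹ * g, S.mul_mem (S.inv_mem hk) hg, fun x => ?_⟩
    have h1 : k * φ x * k⁻¹ = g * (x : Ω) * g⁻¹ := (hψx ⟨φ x, hc x⟩).symm.trans (hx x)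
    calc φ x = k⁻¹ * (k * φ x * k⁻¹) * k := by group
      _ = k⁻¹ * g * (x : Ω) * (k⁻¹ * g)⁻¹ := by rw [h1]; group

/-- Frobenius' criterion, as an equality of map sets with the inner system. -/
theorem hom_eq_inner_of_isPGroup [Finite S] [Fact p.Prime] (hS : IsPGroup p S)
    (hF : F.IsSaturated p) (h : ∀ P : Subgroup Ω, P ≤ S → IsPGroup p (F.autGroup P))
    (P : Subgroup Ω) : F.Hom P = (innerFusionSystem S).Hom P := by
  ext φ
  constructor
  · intro hφ
    obtain ⟨g, hg, hx⟩ := exists_conj_of_isPGroup hS hF h hφ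
    exact ⟨dom_le hφ, g, hg, hx⟩
  · rintro ⟨hP, g, hg, hx⟩
    exact mem_of_conj hP hg hx

/-- A finite group with no nontrivial element of order prime to `p` is a `p`-group. -/
theorem isPGroup_of_coprime_orderOf_eq_one {G : Type*} [Group G] [Finite G] [Fact p.Prime]
    (h : ∀ α : G, (orderOf α).Coprime p → α = 1) : IsPGroup p G := by
  intro α
  obtain ⟨k, m, hm, hk⟩ :=
    Nat.exists_eq_pow_mul_and_not_dvd (orderOf_pos α).ne' p (Fact.out : p.Prime).ne_one
  refine ⟨k, h _ ?_⟩
  rw [orderOf_pow, hk, Nat.gcd_mul_right_left, Nat.mul_div_cancel_left _ (pow_pos (Fact.out : p.Prime).pos k)]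
  exact ((Fact.out : p.Prime).coprime_iff_not_dvd.2 hm).symm

end Cfsg.Agent.Fusion
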