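import Cfsg.Agent.Lib.Fusion.Saturated
import Cfsg.Agent.Lib.Fusion.Nilpotent

/-!
Two maps of a saturated system agreeing on a centric subgroup differ by conjugation by an element
of the centre of that subgroup.
-/

set_option autoImplicit false

namespace Cfsg.Agent.Fusion

open Cfsg Cfsg.FusionSystem

variable {Ω : Type*} [Group Ω] {S : Subgroup Ω} {F : FusionSystem S} {p : ℕ}

/-- An automorphism of `p`-power order fixing a centric subgroup elementwise is conjugation by an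
element of the centre of that subgroup. -/
theorem aut_eq_conj_of_fixes [Finite S] [Fact p.Prime] (hS : IsPGroup p S) (hF : F.IsSaturated p)
    {P Q : Subgroup Ω} (hPS : P ≤ S) (hQP : Q ≤ P) (hQ : F.IsCentric Q) {α : MulAut P}
    (hα : α ∈ F.autGroup P) {k : ℕ} (hp : α ^ p ^ k = 1)
    (hfix : ∀ x : P, (x : Ω) ∈ Q → α x = x) :
    ∃ z : P, (z : Ω) ∈ Q ∧ (z : Ω) ∈ Subgroup.centralizer (Q : Set Ω) ∧
      ∀ y : P, α y = z * y * z⁻¹ := by
  obtain ⟨R, hc, hR⟩ := exists_fullyNormalized F hPS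
  obtain ⟨-, T, hT⟩ := isFullyAutomized_of_fullyNormalized hS hF hR
  obtain ⟨β₀, hβ₀, hβ₀r⟩ := hc
  have := finite_mulAut (Ω := Ω) hR.1
  let γ : F.autGroup R :=
    ⟨MulAut.congr (homEquiv hβ₀ hβ₀r) α, congr_mem_autGroup hβ₀ hβ₀r hα⟩
  have hγ : γ ^ p ^ k = 1 := by
    refine Subtype.ext ?_
    show (MulAut.congr (homEquiv hβ₀ hβ₀r) α) ^ p ^ k = 1
    rw [← map_pow, hp, map_one]
  have hγp : IsPGroup p (Subgroup.zpowers γ) := by
    rintro ⟨δ, hδ⟩
    obtain ⟨i, rfl⟩ := Subgroup.mem_zpowers_iff.1 hδ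
    refine ⟨k, Subtype.ext ?_⟩
    show (γ ^ i) ^ p ^ k = 1
    rw [← zpow_natCast, ← zpow_mul, mul_comm, zpow_mul, zpow_natCast, hγ, one_zpow]
  obtain ⟨T', hT'⟩ := hγp.exists_le_sylow
  obtain ⟨a, ha⟩ := MulAction.exists_smul_eq (F.autGroup R) T' T
  have h1 : a * γ * a⁻¹ ∈ (T : Subgroup (F.autGroup R)) := by
    rw [← ha, Sylow.coe_subgroup_smul]
    exact Subgroup.smul_mem_pointwise_smul γ (MulAut.conj a) _ (hT' (Subgroup.mem_zpowers γ))
  rw [hT, Subgroup.mem_subgroupOf] at h1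
  obtain ⟨g, hgS, hg⟩ := mem_autInducedBy_iff.1 h1
  set e : P ≃* R := (homEquiv hβ₀ hβ₀r).trans (a : MulAut R) with he
  have hβ : R.subtype.comp e.toMonoidHom ∈ F.Hom P :=
    aut_comp_mem hβ₀ hβ₀r a.2 fun x => rfl
  have hkey : ∀ x : P, ((e (α x) : R) : Ω) = g * (e x : Ω) * g⁻¹ := by
    intro x
    rw [← hg (e x)]
    simp [γ, he, MulAut.mul_apply]
  -- the image of `Q`
  have hconj : F.IsConj Q ((Q.subgroupOf P).map (R.subtype.comp e.toMonoidHom)) := by
    refine ⟨_, restrict_mem hβ hQP, ?_⟩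
    rw [MonoidHom.range_comp, Subgroup.inclusion_range]
  have hgC : g ∈ centralizerIn S ((Q.subgroupOf P).map (R.subtype.comp e.toMonoidHom)) := by
    refine mem_centralizerIn.2 ⟨hgS, ?_⟩
    rintro _ ⟨x, hx, rfl⟩
    have h2 := hkey x
    rw [hfix x hx] at h2
    show (e x : Ω) * g = g * e x
    calc (e x : Ω) * g = g * (e x : Ω) * g⁻¹ * g := by rw [← h2]
      _ = g * e x := by group
  obtain ⟨z, hzQ, rfl⟩ := hQ.2 _ hconj hgC
  refine ⟨z, hzQ, fun x hx => ?_, fun y => e.injective (Subtype.ext ?_)⟩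
  · have h2 := (mem_centralizerIn.1 hgC).2 _ ⟨⟨x, hQP hx⟩, hx, rfl⟩
    have h3 : e (⟨x, hQP hx⟩ * z) = e (z * ⟨x, hQP hx⟩) := by
      rw [map_mul, map_mul]
      exact Subtype.ext h2
    exact congrArg Subtype.val (e.injective h3)
  · rw [hkey, map_mul, map_mul, map_inv]
    rfl

/-- The case of `exists_conj_of_agree` in which the centric subgroup is normal in the source. -/
theorem exists_conj_of_agree_normal [Finite S] [Fact p.Prime] (hS : IsPGroup p S)
    (hF : F.IsSaturated p) {P Q : Subgroup Ω} (hQP : Q ≤ P)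
    (hPQ : P ≤ Subgroup.normalizer (Q : Set Ω)) (hQ : F.IsCentric Q) {φ φ' : P →* Ω}
    (hφ : φ ∈ F.Hom P) (hφ' : φ' ∈ F.Hom P) (h : ∀ x : P, (x : Ω) ∈ Q → φ x = φ' x) :
    ∃ z : P, (z : Ω) ∈ Q ∧ (z : Ω) ∈ Subgroup.centralizer (Q : Set Ω) ∧
      ∀ y : P, φ' y = φ (z * y * z⁻¹) := by
  have hPS := dom_le hφ
  have hQ' : F.IsConj Q ((Q.subgroupOf P).map φ) := by
    refine ⟨_, restrict_mem hφ hQP, ?_⟩
    rw [MonoidHom.range_comp, Subgroup.inclusion_range]
  -- `φ'` differs from `φ` by elements of the centre of the image of `Q`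
  have hd : ∀ x : P, ∃ d : P, (d : Ω) ∈ Q ∧ φ' x = φ (x * d) := by
    intro x
    have hu : (φ x)⁻¹ * φ' x ∈ centralizerIn S ((Q.subgroupOf P).map φ) := by
      refine mem_centralizerIn.2
        ⟨S.mul_mem (S.inv_mem (apply_mem hφ x)) (apply_mem hφ' x), ?_⟩
      rintro _ ⟨q, hq, rfl⟩
      have hxq : x * q * x⁻¹ ∈ Q.subgroupOf P :=
        (Subgroup.mem_normalizer_iff.1 (hPQ x.2) _).1 hq
      have h1 := h (x * q * x⁻¹) hxq
      rw [map_mul, map_mul, map_mul, map_mul, map_inv, map_inv, ← h q hq] at h1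
      calc φ q * ((φ x)⁻¹ * φ' x) = (φ x)⁻¹ * (φ x * φ q * (φ x)⁻¹) * φ' x := by group
        _ = (φ x)⁻¹ * φ' x * φ q := by rw [h1]; group
    obtain ⟨d, hd, hde⟩ := hQ.2 _ hQ' hu
    exact ⟨d, hd, by rw [map_mul, hde, mul_inv_cancel_left]⟩
  choose d hdQ hdφ using hd
  have hr : φ'.range = φ.range := by
    refine range_eq_of_le hφ' (range_le hφ) (fun x => ⟨_, (hdφ x).symm⟩) ?_
    rw [card_range hφ]
  set α : MulAut P := (homEquiv hφ' hr).trans (homEquiv hφ rfl).symm with hα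
  have hαφ : ∀ x : P, φ (α x) = φ' x := fun x =>
    congrArg Subtype.val ((homEquiv hφ rfl).apply_symm_apply (homEquiv hφ' hr x))
  have hαd : ∀ x, α x = x * d x := fun x =>
    F.injective_of_mem hφ ((hαφ x).trans (hdφ x))
  have hfix : ∀ x : P, (x : Ω) ∈ Q → α x = x := fun x hx =>
    F.injective_of_mem hφ ((hαφ x).trans (h x hx).symm)
  have hαF : α ∈ F.autGroup P := by
    obtain ⟨ψ, hψ, -, hi, -⟩ := exists_inverse hφ (R := φ.range) rfl
    refine (mem_autGroup_iff hPS).2 (comp_mem' hφ' hψ (fun x => hr.le ⟨x, rfl⟩) fun x => ?_)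
    have h1 := hi (α x) ⟨_, rfl⟩
    simp only [hαφ] at h1
    exact h1.symm
  have := finite_of_le hPS
  obtain ⟨k, hk⟩ := IsPGroup.iff_card.1 (hS.to_le hPS)
  have hp : α ^ p ^ k = 1 := by
    refine MulEquiv.ext fun x => ?_
    have hpow : ∀ j, (α ^ j) x = x * d x ^ j := by
      intro j
      induction j with
      | zero => simp
      | succ j ih =>
        rw [pow_succ' α, MulAut.mul_apply, ih, map_mul, map_pow, hfix _ (hdQ x), hαd, pow_succ',
          mul_assoc]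
    rw [hpow, ← hk, pow_card_eq_one', mul_one]
    rfl
  obtain ⟨z, hzQ, hzC, hz⟩ := aut_eq_conj_of_fixes hS hF hPS hQP hQ hαF hp hfix
  exact ⟨z, hzQ, hzC, fun y => by rw [← hαφ, hz]⟩

/-- Two maps of a saturated system with source `P` agreeing on a centric subgroup `Q ≤ P` differ by
conjugation by an element of `Z(Q)`. -/
theorem exists_conj_of_agree [Finite S] [Fact p.Prime] (hS : IsPGroup p S) (hF : F.IsSaturated p)
    {P Q : Subgroup Ω} (hQP : Q ≤ P) (hQ : F.IsCentric Q) {φ φ' : P →* Ω}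
    (hφ : φ ∈ F.Hom P) (hφ' : φ' ∈ F.Hom P) (h : ∀ x : P, (x : Ω) ∈ Q → φ x = φ' x) :
    ∃ z : P, (z : Ω) ∈ Q ∧ (z : Ω) ∈ Subgroup.centralizer (Q : Set Ω) ∧
      ∀ y : P, φ' y = φ (z * y * z⁻¹) := by
  have hPS := dom_le hφ
  induction hn : Nat.card P - Nat.card Q using Nat.strong_induction_on generalizing Q φ φ' with
  | _ n ih =>
    rcases eq_or_lt_of_le hQP with rfl | hlt
    · exact ⟨1, Q.one_mem, Subgroup.one_mem _, fun y => by
        rw [one_mul, inv_one, mul_one]; exact (h y y.2).symm⟩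
    have := finite_of_le hPS
    -- `R = N_P(Q)` contains `Q` properly
    set R := normalizerIn P Q with hR
    have hQR : Q < R := lt_normalizerIn (hS.to_le hPS) hlt
    have hRP : R ≤ P := inf_le_left
    obtain ⟨z, hzQ, hzC, hz⟩ := exists_conj_of_agree_normal hS hF hQR.le
      (inf_le_right : R ≤ Subgroup.normalizer (Q : Set Ω)) hQ (restrict_mem hφ hRP)
      (restrict_mem hφ' hRP) (fun x hx => h _ hx)
    set z' : P := Subgroup.inclusion hRP z
    let φ₂ : P →* Ω := φ.comp (MulAut.conj z').toMonoidHom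
    have hφ₂ : φ₂ ∈ F.Hom P :=
      comp_mem' (F.conj_mem hPS (hPS (hRP z.2))) hφ
        (fun x => (show (z : Ω) * x * (z : Ω)⁻¹ ∈ P from (z' * x * z'⁻¹).2)) fun x => rfl
    have hlt' : Nat.card P - Nat.card R < n := by
      have h1 : Nat.card Q < Nat.card R := card_lt_of_lt (hRP.trans hPS) hQR
      have h2 : Nat.card R ≤ Nat.card P := Subgroup.card_le_of_le hRP
      omega
    obtain ⟨w, hwR, hwC, hw⟩ := ih _ hlt' hRP (isCentric_of_le hQ hQR.le (hRP.trans hPS)) hφ₂ hφ'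
      (fun x hx => (hz ⟨x, hx⟩).symm) rfl
    have hwQ : (w : Ω) ∈ centralizerIn S Q :=
      mem_centralizerIn.2 ⟨hPS w.2, fun x hx => hwC x (hQR.le hx)⟩
    refine ⟨z' * w, Q.mul_mem hzQ (isCentric_centralizerIn_le hQ hwQ),
      Subgroup.mul_mem _ hzC hwQ.2, fun y => ?_⟩
    rw [hw]
    show φ (z' * (w * y * w⁻¹) * z'⁻¹) = _
    congr 1
    group

end Cfsg.Agent.Fusion
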