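import Cfsg.Agent.Lib.Fusion.Alperin
import Cfsg.Agent.Lib.Fusion.Constructions

/-!
Criteria for a subgroup to be normal in a saturated fusion system.
-/

set_option autoImplicit false

namespace Cfsg.Agent.Fusion

open Cfsg Cfsg.FusionSystem

variable {Ω : Type*} [Group Ω] {S : Subgroup Ω} {F : FusionSystem S} {p : ℕ}

/-! ### Properties of normal subgroups -/

theorem normalizerIn_eq_of_le {Q : Subgroup Ω} (h : S ≤ Subgroup.normalizer (Q : Set Ω)) :
    normalizerIn S Q = S :=
  inf_eq_left.2 h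

/-- A strongly closed subgroup is normalized by `S`. -/
theorem le_normalizer_of_stronglyClosed {Q : Subgroup Ω} (hQ : F.StronglyClosed Q) :
    S ≤ Subgroup.normalizer (Q : Set Ω) := by
  intro g hg
  refine Subgroup.mem_normalizer_iff.2 fun y => ⟨fun hy => ?_, fun hy => ?_⟩
  · exact hQ.2 Q le_rfl _ (F.conj_mem hQ.1 hg) ⟨y, hy⟩
  · have h := hQ.2 Q le_rfl _ (F.conj_mem hQ.1 (S.inv_mem hg)) ⟨_, hy⟩
    simpa [conjHom_apply, mul_assoc] using h

theorem stronglyClosed_of_isNormal {Q : Subgroup Ω} (hQ : F.IsNormal Q) : F.StronglyClosed Q := by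
  refine ⟨hQ.1, fun R hR φ hφ x => ?_⟩
  obtain ⟨ψ, -, hP, hQ'⟩ := hQ.2 R φ hφ
  rw [← hP x]
  exact hQ'.le ⟨_, hR x.2, rfl⟩

theorem le_normalizer_of_isNormal {Q : Subgroup Ω} (hQ : F.IsNormal Q) :
    S ≤ Subgroup.normalizer (Q : Set Ω) :=
  le_normalizer_of_stronglyClosed (stronglyClosed_of_isNormal hQ)

/-- A characteristic subgroup of a normal subgroup is normal. -/
theorem isNormal_of_characteristic {Q U : Subgroup Ω} (hQ : F.IsNormal Q) (hUQ : U ≤ Q)
    (hU : (U.subgroupOf Q).Characteristic) : F.IsNormal U := by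
  refine ⟨hUQ.trans hQ.1, fun P φ hφ => ?_⟩
  obtain ⟨ψ, hψ, hψP, hψQ⟩ := hQ.2 P φ hφ
  have hle : P ⊔ U ≤ P ⊔ Q := sup_le_sup_left hUQ P
  refine ⟨_, restrict_mem hψ hle, fun x => hψP x, ?_⟩
  let f : Q →* Q := (ψ.comp (Subgroup.inclusion (le_sup_right : Q ≤ P ⊔ Q))).codRestrict Q
    (fun x => hψQ.le ⟨_, x.2, rfl⟩)
  have hb : Function.Bijective f := by
    refine ⟨fun a b hab => ?_, fun y => ?_⟩
    · exact Subgroup.inclusion_injective _ (F.injective_of_mem hψ (congrArg Subtype.val hab))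
    · obtain ⟨z, hz, hzy⟩ := hψQ.ge y.2
      exact ⟨⟨z, hz⟩, Subtype.ext hzy⟩
  have hchar : (U.subgroupOf Q).map (MulEquiv.ofBijective f hb).toMonoidHom = U.subgroupOf Q :=
    Subgroup.characteristic_iff_map_eq.1 hU _
  ext y
  constructor
  · rintro ⟨⟨z, hz⟩, hzU, rfl⟩
    exact (hchar.le ⟨⟨z, hUQ hzU⟩, hzU, rfl⟩ : f ⟨z, hUQ hzU⟩ ∈ U.subgroupOf Q)
  · intro hy
    obtain ⟨z, hz, hzy⟩ := hchar.ge (show (⟨y, hUQ hy⟩ : Q) ∈ U.subgroupOf Q from hy)
    exact ⟨⟨z, Subgroup.mem_sup_right hz⟩, hz, congrArg Subtype.val hzy⟩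

theorem isNormal_bot : F.IsNormal ⊥ := by
  refine ⟨bot_le, fun P φ hφ => ⟨φ.comp (Subgroup.inclusion (by simp)),
    restrict_mem hφ _, fun x => rfl, ?_⟩⟩
  simp

/-- Every map extends to a map on the join with a normal subgroup: an automorphism of `P` extends
to one of `P ⊔ Q` preserving both. -/
theorem exists_extension_of_isNormal {P Q : Subgroup Ω} (hQ : F.IsNormal Q) (hP : P ≤ S)
    {α : MulAut P} (hα : α ∈ F.autGroup P) :
    ∃ ψ ∈ F.Hom (P ⊔ Q), ψ.range = P ⊔ Q ∧
      (∀ x : P, ψ (Subgroup.inclusion le_sup_left x) = α x) ∧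
      (Q.subgroupOf (P ⊔ Q)).map ψ = Q := by
  obtain ⟨hφ, hr⟩ := hom_of_mem_autGroup hP hα
  obtain ⟨ψ, hψ, hψP, hψQ⟩ := hQ.2 P _ hφ
  exact ⟨ψ, hψ, by rw [range_sup_eq hψP hψQ, hr], hψP, hψQ⟩

/-- Automorphisms preserve a strongly closed subgroup. -/
theorem map_aut_eq_of_stronglyClosed [Finite S] {P Q : Subgroup Ω} (hQ : F.StronglyClosed Q)
    (hQP : Q ≤ P) (hP : P ≤ S) {α : MulAut P} (hα : α ∈ F.autGroup P) :
    (Q.subgroupOf P).map α.toMonoidHom = Q.subgroupOf P := by
  have := finite_of_le (Ω := Ω) hP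
  refine Subgroup.eq_of_le_of_card_ge ?_
    (le_of_eq (Subgroup.card_map_of_injective α.injective).symm)
  rintro _ ⟨x, hx, rfl⟩
  exact hQ.2 Q le_rfl _ (restrict_mem (hom_of_mem_autGroup hP hα).1 hQP) ⟨x, hx⟩

/-! ### Normality from invariance -/

/-- If the automorphisms of `S` and of each fully normalized `R < S` whose automorphisms are not
generated by extendable ones preserve `Q ≤ R`, then `Q` is normal. -/
theorem isNormal_of_invariant [Finite S] [Fact p.Prime] (hS : IsPGroup p S) (hF : F.IsSaturated p)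
    {Q : Subgroup Ω} (hQS : Q ≤ S)
    (hS' : ∀ α ∈ F.autGroup S, (Q.subgroupOf S).map α.toMonoidHom = Q.subgroupOf S)
    (h : ∀ R : Subgroup Ω, R < S → F.IsFullyNormalized R →
      ¬ F.autGroup R ≤ Subgroup.closure (extendable F R) →
      Q ≤ R ∧ ∀ α ∈ F.autGroup R, (Q.subgroupOf R).map α.toMonoidHom = Q.subgroupOf R) :
    F.IsNormal Q := by
  have hN : normalizerIn S Q = S := normalizerIn_eq_of_le fun g hg => by
    have hmem : ∀ g ∈ S, ∀ y ∈ Q, g * y * g⁻¹ ∈ Q := by
      intro g hg y hy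
      have h1 : MulAut.conj (⟨g, hg⟩ : S) ∈ F.autGroup S := inn_le_autGroup F le_rfl ⟨_, rfl⟩
      exact (hS' _ h1).le ⟨⟨y, hQS hy⟩, hy, rfl⟩
    refine Subgroup.mem_normalizer_iff.2 fun y => ⟨hmem g hg y, fun hy => ?_⟩
    simpa [mul_assoc] using hmem g⁻¹ (S.inv_mem hg) _ hy
  obtain ⟨E, hE⟩ : ∃ E : FusionSystem S, ∀ P, E.Hom P = F.normalizerHom Q P := by
    obtain ⟨E', hE'⟩ : ∃ E : FusionSystem (normalizerIn S Q), ∀ P, E.Hom P = F.normalizerHom Q P :=
      ⟨normalizerSystem F Q hQS, fun _ => rfl⟩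
    revert E' hE'
    generalize F.normalizerHom Q = Φ
    rw [hN]
    exact fun E hE => ⟨E, hE⟩
  have key : ∀ R : Subgroup Ω, R ≤ S → Q ≤ R →
      (∀ α ∈ F.autGroup R, (Q.subgroupOf R).map α.toMonoidHom = Q.subgroupOf R) →
      F.autGroup R ≤ E.autGroup R := by
    intro R hR hQR hinv α hα
    obtain ⟨hφ, -⟩ := hom_of_mem_autGroup hR hα
    refine Subgroup.subset_closure ?_
    show R.subtype.comp α.toMonoidHom ∈ E.Hom R
    rw [hE]
    refine ⟨hφ, hN.symm ▸ hR, fun x => hN.symm ▸ hR (α x).2,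
      (R.subtype.comp α.toMonoidHom).comp (Subgroup.inclusion (sup_le le_rfl hQR)),
      restrict_mem hφ _, fun x => rfl, ?_⟩
    ext y
    constructor
    · rintro ⟨⟨z, hz⟩, hzQ, rfl⟩
      exact (hinv α hα).le ⟨⟨z, sup_le le_rfl hQR hz⟩, hzQ, rfl⟩
    · intro hy
      obtain ⟨z, hz, hzy⟩ := (hinv α hα).ge (show (⟨y, hQR hy⟩ : R) ∈ Q.subgroupOf R from hy)
      exact ⟨⟨z, Subgroup.mem_sup_right hz⟩, hz, congrArg Subtype.val hzy⟩
  have hle : F ≤ E := le_of_extendable hS hF E (key S le_rfl hQS hS') fun R hR hn hgen =>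
    key R hR.le (h R hR hn hgen).1 (h R hR hn hgen).2
  refine ⟨hQS, fun P φ hφ => ?_⟩
  have h1 := hle P hφ
  rw [hE] at h1
  exact h1.2.2.2

/-- `Q` is normal if it is strongly closed and lies in every fully normalized centric radical
subgroup. -/
theorem isNormal_of_stronglyClosed [Finite S] [Fact p.Prime] (hS : IsPGroup p S)
    (hF : F.IsSaturated p) {Q : Subgroup Ω} (hQ : F.StronglyClosed Q)
    (h : ∀ R : Subgroup Ω, F.IsFullyNormalized R → F.IsCentric R → F.IsRadical p R → Q ≤ R) :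
    F.IsNormal Q :=
  isNormal_of_invariant hS hF hQ.1 (fun _ => map_aut_eq_of_stronglyClosed hQ hQ.1 le_rfl)
    fun R _ hn hgen =>
      have hQR := h R hn (centric_radical_of_not_generated hS hF hn hgen).1
        (centric_radical_of_not_generated hS hF hn hgen).2
      ⟨hQR, fun _ => map_aut_eq_of_stronglyClosed hQ hQR hn.1⟩

/-- If `Q` is normalized by `S` and the automorphisms `Q` induces on the centric radical `P` lie
in a normal `p`-subgroup of `Aut_F(P)`, then `Q ≤ P`. -/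
theorem le_of_autInducedBy_le [Finite S] [Fact p.Prime] (hS : IsPGroup p S) {P Q : Subgroup Ω}
    (hQS : Q ≤ S) (hQn : S ≤ Subgroup.normalizer (Q : Set Ω)) (hPc : F.IsCentric P)
    (hPr : F.IsRadical p P) (K : Subgroup (F.autGroup P)) [K.Normal] (hK : IsPGroup p K)
    (h : ∀ g ∈ Q, ∀ (hg : g ∈ Subgroup.normalizer (P : Set Ω)),
      ∀ hm : conjAut hg ∈ F.autGroup P, (⟨conjAut hg, hm⟩ : F.autGroup P) ∈ K) :
    Q ≤ P := by
  by_contra hQP
  have hPS := hPc.1
  have hsup : P ⊔ Q ≤ S := sup_le hPS hQS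
  have hlt : P < P ⊔ Q := lt_of_le_of_ne le_sup_left fun he => hQP (le_sup_right.trans he.ge)
  have := finite_of_le (Ω := Ω) hsup
  obtain ⟨g, ⟨hgm, hgN⟩, hgP⟩ := SetLike.exists_of_lt (lt_normalizerIn (hS.to_le hsup) hlt)
  have hgm' : g ∈ ((P ⊔ Q : Subgroup Ω) : Set Ω) := hgm
  rw [Subgroup.coe_mul_of_left_le_normalizer_right P Q (hPS.trans hQn)] at hgm'
  obtain ⟨x, hx, q, hq, rfl⟩ := hgm'
  have hqN : q ∈ Subgroup.normalizer (P : Set Ω) := by
    have h1 := Subgroup.mul_mem _ (Subgroup.inv_mem _ (Subgroup.le_normalizer hx)) hgN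
    simpa using h1
  have hm := autInducedBy_le_autGroup F hPS (conjAut_mem_autInducedBy (hQS hq) hqN)
  have hinn : conjAut hqN ∈ Inn P :=
    hPr.2.le ⟨_, PCore.le_pCore hK (h q hq hqN hm), rfl⟩
  have hqP : q ∈ P := by
    by_contra hqP
    exact conjAut_notMem_inn (isCentric_centralizerIn_le hPc) hPS (hQS hq) hqN hqP hinn
  exact hgP (P.mul_mem hx hqP)

/-- A normal subgroup lies in every centric radical subgroup. -/
theorem le_of_isNormal [Finite S] [Fact p.Prime] (hS : IsPGroup p S) {P Q : Subgroup Ω}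
    (hQ : F.IsNormal Q) (hPc : F.IsCentric P) (hPr : F.IsRadical p P) : Q ≤ P := by
  have hPS := hPc.1
  set K := (autInducedBy Q P).subgroupOf (F.autGroup P) with hKdef
  have : K.Normal := by
    refine ⟨fun k hk a => ?_⟩
    obtain ⟨g, hg, hgx⟩ := mem_autInducedBy_iff.1 (Subgroup.mem_subgroupOf.1 hk)
    obtain ⟨ψ, hψ, -, hψP, hψQ⟩ := exists_extension_of_isNormal hQ hPS a.2
    refine Subgroup.mem_subgroupOf.2 (mem_autInducedBy_iff.2
      ⟨ψ (Subgroup.inclusion le_sup_right ⟨g, hg⟩), hψQ.le ⟨_, hg, rfl⟩, fun y => ?_⟩)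
    obtain ⟨x, rfl⟩ := (a : MulAut P).surjective y
    show (((a : MulAut P) ((k : MulAut P) ((a : MulAut P)⁻¹ ((a : MulAut P) x))) : P) : Ω) = _
    rw [MulAut.inv_apply_self, ← hψP, ← hψP, ← map_inv, ← map_mul, ← map_mul]
    exact congrArg ψ (Subtype.ext (hgx x))
  refine le_of_autInducedBy_le hS hQ.1 (le_normalizer_of_isNormal hQ) hPc hPr K ?_
    fun g hg hgN hm => Subgroup.mem_subgroupOf.2 (conjAut_mem_autInducedBy hg hgN)
  exact ((isPGroup_autInducedBy hS P).to_le (autInducedBy_mono hQ.1)).comap_of_injective _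
    (Subgroup.subtype_injective _)

theorem isNormal_iff_stronglyClosed [Finite S] [Fact p.Prime] (hS : IsPGroup p S)
    (hF : F.IsSaturated p) {Q : Subgroup Ω} :
    F.IsNormal Q ↔
      F.StronglyClosed Q ∧ ∀ P : Subgroup Ω, F.IsCentric P → F.IsRadical p P → Q ≤ P :=
  ⟨fun h => ⟨stronglyClosed_of_isNormal h, fun _ hc hr => le_of_isNormal hS h hc hr⟩,
    fun h => isNormal_of_stronglyClosed hS hF h.1 fun R _ => h.2 R⟩

theorem isNormal_iff_essential [Finite S] [Fact p.Prime] (hS : IsPGroup p S)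
    (hF : F.IsSaturated p) {Q : Subgroup Ω} :
    F.IsNormal Q ↔ ∀ P : Subgroup Ω, (P = S ∨ F.IsEssential p P) →
      (Q ≤ P ∧ ∀ α ∈ F.autGroup P, (Q.subgroupOf P).map α.toMonoidHom = Q.subgroupOf P) := by
  constructor
  · intro h P hP
    have hsc := stronglyClosed_of_isNormal h
    rcases hP with rfl | hP
    · exact ⟨h.1, fun _ => map_aut_eq_of_stronglyClosed hsc h.1 le_rfl⟩
    · have hQP := le_of_isNormal hS h hP.1 (isRadical_of_essential hS hF hP)
      exact ⟨hQP, fun _ => map_aut_eq_of_stronglyClosed hsc hQP hP.1.1⟩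
  · intro h
    exact isNormal_of_invariant hS hF (h S (Or.inl rfl)).1 (h S (Or.inl rfl)).2
      fun R hR hn hgen => h R (Or.inr (isEssential_of_not_generated hS hF hR hn hgen))

/-! ### Stabilizers of series -/

/-- The automorphisms in `A` stabilizing a series `T`. -/
def seriesStabilizer {G : Type*} [Group G] (A : Subgroup (MulAut G)) (T : ℕ → Subgroup G)
    (hT : ∀ (a : A) (i : ℕ), ∀ x ∈ T i, (a : MulAut G) x ∈ T i) : Subgroup A where
  carrier := {a | ∀ i, ∀ x ∈ T (i + 1), x⁻¹ * (a : MulAut G) x ∈ T i}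
  one_mem' i x _ := by simp
  mul_mem' := by
    intro a b ha hb i x hx
    have h1 := ha i x hx
    have h2 := hT a i _ (hb i x hx)
    rw [map_mul, map_inv] at h2
    have h3 := Subgroup.mul_mem _ h1 h2
    show x⁻¹ * (a : MulAut G) ((b : MulAut G) x) ∈ T i
    simpa [mul_assoc] using h3
  inv_mem' := by
    intro a ha i x hx
    have hy : (a : MulAut G)⁻¹ x ∈ T (i + 1) := hT a⁻¹ (i + 1) x hx
    have h1 := Subgroup.inv_mem _ (ha i _ hy)
    rw [MulAut.apply_inv_self, mul_inv_rev, inv_inv] at h1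
    exact h1

theorem seriesStabilizer_normal {G : Type*} [Group G] (A : Subgroup (MulAut G))
    (T : ℕ → Subgroup G) (hT : ∀ (a : A) (i : ℕ), ∀ x ∈ T i, (a : MulAut G) x ∈ T i) :
    (seriesStabilizer A T hT).Normal := by
  refine ⟨fun k hk a i x hx => ?_⟩
  have h1 : (a : MulAut G)⁻¹ x ∈ T (i + 1) := by simpa using hT a⁻¹ (i + 1) x hx
  have h2 := hT a i _ (hk i _ h1)
  show x⁻¹ * (a : MulAut G) ((k : MulAut G) ((a : MulAut G)⁻¹ x)) ∈ T i
  simpa [map_mul, map_inv] using h2

theorem aut_pow_apply_of_fixed {G : Type*} [Group G] (β : MulAut G) {x z : G} (hx : β x = x * z)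
    (hz : β z = z) : ∀ m : ℕ, (β ^ m) x = x * z ^ m := by
  intro m
  induction m with
  | zero => simp
  | succ m ih =>
    rw [pow_succ', MulAut.mul_apply, ih, map_mul, map_pow, hx, hz, pow_succ', mul_assoc]

/-- An automorphism of a finite `p`-group stabilizing a series has `p`-power order. -/
theorem pow_eq_one_of_series {G : Type*} [Group G] (_hG : IsPGroup p G) {n : ℕ}
    (hc : Nat.card G = p ^ n) {T : ℕ → Subgroup G} (hT0 : T 0 = ⊥) {a : MulAut G}
    (hinv : ∀ i, ∀ x ∈ T i, a x ∈ T i) (ha : ∀ i, ∀ x ∈ T (i + 1), x⁻¹ * a x ∈ T i) :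
    ∀ i, ∀ x ∈ T i, (a ^ p ^ (n * i)) x = x := by
  intro i
  induction i with
  | zero =>
    intro x hx
    rw [hT0, Subgroup.mem_bot] at hx
    simp [hx]
  | succ i ih =>
    intro x hx
    set z := x⁻¹ * (a ^ p ^ (n * i)) x with hz
    have hzi : ∀ m : ℕ, x⁻¹ * (a ^ m) x ∈ T i := by
      intro m
      induction m with
      | zero => simp
      | succ m ihm =>
        have h1 : (a ^ (m + 1)) x = (a ^ m) x * (a ^ m) (x⁻¹ * a x) := by
          rw [← map_mul, mul_inv_cancel_left, pow_succ, MulAut.mul_apply]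
        have h2 : (a ^ m) (x⁻¹ * a x) ∈ T i := by
          have h3 : ∀ (k : ℕ), ∀ y ∈ T i, (a ^ k) y ∈ T i := by
            intro k
            induction k with
            | zero => simp
            | succ k ihk =>
              intro y hy
              rw [pow_succ, MulAut.mul_apply]
              exact ihk _ (hinv i y hy)
          exact h3 m _ (ha i x hx)
        rw [h1, ← mul_assoc]
        exact Subgroup.mul_mem _ ihm h2
    have hzf : (a ^ p ^ (n * i)) z = z := ih z (hzi _)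
    have hxz : (a ^ p ^ (n * i)) x = x * z := by simp [hz]
    rw [Nat.mul_succ, pow_add, pow_mul, aut_pow_apply_of_fixed _ hxz hzf, ← hc, pow_card_eq_one',
      mul_one]

theorem isPGroup_seriesStabilizer [Fact p.Prime] {G : Type*} [Group G] [Finite G]
    (hG : IsPGroup p G) (A : Subgroup (MulAut G)) (T : ℕ → Subgroup G)
    (hT : ∀ (a : A) (i : ℕ), ∀ x ∈ T i, (a : MulAut G) x ∈ T i) (hT0 : T 0 = ⊥) {m : ℕ}
    (hTm : T m = ⊤) : IsPGroup p (seriesStabilizer A T hT) := by
  obtain ⟨n, hn⟩ := IsPGroup.iff_card.1 hG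
  intro a
  refine ⟨n * m, Subtype.ext (Subtype.ext (MulEquiv.ext fun x => ?_))⟩
  exact pow_eq_one_of_series hG hn hT0 (hT a) a.2 m x (hTm ▸ Subgroup.mem_top x)

/-! ### Chain criteria -/

theorem stronglyClosed_bot : F.StronglyClosed ⊥ := stronglyClosed_of_isNormal isNormal_bot

theorem apply_mem_of_stronglyClosed {P Q : Subgroup Ω} (hQ : F.StronglyClosed Q)
    (hP : P ≤ S) {α : MulAut P} (hα : α ∈ F.autGroup P) {x : P} (hx : (x : Ω) ∈ Q) :
    ((α x : P) : Ω) ∈ Q :=
  hQ.2 (P ⊓ Q) inf_le_right _ (restrict_mem (hom_of_mem_autGroup hP hα).1 inf_le_left)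
    ⟨x, x.2, hx⟩

/-- The chain criterion: a subgroup with a series of strongly closed subgroups centralized by it
modulo the previous term is normal. -/
theorem isNormal_of_chain [Finite S] [Fact p.Prime] (hS : IsPGroup p S) (hF : F.IsSaturated p)
    {Q : Subgroup Ω} {n : ℕ} {T : ℕ → Subgroup Ω} (hT0 : T 0 = ⊥) (hTn : T n = Q)
    (hcl : ∀ i ≤ n, F.StronglyClosed (T i))
    (hcomm : ∀ i < n, ⁅Q, T (i + 1)⁆ ≤ T i) : F.IsNormal Q := by
  have hQ : F.StronglyClosed Q := hTn ▸ hcl n le_rfl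
  refine isNormal_of_stronglyClosed hS hF hQ fun P _ hPc hPr => ?_
  have hPS := hPc.1
  have := finite_of_le (Ω := Ω) hPS
  let U : ℕ → Subgroup P := fun i => if i ≤ n then (T i).subgroupOf P else ⊤
  have hU : ∀ (a : F.autGroup P) (i : ℕ), ∀ x ∈ U i, (a : MulAut P) x ∈ U i := by
    intro a i x hx
    by_cases hi : i ≤ n
    · simp only [U, if_pos hi] at hx ⊢
      exact Subgroup.mem_subgroupOf.2
        (apply_mem_of_stronglyClosed (hcl i hi) hPS a.2 (Subgroup.mem_subgroupOf.1 hx))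
    · simp [U, if_neg hi]
  have := seriesStabilizer_normal (F.autGroup P) U hU
  refine le_of_autInducedBy_le hS hQ.1 (le_normalizer_of_stronglyClosed hQ) hPc hPr
    (seriesStabilizer (F.autGroup P) U hU) ?_ ?_
  · refine isPGroup_seriesStabilizer (hS.to_le hPS) _ U hU ?_ (m := n + 1) ?_
    · simp [U, hT0]
    · simp [U]
  · intro g hg hgN hm i x hx
    by_cases hi : i + 1 ≤ n
    · simp only [U, if_pos hi] at hx
      simp only [U, if_pos (Nat.le_of_succ_le hi)]
      refine Subgroup.mem_subgroupOf.2 ?_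
      refine hcomm i hi ?_
      rw [Subgroup.commutator_comm]
      show (x : Ω)⁻¹ * (g * x * g⁻¹) ∈ _
      have h1 := Subgroup.commutator_mem_commutator
        (Subgroup.inv_mem _ (Subgroup.mem_subgroupOf.1 hx)) hg
      rw [commutatorElement_def] at h1
      simpa [mul_assoc] using h1
    · by_cases hi' : i ≤ n
      · simp only [U, if_pos hi']
        have hin : i = n := by omega
        refine Subgroup.mem_subgroupOf.2 ?_
        rw [hin, hTn]
        show (x : Ω)⁻¹ * (g * x * g⁻¹) ∈ Q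
        have hxN := le_normalizer_of_stronglyClosed hQ (S.inv_mem (hPS x.2))
        have h1 := Q.mul_mem ((Subgroup.mem_normalizer_iff.1 hxN g).1 hg) (Q.inv_mem hg)
        simpa [mul_assoc] using h1
      · simp [U, if_neg hi']

/-- An abelian strongly closed subgroup is normal. -/
theorem isNormal_of_abelian [Finite S] [Fact p.Prime] (hS : IsPGroup p S) (hF : F.IsSaturated p)
    {Q : Subgroup Ω} (hQ : F.StronglyClosed Q) (hab : IsMulCommutative Q) : F.IsNormal Q := by
  refine isNormal_of_chain hS hF (T := fun i => if i = 0 then ⊥ else Q) (n := 1) rfl rfl ?_ ?_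
  · intro i _
    rcases i with - | i
    · simpa using stronglyClosed_bot
    · simpa using hQ
  · intro i hi
    obtain rfl : i = 0 := by omega
    simp only [Nat.zero_add, one_ne_zero, if_false, if_true, le_bot_iff]
    rw [Subgroup.commutator_eq_bot_iff_le_centralizer]
    intro x hx y hy
    exact congrArg Subtype.val (hab.is_comm.comm (⟨y, hy⟩ : Q) ⟨x, hx⟩)

/-- The terms of the lower central series of a normal subgroup are normal. -/
theorem isNormal_lowerCentralSeries {Q : Subgroup Ω} (hQ : F.IsNormal Q) (i : ℕ) :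
    F.IsNormal (Q.lowerCentralSeries i) := by
  refine isNormal_of_characteristic hQ ?_ ?_
  · exact (Q.lowerCentralSeries_antitone (Nat.zero_le i)).trans_eq Q.lowerCentralSeries_zero
  · rw [← Subgroup.top_subtype_lowerCentralSeries, Subgroup.subgroupOf,
      Subgroup.comap_map_eq_self_of_injective Q.subtype_injective]
    infer_instance

/-- A normal subgroup has a series of normal subgroups centralized by it modulo the previous
term. -/
theorem exists_chain_of_isNormal [Finite S] [Fact p.Prime] (hS : IsPGroup p S) {Q : Subgroup Ω}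
    (hQ : F.IsNormal Q) :
    ∃ (n : ℕ) (T : ℕ → Subgroup Ω), T 0 = ⊥ ∧ T n = Q ∧ Monotone T ∧
      (∀ i, F.IsNormal (T i)) ∧ ∀ i < n, ⁅Q, T (i + 1)⁆ ≤ T i := by
  have := finite_of_le (Ω := Ω) hQ.1
  have hnil : Group.IsNilpotent Q := (hS.to_le hQ.1).isNilpotent
  obtain ⟨n, hn⟩ := (Subgroup.isNilpotent_iff_lowerCentralSeries Q).1 hnil
  refine ⟨n, fun i => Q.lowerCentralSeries (n - i), by simpa using hn, by simp, ?_,
    fun i => isNormal_lowerCentralSeries hQ _, fun i hi => ?_⟩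
  · intro i j hij
    exact Q.lowerCentralSeries_antitone (by omega)
  · rw [Subgroup.commutator_comm]
    show _ ≤ Q.lowerCentralSeries (n - i)
    rw [show n - i = (n - (i + 1)) + 1 by omega, Subgroup.lowerCentralSeries_succ]

/-- The extension criterion: every map between subgroups of `R` extends to an automorphism of `R`. -/
theorem isNormal_of_extends [Finite S] [Fact p.Prime] (hS : IsPGroup p S) (hF : F.IsSaturated p)
    {R : Subgroup Ω} (hRS : R ≤ S)
    (h : ∀ (P : Subgroup Ω) (hPR : P ≤ R) (φ : P →* Ω), φ ∈ F.Hom P →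
      ∃ α ∈ F.autGroup R, ∀ x : P, ((α (Subgroup.inclusion hPR x) : R) : Ω) = φ x) :
    F.IsNormal R := by
  have hR : F.StronglyClosed R := ⟨hRS, fun P hP φ hφ x => by
    obtain ⟨α, -, hx⟩ := h P hP φ hφ
    rw [← hx x]
    exact Subtype.property _⟩
  refine isNormal_of_stronglyClosed hS hF hR fun P _ hPc hPr => ?_
  have hPS := hPc.1
  have := finite_of_le (Ω := Ω) hPS
  let U : ℕ → Subgroup P := fun i => if i = 0 then ⊥ else if i = 1 then R.subgroupOf P else ⊤
  have hU : ∀ (a : F.autGroup P) (i : ℕ), ∀ x ∈ U i, (a : MulAut P) x ∈ U i := by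
    intro a i x hx
    rcases i with - | i
    · simp only [U, if_true, Subgroup.mem_bot] at hx ⊢
      simp [hx]
    rcases i with - | i
    · simp only [U, Nat.zero_add, one_ne_zero, if_false, if_true] at hx ⊢
      exact Subgroup.mem_subgroupOf.2
        (apply_mem_of_stronglyClosed hR hPS a.2 (Subgroup.mem_subgroupOf.1 hx))
    · simp [U]
  have hinv : ∀ (a : F.autGroup P) (x : P), (x : Ω) ∈ R → (((a : MulAut P) x : P) : Ω) ∈ R :=
    fun a x hx => apply_mem_of_stronglyClosed hR hPS a.2 hx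
  let K : Subgroup (F.autGroup P) :=
    { carrier := {a | (∀ x : P, x⁻¹ * (a : MulAut P) x ∈ R.subgroupOf P) ∧ ∃ g ∈ R,
        ∀ x : P, (x : Ω) ∈ R → (((a : MulAut P) x : P) : Ω) = g * (x : Ω) * g⁻¹}
      one_mem' := ⟨fun x => by simp, 1, R.one_mem, fun x _ => by simp⟩
      mul_mem' := by
        rintro a b ⟨ha, g, hg, hga⟩ ⟨hb, k, hk, hkb⟩
        refine ⟨fun x => ?_, g * k, R.mul_mem hg hk, fun x hx => ?_⟩
        · have h1 := Subgroup.mul_mem _ (hb x) (ha ((b : MulAut P) x))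
          simpa [mul_assoc] using h1
        · show (((a : MulAut P) ((b : MulAut P) x) : P) : Ω) = _
          rw [hga _ (hinv b x hx), hkb x hx]
          group
      inv_mem' := by
        rintro a ⟨ha, g, hg, hga⟩
        refine ⟨fun x => ?_, g⁻¹, R.inv_mem hg, fun x hx => ?_⟩
        · have h1 := Subgroup.inv_mem _ (ha ((a : MulAut P)⁻¹ x))
          rw [MulAut.apply_inv_self, mul_inv_rev, inv_inv] at h1
          exact h1
        · have h1 := hga ((a : MulAut P)⁻¹ x) (hinv a⁻¹ x hx)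
          rw [MulAut.apply_inv_self] at h1
          show ((((a : MulAut P)⁻¹) x : P) : Ω) = _
          rw [h1]
          group }
  have : K.Normal := by
    refine ⟨?_⟩
    rintro k ⟨hk, g, hg, hgk⟩ a
    obtain ⟨β, -, hβ⟩ := h (P ⊓ R) inf_le_right _
      (restrict_mem (hom_of_mem_autGroup hPS a.2).1 inf_le_left)
    refine ⟨fun x => ?_, (β ⟨g, hg⟩ : Ω), Subtype.property _, fun x hx => ?_⟩
    · have h1 := hk ((a : MulAut P)⁻¹ x)
      have h2 : (a : MulAut P) (((a : MulAut P)⁻¹ x)⁻¹ * (k : MulAut P) ((a : MulAut P)⁻¹ x)) ∈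
          R.subgroupOf P :=
        Subgroup.mem_subgroupOf.2 (hinv a _ (Subgroup.mem_subgroupOf.1 h1))
      rw [map_mul, map_inv, MulAut.apply_inv_self] at h2
      exact h2
    · show (((a : MulAut P) ((k : MulAut P) ((a : MulAut P)⁻¹ x)) : P) : Ω) = _
      set y := (a : MulAut P)⁻¹ x with hy
      have hyR : (y : Ω) ∈ R := hinv a⁻¹ x hx
      have hkyR := hinv k y hyR
      have h1 : (β (⟨_, hkyR⟩ : R) : Ω) = (a : MulAut P) ((k : MulAut P) y) :=
        hβ ⟨_, ((k : MulAut P) y).2, hkyR⟩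
      have h2 : (β (⟨_, hyR⟩ : R) : Ω) = x := by
        refine (hβ ⟨_, y.2, hyR⟩).trans ?_
        show (((a : MulAut P) y : P) : Ω) = x
        rw [hy, MulAut.apply_inv_self]
      rw [← h1, ← h2, ← Subgroup.coe_inv, ← Subgroup.coe_mul, ← Subgroup.coe_mul, ← map_inv,
        ← map_mul, ← map_mul]
      exact congrArg (fun z : R => (β z : Ω)) (Subtype.ext (hgk y hyR))
  refine le_of_autInducedBy_le hS hRS (le_normalizer_of_stronglyClosed hR) hPc hPr K ?_ ?_
  · have := finite_of_le (Ω := Ω) hRS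
    obtain ⟨m, hm⟩ := IsPGroup.iff_card.1 (hS.to_le hRS)
    rintro ⟨a, ha, g, hg, hga⟩
    have hpow : ∀ (j : ℕ) (x : P), (x : Ω) ∈ R →
        ((((a : MulAut P) ^ j) x : P) : Ω) = g ^ j * (x : Ω) * (g ^ j)⁻¹ ∧
        ((((a : MulAut P) ^ j) x : P) : Ω) ∈ R := by
      intro j
      induction j with
      | zero => intro x hx; simpa using hx
      | succ j ih =>
        intro x hx
        rw [pow_succ' (a : MulAut P), MulAut.mul_apply]
        refine ⟨?_, hinv a _ (ih x hx).2⟩
        rw [hga _ (ih x hx).2, (ih x hx).1, pow_succ']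
        group
    have hgm : g ^ p ^ m = 1 := by
      have h1 : (⟨g, hg⟩ : R) ^ p ^ m = 1 := by rw [← hm]; exact pow_card_eq_one'
      simpa using congrArg Subtype.val h1
    set b : F.autGroup P := a ^ p ^ m with hb
    have hbK : b ∈ K := K.pow_mem ⟨ha, g, hg, hga⟩ _
    have hbs : b ∈ seriesStabilizer (F.autGroup P) U hU := by
      intro i x hx
      rcases i with - | i
      · simp only [U, Nat.zero_add, one_ne_zero, if_false, if_true] at hx
        simp only [U, if_true, Subgroup.mem_bot]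
        have h1 := (hpow (p ^ m) x hx).1
        rw [hgm, one_mul, inv_one, mul_one] at h1
        rw [show (b : MulAut P) x = x from Subtype.ext h1, inv_mul_cancel]
      rcases i with - | i
      · simp only [U, Nat.zero_add, one_ne_zero, if_false, if_true]
        exact hbK.1 x
      · simp [U]
    obtain ⟨k, hk⟩ := isPGroup_seriesStabilizer (hS.to_le hPS) _ U hU (by simp [U]) (m := 2)
      (by simp [U]) ⟨b, hbs⟩
    refine ⟨m + k, Subtype.ext ?_⟩
    show a ^ p ^ (m + k) = 1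
    rw [pow_add, pow_mul]
    exact congrArg Subtype.val hk
  · intro g hg hgN hm'
    refine ⟨fun x => Subgroup.mem_subgroupOf.2 ?_, g, hg, fun x _ => rfl⟩
    show (x : Ω)⁻¹ * (g * x * g⁻¹) ∈ R
    have hxN := le_normalizer_of_stronglyClosed hR (S.inv_mem (hPS x.2))
    have h1 := R.mul_mem ((Subgroup.mem_normalizer_iff.1 hxN g).1 hg) (R.inv_mem hg)
    simpa [mul_assoc] using h1

/-- If the automorphism groups of the fully normalized centric radical subgroups have normal Sylow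
subgroups then `S` is normal. -/
theorem isNormal_self_of_pClosed [Finite S] [Fact p.Prime] (hS : IsPGroup p S)
    (hF : F.IsSaturated p)
    (h : ∀ P : Subgroup Ω, F.IsFullyNormalized P → F.IsCentric P → F.IsRadical p P →
      ∃ R : Sylow p (F.autGroup P), (R : Subgroup (F.autGroup P)).Normal) :
    F.IsNormal S := by
  refine isNormal_of_stronglyClosed hS hF ⟨le_rfl, fun _ _ φ hφ x => apply_mem hφ x⟩
    fun P hPn hPc hPr => ?_
  obtain ⟨R, hR⟩ := h P hPn hPc hPr
  obtain ⟨-, R', hR'⟩ := isFullyAutomized_of_fullyNormalized hS hF hPn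
  have := finite_autGroup (F := F) hPn.1
  have hinn : autInducedBy S P ≤ Inn P := by
    intro α hα
    have hm := autInducedBy_le_autGroup F hPn.1 hα
    obtain ⟨g, hg⟩ := MulAction.exists_smul_eq (F.autGroup P) R R'
    have hRR : R' = R := by
      rw [← hg]
      refine Sylow.ext ?_
      rw [Sylow.coe_subgroup_smul]
      exact Subgroup.Normal.conjAct hR g
    have h1 : (⟨α, hm⟩ : F.autGroup P) ∈ (R : Subgroup (F.autGroup P)) := hRR ▸ hR' ▸ hα
    exact hPr.2.le ⟨_, PCore.le_pCore R.isPGroup' h1, rfl⟩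
  by_contra hlt
  obtain ⟨g, hg, hgP⟩ := SetLike.exists_of_lt
    (lt_normalizerIn hS (lt_of_le_of_ne hPn.1 fun he => hlt he.ge))
  exact conjAut_notMem_inn (isCentric_centralizerIn_le hPc) hPn.1 hg.1 hg.2 hgP
    (hinn (conjAut_mem_autInducedBy hg.1 hg.2))

theorem core_ne_bot_iff : F.core ≠ ⊥ ↔ ∃ Q : Subgroup Ω, Q ≠ ⊥ ∧ F.IsNormal Q := by
  constructor
  · intro h
    by_contra hcon
    push Not at hcon
    refine h (sSup_eq_bot.2 fun Q hQ => ?_)
    by_contra hne
    exact hcon Q hne hQ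
  · rintro ⟨Q, hne, hQ⟩ h
    exact hne (le_bot_iff.1 (h ▸ le_sSup hQ))

/-- A nontrivial subgroup is normal iff a nontrivial abelian subgroup is strongly closed. -/
theorem core_ne_bot_iff_abelian [Finite S] [Fact p.Prime] (hS : IsPGroup p S)
    (hF : F.IsSaturated p) :
    F.core ≠ ⊥ ↔ ∃ Q : Subgroup Ω, Q ≠ ⊥ ∧ IsMulCommutative Q ∧ F.StronglyClosed Q := by
  rw [core_ne_bot_iff]
  constructor
  · rintro ⟨Q, hne, hQ⟩
    have := finite_of_le (Ω := Ω) hQ.1
    have : Nontrivial Q := (Subgroup.nontrivial_iff_ne_bot Q).2 hne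
    have hc := (hS.to_le hQ.1).center_nontrivial
    refine ⟨(Subgroup.center Q).map Q.subtype, ?_, inferInstance, stronglyClosed_of_isNormal
      (isNormal_of_characteristic hQ (Subgroup.map_subtype_le _) ?_)⟩
    · rw [Ne, Subgroup.map_eq_bot_iff_of_injective _ Q.subtype_injective]
      exact (Subgroup.nontrivial_iff_ne_bot _).1 hc
    · rw [Subgroup.subgroupOf, Subgroup.comap_map_eq_self_of_injective Q.subtype_injective]
      infer_instance
  · rintro ⟨Q, hne, hab, hQ⟩
    exact ⟨Q, hne, isNormal_of_abelian hS hF hQ hab⟩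

end Cfsg.Agent.Fusion
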