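import Cfsg.Agent.Lib.Fusion.ModelTransfer
import Cfsg.Agent.Lib.Fusion.CentricUnique
import Cfsg.Agent.Lib.Fusion.NormalCriteria
import Mathlib.Data.Int.GCD

/-!
The model theorem: a saturated fusion system with a normal centric subgroup has a model.
-/

set_option autoImplicit false

namespace Cfsg.Agent.Fusion.Model

open Cfsg Cfsg.FusionSystem Cfsg.Agent.Fusion.ModelTransfer
open scoped IsMulCommutative

universe u

variable {Ω : Type u} [Group Ω] {S : Subgroup Ω} {p : ℕ} {F : FusionSystem S}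

theorem memMap {D : Subgroup S} {x : S} (h : x ∈ D) : (x : Ω) ∈ D.map S.subtype :=
  Subgroup.mem_map_of_mem S.subtype h

/-- `f` agrees on `D` with a map of the system. -/
def FMap (F : FusionSystem S) (D : Subgroup S) (f : S → S) : Prop :=
  ∃ φ ∈ F.Hom (D.map S.subtype), ∀ x : D,
    φ ⟨((x : S) : Ω), memMap x.2⟩ = ((f x : S) : Ω)

namespace FMap

variable {D D' : Subgroup S} {f g : S → S}

theorem mul (h : FMap F D f) : ∀ x ∈ D, ∀ y ∈ D, f (x * y) = f x * f y := by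
  obtain ⟨φ, -, hv⟩ := h
  intro x hx y hy
  apply Subtype.ext
  rw [Subgroup.coe_mul, ← hv ⟨x, hx⟩, ← hv ⟨y, hy⟩, ← hv ⟨x * y, mul_mem hx hy⟩, ← map_mul]
  rfl

theorem one (h : FMap F D f) : f 1 = 1 := by
  have h1 := h.mul 1 (one_mem D) 1 (one_mem D)
  rw [mul_one] at h1
  exact left_eq_mul.1 h1

theorem inj (h : FMap F D f) : ∀ x ∈ D, ∀ y ∈ D, f x = f y → x = y := by
  obtain ⟨φ, hφ, hv⟩ := h
  intro x hx y hy he
  have h1 := F.injective_of_mem hφ ((hv ⟨x, hx⟩).trans ((congrArg Subtype.val he).trans (hv ⟨y, hy⟩).symm))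
  exact Subtype.ext (congrArg (fun w : D.map S.subtype => (w : Ω)) h1)

theorem mono (h : FMap F D f) (hle : D' ≤ D) : FMap F D' f := by
  obtain ⟨φ, hφ, hv⟩ := h
  exact ⟨_, restrict_mem hφ (Subgroup.map_mono hle), fun x => hv ⟨x, hle x.2⟩⟩

theorem congr (h : FMap F D f) (he : ∀ x ∈ D, g x = f x) : FMap F D g := by
  obtain ⟨φ, hφ, hv⟩ := h
  exact ⟨φ, hφ, fun x => by rw [he x x.2, hv]⟩

theorem comp (hf : FMap F D f) (hg : FMap F D' g) (h : ∀ x ∈ D, f x ∈ D') :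
    FMap F D (fun x => g (f x)) := by
  obtain ⟨φ, hφ, hv⟩ := hf
  obtain ⟨ψ, hψ, hw⟩ := hg
  have hm : ∀ y : D.map S.subtype, φ y ∈ D'.map S.subtype := by
    rintro ⟨_, x, hx, rfl⟩
    exact ⟨f x, h x hx, (hv ⟨x, hx⟩).symm⟩
  refine ⟨_, F.comp_mem hφ hψ hm, fun x => ?_⟩
  show ψ ⟨φ _, _⟩ = _
  rw [← hw ⟨f x, h x x.2⟩]
  exact congrArg ψ (Subtype.ext (hv x))

theorem conj (F : FusionSystem S) (D : Subgroup S) (s : S) :
    FMap F D (fun x => s * x * s⁻¹) :=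
  ⟨_, F.conj_mem (Subgroup.map_subtype_le D) s.2, fun _ => rfl⟩

theorem hom_mem (h : FMap F D f) {P : Subgroup Ω} (hP : P ≤ S) (hle : P.subgroupOf S ≤ D)
    {φ : P →* Ω} (hv : ∀ x : P, φ x = ((f ⟨x, hP x.2⟩ : S) : Ω)) : φ ∈ F.Hom P := by
  obtain ⟨ψ, hψ, hw⟩ := h
  refine mem_of_le hψ (fun x hx => ⟨⟨x, hP hx⟩, hle hx, rfl⟩) fun x => ?_
  rw [hv]
  exact (hw ⟨⟨x, hP x.2⟩, hle x.2⟩).symm

end FMap

variable [Finite S] [Fact p.Prime] {Q : Subgroup Ω}

/-- The action of `S` on `Q`. -/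
def piHom (hn : F.IsNormal Q) : S →* ↥(F.autGroup Q) :=
  (Q.normalizerMonoidHom.comp (Subgroup.inclusion (le_normalizer_of_isNormal hn))).codRestrict _
    fun s => (mem_autGroup_iff hn.1).2 (mem_of_conj hn.1 s.2 fun _ => rfl)

theorem piHom_apply (hn : F.IsNormal Q) (s : S) (q : Q) :
    (((piHom hn s : MulAut Q) q : Q) : Ω) = (s : Ω) * (q : Ω) * (s : Ω)⁻¹ := rfl

theorem mem_ker_piHom {hn : F.IsNormal Q} {s : S} :
    s ∈ (piHom hn).ker ↔ ∀ q : Q, (s : Ω) * (q : Ω) = (q : Ω) * (s : Ω) := by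
  rw [MonoidHom.mem_ker]
  constructor
  · intro h q
    have h1 := piHom_apply hn s q
    rw [h] at h1
    exact mul_inv_eq_iff_eq_mul.1 h1.symm
  · intro h
    refine Subtype.ext (MulEquiv.ext fun q => Subtype.ext ?_)
    rw [piHom_apply, h q, mul_inv_cancel_right]
    rfl

theorem ker_le (hn : F.IsNormal Q) (hc : F.IsCentric Q) : (piHom hn).ker ≤ Q.subgroupOf S :=
  fun s hs => hc.2 Q (isConj_refl F hn.1)
    (mem_centralizerIn.2 ⟨s.2, fun x hx => (mem_ker_piHom.1 hs ⟨x, hx⟩).symm⟩)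

theorem ker_comm (hn : F.IsNormal Q) (hc : F.IsCentric Q) : IsMulCommutative ↥(piHom hn).ker :=
  ⟨⟨fun a b => Subtype.ext (Subtype.ext
    (mem_ker_piHom.1 a.2 ⟨((b : S) : Ω), ker_le hn hc b.2⟩))⟩⟩

theorem range_piHom (hn : F.IsNormal Q) :
    (piHom hn).range = (autInducedBy S Q).subgroupOf (F.autGroup Q) := by
  ext a
  rw [Subgroup.mem_subgroupOf, mem_autInducedBy_iff]
  constructor
  · rintro ⟨s, rfl⟩
    exact ⟨s, s.2, fun q => rfl⟩
  · rintro ⟨g, hg, h⟩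
    exact ⟨⟨g, hg⟩, Subtype.ext (MulEquiv.ext fun q => Subtype.ext (h q).symm)⟩

theorem not_dvd_index (hS : IsPGroup p S) (hF : F.IsSaturated p) (hn : F.IsNormal Q) :
    ¬ p ∣ (piHom hn).range.index := by
  have hfn : F.IsFullyNormalized Q := ⟨hn.1, fun R _ => by
    rw [normalizerIn_eq_of_le (le_normalizer_of_isNormal hn)]
    exact Subgroup.card_le_of_le inf_le_left⟩
  obtain ⟨-, R, hR⟩ := isFullyAutomized_of_fullyNormalized hS hF hfn
  have := finite_mulAut (Ω := Ω) hn.1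
  rw [range_piHom, ← hR]
  exact R.not_dvd_index

/-- `f` restricts to `α` on `Q`. -/
def Restricts (Q : Subgroup Ω) (α : MulAut Q) (f : S → S) : Prop :=
  ∀ (s : S) (hs : (s : Ω) ∈ Q), ((f s : S) : Ω) = ((α ⟨(s : Ω), hs⟩ : Q) : Ω)

theorem proj_of_restricts {hn : F.IsNormal Q} {D : Subgroup S} {f : S → S} (h : FMap F D f)
    (hQD : Q.subgroupOf S ≤ D) (α : F.autGroup Q) (hα : Restricts Q α f) {x : S} (hx : x ∈ D) :
    piHom hn (f x) = α * piHom hn x * α⁻¹ := by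
  rw [eq_mul_inv_iff_mul_eq]
  refine Subtype.ext (MulEquiv.ext fun q => Subtype.ext ?_)
  show (((piHom hn (f x) : MulAut Q) ((α : MulAut Q) q) : Q) : Ω) =
    ((α : MulAut Q) ((piHom hn x : MulAut Q) q) : Q)
  rw [piHom_apply]
  let q' : S := ⟨(q : Ω), hn.1 q.2⟩
  have hq : q' ∈ D := hQD q.2
  have h1 : f (x * q' * x⁻¹) = f x * f q' * (f x)⁻¹ := by
    have h2 : f x * f x⁻¹ = 1 := by rw [← h.mul _ hx _ (inv_mem hx), mul_inv_cancel, h.one]
    rw [h.mul _ (mul_mem hx hq) _ (inv_mem hx), h.mul _ hx _ hq, inv_eq_of_mul_eq_one_right h2]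
  have h3 : ((x * q' * x⁻¹ : S) : Ω) ∈ Q := ((piHom hn x : MulAut Q) q).2
  rw [show (piHom hn x : MulAut Q) q = ⟨((x * q' * x⁻¹ : S) : Ω), h3⟩ from Subtype.ext rfl,
    ← hα _ h3, h1, Subgroup.coe_mul, Subgroup.coe_mul, Subgroup.coe_inv, hα q' q.2]

theorem exists_ext (hS : IsPGroup p S) (hF : F.IsSaturated p) (hn : F.IsNormal Q) (D : Subgroup S)
    (α : F.autGroup Q) (h : ∀ x ∈ D, α * piHom hn x * α⁻¹ ∈ (piHom hn).range) :
    ∃ f : S → S, FMap F D f ∧ ((Q.subgroupOf S ≤ D) → Restricts Q α f) := by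
  classical
  obtain ⟨hα, hαr⟩ := hom_of_mem_autGroup hn.1 α.2
  have hfn : F.IsFullyNormalized Q := ⟨hn.1, fun R _ => by
    rw [normalizerIn_eq_of_le (le_normalizer_of_isNormal hn)]
    exact Subgroup.card_le_of_le inf_le_left⟩
  have hle : D.map S.subtype ≤ extender S Q (Q.subtype.comp (α : MulAut Q).toMonoidHom) := by
    rintro _ ⟨x, hx, rfl⟩
    obtain ⟨t, ht⟩ := h x hx
    refine mem_extender_iff.2 ⟨x.2, le_normalizer_of_isNormal hn x.2, t, t.2, fun q hq => ?_⟩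
    have h1 : (piHom hn t : MulAut Q) ((α : MulAut Q) q) =
        (α : MulAut Q) ((piHom hn x : MulAut Q) q) := by
      rw [ht]
      simp [MulAut.mul_apply]
    show (((α : MulAut Q) ⟨_, hq⟩ : Q) : Ω) = (t : Ω) * (((α : MulAut Q) q : Q) : Ω) * (t : Ω)⁻¹
    rw [← piHom_apply hn t, h1]
    rfl
  obtain ⟨ψ, hψ, hψe⟩ := exists_extension (isReceptive_of_fullyNormalized hS hF hfn) hα hαr hle
  refine ⟨fun x => if hx : x ∈ D then ⟨ψ ⟨(x : Ω), memMap hx⟩, apply_mem hψ _⟩ else 1,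
    ⟨ψ, hψ, fun x => by simp only [dif_pos x.2]⟩, fun hQD s hs => ?_⟩
  have hsD : s ∈ D := hQD hs
  simp only [dif_pos hsD]
  exact hψe _ hs _

theorem subgroupOf_le_dom (hn : F.IsNormal Q) (c : Cos (piHom hn)) :
    Q.subgroupOf S ≤ dom (piHom hn) c := by
  intro q hq
  rw [mem_dom]
  refine ⟨⟨_, hn.1 ((c.out : MulAut Q) ⟨(q : Ω), hq⟩).2⟩, ?_⟩
  rw [eq_mul_inv_iff_mul_eq]
  refine Subtype.ext (MulEquiv.ext fun r => Subtype.ext ?_)
  show (((c.out : MulAut Q) ⟨(q : Ω), hq⟩ : Q) : Ω) * ((c.out : MulAut Q) r : Q) *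
      (((c.out : MulAut Q) ⟨(q : Ω), hq⟩ : Q) : Ω)⁻¹ =
    ((c.out : MulAut Q) ((piHom hn q : MulAut Q) r) : Q)
  rw [show (piHom hn q : MulAut Q) r = ⟨(q : Ω), hq⟩ * r * ⟨(q : Ω), hq⟩⁻¹ from Subtype.ext rfl,
    map_mul, map_mul, map_inv]
  rfl

/-- The chosen lifts of the conjugations by representatives. -/
noncomputable def localData (hS : IsPGroup p S) (hF : F.IsSaturated p) (hn : F.IsNormal Q)
    (hc : F.IsCentric Q) : Local (piHom hn) :=
  have hex := fun c : Cos (piHom hn) =>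
    exists_ext hS hF hn (dom (piHom hn) c) c.out fun _ hx => hx
  { ψ := fun c => Classical.choose (hex c)
    mul := fun c => (Classical.choose_spec (hex c)).1.mul
    proj := fun c x hx => proj_of_restricts (Classical.choose_spec (hex c)).1
      (subgroupOf_le_dom hn c) c.out ((Classical.choose_spec (hex c)).2 (subgroupOf_le_dom hn c)) hx
    inj := fun c z hz h1 => by
      have h2 := (Classical.choose_spec (hex c)).1
      exact h2.inj z (subgroupOf_le_dom hn c (ker_le hn hc hz)) 1 (one_mem _) (h1.trans h2.one.symm) }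

theorem localData_spec (hS : IsPGroup p S) (hF : F.IsSaturated p) (hn : F.IsNormal Q)
    (hc : F.IsCentric Q) (c : Cos (piHom hn)) :
    FMap F (dom (piHom hn) c) ((localData hS hF hn hc).ψ c) ∧
      Restricts Q c.out ((localData hS hF hn hc).ψ c) :=
  have h := Classical.choose_spec
    (exists_ext hS hF hn (dom (piHom hn) c) c.out fun _ hx => hx)
  ⟨h.1, h.2 (subgroupOf_le_dom hn c)⟩

/-- Two maps agreeing on `Q` differ by conjugation by an element of the kernel. -/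
theorem agree (hS : IsPGroup p S) (hF : F.IsSaturated p) (hn : F.IsNormal Q) (hc : F.IsCentric Q)
    {D : Subgroup S} {f g : S → S} (hf : FMap F D f) (hg : FMap F D g)
    (hQD : Q.subgroupOf S ≤ D) (α : F.autGroup Q) (hfα : Restricts Q α f)
    (hgα : Restricts Q α g) :
    ∃ z ∈ (piHom hn).ker, ∀ x ∈ D, g x * z = z * f x := by
  obtain ⟨φ, hφ, hv⟩ := hf
  obtain ⟨ψ, hψ, hw⟩ := hg
  have hQP : Q ≤ D.map S.subtype := fun x hx => ⟨⟨x, hn.1 hx⟩, hQD hx, rfl⟩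
  obtain ⟨⟨_, z, hzD, rfl⟩, hzQ, hzc, hzy⟩ := exists_conj_of_agree hS hF hQP hc hφ hψ
    (fun x hx => by
      obtain ⟨_, s, hs, rfl⟩ := x
      exact ((hv ⟨s, hs⟩).trans (hfα s hx)).trans ((hgα s hx).symm.trans (hw ⟨s, hs⟩).symm))
  have hf : FMap F D f := ⟨φ, hφ, hv⟩
  have hzk : z ∈ (piHom hn).ker :=
    mem_ker_piHom.2 fun q => (Subgroup.mem_centralizer_iff.1 hzc q q.2).symm
  refine ⟨f z, ?_, fun x hx => ?_⟩
  · rw [MonoidHom.mem_ker, proj_of_restricts hf hQD α hfα hzD, MonoidHom.mem_ker.1 hzk, mul_one,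
      mul_inv_cancel]
  · have h1 : g x = f (z * x * z⁻¹) := by
      apply Subtype.ext
      rw [← hw ⟨x, hx⟩, ← hv ⟨z * x * z⁻¹, mul_mem (mul_mem hzD hx) (inv_mem hzD)⟩]
      exact hzy _
    rw [h1, ← hf.mul _ (mul_mem (mul_mem hzD hx) (inv_mem hzD)) _ hzD, ← hf.mul _ hzD _ hx,
      inv_mul_cancel_right]

/-- The loop map at `c`. -/
theorem loop_fmap (hS : IsPGroup p S) (hF : F.IsSaturated p) (hn : F.IsNormal Q)
    (hc : F.IsCentric Q) (c : Cos (piHom hn)) :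
    ∃ f : S → S, FMap F (dom (piHom hn) c) f ∧ Restricts Q c.out f ∧
      ∀ (a : F.autGroup Q) (s : S), a • c = c →
        phi (localData hS hF hn hc) a c s = f s := by
  set L := localData hS hF hn hc
  obtain ⟨hψ, hψα⟩ := localData_spec hS hF hn hc (base (piHom hn) c)
  refine ⟨fun s => sec (piHom hn) (move (piHom hn) c) * L.ψ (base (piHom hn) c) ((lam (piHom hn) c)⁻¹ * s * lam (piHom hn) c) *
    (sec (piHom hn) (move (piHom hn) c))⁻¹, ?_, ?_, fun a s hac => ?_⟩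
  · have h1 : FMap F (dom (piHom hn) c) (fun s => (lam (piHom hn) c)⁻¹ * s * ((lam (piHom hn) c)⁻¹)⁻¹) :=
      FMap.conj F _ _
    have h2 : ∀ s ∈ dom (piHom hn) c, (lam (piHom hn) c)⁻¹ * s * ((lam (piHom hn) c)⁻¹)⁻¹ ∈ dom (piHom hn) (base (piHom hn) c) := by
      intro s hs
      rw [mem_dom] at hs ⊢
      have h3 := mul_mem (mul_mem (inv_mem (move_mem (piHom hn) c)) hs) (move_mem (piHom hn) c)
      convert h3 using 1
      rw [inv_inv, map_mul, map_mul, map_inv, map_lam]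
      group
    have h3 := (h1.comp hψ h2).comp (FMap.conj F ⊤ (sec (piHom hn) (move (piHom hn) c))) fun _ _ => trivial
    refine h3.congr fun s _ => ?_
    simp only [inv_inv]
    rfl
  · intro s hs
    let q : Q := ⟨(s : Ω), hs⟩
    have h1 : ((((lam (piHom hn) c)⁻¹ * s * lam (piHom hn) c : S)) : Ω) =
        ((((piHom hn) (lam (piHom hn) c))⁻¹ : F.autGroup Q) : MulAut Q) q := by
      rw [← map_inv, piHom_apply]
      simp [q]
    have h2 : (((lam (piHom hn) c)⁻¹ * s * lam (piHom hn) c : S) : Ω) ∈ Q := by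
      rw [h1]
      exact SetLike.coe_mem _
    show ((sec (piHom hn) (move (piHom hn) c) : S) : Ω) * ((L.ψ (base (piHom hn) c) ((lam (piHom hn) c)⁻¹ * s * lam (piHom hn) c) : S) : Ω) *
      ((sec (piHom hn) (move (piHom hn) c) : S) : Ω)⁻¹ = _
    rw [hψα _ h2, ← piHom_apply hn, map_sec (piHom hn) (move_mem (piHom hn) c)]
    rw [show (⟨_, h2⟩ : Q) = ((((piHom hn) (lam (piHom hn) c))⁻¹ : F.autGroup Q) : MulAut Q) q from Subtype.ext h1]
    show (((move (piHom hn) c * (base (piHom hn) c).out * ((piHom hn) (lam (piHom hn) c))⁻¹ : F.autGroup Q) : MulAut Q) q : Ω) = _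
    rw [map_lam, show move (piHom hn) c * (base (piHom hn) c).out * (c.out⁻¹ * move (piHom hn) c * (base (piHom hn) c).out)⁻¹ = c.out
      by group]
  · rw [phi, hac]

theorem mem_range_of_proj {hn : F.IsNormal Q} {R : Subgroup S} (hQR : Q.subgroupOf S ≤ R)
    {f : S → S} (hf : FMap F R f) (α : F.autGroup Q) (hα : Restricts Q α f)
    {a : F.autGroup Q} (ha : a ∈ R.map (piHom hn)) : α * a * α⁻¹ ∈ (piHom hn).range := by
  obtain ⟨x, hx, rfl⟩ := ha
  exact ⟨f x, proj_of_restricts hf hQR α hα hx⟩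

/-- Conjugation by a lift of `α` is an extension of `α`, up to conjugation by the kernel. -/
theorem exists_conj (hS : IsPGroup p S) (hF : F.IsSaturated p) (hn : F.IsNormal Q)
    (hc : F.IsCentric Q) [IsMulCommutative ↥(piHom hn).ker] [Finite ↥(F.autGroup Q)] (m : ℕ)
    (hm : ∀ z : (piHom hn).ker, (z ^ Nat.card (Cos (piHom hn))) ^ m = z) (g : Hat (piHom hn))
    {R : Subgroup S} (hQR : Q.subgroupOf S ≤ R) {f : S → S} (hf : FMap F R f)
    (hα : Restricts Q g.a f) :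
    ∃ E ∈ (piHom hn).ker, ∀ w w' : hatT (piHom hn),
      theta (localData hS hF hn hc) m hm w ∈ R → (w' : Hat (piHom hn)) = g * w * g⁻¹ →
      theta (localData hS hF hn hc) m hm w' =
        E * f (theta (localData hS hF hn hc) m hm w) * E⁻¹ := by
  refine exists_conj_theta _ m hm R ((ker_le hn hc).trans hQR) hf.mul g
    (fun x hx => proj_of_restricts hf hQR g.a hα hx) fun c => ?_
  obtain ⟨f₁, hf₁, hf₁Q, hf₁v⟩ := loop_fmap hS hF hn hc c
  obtain ⟨f₂, hf₂, hf₂Q, hf₂v⟩ := loop_fmap hS hF hn hc (g.a • c)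
  set Dc : Subgroup S := (R.map (piHom hn)).comap ((MulAut.conj c.out).toMonoidHom.comp (piHom hn))
  have hDT : Dc ≤ dom (piHom hn) c := fun s hs => Subgroup.map_le_range _ _ hs
  have hπ₁ : ∀ s ∈ Dc, (piHom hn) (f₁ s) = c.out * (piHom hn) s * c.out⁻¹ := fun s hs =>
    proj_of_restricts hf₁ (subgroupOf_le_dom hn c) c.out hf₁Q (hDT hs)
  have hf₁R : ∀ s ∈ Dc, f₁ s ∈ R := by
    intro s hs
    obtain ⟨x, hx, hxa⟩ := Subgroup.mem_map.1 hs
    have h1 : f₁ s * x⁻¹ ∈ (piHom hn).ker := mem_ker_of_eq (by rw [hπ₁ s hs, hxa]; rfl)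
    have h2 := mul_mem (ker_le hn hc |>.trans hQR <| h1) hx
    rwa [inv_mul_cancel_right] at h2
  have hQD : Q.subgroupOf S ≤ Dc := by
    intro q hq
    refine ⟨⟨_, hn.1 ((c.out : MulAut Q) ⟨(q : Ω), hq⟩).2⟩,
      hQR ((c.out : MulAut Q) ⟨(q : Ω), hq⟩).2, ?_⟩
    show (piHom hn) _ = c.out * (piHom hn) q * c.out⁻¹
    rw [← proj_of_restricts hf₁ (subgroupOf_le_dom hn c) c.out hf₁Q (subgroupOf_le_dom hn c hq)]
    exact congrArg (piHom hn) (Subtype.ext (hf₁Q q hq).symm)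
  have hA : FMap F Dc (fun s => f (f₁ s)) := (hf₁.mono hDT).comp hf hf₁R
  have hgw : (piHom hn) (g.s c) = (g.a • c).out⁻¹ * g.a * c.out := g.hs c
  have hD2 : ∀ s ∈ Dc, g.s c * s * (g.s c)⁻¹ ∈ dom (piHom hn) (g.a • c) := by
    intro s hs
    rw [mem_dom, map_mul, map_mul, map_inv, hgw]
    convert mem_range_of_proj hQR hf g.a hα hs using 1
    show _ = g.a * (c.out * (piHom hn) s * c.out⁻¹) * g.a⁻¹
    group
  have hB : FMap F Dc (fun s => f₂ (g.s c * s * (g.s c)⁻¹)) :=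
    (FMap.conj F Dc (g.s c)).comp hf₂ hD2
  have hA0 : Restricts Q ((g.a * c.out : F.autGroup Q) : MulAut Q) (fun s => f (f₁ s)) := by
    intro s hs
    have h1 : ((f₁ s : S) : Ω) ∈ Q := by rw [hf₁Q s hs]; exact SetLike.coe_mem _
    show ((f (f₁ s) : S) : Ω) = _
    rw [hα _ h1, show (⟨_, h1⟩ : Q) = (c.out : MulAut Q) ⟨(s : Ω), hs⟩ from
      Subtype.ext (hf₁Q s hs)]
    rfl
  have hB0 : Restricts Q ((g.a * c.out : F.autGroup Q) : MulAut Q)
      (fun s => f₂ (g.s c * s * (g.s c)⁻¹)) := by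
    intro s hs
    have h1 : ((g.s c * s * (g.s c)⁻¹ : S) : Ω) ∈ Q :=
      (((piHom hn) (g.s c) : MulAut Q) ⟨(s : Ω), hs⟩).2
    show ((f₂ (g.s c * s * (g.s c)⁻¹) : S) : Ω) = _
    rw [hf₂Q _ h1, show (⟨_, h1⟩ : Q) = ((piHom hn) (g.s c) : MulAut Q) ⟨(s : Ω), hs⟩ from Subtype.ext rfl,
      hgw]
    show ((((g.a • c).out * ((g.a • c).out⁻¹ * g.a * c.out) : F.autGroup Q) : MulAut Q) _ : Ω) = _
    rw [← mul_assoc, mul_inv_cancel_left]
  obtain ⟨z, hz, hzx⟩ := agree hS hF hn hc hA hB hQD _ hA0 hB0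
  refine ⟨z, hz, fun a s ha hac hs => ?_⟩
  have hsD : s ∈ Dc := by
    show c.out * (piHom hn) s * c.out⁻¹ ∈ R.map (piHom hn)
    rw [hs, tau, hac]
    convert ha using 1
    group
  rw [hf₁v a s hac, hf₂v _ _ (by rw [← mul_smul, inv_mul_cancel_right, mul_smul, hac])]
  exact hzx s hsD

/-- A saturated system with a normal centric subgroup has a model. -/
theorem exists_model (hS : IsPGroup p S) (hF : F.IsSaturated p) (hn : F.IsNormal Q)
    (hc : F.IsCentric Q) : ∃ (G : Type u) (_ : Group G) (ι : S →* G), F.IsModel p G ι := by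
  set π := piHom hn with hπdef
  have := ker_comm hn hc
  have := finite_mulAut (Ω := Ω) hn.1
  have := finite_hat π
  obtain ⟨k, hk⟩ := IsPGroup.iff_card.1 hS
  obtain ⟨m, hm⟩ : ∃ m : ℕ, ∀ z : π.ker, (z ^ Nat.card (Cos π)) ^ m = z := by
    have hco : (Nat.card (Cos π)).Coprime (p ^ k) :=
      ((Fact.out : p.Prime).coprime_iff_not_dvd.2 (not_dvd_index hS hF hn)).symm.pow_right k
    obtain ⟨m, -, hm⟩ := Nat.exists_mul_mod_eq_of_coprime 1 hco
      (pow_ne_zero k (Fact.out : p.Prime).ne_zero)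
    refine ⟨m, fun z => ?_⟩
    have hz : z ^ p ^ k = 1 := by
      apply Subtype.ext
      rw [Subgroup.coe_pow, ← hk, pow_card_eq_one', Subgroup.coe_one]
    rw [← pow_mul, pow_eq_pow_mod _ hz, hm, ← pow_eq_pow_mod _ hz, pow_one]
  set θ := theta (localData hS hF hn hc) m hm with hθdef
  have hsurj : Function.Surjective θ := theta_surjective _ m hm
  have hθa : ∀ w, π (θ w) = (w : Hat π).a := map_theta _ m hm
  set K := θ.ker.map (hatT π).subtype with hKdef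
  have hKmem : ∀ x : hatT π, (x : Hat π) ∈ K ↔ θ x = 1 := fun x =>
    ⟨fun ⟨y, hy, he⟩ => by rw [← Subtype.ext he]; exact hy, fun hx => ⟨x, hx, rfl⟩⟩
  -- extensions of automorphisms on `Q`
  have hextQ : ∀ α : F.autGroup Q, ∃ f : S → S, FMap F (Q.subgroupOf S) f ∧ Restricts Q α f := by
    intro α
    obtain ⟨f, hf, hr⟩ := exists_ext hS hF hn (Q.subgroupOf S) α fun x hx =>
      ⟨⟨_, hn.1 ((α : MulAut Q) ⟨(x : Ω), hx⟩).2⟩, by
        rw [eq_mul_inv_iff_mul_eq]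
        refine Subtype.ext (MulEquiv.ext fun r => Subtype.ext ?_)
        show (((α : MulAut Q) ⟨(x : Ω), hx⟩ : Q) : Ω) * ((α : MulAut Q) r : Q) *
            (((α : MulAut Q) ⟨(x : Ω), hx⟩ : Q) : Ω)⁻¹ =
          ((α : MulAut Q) ((piHom hn x : MulAut Q) r) : Q)
        rw [show (piHom hn x : MulAut Q) r = ⟨(x : Ω), hx⟩ * r * ⟨(x : Ω), hx⟩⁻¹ from
          Subtype.ext rfl, map_mul, map_mul, map_inv]
        rfl⟩
    exact ⟨f, hf, hr le_rfl⟩
  have hK : K.Normal := ⟨fun y hy g => by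
    obtain ⟨w, hw, rfl⟩ := hy
    have hw1 : θ w = 1 := hw
    have ha : (w : Hat π).a = 1 := by rw [← hθa, hw1, map_one]
    obtain ⟨f, hf, hα⟩ := hextQ g.a
    obtain ⟨E, -, hE⟩ := exists_conj hS hF hn hc m hm g le_rfl hf hα
    have hw' : g * (w : Hat π) * g⁻¹ ∈ hatT π := by
      rw [mem_hatT, Hat.mul_a, Hat.mul_a, Hat.inv_a, ha, mul_one, mul_inv_cancel]
      exact one_mem _
    refine (hKmem ⟨_, hw'⟩).2 ?_
    rw [hE w ⟨_, hw'⟩ (by rw [← hθdef, hw1]; exact one_mem _) rfl, ← hθdef, hw1, hf.one, mul_one,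
      mul_inv_cancel]⟩
  let mk := QuotientGroup.mk' K
  have hmk : θ.ker ≤ (mk.comp (hatT π).subtype).ker := fun w hw =>
    (QuotientGroup.eq_one_iff (N := K) (w : Hat π)).2 ((hKmem w).2 hw)
  let ι : S →* Hat π ⧸ K := θ.liftOfSurjective hsurj ⟨mk.comp (hatT π).subtype, hmk⟩
  have hι : ∀ w, ι (θ w) = mk w := fun w => θ.liftOfRightInverse_comp_apply _ _ ⟨_, hmk⟩ w
  have hιinj : Function.Injective ι := by
    rw [injective_iff_map_eq_one]
    intro x hx
    obtain ⟨w, rfl⟩ := hsurj x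
    rw [hι] at hx
    exact (hKmem w).1 ((QuotientGroup.eq_one_iff _).1 hx)
  -- the key relation
  have hkey : ∀ (g : Hat π) (R : Subgroup S), Q.subgroupOf S ≤ R → ∀ f : S → S, FMap F R f →
      Restricts Q g.a f → ∃ E ∈ π.ker, ∀ x ∈ R, mk g * ι x * (mk g)⁻¹ = ι (E * f x * E⁻¹) := by
    intro g R hQR f hf hα
    obtain ⟨E, hEk, hE⟩ := exists_conj hS hF hn hc m hm g hQR hf hα
    refine ⟨E, hEk, fun x hx => ?_⟩
    obtain ⟨w, rfl⟩ := hsurj x
    have hw' : g * (w : Hat π) * g⁻¹ ∈ hatT π :=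
      ⟨f (θ w), by
        rw [proj_of_restricts hf hQR g.a hα hx, hθa]
        rfl⟩
    rw [← hE w ⟨_, hw'⟩ hx rfl, hι, hι, ← map_inv, ← map_mul, ← map_mul]
  have : Finite (Hat π ⧸ K) := inferInstance
  have hrange : ι.range = (hatT π).map mk := by
    ext y
    constructor
    · rintro ⟨x, rfl⟩
      obtain ⟨w, rfl⟩ := hsurj x
      exact ⟨w, w.2, (hι w).symm⟩
    · rintro ⟨w, hw, rfl⟩
      exact ⟨θ ⟨w, hw⟩, hι _⟩
  refine ⟨Hat π ⧸ K, inferInstance, ι, inferInstance, ⟨hιinj, fun P hP φ hφS => ?_⟩, ?_, ?_⟩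
  · constructor
    · intro hφ
      obtain ⟨ψ, hψ, hψe, hψQ⟩ := hn.2 P φ hφ
      have hPQ : P ⊔ Q ≤ S := sup_le hP hn.1
      have hψ' := restrict_mem hψ (le_sup_right : Q ≤ P ⊔ Q)
      have hr : (ψ.comp (Subgroup.inclusion (le_sup_right : Q ≤ P ⊔ Q))).range = Q := by
        rw [MonoidHom.range_comp, Subgroup.inclusion_range, hψQ]
      let α : F.autGroup Q := ⟨toAut hψ' hr, toAut_mem hψ' hr⟩
      classical
      let f : S → S := fun x =>
        if hx : (x : Ω) ∈ P ⊔ Q then ⟨ψ ⟨x, hx⟩, apply_mem hψ _⟩ else 1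
      have hf : FMap F ((P ⊔ Q).subgroupOf S) f := by
        refine ⟨_, restrict_mem hψ (Subgroup.map_subgroupOf_eq_of_le hPQ).le, fun x => ?_⟩
        simp only [f, dif_pos (show ((x : S) : Ω) ∈ P ⊔ Q from x.2)]
        rfl
      have hα : Restricts Q α f := by
        intro s hs
        simp only [f, dif_pos (Subgroup.mem_sup_right hs : (s : Ω) ∈ P ⊔ Q)]
        exact (coe_toAut hψ' hr ⟨(s : Ω), hs⟩).symm
      obtain ⟨g, hg⟩ := aHom_surjective π α
      obtain ⟨E, -, hE⟩ := hkey g ((P ⊔ Q).subgroupOf S) (fun x hx => Subgroup.mem_sup_right hx) f hf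
        (by rw [show g.a = α from hg]; exact hα)
      refine ⟨(ι E)⁻¹ * mk g, fun x => ?_⟩
      have hx : (⟨x, hP x.2⟩ : S) ∈ (P ⊔ Q).subgroupOf S := Subgroup.mem_sup_left x.2
      rw [show (⟨φ x, hφS x⟩ : S) = f ⟨x, hP x.2⟩ from Subtype.ext (by
          simp only [f, dif_pos (Subgroup.mem_sup_left x.2 : (x : Ω) ∈ P ⊔ Q)]
          exact (hψe x).symm),
        show (ι E)⁻¹ * mk g * ι ⟨x, hP x.2⟩ * ((ι E)⁻¹ * mk g)⁻¹ =
          (ι E)⁻¹ * (mk g * ι ⟨x, hP x.2⟩ * (mk g)⁻¹) * ι E by group,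
        hE _ hx, map_mul, map_mul, map_inv]
      group
    · rintro ⟨gb, hg⟩
      obtain ⟨g, rfl⟩ := QuotientGroup.mk'_surjective K gb
      -- the projection to the automorphisms of `Q`
      have hproj : ∀ x y : S, mk g * ι x * (mk g)⁻¹ = ι y → g.a * π x * g.a⁻¹ = π y := by
        intro x y he
        obtain ⟨w, rfl⟩ := hsurj x
        obtain ⟨v, rfl⟩ := hsurj y
        rw [hι, hι, ← map_inv, ← map_mul, ← map_mul] at he
        obtain ⟨k, hk, hk'⟩ := QuotientGroup.eq.1 he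
        have h1 := congrArg Hat.a hk'
        have hk1 : θ k = 1 := hk
        simp only [Subgroup.coe_subtype, ← hθa k, hk1, map_one, Hat.mul_a, Hat.inv_a] at h1
        rw [hθa, hθa]
        exact inv_mul_eq_one.1 h1.symm
      set R := (π.range.comap ((MulAut.conj g.a).toMonoidHom.comp π)) with hR
      have hQR : Q.subgroupOf S ≤ R := fun x hx => by
        obtain ⟨f, hf, hα⟩ := hextQ g.a
        exact ⟨f x, proj_of_restricts hf le_rfl g.a hα hx⟩
      have hPR : P.subgroupOf S ≤ R := fun x hx =>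
        ⟨_, (hproj x ⟨φ ⟨x, hx⟩, hφS _⟩ (hg ⟨x, hx⟩).symm).symm⟩
      obtain ⟨f, hf, hα⟩ := exists_ext hS hF hn R g.a fun x hx => hx
      obtain ⟨E, -, hE⟩ := hkey g R hQR f hf (hα hQR)
      refine (hf.comp (FMap.conj F ⊤ E) fun _ _ => trivial).hom_mem hP hPR fun x => ?_
      refine congrArg Subtype.val (hιinj ?_ : (⟨φ x, hφS x⟩ : S) = _)
      rw [hg x]
      exact hE _ (hPR x.2)
  · have hp : IsPGroup p ι.range := hS.of_surjective ι.rangeRestrict ι.rangeRestrict_surjective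
    have hidx : ¬ p ∣ ι.range.index := by
      rw [hrange, Subgroup.index_map_eq _ (QuotientGroup.mk'_surjective K)
        (by rw [QuotientGroup.ker_mk']; exact Subgroup.map_subtype_le _)]
      show ¬ p ∣ (π.range.comap (aHom π)).index
      rw [Subgroup.index_comap_of_surjective _ (aHom_surjective π)]
      exact not_dvd_index hS hF hn
    exact ⟨hp.toSylow hidx, rfl⟩
  · set Qi := (Q.subgroupOf S).map ι
    have hconj : ∀ (g : Hat π) (q : Q),
        mk g * ι ⟨(q : Ω), hn.1 q.2⟩ * (mk g)⁻¹ =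
          ι ⟨(((g.a : MulAut Q) q : Q) : Ω), hn.1 (SetLike.coe_mem _)⟩ := by
      intro g q
      obtain ⟨f, hf, hα⟩ := hextQ g.a
      obtain ⟨E, hEk, hE⟩ := hkey g _ le_rfl f hf hα
      rw [hE _ q.2]
      refine congrArg ι ?_
      rw [mul_inv_eq_iff_eq_mul]
      apply Subtype.ext
      show (E : Ω) * ((f ⟨(q : Ω), hn.1 q.2⟩ : S) : Ω) = _ * (E : Ω)
      rw [hα _ q.2]
      exact mem_ker_piHom.1 hEk _
    have hQle : Qi ≤ pCore p (Hat π ⧸ K) := by
      refine le_sSup ⟨⟨fun y hy gb => ?_⟩, (hS.to_subgroup _).map ι⟩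
      obtain ⟨g, rfl⟩ := QuotientGroup.mk'_surjective K gb
      obtain ⟨s, hs, rfl⟩ := hy
      rw [show s = ⟨((⟨(s : Ω), hs⟩ : Q) : Ω), hn.1 hs⟩ from rfl, hconj g]
      exact ⟨_, ((g.a : MulAut Q) _).2, rfl⟩
    intro gb hg
    obtain ⟨g, rfl⟩ := QuotientGroup.mk'_surjective K gb
    have ha : g.a = 1 := by
      refine Subtype.ext (MulEquiv.ext fun q => Subtype.ext ?_)
      have h1 := Subgroup.mem_centralizer_iff.1 hg _ (hQle ⟨⟨(q : Ω), hn.1 q.2⟩, q.2, rfl⟩)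
      have h2 := hconj g q
      rw [← h1, mul_inv_cancel_right] at h2
      exact (congrArg Subtype.val (hιinj h2)).symm
    have hgT : g ∈ hatT π := by
      rw [mem_hatT, ha]
      exact one_mem _
    refine hQle ⟨θ ⟨g, hgT⟩, ker_le hn hc ?_, hι _⟩
    rw [MonoidHom.mem_ker, hθa, ha]

end Cfsg.Agent.Fusion.Model
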