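import Cfsg.Agent.Lib.Fusion.Realized
import Cfsg.Agent.Lib.Fusion.CentricUnique
import Cfsg.Agent.Lib.Fusion.NormalCriteria
import Cfsg.Agent.Lib.PCore.Basic

/-!
Basic facts on models: the image of a normal centric subgroup is normal and contains its
centralizer.
-/

set_option autoImplicit false

namespace Cfsg.Agent.Fusion.Model

open Cfsg Cfsg.FusionSystem

variable {Ω : Type*} [Group Ω] {S : Subgroup Ω} {p : ℕ} {F : FusionSystem S}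
variable {G : Type*} [Group G] {ι : S →* G}

theorem pCore_le_range [Fact p.Prime] (h : F.IsModel p G ι) : pCore p G ≤ ι.range := by
  obtain ⟨hfin, -, ⟨T, hT⟩, -⟩ := h
  have hn : (pCore p G).Normal := inferInstance
  have hp : IsPGroup p (pCore p G) := Cfsg.Agent.PCore.isPGroup_pCore
  rw [← hT, ← T.is_maximal' (hp.to_sup_of_normal_left T.2) le_sup_right]
  exact le_sup_left

theorem conj_pushSub_mem [Fact p.Prime] (h : F.IsModel p G ι) {Q : Subgroup Ω}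
    (hn : F.IsNormal Q) (g : G) {y : G} (hy : y ∈ pushSub ι Q) : g * y * g⁻¹ ∈ pushSub ι Q := by
  have hr := pCore_le_range h
  obtain ⟨hfin, hι, -, hC⟩ := h
  have hON : (pCore p G).Normal := inferInstance
  set O := pullSub ι (pCore p G)
  have hOpush : ∀ x : O, ι ⟨x, pullSub_le ι _ x.2⟩ ∈ pCore p G := by
    rintro ⟨_, s, hs, rfl⟩
    exact hs
  have hmem : ∀ x : O, g * ι ⟨x, pullSub_le ι _ x.2⟩ * g⁻¹ ∈ ι.range := fun x =>
    hr (hON.conj_mem _ (hOpush x) g)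
  obtain ⟨ψ, hψ, hψe, hψQ⟩ := hn.2 O _ (pullHom_mem hι (pullSub_le ι _) g hmem)
  obtain ⟨hPQ, hψS, g', hg'⟩ := (realized_hom_iff hι).1 hψ
  have hgO : g⁻¹ * g' ∈ pCore p G := by
    refine hC (Subgroup.mem_centralizer_iff.2 fun o ho => ?_)
    obtain ⟨s, rfl⟩ := hr ho
    have hs : (s : Ω) ∈ O := ⟨s, ho, rfl⟩
    have h1 := hg' ⟨s, Subgroup.mem_sup_left hs⟩
    have h2 : (⟨ψ ⟨s, Subgroup.mem_sup_left hs⟩, hψS _⟩ : S) =
        ⟨pullHom hι.1 (pullSub_le ι _) g hmem ⟨s, hs⟩,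
          apply_mem (pullHom_mem hι (pullSub_le ι _) g hmem) _⟩ := Subtype.ext (hψe ⟨s, hs⟩)
    rw [h2, apply_pullHom] at h1
    change g * ι s * g⁻¹ = g' * ι s * g'⁻¹ at h1
    calc ι s * (g⁻¹ * g') = g⁻¹ * (g * ι s * g⁻¹) * g' := by group
      _ = g⁻¹ * g' * ι s := by rw [h1]; group
  obtain ⟨o, ho⟩ := hr hgO
  obtain ⟨s, hs, rfl⟩ := hy
  have hs' : ((o⁻¹ * s * o : S) : Ω) ∈ Q :=
    (Subgroup.mem_normalizer_iff''.1 (le_normalizer_of_isNormal hn o.2) (s : Ω)).1 hs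
  refine ⟨⟨_, hψS ⟨_, Subgroup.mem_sup_right hs'⟩⟩,
    hψQ.le ⟨⟨_, Subgroup.mem_sup_right hs'⟩, hs', rfl⟩, ?_⟩
  rw [hg', show (⟨_, hPQ (Subgroup.mem_sup_right hs')⟩ : S) = o⁻¹ * s * o from rfl, map_mul,
    map_mul, map_inv, ho]
  group

theorem pushSub_le_pCore [Fact p.Prime] (hS : IsPGroup p S) (h : F.IsModel p G ι)
    {Q : Subgroup Ω} (hn : F.IsNormal Q) : pushSub ι Q ≤ pCore p G :=
  le_sSup ⟨⟨fun _ hy g => conj_pushSub_mem h hn g hy⟩, (hS.to_subgroup _).map ι⟩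

/-- In a model the centralizer of the image of a normal centric subgroup lies in that image. -/
theorem mem_pushSub_of_centralizes [Finite S] [Fact p.Prime] (hS : IsPGroup p S)
    (hF : F.IsSaturated p) (h : F.IsModel p G ι) {Q : Subgroup Ω} (hn : F.IsNormal Q)
    (hc : F.IsCentric Q) {g : G} (hg : ∀ y ∈ pushSub ι Q, g * y = y * g) :
    g ∈ pushSub ι Q := by
  have hr := pCore_le_range h
  have hQO := pushSub_le_pCore hS h hn
  obtain ⟨hfin, hι, -, hC⟩ := h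
  have hON : (pCore p G).Normal := inferInstance
  set O := pullSub ι (pCore p G)
  have hO : ∀ x : O, ι ⟨x, pullSub_le ι _ x.2⟩ ∈ pCore p G := by
    rintro ⟨_, s, hs, rfl⟩
    exact hs
  have hmem : ∀ x : O, g * ι ⟨x, pullSub_le ι _ x.2⟩ * g⁻¹ ∈ ι.range := fun x =>
    hr (hON.conj_mem _ (hO x) g)
  have hφ := pullHom_mem hι (pullSub_le ι _) g hmem
  have hQle : Q ≤ O := fun x hx => ⟨⟨x, hn.1 hx⟩, hQO ⟨⟨x, hn.1 hx⟩, hx, rfl⟩, rfl⟩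
  obtain ⟨z, hzQ, hzc, hzy⟩ := exists_conj_of_agree hS hF hQle hc
    (subtype_mem F (pullSub_le ι _)) hφ (fun x hx => by
      refine congrArg Subtype.val (?_ : (⟨(x : Ω), pullSub_le ι _ x.2⟩ : S) = ⟨_, apply_mem hφ x⟩)
      refine hι.1 ?_
      rw [apply_pullHom, hg _ ⟨_, hx, rfl⟩, mul_inv_cancel_right])
  have hzS : (z : Ω) ∈ S := pullSub_le ι _ z.2
  have hgz : (ι ⟨z, hzS⟩)⁻¹ * g ∈ pCore p G := by
    refine hC (Subgroup.mem_centralizer_iff.2 fun o ho => ?_)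
    obtain ⟨s, rfl⟩ := hr ho
    have hs : (s : Ω) ∈ O := ⟨s, ho, rfl⟩
    have h1 : g * ι s * g⁻¹ = ι ⟨z, hzS⟩ * ι s * (ι ⟨z, hzS⟩)⁻¹ := by
      rw [← map_inv, ← map_mul, ← map_mul]
      rw [show (⟨z, hzS⟩ : S) * s * (⟨z, hzS⟩)⁻¹ = ⟨_, apply_mem hφ ⟨s, hs⟩⟩ from
        Subtype.ext (hzy ⟨s, hs⟩).symm, apply_pullHom]
    calc ι s * ((ι ⟨z, hzS⟩)⁻¹ * g)
        = (ι ⟨z, hzS⟩)⁻¹ * (ι ⟨z, hzS⟩ * ι s * (ι ⟨z, hzS⟩)⁻¹) * g := by group
      _ = (ι ⟨z, hzS⟩)⁻¹ * g * ι s := by rw [← h1]; group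
  obtain ⟨t, ht⟩ := hr hgz
  have hgt : g = ι (⟨z, hzS⟩ * t) := by rw [map_mul, ht, mul_inv_cancel_left]
  refine ⟨_, ?_, hgt.symm⟩
  refine hc.2 Q (isConj_refl F hn.1) (mem_centralizerIn.2 ⟨((⟨z, hzS⟩ : S) * t).2, fun x hx => ?_⟩)
  have h2 := hg _ ⟨⟨x, hn.1 hx⟩, hx, rfl⟩
  rw [hgt, ← map_mul, ← map_mul] at h2
  exact (congrArg Subtype.val (hι.1 h2)).symm

end Cfsg.Agent.Fusion.Model
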