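import Cfsg.Agent.Lib.Fusion.Saturated
import Cfsg.Agent.Lib.PCore.Basic

/-!
Alperin's fusion theorem for saturated fusion systems.

* `le_of_extendable`: `F ≤ E` as soon as `E` contains `Aut_F(P)` for `P = S` and for the fully
  normalized `P < S` whose automorphism group is not generated by extendable automorphisms.
* `alperin`: the same with the fully normalized centric radical subgroups.
* `alperin_essential`: the same with `S` and the essential subgroups.
* `alperin_induction`: induction principle for a property of maps.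
* `extendable_dichotomy`: the subgroup generated by extendable automorphisms.
-/

set_option autoImplicit false

namespace Cfsg.Agent.Fusion

open Cfsg Cfsg.FusionSystem

variable {Ω : Type*} [Group Ω] {S : Subgroup Ω} {F : FusionSystem S} {p : ℕ}

/-! ### Inner automorphisms -/

theorem inn_normal (P : Subgroup Ω) : (Inn P).Normal := by
  refine ⟨?_⟩
  rintro _ ⟨g, rfl⟩ α
  refine ⟨α g, MulEquiv.ext fun x => ?_⟩
  simp [MulAut.conj_apply, map_mul, map_inv, MulAut.inv_def]

theorem inn_subgroupOf_normal (P : Subgroup Ω) (A : Subgroup (MulAut P)) :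
    ((Inn P).subgroupOf A).Normal := by
  have := inn_normal P
  infer_instance

theorem isPGroup_inn (hS : IsPGroup p S) {P : Subgroup Ω} (hP : P ≤ S) : IsPGroup p (Inn P) :=
  IsPGroup.of_surjective (hS.to_le hP) _ (MulAut.conj : P →* MulAut P).rangeRestrict_surjective

theorem inn_le_map_pCore (hS : IsPGroup p S) {P : Subgroup Ω} (hP : P ≤ S) :
    Inn P ≤ (pCore p (F.autGroup P)).map (F.autGroup P).subtype := by
  have := inn_subgroupOf_normal P (F.autGroup P)
  intro α hα
  refine ⟨⟨α, inn_le_autGroup F hP hα⟩, ?_, rfl⟩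
  exact PCore.le_pCore ((isPGroup_inn hS hP).of_equiv
    (Subgroup.subgroupOfEquivOfLe (inn_le_autGroup F hP)).symm) hα

/-- An element of `N_S(P)` outside `P` does not act as an inner automorphism, if `C_S(P) ≤ P`. -/
theorem conjAut_notMem_inn {P : Subgroup Ω} (hC : centralizerIn S P ≤ P) (hP : P ≤ S) {g : Ω}
    (hgS : g ∈ S) (hg : g ∈ Subgroup.normalizer (P : Set Ω)) (hgP : g ∉ P) :
    conjAut hg ∉ Inn P := by
  rintro ⟨h, hh⟩
  apply hgP
  have hc : (h : Ω)⁻¹ * g ∈ centralizerIn S P := by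
    refine mem_centralizerIn.2 ⟨S.mul_mem (S.inv_mem (hP h.2)) hgS, fun x hx => ?_⟩
    have h1 : ((MulAut.conj h ⟨x, hx⟩ : P) : Ω) = (conjAut hg ⟨x, hx⟩ : P) := by rw [hh]
    rw [MulAut.conj_apply, coe_conjAut] at h1
    simp only [Subgroup.coe_mul, Subgroup.coe_inv] at h1
    calc x * ((h : Ω)⁻¹ * g) = (h : Ω)⁻¹ * ((h : Ω) * x * (h : Ω)⁻¹) * g := by group
      _ = (h : Ω)⁻¹ * (g * x * g⁻¹) * g := by rw [h1]
      _ = _ := by group
  have h2 := P.mul_mem h.2 (hC hc)
  simpa using h2

/-! ### Extendable automorphisms -/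

/-- The automorphisms of `P` extending to a map of the system on a strictly larger subgroup. -/
def extendable (F : FusionSystem S) (P : Subgroup Ω) : Set (MulAut P) :=
  {α : MulAut P | ∃ (Q : Subgroup Ω) (hPQ : P < Q) (φ : Q →* Ω),
    φ ∈ F.Hom Q ∧ ∀ x : P, φ (Subgroup.inclusion hPQ.le x) = α x}

theorem extendable_subset_autGroup {P : Subgroup Ω} {α : MulAut P} (hα : α ∈ extendable F P) :
    α ∈ F.autGroup P := by
  obtain ⟨Q, hPQ, φ, hφ, hx⟩ := hα
  exact (mem_autGroup_iff (hPQ.le.trans (dom_le hφ))).2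
    (mem_of_le hφ hPQ.le fun x => (hx x).symm)

theorem closure_extendable_le (F : FusionSystem S) (P : Subgroup Ω) :
    Subgroup.closure (extendable F P) ≤ F.autGroup P :=
  (Subgroup.closure_le _).2 fun _ => extendable_subset_autGroup

/-- If `α c_g α⁻¹` is induced by `S` for some `g ∈ N_S(P) \ P`, then `α` extends. -/
theorem extendable_of_conj {P : Subgroup Ω} (hP : F.IsReceptive P) {α : MulAut P}
    (hα : α ∈ F.autGroup P) {g : Ω} (hgS : g ∈ S) (hgN : g ∈ Subgroup.normalizer (P : Set Ω))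
    (hgP : g ∉ P) (h : α * conjAut hgN * α⁻¹ ∈ autInducedBy S P) : α ∈ extendable F P := by
  obtain ⟨hφ, hr⟩ := hom_of_mem_autGroup hP.1 hα
  obtain ⟨ψ, hψ, hext⟩ := exists_extension hP hφ hr (le_refl (extender S P _))
  have hle := le_extender hP.1 (apply_mem hφ)
  have hg : g ∈ extender S P (P.subtype.comp α.toMonoidHom) := by
    refine (mem_extender_iff_congr hφ hr).2 ⟨hgS, hgN, ?_⟩
    have he : homEquiv hφ hr = α := MulEquiv.ext fun x => Subtype.ext rfl
    rw [he]
    convert h using 1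
    exact MulEquiv.ext fun y => rfl
  exact ⟨_, lt_of_le_of_ne hle fun h' => hgP (h'.ge hg), ψ, hψ, fun x => hext x x.2 _⟩

/-- An extendable automorphism conjugates some `c_g`, `g ∈ N_S(P) \ P`, into `Aut_S(P)`. -/
theorem exists_conj_of_extendable [Finite S] [Fact p.Prime] (hS : IsPGroup p S) {P : Subgroup Ω}
    {α : MulAut P} (hα : α ∈ extendable F P) :
    ∃ g ∈ S, ∃ hg : g ∈ Subgroup.normalizer (P : Set Ω),
      g ∉ P ∧ α * conjAut hg * α⁻¹ ∈ autInducedBy S P := by
  obtain ⟨Q, hPQ, φ, hφ, hx⟩ := hα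
  have := finite_of_le (Ω := Ω) (dom_le hφ)
  obtain ⟨g, ⟨hgQ, hgN⟩, hgP⟩ :=
    SetLike.exists_of_lt (lt_normalizerIn (hS.to_le (dom_le hφ)) hPQ)
  refine ⟨g, dom_le hφ hgQ, hgN, hgP, mem_autInducedBy_iff.2
    ⟨φ ⟨g, hgQ⟩, apply_mem hφ _, fun y => ?_⟩⟩
  obtain ⟨x, rfl⟩ := α.surjective y
  rw [MulAut.mul_apply, MulAut.mul_apply, MulAut.inv_apply_self, ← hx, ← hx, ← map_inv,
    ← map_mul, ← map_mul]
  exact congrArg φ (Subtype.ext rfl)

/-- If `C_S(P)` is not inside the receptive subgroup `P`, every automorphism extends. -/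
theorem extendable_of_not_centralizerIn_le {P : Subgroup Ω} (hP : F.IsReceptive P)
    (hC : ¬ centralizerIn S P ≤ P) {α : MulAut P} (hα : α ∈ F.autGroup P) :
    α ∈ extendable F P := by
  obtain ⟨g, hg, hgP⟩ := SetLike.not_le_iff_exists.1 hC
  obtain ⟨hgS, hgC⟩ := mem_centralizerIn.1 hg
  refine extendable_of_conj hP hα hgS (Subgroup.centralizer_le_normalizer _ hg.2) hgP ?_
  have h1 : conjAut (P := P) (Subgroup.centralizer_le_normalizer _ hg.2) = 1 :=
    MulEquiv.ext fun x => Subtype.ext (by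
      show g * (x : Ω) * g⁻¹ = x
      rw [← hgC x x.2, mul_inv_cancel_right])
  rw [h1, mul_one, mul_inv_cancel]
  exact Subgroup.one_mem _

theorem map_pCore_le_autInducedBy [Finite S] {P : Subgroup Ω}
    (hP : F.IsFullyAutomized p P) :
    (pCore p (F.autGroup P)).map (F.autGroup P).subtype ≤ autInducedBy S P := by
  obtain ⟨hPS, R, hR⟩ := hP
  have := finite_mulAut (Ω := Ω) hPS
  rintro _ ⟨k, hk, rfl⟩
  have h1 := PCore.pCore_le_sylow R hk
  rwa [hR] at h1

/-- If the fully automized receptive subgroup `P` is not radical, every automorphism extends. -/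
theorem extendable_of_not_radical [Finite S] (hS : IsPGroup p S) {P : Subgroup Ω}
    (hPa : F.IsFullyAutomized p P) (hPr : F.IsReceptive P) (hrad : ¬ F.IsRadical p P)
    {α : MulAut P} (hα : α ∈ F.autGroup P) : α ∈ extendable F P := by
  have hlt : ¬ (pCore p (F.autGroup P)).map (F.autGroup P).subtype ≤ Inn P := fun h =>
    hrad ⟨hPr.1, le_antisymm h (inn_le_map_pCore hS hPr.1)⟩
  obtain ⟨k, hk, hkI⟩ := SetLike.not_le_iff_exists.1 hlt
  obtain ⟨g, hgS, hgx⟩ := mem_autInducedBy_iff.1 (map_pCore_le_autInducedBy hPa hk)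
  have hgN := mem_normalizer_of_aut hgx
  have hkg : k = conjAut hgN := MulEquiv.ext fun x => Subtype.ext (hgx x)
  have hgP : g ∉ P := fun h => hkI ⟨⟨g, h⟩, MulEquiv.ext fun x => Subtype.ext (hgx x).symm⟩
  refine extendable_of_conj hPr hα hgS hgN hgP ?_
  obtain ⟨k', hk', rfl⟩ := hk
  rw [← hkg]
  have hN : (pCore p ↥(F.autGroup P)).Normal := inferInstance
  set a : ↥(F.autGroup P) := ⟨α, hα⟩ with ha
  have h1 : a * k' * a⁻¹ ∈ pCore p ↥(F.autGroup P) := hN.conj_mem k' hk' a
  have h2 := map_pCore_le_autInducedBy hPa (Subgroup.mem_map_of_mem (F.autGroup P).subtype h1)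
  rw [map_mul, map_mul, map_inv] at h2
  exact h2

theorem inn_le_closure_extendable [Finite S] [Fact p.Prime] (hS : IsPGroup p S) {P : Subgroup Ω}
    (hP : P < S) : Inn P ≤ Subgroup.closure (extendable F P) := by
  rintro _ ⟨g, rfl⟩
  exact Subgroup.subset_closure ⟨normalizerIn S P, lt_normalizerIn hS hP, conjHom _ g,
    F.conj_mem (normalizerIn_le S P) (hP.le g.2), fun x => rfl⟩

/-! ### The fusion theorem -/

/-- Generation by automorphism groups: the general form. -/
theorem le_of_extendable [Finite S] [Fact p.Prime] (hS : IsPGroup p S) (hF : F.IsSaturated p)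
    (E : FusionSystem S) (hSS : F.autGroup S ≤ E.autGroup S)
    (hE : ∀ R : Subgroup Ω, R < S → F.IsFullyNormalized R →
      ¬ F.autGroup R ≤ Subgroup.closure (extendable F R) → F.autGroup R ≤ E.autGroup R) :
    F ≤ E := by
  suffices H : ∀ (n : ℕ) (P : Subgroup Ω), Nat.card S ≤ Nat.card P + n → ∀ φ ∈ F.Hom P,
      φ ∈ E.Hom P from fun P φ hφ => H (Nat.card S) P (Nat.le_add_left _ _) φ hφ
  intro n
  induction n using Nat.strong_induction_on with
  | _ n ih =>
    intro P hn φ hφ
    rcases (dom_le hφ).eq_or_lt with rfl | hlt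
    · have hr : φ.range = P := range_eq_of_le hφ le_rfl (apply_mem hφ) le_rfl
      exact mem_of_le ((mem_autGroup_iff le_rfl).1 (hSS (toAut_mem hφ hr))) le_rfl fun x => rfl
    obtain ⟨R, hPR, hRn⟩ := exists_fullyNormalized F (dom_le hφ)
    have hcR := isConj_card hPR
    have hbig : ∀ Q : Subgroup Ω, Nat.card P < Nat.card Q → ∀ ψ ∈ F.Hom Q, ψ ∈ E.Hom Q := by
      intro Q hQ ψ hψ
      have := card_le_of_le le_rfl (dom_le hψ)
      exact ih (Nat.card S - Nat.card Q) (by omega) Q (by omega) ψ hψ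
    have hRS : R < S := by
      refine lt_of_le_of_ne hRn.1 fun h => ?_
      have := card_lt_of_lt le_rfl hlt
      rw [h] at hcR
      omega
    have hA : F.autGroup R ≤ E.autGroup R := by
      by_cases hgen : F.autGroup R ≤ Subgroup.closure (extendable F R)
      · refine hgen.trans ((Subgroup.closure_le _).2 ?_)
        rintro α ⟨Q, hRQ, ψ, hψ, hx⟩
        have := card_lt_of_lt (dom_le hψ) hRQ
        exact extendable_subset_autGroup (F := E)
          ⟨Q, hRQ, ψ, hbig Q (by omega) ψ hψ, hx⟩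
      · exact hE R hRS hRn hgen
    have hiso : ∀ (Q : Subgroup Ω), Nat.card Q = Nat.card P → ∀ ψ ∈ F.Hom Q, ψ.range = R →
        ψ ∈ E.Hom Q := by
      intro Q hQ ψ hψ hr
      obtain ⟨a, ha, χ, hχ, hv⟩ := exists_twist_extension hS
        (isFullyAutomized_of_fullyNormalized hS hF hRn)
        (isReceptive_of_fullyNormalized hS hF hRn) hψ hr
      have hQS : Q < S := by
        refine lt_of_le_of_ne (dom_le hψ) fun h => ?_
        have := card_lt_of_lt le_rfl hlt
        rw [h] at hQ
        omega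
      have hQN := lt_normalizerIn hS hQS
      have hχE := hbig _ (by have := card_lt_of_lt (normalizerIn_le S Q) hQN; omega) χ hχ
      have hai : a⁻¹ ∈ E.autGroup R := Subgroup.inv_mem _ (hA ha)
      have hval : ∀ x : Q, χ (Subgroup.inclusion hQN.le x) ∈ R := fun x => by
        rw [show χ (Subgroup.inclusion hQN.le x) = _ from hv x (hQN.le x.2)]
        exact Subtype.property _
      refine comp_mem' (restrict_mem hχE hQN.le) ((mem_autGroup_iff hRn.1).1 hai) hval fun x => ?_
      show ψ x = ((a⁻¹ ⟨χ (Subgroup.inclusion hQN.le x), hval x⟩ : R) : Ω)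
      rw [show (⟨χ (Subgroup.inclusion hQN.le x), hval x⟩ : R) = a (homEquiv hψ hr x) from
        Subtype.ext (hv x (hQN.le x.2)), MulAut.inv_apply_self, coe_homEquiv]
    obtain ⟨ψ, hψ, hψr⟩ := isConj_trans (isConj_symm ⟨φ, hφ, rfl⟩) hPR
    have hψE := hiso φ.range (card_range hφ) ψ hψ hψr
    have hc : ∀ x : P, φ x ∈ φ.range := fun x => ⟨x, rfl⟩
    have hcr : (ψ.comp (φ.codRestrict φ.range hc)).range = R := by
      rw [← hψr]
      ext y
      constructor
      · rintro ⟨x, rfl⟩
        exact ⟨_, rfl⟩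
      · rintro ⟨⟨_, x, rfl⟩, rfl⟩
        exact ⟨x, rfl⟩
    have hcE := hiso P rfl _ (F.comp_mem hφ hψ hc) hcr
    obtain ⟨θ, hθ, -, hi, -⟩ := exists_inverse hψE hψr
    exact comp_mem' hcE hθ (fun x => hcr.le ⟨x, rfl⟩)
      fun x => (hi ⟨φ x, hc x⟩ (hψr.le ⟨_, rfl⟩)).symm

/-- A fully normalized subgroup whose automorphisms are not all generated by extendable ones is
centric and radical. -/
theorem centric_radical_of_not_generated [Finite S] [Fact p.Prime] (hS : IsPGroup p S)
    (hF : F.IsSaturated p) {R : Subgroup Ω} (hR : F.IsFullyNormalized R)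
    (h : ¬ F.autGroup R ≤ Subgroup.closure (extendable F R)) :
    F.IsCentric R ∧ F.IsRadical p R := by
  have hr := isReceptive_of_fullyNormalized hS hF hR
  refine ⟨isCentric_of_fullyCentralized (isFullyCentralized_of_fullyNormalized hS hF hR) ?_, ?_⟩
  · by_contra hC
    exact h fun α hα => Subgroup.subset_closure (extendable_of_not_centralizerIn_le hr hC hα)
  · by_contra hrad
    exact h fun α hα => Subgroup.subset_closure
      (extendable_of_not_radical hS (isFullyAutomized_of_fullyNormalized hS hF hR) hr hrad hα)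

/-- `S` is radical in a saturated system. -/
theorem isRadical_self [Finite S] [Fact p.Prime] (hS : IsPGroup p S) (hF : F.IsSaturated p) :
    F.IsRadical p S := by
  refine ⟨le_rfl, le_antisymm ?_ (inn_le_map_pCore hS le_rfl)⟩
  exact (map_pCore_le_autInducedBy (isFullyAutomized_self hS hF)).trans_eq (autInducedBy_self S)

/-- Alperin's fusion theorem: a saturated system is generated by the automorphism groups of its
fully normalized centric radical subgroups. -/
theorem alperin [Finite S] [Fact p.Prime] (hS : IsPGroup p S) (hF : F.IsSaturated p)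
    (E : FusionSystem S) (hE : ∀ R : Subgroup Ω, F.IsFullyNormalized R → F.IsCentric R →
      F.IsRadical p R → F.autGroup R ≤ E.autGroup R) : F ≤ E :=
  le_of_extendable hS hF E
    (hE S (isFullyNormalized_self F) (isCentric_self F) (isRadical_self hS hF))
    fun R _ hR hgen => hE R hR (centric_radical_of_not_generated hS hF hR hgen).1
      (centric_radical_of_not_generated hS hF hR hgen).2

/-- The subsystem of maps with a property closed under composition and inverses and holding for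
conjugations by elements of `S`. -/
def subsystemOf (F : FusionSystem S) (C : ∀ P : Subgroup Ω, (P →* Ω) → Prop)
    (hconj : ∀ (P : Subgroup Ω) (g : Ω), P ≤ S → g ∈ S → C P (conjHom P g))
    (hcomp : ∀ (P Q : Subgroup Ω) (φ : P →* Ω) (ψ : Q →* Ω), φ ∈ F.Hom P → ψ ∈ F.Hom Q →
      C P φ → C Q ψ → ∀ h : ∀ x : P, φ x ∈ Q, C P (ψ.comp (φ.codRestrict Q h)))
    (hinv : ∀ (P : Subgroup Ω) (φ : P →* Ω) (ψ : φ.range →* Ω), φ ∈ F.Hom P → C P φ →
      ψ ∈ F.Hom φ.range → (∀ x : P, ψ ⟨φ x, ⟨x, rfl⟩⟩ = (x : Ω)) → C φ.range ψ) :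
    FusionSystem S where
  Hom P := {φ | φ ∈ F.Hom P ∧ C P φ}
  le_of_mem h := F.le_of_mem h.1
  injective_of_mem h := F.injective_of_mem h.1
  conj_mem hP hg := ⟨F.conj_mem hP hg, hconj _ _ hP hg⟩
  comp_mem hφ hψ h := ⟨F.comp_mem hφ.1 hψ.1 h, hcomp _ _ _ _ hφ.1 hψ.1 hφ.2 hψ.2 h⟩
  inv_mem := by
    intro P φ hφ
    obtain ⟨ψ, hψ, hi⟩ := F.inv_mem hφ.1
    exact ⟨ψ, ⟨hψ, hinv _ _ _ hφ.1 hφ.2 hψ hi⟩, hi⟩

/-- Induction along Alperin's theorem. A property of maps closed under composition (so also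
restriction) and inverses, true for conjugations by `S` and for the automorphisms of fully
normalized centric radical subgroups, is true for every map. -/
theorem alperin_induction [Finite S] [Fact p.Prime] (hS : IsPGroup p S) (hF : F.IsSaturated p)
    {C : ∀ P : Subgroup Ω, (P →* Ω) → Prop}
    (hconj : ∀ (P : Subgroup Ω) (g : Ω), P ≤ S → g ∈ S → C P (conjHom P g))
    (hcomp : ∀ (P Q : Subgroup Ω) (φ : P →* Ω) (ψ : Q →* Ω), φ ∈ F.Hom P → ψ ∈ F.Hom Q →
      C P φ → C Q ψ → ∀ h : ∀ x : P, φ x ∈ Q, C P (ψ.comp (φ.codRestrict Q h)))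
    (hinv : ∀ (P : Subgroup Ω) (φ : P →* Ω) (ψ : φ.range →* Ω), φ ∈ F.Hom P → C P φ →
      ψ ∈ F.Hom φ.range → (∀ x : P, ψ ⟨φ x, ⟨x, rfl⟩⟩ = (x : Ω)) → C φ.range ψ)
    (hgen : ∀ R : Subgroup Ω, F.IsFullyNormalized R → F.IsCentric R → F.IsRadical p R →
      ∀ α ∈ F.autGroup R, C R (R.subtype.comp α.toMonoidHom))
    {P : Subgroup Ω} {φ : P →* Ω} (hφ : φ ∈ F.Hom P) : C P φ :=
  ((alperin hS hF (subsystemOf F C hconj hcomp hinv) fun R hn hc hr _ hα =>
    Subgroup.subset_closure ⟨(mem_autGroup_iff hn.1).1 hα, hgen R hn hc hr _ hα⟩) P hφ).2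

/-! ### Strongly `p`-embedded subgroups -/

section Embedded

variable {X : Type*} [Group X] [Finite X] [Fact p.Prime]

theorem not_pRankLE_zero {Q : Subgroup X} (hQ : IsPGroup p Q) (hne : Q ≠ ⊥) :
    ¬ PRankLE p (1 - 1) Q := by
  intro h
  have hdvd : p ∣ Nat.card Q := by
    obtain ⟨n, hn⟩ := IsPGroup.iff_card.1 hQ
    rcases n with - | n
    · exact absurd (Q.card_eq_one.1 (by simpa using hn)) hne
    · exact hn ▸ dvd_pow_self p n.succ_ne_zero
  obtain ⟨x, hx⟩ := exists_prime_orderOf_dvd_card' p hdvd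
  have hpow : ∀ a ∈ Subgroup.zpowers x, a ^ p = 1 := by
    intro a ha
    exact orderOf_dvd_iff_pow_eq_one.1 (hx ▸ orderOf_dvd_of_mem_zpowers ha)
  have := h (Subgroup.zpowers x) inferInstance hpow
  rw [Nat.card_zpowers, hx] at this
  have := (Fact.out : p.Prime).two_le
  simp at *
  omega

theorem normalizer_le_kGeneratedCore {P Q : Subgroup X} (hP : IsPGroup p P) (hQP : Q ≤ P)
    (hQ : Q ≠ ⊥) : Subgroup.normalizer (Q : Set X) ≤ kGeneratedCore p 1 P :=
  le_iSup (fun Q : {Q : Subgroup X // Q ≤ P ∧ ¬ PRankLE p (1 - 1) Q} =>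
    Subgroup.normalizer ((Q : Subgroup X) : Set X)) ⟨Q, hQP, not_pRankLE_zero (hP.to_le hQP) hQ⟩

/-- If `E` contains the normalizers of the nontrivial subgroups of the Sylow subgroup `P` then
any element conjugating some nontrivial element of `P` into `P` lies in `E`. -/
theorem mem_of_kGeneratedCore_le {P : Sylow p X} {E : Subgroup X}
    (hE : kGeneratedCore p 1 (P : Subgroup X) ≤ E) {t x : X} (htP : t ∈ (P : Subgroup X))
    (ht : t ≠ 1) (hxt : x * t * x⁻¹ ∈ (P : Subgroup X)) : x ∈ E := by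
  have hN : ∀ Q : Subgroup X, Q ≤ P → Q ≠ ⊥ → Subgroup.normalizer (Q : Set X) ≤ E :=
    fun Q hQ hne => (normalizer_le_kGeneratedCore P.isPGroup' hQ hne).trans hE
  have hPne : (P : Subgroup X) ≠ ⊥ := fun h => ht (Subgroup.mem_bot.1 (h ▸ htP))
  have hPE : (P : Subgroup X) ≤ E := Subgroup.le_normalizer.trans (hN _ le_rfl hPne)
  have hconj : ∀ D : Subgroup X, IsPGroup p D → D ≤ E →
      ∃ e ∈ E, D.map (MulAut.conj e).toMonoidHom ≤ P := by
    intro D hD hDE
    obtain ⟨T, hT⟩ := (hD.of_equiv (Subgroup.subgroupOfEquivOfLe hDE).symm).exists_le_sylow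
    obtain ⟨e, he⟩ := MulAction.exists_smul_eq E T (P.subtype hPE)
    refine ⟨e, e.2, ?_⟩
    rintro _ ⟨d, hd, rfl⟩
    have h1 : e * ⟨d, hDE hd⟩ * e⁻¹ ∈ ((P.subtype hPE : Sylow p E) : Subgroup E) := by
      rw [← he, Sylow.coe_subgroup_smul]
      exact Subgroup.smul_mem_pointwise_smul _ (MulAut.conj e) _ (hT hd)
    exact h1
  have hsub : ∀ Q : Subgroup X, IsPGroup p Q → Q ⊓ E ≠ ⊥ → Q ≤ E := by
    intro Q hQ hne
    by_contra hQE
    have hlt : Q ⊓ E < Q := lt_of_le_of_ne inf_le_left fun h => hQE (h ▸ inf_le_right)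
    obtain ⟨y, ⟨hyQ, hyN⟩, hy⟩ := SetLike.exists_of_lt (lt_normalizerIn hQ hlt)
    apply hy
    refine ⟨hyQ, ?_⟩
    obtain ⟨e, he, hle⟩ := hconj _ (hQ.to_le inf_le_left) inf_le_right
    set D' := (Q ⊓ E).map (MulAut.conj e).toMonoidHom with hD'
    have hD'ne : D' ≠ ⊥ := fun h =>
      hne ((Subgroup.map_eq_bot_iff_of_injective _ (MulAut.conj e).injective).1 h)
    have hy' : e * y * e⁻¹ ∈ Subgroup.normalizer (D' : Set X) := by
      rw [hD', ← Subgroup.map_normalizer_eq_of_bijective _ (MulAut.conj e).bijective]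
      exact ⟨y, hyN, rfl⟩
    have h1 := E.mul_mem (E.mul_mem (E.inv_mem he) (hN D' hle hD'ne hy')) he
    simpa [mul_assoc] using h1
  set R := (P : Subgroup X).map (MulAut.conj x⁻¹).toMonoidHom with hR
  have htR : t ∈ R := ⟨_, hxt, by simp [mul_assoc]⟩
  have hRp : IsPGroup p R := P.isPGroup'.map _
  have hRE : R ≤ E :=
    hsub R hRp fun h => ht (Subgroup.mem_bot.1 (h ▸ Subgroup.mem_inf.2 ⟨htR, hPE htP⟩))
  obtain ⟨e, he, hle⟩ := hconj R hRp hRE
  have heq : R.map (MulAut.conj e).toMonoidHom = P :=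
    Subgroup.eq_of_le_of_card_ge hle (le_of_eq (by
      rw [hR, Subgroup.card_map_of_injective (MulAut.conj e).injective,
        Subgroup.card_map_of_injective (MulAut.conj x⁻¹).injective]))
  have h1 : e * x⁻¹ ∈ Subgroup.normalizer ((P : Subgroup X) : Set X) := by
    refine Subgroup.mem_normalizer_iff.2 fun y => ⟨fun hy => ?_, fun hy => ?_⟩
    · exact heq.le ⟨_, ⟨y, hy, rfl⟩, by simp [mul_assoc]⟩
    · obtain ⟨_, ⟨y', hy', rfl⟩, hy''⟩ := heq.ge hy
      have h2 : e * x⁻¹ * y' * (e * x⁻¹)⁻¹ = e * x⁻¹ * y * (e * x⁻¹)⁻¹ := by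
        simpa [mul_assoc] using hy''
      exact mul_left_cancel (mul_right_cancel h2) ▸ hy'
  have h2 := E.mul_mem (E.inv_mem he) (hN _ le_rfl hPne h1)
  simpa using h2

end Embedded

/-! ### Essential subgroups -/

theorem finite_autGroup [Finite S] {P : Subgroup Ω} (hP : P ≤ S) : Finite (F.autGroup P) := by
  have := finite_mulAut (Ω := Ω) hP
  infer_instance

/-- If the centric receptive subgroup `P` is essential then the extendable automorphisms do not
generate `Aut_F(P)`. -/
theorem not_generated_of_essential [Finite S] [Fact p.Prime] (hS : IsPGroup p S)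
    (hF : F.IsSaturated p) {P : Subgroup Ω} (hP : F.IsEssential p P) :
    ¬ F.autGroup P ≤ Subgroup.closure (extendable F P) := by
  obtain ⟨hc, hn, hI, E, -, hEtop, P', hP'⟩ := hP
  have := finite_autGroup (F := F) hn.1
  intro hgen
  obtain ⟨-, R, hR⟩ := isFullyAutomized_of_fullyNormalized hS hF hn
  set I := (Inn P).subgroupOf (F.autGroup P) with hIdef
  set π := QuotientGroup.mk' I with hπ
  let Rb : Sylow p (F.autGroup P ⧸ I) := R.mapSurjective (QuotientGroup.mk'_surjective I)
  obtain ⟨w, hw⟩ := MulAction.exists_smul_eq (F.autGroup P ⧸ I) Rb P'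
  set H := (Subgroup.closure (extendable F P)).subgroupOf (F.autGroup P)
  have htop : H = ⊤ := Subgroup.subgroupOf_eq_top.2 hgen
  let K : Subgroup (F.autGroup P) := E.comap ((MulAut.conj w).toMonoidHom.comp π)
  have hgenK : ∀ (α : MulAut P) (hα : α ∈ extendable F P),
      (⟨α, extendable_subset_autGroup hα⟩ : F.autGroup P) ∈ K := by
    intro α hα
    obtain ⟨g, hgS, hgN, hgP, hg⟩ := exists_conj_of_extendable hS hα
    set a : F.autGroup P := ⟨α, extendable_subset_autGroup hα⟩
    set c : F.autGroup P :=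
      ⟨conjAut hgN, autInducedBy_le_autGroup F hn.1 (conjAut_mem_autInducedBy hgS hgN)⟩
    have hcR : c ∈ (R : Subgroup (F.autGroup P)) := hR ▸ conjAut_mem_autInducedBy hgS hgN
    have hacR : a * c * a⁻¹ ∈ (R : Subgroup (F.autGroup P)) := hR ▸ hg
    have hin : ∀ r ∈ (R : Subgroup (F.autGroup P)), w * π r * w⁻¹ ∈ (P' : Subgroup _) := by
      intro r hr
      rw [← hw, Sylow.coe_subgroup_smul]
      exact Subgroup.smul_mem_pointwise_smul _ (MulAut.conj w) _ ⟨r, hr, rfl⟩
    have hne : w * π c * w⁻¹ ≠ 1 := by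
      intro h
      have : π c = 1 := by simpa using h
      exact conjAut_notMem_inn (isCentric_centralizerIn_le hc) hn.1 hgS hgN hgP
        ((QuotientGroup.eq_one_iff c).1 this)
    show w * π a * w⁻¹ ∈ E
    refine mem_of_kGeneratedCore_le hP' (hin c hcR) hne ?_
    have h2 := hin _ hacR
    simpa [map_mul, map_inv, mul_assoc] using h2
  have hK : K = ⊤ := by
    have h1 : Subgroup.closure (extendable F P) ≤ K.map (F.autGroup P).subtype :=
      (Subgroup.closure_le _).2 fun α hα => ⟨_, hgenK α hα, rfl⟩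
    refine eq_top_iff.2 fun a _ => ?_
    obtain ⟨b, hb, hab⟩ := h1 (hgen a.2)
    rwa [← Subtype.ext hab]
  refine hEtop (eq_top_iff.2 fun y _ => ?_)
  obtain ⟨a, ha⟩ := QuotientGroup.mk'_surjective I (w⁻¹ * y * w)
  have h3 : w * π a * w⁻¹ ∈ E := hK.ge (Subgroup.mem_top a)
  rw [hπ, ha] at h3
  simpa [mul_assoc] using h3

/-- `S` is not essential. -/
theorem not_essential_self [Finite S] [Fact p.Prime] (hS : IsPGroup p S) (hF : F.IsSaturated p) :
    ¬ F.IsEssential p S := by
  rintro ⟨-, -, hI, E, hdvd, -⟩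
  obtain ⟨-, R, hR⟩ := isFullyAutomized_self hS hF
  have := finite_autGroup (F := F) (le_refl S)
  rw [autInducedBy_self] at hR
  have h := R.not_dvd_index
  rw [hR] at h
  exact h hdvd

/-- Essential subgroups are radical. -/
theorem isRadical_of_essential [Finite S] [Fact p.Prime] (hS : IsPGroup p S)
    (hF : F.IsSaturated p) {P : Subgroup Ω} (hP : F.IsEssential p P) : F.IsRadical p P :=
  (centric_radical_of_not_generated hS hF hP.2.1 (not_generated_of_essential hS hF hP)).2

/-- A fully normalized proper subgroup whose automorphisms are not generated by extendable ones: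
the image of their closure is strongly `p`-embedded in `Out_F(P)`. -/
theorem stronglyEmbedded_of_not_generated [Finite S] [Fact p.Prime] (hS : IsPGroup p S)
    (hF : F.IsSaturated p) {P : Subgroup Ω} (hPS : P < S) (hn : F.IsFullyNormalized P)
    (h : ¬ F.autGroup P ≤ Subgroup.closure (extendable F P))
    [((Inn P).subgroupOf (F.autGroup P)).Normal] :
    IsStronglyPEmbedded p (((Subgroup.closure (extendable F P)).subgroupOf (F.autGroup P)).map
      (QuotientGroup.mk' ((Inn P).subgroupOf (F.autGroup P)))) := by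
  have hA := finite_autGroup (F := F) hn.1
  obtain ⟨hc, -⟩ := centric_radical_of_not_generated hS hF hn h
  have hCle := isCentric_centralizerIn_le hc
  obtain ⟨-, R, hR⟩ := isFullyAutomized_of_fullyNormalized hS hF hn
  set I := (Inn P).subgroupOf (F.autGroup P) with hIdef
  set π := QuotientGroup.mk' I with hπ
  set H := (Subgroup.closure (extendable F P)).subgroupOf (F.autGroup P) with hH
  have hIH : I ≤ H := fun a ha => inn_le_closure_extendable hS hPS ha
  have hIR : I ≤ (R : Subgroup (F.autGroup P)) := hR ▸ fun a ha => inn_le_autInducedBy hn.1 ha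
  let Rb : Sylow p (F.autGroup P ⧸ I) := R.mapSurjective (QuotientGroup.mk'_surjective I)
  refine ⟨?_, fun htop => ?_, Rb, iSup_le ?_⟩
  · obtain ⟨g, hg, hgP⟩ := SetLike.exists_of_lt (lt_normalizerIn hS hPS)
    set c : F.autGroup P :=
      ⟨conjAut hg.2, autInducedBy_le_autGroup F hn.1 (conjAut_mem_autInducedBy hg.1 hg.2)⟩
    have hne : π c ≠ 1 := fun h1 => conjAut_notMem_inn hCle hn.1 hg.1 hg.2 hgP
      ((QuotientGroup.eq_one_iff c).1 h1)
    have hmem : π c ∈ (Rb : Subgroup (F.autGroup P ⧸ I)) :=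
      ⟨c, hR ▸ conjAut_mem_autInducedBy hg.1 hg.2, rfl⟩
    obtain ⟨k, hk⟩ := IsPGroup.iff_orderOf.1 Rb.isPGroup' ⟨π c, hmem⟩
    rw [← Subgroup.orderOf_coe] at hk
    rcases k with - | k
    · exact absurd (orderOf_eq_one_iff.1 (by simpa using hk)) hne
    · exact (dvd_pow_self p k.succ_ne_zero).trans (hk ▸ orderOf_dvd_natCard _)
  · refine h fun α hα => ?_
    have h1 : (⟨α, hα⟩ : F.autGroup P) ∈ (H.map π).comap π := by
      rw [htop]; exact Subgroup.mem_top _
    rw [Subgroup.comap_map_eq, hπ, QuotientGroup.ker_mk', sup_eq_left.2 hIH] at h1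
    exact h1
  · rintro ⟨Q, hQ, hQr⟩ x hx
    obtain ⟨t, htQ, ht⟩ : ∃ t ∈ Q, t ≠ (1 : F.autGroup P ⧸ I) := by
      by_contra hcon
      push Not at hcon
      refine hQr fun A _ _ => ?_
      have : Q = ⊥ := (Subgroup.eq_bot_iff_forall _).2 hcon
      subst this
      have : A = ⊥ := Subsingleton.elim _ _
      simp [this]
    obtain ⟨a, rfl⟩ := QuotientGroup.mk'_surjective I x
    obtain ⟨c, hc', rfl⟩ := hQ htQ
    obtain ⟨d, hd, hde⟩ := hQ ((Subgroup.mem_normalizer_iff.1 hx _).1 htQ)
    obtain ⟨g, hgS, hgx⟩ := mem_autInducedBy_iff.1 (show (c : MulAut P) ∈ autInducedBy S P from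
      Subgroup.mem_subgroupOf.1 (hR ▸ hc'))
    have hgN := mem_normalizer_of_aut hgx
    have hcg : (c : MulAut P) = conjAut hgN := MulEquiv.ext fun y => Subtype.ext (hgx y)
    have hgP : g ∉ P := by
      intro hgP
      refine ht ((QuotientGroup.eq_one_iff c).2 ?_)
      exact ⟨⟨g, hgP⟩, MulEquiv.ext fun y => Subtype.ext (hgx y).symm⟩
    have hac : a * c * a⁻¹ ∈ (R : Subgroup (F.autGroup P)) := by
      have h1 : π (a * c * a⁻¹) = π d := by rw [hde, map_mul, map_mul, map_inv]
      have h2 : d⁻¹ * (a * c * a⁻¹) ∈ I := (QuotientGroup.eq).1 h1.symm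
      have h3 := Subgroup.mul_mem (R : Subgroup (F.autGroup P)) hd (hIR h2)
      simpa using h3
    rw [hR] at hac
    refine ⟨a, Subgroup.subset_closure (extendable_of_conj
      (isReceptive_of_fullyNormalized hS hF hn) a.2 hgS hgN hgP ?_), rfl⟩
    rw [← hcg]
    exact hac

theorem isEssential_of_not_generated [Finite S] [Fact p.Prime] (hS : IsPGroup p S)
    (hF : F.IsSaturated p) {P : Subgroup Ω} (hPS : P < S) (hn : F.IsFullyNormalized P)
    (h : ¬ F.autGroup P ≤ Subgroup.closure (extendable F P)) : F.IsEssential p P := by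
  have := inn_subgroupOf_normal P (F.autGroup P)
  exact ⟨(centric_radical_of_not_generated hS hF hn h).1, hn, this, _,
    stronglyEmbedded_of_not_generated hS hF hPS hn h⟩

/-- The dichotomy for the subgroup generated by extendable automorphisms. -/
theorem extendable_dichotomy [Finite S] [Fact p.Prime] (hS : IsPGroup p S) (hF : F.IsSaturated p)
    {P : Subgroup Ω} (hPS : P < S) (hn : F.IsFullyNormalized P) :
    (¬ F.IsEssential p P ∧ Subgroup.closure (extendable F P) = F.autGroup P) ∨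
      (F.IsEssential p P ∧ ∃ _ : ((Inn P).subgroupOf (F.autGroup P)).Normal,
        IsStronglyPEmbedded p (((Subgroup.closure (extendable F P)).subgroupOf
          (F.autGroup P)).map (QuotientGroup.mk' ((Inn P).subgroupOf (F.autGroup P))))) := by
  by_cases h : F.autGroup P ≤ Subgroup.closure (extendable F P)
  · exact Or.inl ⟨fun he => not_generated_of_essential hS hF he h,
      le_antisymm (closure_extendable_le F P) h⟩
  · have := inn_subgroupOf_normal P (F.autGroup P)
    exact Or.inr ⟨isEssential_of_not_generated hS hF hPS hn h, this,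
      stronglyEmbedded_of_not_generated hS hF hPS hn h⟩

/-- Alperin–Goldschmidt: `S` and the essential subgroups generate. -/
theorem alperin_essential [Finite S] [Fact p.Prime] (hS : IsPGroup p S) (hF : F.IsSaturated p)
    (E : FusionSystem S) (hE : ∀ R : Subgroup Ω, R = S ∨ F.IsEssential p R →
      F.autGroup R ≤ E.autGroup R) : F ≤ E :=
  le_of_extendable hS hF E (hE S (Or.inl rfl)) fun R hRS hR hgen =>
    hE R (Or.inr (isEssential_of_not_generated hS hF hRS hR hgen))

end Cfsg.Agent.Fusion
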