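import Cfsg.Agent.Lib.Fusion.NormalCriteria
import Cfsg.Agent.Lib.Fusion.Constructions

/-!
The core of a fusion system is normal; saturated subsystems over strongly closed subgroups of a
constrained system are constrained.
-/

set_option autoImplicit false

namespace Cfsg.Agent.Fusion

open Cfsg Cfsg.FusionSystem
open scoped commutatorElement

variable {Ω : Type*} [Group Ω] {S : Subgroup Ω} {F : FusionSystem S} {p : ℕ}

/-- The join of two normal subgroups is normal. -/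
theorem isNormal_sup {Q₁ Q₂ : Subgroup Ω} (h₁ : F.IsNormal Q₁) (h₂ : F.IsNormal Q₂) :
    F.IsNormal (Q₁ ⊔ Q₂) := by
  refine ⟨sup_le h₁.1 h₂.1, fun P φ hφ => ?_⟩
  obtain ⟨ψ₁, hψ₁, hP₁, hQ₁⟩ := h₁.2 P φ hφ
  obtain ⟨ψ₂, hψ₂, hP₂, hQ₂⟩ := h₂.2 _ ψ₁ hψ₁
  have e : P ⊔ (Q₁ ⊔ Q₂) = P ⊔ Q₁ ⊔ Q₂ := (sup_assoc P Q₁ Q₂).symm
  refine ⟨_, restrict_mem hψ₂ e.le, fun x => ?_, ?_⟩
  · exact (hP₂ ⟨x, Subgroup.mem_sup_left x.2⟩).trans (hP₁ x)
  · rw [Subgroup.subgroupOf_sup (le_sup_left.trans le_sup_right)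
      (le_sup_right.trans le_sup_right), Subgroup.map_sup]
    congr 1
    · ext y
      constructor
      · rintro ⟨⟨z, hz⟩, hzQ, rfl⟩
        show ψ₂ ⟨z, e.le hz⟩ ∈ Q₁
        rw [show ψ₂ ⟨z, e.le hz⟩ = ψ₁ ⟨z, Subgroup.mem_sup_right hzQ⟩ from
          hP₂ ⟨z, Subgroup.mem_sup_right hzQ⟩]
        exact hQ₁.le ⟨_, hzQ, rfl⟩
      · intro hy
        obtain ⟨⟨z, hz⟩, hzQ, rfl⟩ := hQ₁.ge hy
        exact ⟨⟨z, Subgroup.mem_sup_right (Subgroup.mem_sup_left hzQ)⟩, hzQ, hP₂ ⟨z, hz⟩⟩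
    · ext y
      constructor
      · rintro ⟨⟨z, hz⟩, hzQ, rfl⟩
        exact hQ₂.le ⟨⟨z, e.le hz⟩, hzQ, rfl⟩
      · intro hy
        obtain ⟨⟨z, hz⟩, hzQ, rfl⟩ := hQ₂.ge hy
        exact ⟨⟨z, e.ge hz⟩, hzQ, rfl⟩

theorem finite_normals [Finite S] (F : FusionSystem S) : {Q : Subgroup Ω | F.IsNormal Q}.Finite :=
  Set.Finite.subset (Set.finite_range fun H : Subgroup S => H.map S.subtype) fun Q hQ =>
    ⟨Q.subgroupOf S, Subgroup.map_subgroupOf_eq_of_le hQ.1⟩

/-- The core is normal. -/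
theorem isNormal_core [Finite S] (F : FusionSystem S) : F.IsNormal F.core := by
  obtain ⟨M, hM, hmax⟩ := (finite_normals F).exists_maximalFor id _ ⟨⊥, isNormal_bot⟩
  have : F.core = M := le_antisymm
    (sSup_le fun Q hQ => le_sup_right.trans (hmax (isNormal_sup hM hQ) le_sup_left))
    (le_sSup hM)
  rwa [this]

theorem le_core {Q : Subgroup Ω} (hQ : F.IsNormal Q) : Q ≤ F.core := le_sSup hQ

/-- The core of a constrained system is centric. -/
theorem isCentric_core [Finite S] (hF : F.IsConstrained p) : F.IsCentric F.core := by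
  obtain ⟨-, Q, hQn, hQc⟩ := hF
  refine ⟨(isNormal_core F).1, fun R hR => ?_⟩
  obtain ⟨φ, hφ, rfl⟩ := hR
  have h1 : φ.range = F.core := range_eq_of_le hφ (isNormal_core F).1
    (fun x => (stronglyClosed_of_isNormal (isNormal_core F)).2 _ le_rfl φ hφ x) le_rfl
  rw [h1]
  intro c hc
  obtain ⟨hcS, hcc⟩ := mem_centralizerIn.1 hc
  have hQc' := hQc.2 Q (isConj_refl F hQn.1)
    (mem_centralizerIn.2 ⟨hcS, fun x hx => hcc x (le_core hQn hx)⟩)
  exact le_core hQn hQc'

theorem stronglyClosed_inf {A B : Subgroup Ω} (hA : F.StronglyClosed A) (hB : F.StronglyClosed B) :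
    F.StronglyClosed (A ⊓ B) :=
  ⟨inf_le_left.trans hA.1, fun R hR φ hφ x =>
    ⟨hA.2 R (hR.trans inf_le_left) φ hφ x, hB.2 R (hR.trans inf_le_right) φ hφ x⟩⟩

/-- In a constrained system the part in a strongly closed `T` of the centralizer of
`O_p(F) ⊓ T` lies in `O_p(F)`. -/
theorem centralizerIn_core_inf_le [Finite S] [Fact p.Prime] (hS : IsPGroup p S)
    (hF : F.IsConstrained p) {T : Subgroup Ω} (hT : F.StronglyClosed T) :
    centralizerIn T (F.core ⊓ T) ≤ F.core := by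
  set Q := F.core with hQdef
  set X := centralizerIn T (Q ⊓ T) with hXdef
  have hQn : F.IsNormal Q := isNormal_core F
  have hQc := stronglyClosed_of_isNormal hQn
  have hXS : X ≤ S := (centralizerIn_le T _).trans hT.1
  have hR := stronglyClosed_inf hQc hT
  -- `X` is strongly closed
  have hX : F.StronglyClosed X := by
    refine ⟨hXS, fun P hP φ hφ x => ?_⟩
    obtain ⟨ψ, hψ, hψP, -⟩ := hQn.2 P φ hφ
    refine mem_centralizerIn.2 ⟨hT.2 P (hP.trans (centralizerIn_le T _)) φ hφ x, fun y hy => ?_⟩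
    have hle : Q ⊓ T ≤ P ⊔ Q := inf_le_left.trans le_sup_right
    obtain ⟨z, hz, rfl⟩ := (image_stronglyClosed hR hψ hle).ge hy
    rw [← hψP x, ← map_mul, ← map_mul]
    exact congrArg ψ (Subtype.ext ((mem_centralizerIn.1 (hP x.2)).2 z hz))
  -- commutators with `Q`
  have hcomm : ∀ x ∈ X, ∀ q ∈ Q, q⁻¹ * (x * q * x⁻¹) ∈ Q ⊓ T := by
    intro x hx q hq
    refine ⟨Q.mul_mem (Q.inv_mem hq)
      ((Subgroup.mem_normalizer_iff.1 (le_normalizer_of_isNormal hQn (hXS hx)) q).1 hq), ?_⟩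
    have hxT : x ∈ T := centralizerIn_le T _ hx
    have h2 : q⁻¹ * x * q ∈ T := by
      have := (Subgroup.mem_normalizer_iff.1
        (le_normalizer_of_stronglyClosed hT (S.inv_mem (hQn.1 hq))) x).1 hxT
      simpa using this
    have h3 := T.mul_mem h2 (T.inv_mem hxT)
    simpa [mul_assoc] using h3
  have hXX : ⁅X, X⁆ ≤ X ⊓ Q := by
    rw [Subgroup.commutator_le]
    intro a ha b hb
    refine ⟨?_, ?_⟩
    · rw [commutatorElement_def]
      exact X.mul_mem (X.mul_mem (X.mul_mem ha hb) (X.inv_mem ha)) (X.inv_mem hb)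
    -- `a` and `b` induce commuting automorphisms of `Q`
    have key : ∀ q ∈ Q, a * b * q * (a * b)⁻¹ = b * a * q * (b * a)⁻¹ := by
      intro q hq
      have hfix : ∀ (c : Ω), c ∈ X → ∀ z ∈ Q ⊓ T, c * z * c⁻¹ = z := fun c hc z hz => by
        rw [← (mem_centralizerIn.1 hc).2 z hz, mul_inv_cancel_right]
      have hbq := hcomm b hb q hq
      have haq := hcomm a ha q hq
      have hc : (q⁻¹ * (a * q * a⁻¹)) * (q⁻¹ * (b * q * b⁻¹)) =
          (q⁻¹ * (b * q * b⁻¹)) * (q⁻¹ * (a * q * a⁻¹)) := by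
        -- the translation of `a` centralizes `Q ⊓ T`
        have h0 : q * (q⁻¹ * (b * q * b⁻¹)) * q⁻¹ ∈ Q ⊓ T :=
          (Subgroup.mem_normalizer_iff.1 (le_normalizer_of_stronglyClosed hR (hQn.1 hq)) _).1 hbq
        have h1 := hfix a ha _ h0
        have h2 : a * (q * (q⁻¹ * (b * q * b⁻¹)) * q⁻¹) * a⁻¹ =
            q * ((q⁻¹ * (a * q * a⁻¹)) * (a * (q⁻¹ * (b * q * b⁻¹)) * a⁻¹) *
              (q⁻¹ * (a * q * a⁻¹))⁻¹) * q⁻¹ := by group
        rw [h2, hfix a ha _ hbq] at h1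
        exact mul_inv_eq_iff_eq_mul.1 (mul_left_cancel (mul_right_cancel h1))
      calc a * b * q * (a * b)⁻¹ = a * q * a⁻¹ * (a * (q⁻¹ * (b * q * b⁻¹)) * a⁻¹) := by group
        _ = q * ((q⁻¹ * (a * q * a⁻¹)) * (q⁻¹ * (b * q * b⁻¹))) := by rw [hfix a ha _ hbq]; group
        _ = q * ((q⁻¹ * (b * q * b⁻¹)) * (q⁻¹ * (a * q * a⁻¹))) := by rw [hc]
        _ = b * q * b⁻¹ * (b * (q⁻¹ * (a * q * a⁻¹)) * b⁻¹) := by rw [hfix b hb _ haq]; group
        _ = b * a * q * (b * a)⁻¹ := by group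
    refine (isCentric_core hF).2 Q (isConj_refl F hQn.1) (mem_centralizerIn.2 ⟨?_, fun q hq => ?_⟩)
    · rw [commutatorElement_def]
      exact S.mul_mem (S.mul_mem (S.mul_mem (hXS ha) (hXS hb)) (S.inv_mem (hXS ha)))
        (S.inv_mem (hXS hb))
    · have hq' : (b * a)⁻¹ * q * (b * a) ∈ Q := by
        have := (Subgroup.mem_normalizer_iff.1 (le_normalizer_of_isNormal hQn
          (S.inv_mem (S.mul_mem (hXS hb) (hXS ha)))) q).1 hq
        simpa using this
      have h1 := key _ hq'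
      rw [commutatorElement_def]
      have h2 : a * b * ((b * a)⁻¹ * q * (b * a)) * (a * b)⁻¹ = q := by rw [h1]; group
      calc q * (a * b * a⁻¹ * b⁻¹)
          = a * b * ((b * a)⁻¹ * q * (b * a)) * (a * b)⁻¹ * (a * b * a⁻¹ * b⁻¹) := by rw [h2]
        _ = a * b * a⁻¹ * b⁻¹ * q := by group
  have hXn : F.IsNormal X := by
    refine isNormal_of_chain hS hF.1 (n := 2)
      (T := fun i => if i = 0 then ⊥ else if i = 1 then X ⊓ Q else X) rfl rfl ?_ ?_
    · intro i _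
      rcases i with - | - | i
      · exact stronglyClosed_bot
      · exact stronglyClosed_inf hX hQc
      · exact hX
    · intro i hi
      rcases i with - | - | i
      · show ⁅X, X ⊓ Q⁆ ≤ ⊥
        rw [le_bot_iff, Subgroup.commutator_eq_bot_iff_le_centralizer, Subgroup.le_centralizer_iff]
        intro z hz x hx
        exact ((mem_centralizerIn.1 hx).2 z ⟨hz.2, centralizerIn_le T _ hz.1⟩).symm
      · exact hXX
      · omega
  exact le_core hXn

/-- A saturated subsystem over a strongly closed subgroup of a constrained system is constrained: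
`O_p(F) ⊓ T` is normal and centric in it. -/
theorem isNormal_isCentric_core_inf [Finite S] [Fact p.Prime] (hS : IsPGroup p S)
    (hF : F.IsConstrained p) {T : Subgroup Ω} (hT : F.StronglyClosed T) (E : FusionSystem T)
    (hE : E.IsSubsystemOf F) (hEs : E.IsSaturated p) :
    E.IsNormal (F.core ⊓ T) ∧ E.IsCentric (F.core ⊓ T) := by
  have : Finite T := finite_of_le hT.1
  have hTp : IsPGroup p T := hS.to_le hT.1
  have hsub : ∀ {A : Subgroup Ω}, F.StronglyClosed A → E.StronglyClosed (A ⊓ T) := fun {A} hA =>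
    ⟨inf_le_right, fun R hR φ hφ x =>
      ⟨hA.2 R (hR.trans inf_le_left) φ (hE R hφ) x, apply_mem hφ x⟩⟩
  obtain ⟨n, C, hC0, hCn, -, hCN, hCc⟩ := exists_chain_of_isNormal hS (isNormal_core F)
  refine ⟨isNormal_of_chain hTp hEs (n := n) (T := fun i => C i ⊓ T) ?_ ?_ ?_ ?_, ?_⟩
  · show C 0 ⊓ T = ⊥
    rw [hC0, bot_inf_eq]
  · show C n ⊓ T = _
    rw [hCn]
  · exact fun i _ => hsub (stronglyClosed_of_isNormal (hCN i))
  · intro i hi
    refine le_inf ((Subgroup.commutator_mono inf_le_left inf_le_left).trans (hCc i hi)) ?_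
    exact (Subgroup.commutator_mono inf_le_right inf_le_right).trans
      (Subgroup.commutator_le.2 fun a ha b hb => by
        rw [commutatorElement_def]
        exact T.mul_mem (T.mul_mem (T.mul_mem ha hb) (T.inv_mem ha)) (T.inv_mem hb))
  · refine ⟨inf_le_right, fun R hR => ?_⟩
    obtain ⟨φ, hφ, rfl⟩ := hR
    have h1 : φ.range = F.core ⊓ T := range_eq_of_le hφ inf_le_right
      (fun x => (hsub (stronglyClosed_of_isNormal (isNormal_core F))).2 _ le_rfl φ hφ x) le_rfl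
    rw [h1]
    exact le_inf (centralizerIn_core_inf_le hS hF hT) (centralizerIn_le T _)

theorem isConstrained_of_subsystem [Finite S] [Fact p.Prime] (hS : IsPGroup p S)
    (hF : F.IsConstrained p) {T : Subgroup Ω} (hT : F.StronglyClosed T) (E : FusionSystem T)
    (hE : E.IsSubsystemOf F) (hEs : E.IsSaturated p) : E.IsConstrained p :=
  ⟨hEs, _, isNormal_isCentric_core_inf hS hF hT E hE hEs⟩

end Cfsg.Agent.Fusion
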