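import Mathlib
import Cfsg.Agent.Lib.Coprime.OmegaOne

/-!
Automorphisms of order prime to `p` of a finite `p`-group that stabilize series, or fix the elements
of order `p` (for `p` odd).
-/

set_option autoImplicit false

namespace Cfsg.Agent.Fusion

variable {G : Type*} [Group G] {p : ℕ}

/-- If `a x = x y` with `y` fixed by `a`, of order prime to `p`, then `a` fixes `x`. -/
theorem eq_self_of_translate (hG : IsPGroup p G) {a : MulAut G} (ha : (orderOf a).Coprime p)
    {x : G} (hy : a (x⁻¹ * a x) = x⁻¹ * a x) : a x = x := by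
  set y := x⁻¹ * a x with hydef
  have hx : a x = x * y := (mul_inv_cancel_left x (a x)).symm
  have hm : ∀ m : ℕ, (a ^ m) x = x * y ^ m := by
    intro m
    induction m with
    | zero => simp
    | succ m ih =>
      rw [pow_succ', MulAut.mul_apply, ih, map_mul, map_pow, hy, hx, mul_assoc, ← pow_succ']
  have hyq : y ^ orderOf a = 1 := by
    have := hm (orderOf a)
    rw [pow_orderOf_eq_one, MulAut.one_apply] at this
    exact mul_eq_left.1 this.symm
  obtain ⟨j, hj⟩ := hG y
  have hy1 : orderOf y = 1 := Nat.eq_one_of_dvd_coprimes (Nat.Coprime.pow_right j ha)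
    (orderOf_dvd_of_pow_eq_one hyq) (orderOf_dvd_of_pow_eq_one hj)
  rw [hx, orderOf_eq_one_iff.1 hy1, mul_one]

/-- An automorphism of order prime to `p` stabilizing a series from `⊥` fixes each of its terms. -/
theorem eq_self_of_series (hG : IsPGroup p G) {a : MulAut G} (ha : (orderOf a).Coprime p)
    {T : ℕ → Subgroup G} (hT0 : T 0 = ⊥) {m : ℕ}
    (hstep : ∀ i < m, ∀ x ∈ T (i + 1), x⁻¹ * a x ∈ T i) : ∀ x ∈ T m, a x = x := by
  induction m with
  | zero =>
    intro x hx
    rw [hT0, Subgroup.mem_bot] at hx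
    rw [hx, map_one]
  | succ m ih =>
    intro x hx
    exact eq_self_of_translate hG ha
      (ih (fun i hi => hstep i (by omega)) _ (hstep m (Nat.lt_succ_self m) x hx))

/-- For `p` odd: an automorphism of order prime to `p` preserving `H` and fixing the elements of
order `p` of `H` fixes `H`. -/
theorem eq_self_of_fix_pow_eq_one [Finite G] [Fact p.Prime] (hp : p ≠ 2) (hG : IsPGroup p G)
    {a : MulAut G} (ha : (orderOf a).Coprime p) {H : Subgroup G}
    (hinv : ∀ x ∈ H, a x ∈ H) (hfix : ∀ x ∈ H, x ^ p = 1 → a x = x) : ∀ x ∈ H, a x = x := by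
  have : Finite (MulAut G) := Finite.of_injective (fun b : MulAut G => (b : G → G)) DFunLike.coe_injective
  let X : Subgroup (MulAut G) := Subgroup.zpowers a
  let L := G ⋊[X.subtype] X
  have : Finite L := Finite.of_equiv _ SemidirectProduct.equivProd.symm
  let il : G →* L := SemidirectProduct.inl
  let ir : X →* L := SemidirectProduct.inr
  have hconj : ∀ (b : X) (g : G), ir b * il g * (ir b)⁻¹ = il ((b : MulAut G) g) := fun b g => by
    rw [← map_inv]
    exact (SemidirectProduct.inl_aut (φ := X.subtype) b g).symm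
  -- every element of `X` preserves `H` and fixes its elements of order `p`
  have hX : ∀ b : X, (∀ x ∈ H, (b : MulAut G) x ∈ H) ∧
      ∀ x ∈ H, x ^ p = 1 → (b : MulAut G) x = x := by
    rintro ⟨b, hb⟩
    obtain ⟨k, rfl⟩ := (isOfFinOrder_of_finite a).mem_powers_iff_mem_zpowers.2 hb
    simp only
    induction k with
    | zero => simp
    | succ k ih =>
      have ih' := ih (Subgroup.pow_mem _ (Subgroup.mem_zpowers a) k)
      simp only [pow_succ', MulAut.mul_apply]
      exact ⟨fun x hx => hinv _ (ih'.1 x hx), fun x hx hxp => by rw [ih'.2 x hx hxp, hfix x hx hxp]⟩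
  intro x hx
  have hA : ir.range ≤ Subgroup.normalizer ((H.map il : Subgroup L) : Set L) := by
    rintro _ ⟨b, rfl⟩
    refine Subgroup.mem_normalizer_iff.2 fun y => ⟨?_, ?_⟩
    · rintro ⟨g, hg, rfl⟩
      exact ⟨_, (hX b).1 g hg, (hconj b g).symm⟩
    · rintro ⟨g, hg, hgy⟩
      refine ⟨_, (hX b⁻¹).1 g hg, ?_⟩
      rw [← hconj, map_inv, inv_inv, hgy]
      group
  have hcop : (Nat.card ir.range).Coprime p := by
    rw [← Nat.card_congr (MonoidHom.ofInjective SemidirectProduct.inr_injective).toEquiv,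
      Nat.card_zpowers]
    exact ha
  have h := Coprime.le_centralizer_of_fix_pow_eq_one hp (H.map il) ir.range
    ((hG.to_subgroup H).map il) hA hcop (by
      rintro _ ⟨g, hg, rfl⟩ hgp
      rintro _ ⟨b, rfl⟩
      rw [← map_pow, ← map_one il] at hgp
      refine Subgroup.mem_centralizer_singleton_iff.2 ?_
      have h1 := hconj b g
      rw [(hX b).2 g hg (SemidirectProduct.inl_injective hgp)] at h1
      exact mul_inv_eq_iff_eq_mul.1 h1)
  have h1 := Subgroup.mem_centralizer_iff.1 (h ⟨⟨a, Subgroup.mem_zpowers a⟩, rfl⟩) (il x) ⟨x, hx, rfl⟩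
  have h2 := hconj ⟨a, Subgroup.mem_zpowers a⟩ x
  rw [← h1, mul_inv_cancel_right] at h2
  exact (SemidirectProduct.inl_injective h2).symm

end Cfsg.Agent.Fusion
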