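import Cfsg.Agent.Lib.Fusion.Factor
import Cfsg.Agent.Lib.Fusion.Nilpotent
import Cfsg.Agent.Lib.Fusion.Stabilizer
import Cfsg.Agent.Lib.Fusion.KNormalizer
import Cfsg.Agent.Lib.Fusion.Model
import Cfsg.Agent.Lib.Fusion.ModelFacts
import Cfsg.Agent.Lib.Fusion.Constrained
import Cfsg.Agent.Lib.Fusion.Alperin
import Cfsg.Agent.Lib.Transfer.Frobenius
import Cfsg.Agent.Lib.PCore.Basic

/-!
Transfer of normal `p`-complement criteria to saturated fusion systems: if a characteristic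
functor detects `p`-nilpotence in finite groups, it detects it in saturated fusion systems.
-/

set_option autoImplicit false
set_option linter.unusedSectionVars false

namespace Cfsg.Agent.Fusion.Nilpotence

open Cfsg Cfsg.FusionSystem

universe u

variable {Ω : Type u} [Group Ω] {S : Subgroup Ω} {p : ℕ} {F : FusionSystem S}

/-- Some automorphism in the system of order prime to `p`, not trivial, of a subgroup between `W`
and `N_S(W)` leaves `W` invariant. -/
def Bad (F : FusionSystem S) (p : ℕ) (W : Subgroup Ω) : Prop :=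
  ∃ R : Subgroup Ω, R ≤ S ∧ W ≤ R ∧ R ≤ Subgroup.normalizer (W : Set Ω) ∧
    ∃ α ∈ F.autGroup R, (∀ x : R, (x : Ω) ∈ W → ((α x : R) : Ω) ∈ W) ∧ α ≠ 1 ∧
      (orderOf α).Coprime p

theorem exists_pow_coprime [Fact p.Prime] {X : Type*} [Group X] [Finite X] (a : X) :
    ∃ k, (orderOf (a ^ p ^ k)).Coprime p := by
  refine ⟨(orderOf a).factorization p, ?_⟩
  rw [orderOf_pow_of_dvd (pow_ne_zero _ (Fact.out : p.Prime).ne_zero) (Nat.ordProj_dvd _ p)]
  exact (Nat.coprime_ordCompl (Fact.out : p.Prime) (orderOf_pos a).ne').symm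

theorem pow_ne_one_of_coprime {X : Type*} [Group X] {a : X} (ha : a ≠ 1) (k : ℕ)
    (h : (orderOf a).Coprime p) : a ^ p ^ k ≠ 1 := fun he =>
  ha (orderOf_eq_one_iff.1 (Nat.eq_one_of_dvd_coprimes (h.pow_right k) dvd_rfl
    (orderOf_dvd_of_pow_eq_one he)))

theorem bad_bot_iff : Bad F p ⊥ ↔ ∃ R : Subgroup Ω, R ≤ S ∧
    ∃ α ∈ F.autGroup R, α ≠ 1 ∧ (orderOf α).Coprime p := by
  constructor
  · rintro ⟨R, hR, -, -, α, hα, -, h⟩
    exact ⟨R, hR, α, hα, h⟩
  · rintro ⟨R, hR, α, hα, h⟩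
    refine ⟨R, hR, bot_le, fun g _ => ?_, α, hα, fun x hx => ?_, h⟩
    · refine Subgroup.mem_normalizer_iff.2 fun y => ?_
      rw [Subgroup.mem_bot, Subgroup.mem_bot, mul_inv_eq_one, mul_eq_left]
    · rw [Subgroup.mem_bot] at hx
      rw [show x = 1 from Subtype.ext hx, map_one]
      exact Subgroup.mem_bot.2 rfl

theorem bad_bot_of_bad {W : Subgroup Ω} (h : Bad F p W) : Bad F p ⊥ := by
  obtain ⟨R, hR, -, -, α, hα, -, h⟩ := h
  exact bad_bot_iff.2 ⟨R, hR, α, hα, h⟩

/-- A witness for `⊥` is a witness for its own source. -/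
theorem exists_bad_ne_bot (h : Bad F p ⊥) : ∃ W, W ≤ S ∧ W ≠ ⊥ ∧ Bad F p W := by
  obtain ⟨R, hR, α, hα, hne, hco⟩ := bad_bot_iff.1 h
  refine ⟨R, hR, ?_, R, hR, le_rfl, Subgroup.le_normalizer, α, hα, fun x _ => (α x).2, hne, hco⟩
  rintro rfl
  exact hne (MulEquiv.ext fun x => Subtype.ext ((Subgroup.mem_bot.1 (α x).2).trans
    (Subgroup.mem_bot.1 x.2).symm))

variable [Finite S] [Fact p.Prime]

theorem finite_le_set (S : Subgroup Ω) [Finite S] : {Q : Subgroup Ω | Q ≤ S}.Finite := by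
  have : Finite (Subgroup ↥S) := Finite.of_injective _ SetLike.coe_injective
  refine (Set.finite_range fun Q : Subgroup ↥S => Q.map S.subtype).subset fun Q hQ =>
    ⟨Q.subgroupOf S, Subgroup.map_subgroupOf_eq_of_le hQ⟩

theorem isPGroup_of_not_bad (h : ¬ Bad F p ⊥) {R : Subgroup Ω} (hR : R ≤ S) :
    IsPGroup p (F.autGroup R) := by
  intro α
  have := finite_mulAut (Ω := Ω) hR
  obtain ⟨k, hk⟩ := exists_pow_coprime (p := p) α
  refine ⟨k, by_contra fun hne => h (bad_bot_iff.2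
    ⟨R, hR, ((α ^ p ^ k : F.autGroup R) : MulAut R), SetLike.coe_mem _, ?_, ?_⟩)⟩
  · exact fun he => hne (Subtype.ext he)
  · rw [Subgroup.orderOf_coe]
    exact hk

theorem bad_of_ne_inner (hS : IsPGroup p S) (hF : F.IsSaturated p)
    (hne : ∃ P : Subgroup Ω, F.Hom P ≠ (innerFusionSystem S).Hom P) : Bad F p ⊥ := by
  obtain ⟨P, hP⟩ := hne
  by_contra h
  exact hP (hom_eq_inner_of_isPGroup hS hF (fun R hR => isPGroup_of_not_bad h hR) P)

theorem not_bad_of_inner (hS : IsPGroup p S)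
    (hF : ∀ P : Subgroup Ω, F.Hom P = (innerFusionSystem S).Hom P) : ¬ Bad F p ⊥ := by
  intro h
  obtain ⟨R, hR, α, hα, hne, hco⟩ := bad_bot_iff.1 h
  have h1 := (mem_autGroup_iff hR).1 hα
  rw [hF] at h1
  obtain ⟨_h0, g, hg, hgx⟩ := h1
  obtain ⟨k, hk⟩ := IsPGroup.iff_card.1 hS
  refine pow_ne_one_of_coprime hne k hco (MulEquiv.ext fun x => Subtype.ext ?_)
  have hiter : ∀ n : ℕ, (((α ^ n) x : R) : Ω) = g ^ n * (x : Ω) * (g ^ n)⁻¹ := by
    intro n
    induction n with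
    | zero => simp
    | succ n ih =>
      rw [pow_succ' α, MulAut.mul_apply, pow_succ' g]
      refine (hgx ((α ^ n) x)).trans ?_
      rw [ih]
      group
  rw [hiter, show g ^ p ^ k = 1 from by
    have h2 : (⟨g, hg⟩ : S) ^ p ^ k = 1 := by rw [← hk]; exact pow_card_eq_one'
    exact congrArg Subtype.val h2]
  simp

theorem bad_mono {T : Subgroup Ω} {E : FusionSystem T} (hE : E.IsSubsystemOf F) {W : Subgroup Ω}
    (h : Bad E p W) : Bad F p W := by
  obtain ⟨R, hR, hW, hN, α, hα, h⟩ := h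
  have hRS : R ≤ S := dom_le (hE R (subtype_mem E hR))
  exact ⟨R, hRS, hW, hN, α, autGroup_le_of_subsys hE hR hα, h⟩
where
  autGroup_le_of_subsys {T : Subgroup Ω} {E : FusionSystem T} (hE : E.IsSubsystemOf F)
      {R : Subgroup Ω} (hR : R ≤ T) {α : MulAut R} (hα : α ∈ E.autGroup R) : α ∈ F.autGroup R :=
    (mem_autGroup_iff (dom_le (hE R (subtype_mem E hR)))).2 (hE R ((mem_autGroup_iff hR).1 hα))

/-- Transport of a witness along a map of normalizers. -/
theorem bad_transport {W W' : Subgroup Ω} {ψ : normalizerIn S W →* Ω}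
    (hψ : ψ ∈ F.Hom (normalizerIn S W)) (hψW : (W.subgroupOf (normalizerIn S W)).map ψ = W')
    (h : Bad F p W) : Bad F p W' := by
  obtain ⟨R, hRS, hWR, hRN, α, hα, hαW, hne, hco⟩ := h
  have hR : R ≤ normalizerIn S W := le_inf hRS hRN
  have hψR := restrict_mem hψ hR
  set e := homEquiv hψR rfl
  have he : ∀ x : R, ((e x : (ψ.comp (Subgroup.inclusion hR)).range) : Ω) =
      ψ ⟨(x : Ω), hR x.2⟩ := fun x => rfl
  refine ⟨(ψ.comp (Subgroup.inclusion hR)).range, range_le hψR, ?_, ?_, MulAut.congr e α,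
    congr_mem_autGroup hψR rfl hα, ?_, fun he1 => hne ((map_eq_one_iff _
      (MulAut.congr e).injective).1 he1), ?_⟩
  · rw [← hψW]
    rintro _ ⟨x, hx, rfl⟩
    exact ⟨⟨(x : Ω), hWR hx⟩, rfl⟩
  · rintro _ ⟨r, rfl⟩
    have hinj := F.injective_of_mem hψ
    rw [← hψW, Subgroup.mem_normalizer_iff_map_conj_eq]
    have : Finite ↥((W.subgroupOf (normalizerIn S W)).map ψ) := finite_of_le (S := S) (by
      rintro _ ⟨x, -, rfl⟩
      exact apply_mem hψ x)
    refine Subgroup.eq_of_le_of_card_ge ?_ ?_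
    · rintro _ ⟨_, ⟨x, hx, rfl⟩, rfl⟩
      refine ⟨Subgroup.inclusion hR r * x * (Subgroup.inclusion hR r)⁻¹, ?_, ?_⟩
      · exact (Subgroup.mem_normalizer_iff.1 (hRN r.2) _).1 hx
      · rw [map_mul, map_mul, map_inv]
        try rfl
    · exact (card_map_conj _ _).ge
  · intro y hy
    obtain ⟨x, rfl⟩ := e.surjective y
    rw [he] at hy
    rw [← hψW] at hy ⊢
    obtain ⟨z, hz, hzx⟩ := hy
    have hxz : z = ⟨(x : Ω), hR x.2⟩ := F.injective_of_mem hψ hzx
    rw [hxz] at hz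
    have h1 : MulAut.congr e α (e x) = e (α x) := by simp [MulAut.congr]
    rw [h1, he]
    exact ⟨_, hαW x hz, rfl⟩
  · rw [(MulAut.congr e).orderOf_eq α]
    exact hco

/-- A witness for a normalizer system. -/
theorem bad_normalizerSystem {Q : Subgroup Ω} (hQ : Q ≤ S) (h : Bad F p Q) :
    Bad (normalizerSystem F Q hQ) p ⊥ := by
  obtain ⟨R, hRS, hQR, hRN, α, hα, hαQ, h⟩ := h
  have hR : R ≤ normalizerIn S Q := le_inf hRS hRN
  refine bad_bot_iff.2 ⟨R, hR, α, (mem_autGroup_iff hR).2 ?_, h⟩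
  rw [normalizerSystem_spec F Q hQ R]
  obtain ⟨hαh, -⟩ := hom_of_mem_autGroup hRS hα
  have hle : R ⊔ Q ≤ R := sup_le le_rfl hQR
  refine ⟨hαh, hR, fun x => hR (α x).2, _, restrict_mem hαh hle, fun x => rfl, ?_⟩
  rw [map_subgroupOf_eq_iff (restrict_mem hαh hle) le_sup_right]
  exact fun x hx => hαQ ⟨x, hQR hx⟩ hx

/-- `Q` is normal in its normalizer system. -/
theorem isNormal_normalizerSystem {Q : Subgroup Ω} (hQ : Q ≤ S) :
    (normalizerSystem F Q hQ).IsNormal Q := by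
  have hN : Q ≤ normalizerIn S Q := le_normalizerIn hQ
  refine ⟨hN, fun P φ hφ => ?_⟩
  rw [normalizerSystem_spec F Q hQ P] at hφ
  obtain ⟨-, hP, hφN, ψ, hψ, hψe, hψR⟩ := hφ
  refine ⟨ψ, ?_, hψe, hψR⟩
  rw [normalizerSystem_spec F Q hQ]
  have hψN : ∀ x : ↥(P ⊔ Q), ψ x ∈ normalizerIn S Q := by
    have h1 : P ⊔ Q ≤ ((normalizerIn S Q).comap ψ).map (P ⊔ Q).subtype := by
      refine sup_le (fun x hx => ⟨⟨x, Subgroup.mem_sup_left hx⟩, ?_, rfl⟩)
        fun x hx => ⟨⟨x, Subgroup.mem_sup_right hx⟩, ?_, rfl⟩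
      · show ψ _ ∈ normalizerIn S Q
        rw [show ψ ⟨x, Subgroup.mem_sup_left hx⟩ = φ ⟨x, hx⟩ from hψe ⟨x, hx⟩]
        exact hφN _
      · exact hN (hψR.le ⟨⟨x, Subgroup.mem_sup_right hx⟩, hx, rfl⟩)
    intro x
    obtain ⟨y, hy, hyx⟩ := h1 x.2
    rw [← Subtype.ext hyx]
    exact hy
  have hle : P ⊔ Q ⊔ Q ≤ P ⊔ Q := sup_le le_rfl le_sup_right
  refine ⟨hψ, sup_le hP hN, hψN, _, restrict_mem hψ hle, fun x => rfl, ?_⟩
  rw [map_subgroupOf_eq_iff (restrict_mem hψ hle) le_sup_right]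
  exact fun x hx => hψR.le ⟨⟨x, Subgroup.mem_sup_right hx⟩, hx, rfl⟩

/-- In a group with trivial `p`-core, a `p`-element commuting with all `p'`-elements is trivial. -/
theorem eq_one_of_commute {X : Type*} [Group X] [Finite X] (h : pCore p X = ⊥) {x : X}
    {k : ℕ} (hx : x ^ p ^ k = 1) (hc : ∀ y : X, (orderOf y).Coprime p → x * y = y * x) :
    x = 1 := by
  set M := Subgroup.centralizer {y : X | (orderOf y).Coprime p}
  have hxM : x ∈ M := Subgroup.mem_centralizer_iff.2 fun y hy => (hc y hy).symm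
  have hMn : M.Normal := by
    refine ⟨fun m hm g => Subgroup.mem_centralizer_iff.2 fun y hy => ?_⟩
    have hy' : (orderOf (g⁻¹ * y * g)).Coprime p := by
      rw [show g⁻¹ * y * g = MulAut.conj g⁻¹ y by simp, (MulAut.conj g⁻¹).orderOf_eq y]
      exact hy
    have h1 := Subgroup.mem_centralizer_iff.1 hm _ hy'
    calc y * (g * m * g⁻¹) = g * (g⁻¹ * y * g * m) * g⁻¹ := by group
      _ = g * m * g⁻¹ * y := by rw [h1]; group
  -- `M` is nilpotent
  have hq : IsPGroup p (M ⧸ Subgroup.center M) := by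
    intro q
    obtain ⟨m, rfl⟩ := QuotientGroup.mk'_surjective _ q
    obtain ⟨a, ha⟩ := exists_pow_coprime (p := p) m
    refine ⟨a, ?_⟩
    rw [← map_pow]
    refine (QuotientGroup.eq_one_iff _).2 (Subgroup.mem_center_iff.2 fun m' => Subtype.ext ?_)
    have h1 : (orderOf ((m ^ p ^ a : M) : X)).Coprime p := by
      rw [Subgroup.orderOf_coe]
      exact ha
    exact (Subgroup.mem_centralizer_iff.1 m'.2 _ h1).symm
  have hnil : Group.IsNilpotent M := Group.of_quotient_center_nilpotent hq.isNilpotent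
  have hxp : IsPGroup p (Subgroup.zpowers (⟨x, hxM⟩ : M)) := by
    rintro ⟨z, hz⟩
    obtain ⟨i, rfl⟩ := Subgroup.mem_zpowers_iff.1 hz
    refine ⟨k, Subtype.ext (Subtype.ext ?_)⟩
    show (x ^ i) ^ p ^ k = 1
    rw [← zpow_natCast, ← zpow_mul, mul_comm, zpow_mul, zpow_natCast, hx, one_zpow]
  obtain ⟨P, hP⟩ := hxp.exists_le_sylow
  have hPn : (P : Subgroup M).Normal :=
    P.normal_of_normalizerCondition Group.normalizerCondition_of_isNilpotent
  have hchar : (P : Subgroup M).Characteristic := P.characteristic_of_normal hPn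
  have hPX : ((P : Subgroup M).map M.subtype).Normal := inferInstance
  have hle : (P : Subgroup M).map M.subtype ≤ pCore p X := le_sSup ⟨hPX, P.2.map _⟩
  rw [h] at hle
  exact Subgroup.mem_bot.1 (hle ⟨⟨x, hxM⟩, hP (Subgroup.mem_zpowers _), rfl⟩)

/-- A witness passes to a subgroup normal in the system. -/
theorem bad_of_isNormal {Q : Subgroup Ω} (hQ : F.IsNormal Q) (h : Bad F p ⊥) : Bad F p Q := by
  obtain ⟨R, hR, α, hα, hne, hco⟩ := bad_bot_iff.1 h
  obtain ⟨hαh, hαr⟩ := hom_of_mem_autGroup hR hα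
  obtain ⟨ψ, hψ, hψe, hψQ⟩ := hQ.2 R _ hαh
  have hle : R ⊔ Q ≤ S := sup_le hR hQ.1
  have hψR : ∀ x : ↥(R ⊔ Q), ψ x ∈ R ⊔ Q := by
    have h1 : R ⊔ Q ≤ ((R ⊔ Q).comap ψ).map (R ⊔ Q).subtype := by
      refine sup_le (fun x hx => ⟨⟨x, Subgroup.mem_sup_left hx⟩, ?_, rfl⟩)
        fun x hx => ⟨⟨x, Subgroup.mem_sup_right hx⟩,
          Subgroup.mem_sup_right (hψQ.le ⟨⟨x, Subgroup.mem_sup_right hx⟩, hx, rfl⟩), rfl⟩
      show ψ _ ∈ R ⊔ Q
      rw [show ψ ⟨x, Subgroup.mem_sup_left hx⟩ = (α ⟨x, hx⟩ : Ω) from hψe ⟨x, hx⟩]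
      exact Subgroup.mem_sup_left (α _).2
    intro x
    obtain ⟨y, hy, hyx⟩ := h1 x.2
    rw [← Subtype.ext hyx]
    exact hy
  have hr : ψ.range = R ⊔ Q := range_eq_of_le hψ hle hψR le_rfl
  set β := toAut hψ hr
  have := finite_mulAut (Ω := Ω) hle
  obtain ⟨k, hk⟩ := exists_pow_coprime (p := p) β
  have hiter : ∀ (n : ℕ) (x : R),
      (((β ^ n) (Subgroup.inclusion le_sup_left x) : ↥(R ⊔ Q)) : Ω) = ((α ^ n) x : R) := by
    intro n
    induction n with
    | zero => intro x; rfl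
    | succ n ih =>
      intro x
      rw [pow_succ β, pow_succ α, MulAut.mul_apply, MulAut.mul_apply, ← ih]
      refine congrArg (fun y : ↥(R ⊔ Q) => (((β ^ n) y : ↥(R ⊔ Q)) : Ω)) (Subtype.ext ?_)
      rw [coe_toAut]
      exact hψe x
  refine ⟨R ⊔ Q, hle, le_sup_right, hle.trans (le_normalizer_of_isNormal hQ), β ^ p ^ k,
    pow_mem (toAut_mem hψ hr) _, fun x hx => ?_, fun he => ?_, hk⟩
  · have hstab : ∀ (n : ℕ) (x : ↥(R ⊔ Q)), (x : Ω) ∈ Q → (((β ^ n) x : ↥(R ⊔ Q)) : Ω) ∈ Q := by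
      intro n
      induction n with
      | zero => intro x hx; exact hx
      | succ n ih =>
        intro x hx
        rw [pow_succ, MulAut.mul_apply]
        refine ih _ ?_
        rw [coe_toAut]
        exact hψQ.le ⟨x, hx, rfl⟩
    exact hstab _ x hx
  · refine pow_ne_one_of_coprime hne k hco (MulEquiv.ext fun x => Subtype.ext ?_)
    rw [← hiter, he]
    rfl

/-- A functor compatible with monomorphisms. -/
structure Functorial (p : ℕ) where
  /-- The functor. -/
  W : ∀ {Ω : Type u} [Group Ω], Subgroup Ω → Subgroup Ω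
  le : ∀ {Ω : Type u} [Group Ω] (S : Subgroup Ω), W S ≤ S
  ne_bot : ∀ {Ω : Type u} [Group Ω] (S : Subgroup Ω), Finite S → IsPGroup p S → S ≠ ⊥ → W S ≠ ⊥
  map : ∀ {Ω Ω' : Type u} [Group Ω] [Group Ω'] (S : Subgroup Ω), Finite S → IsPGroup p S →
    ∀ f : S →* Ω', Function.Injective f → W f.range = ((W S).subgroupOf S).map f

theorem Functorial.le_normalizer (Φ : Functorial.{u} p) (hS : IsPGroup p S) :
    Subgroup.normalizer (S : Set Ω) ≤ Subgroup.normalizer ((Φ.W S : Subgroup Ω) : Set Ω) := by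
  intro g hg
  have h1 := Φ.map S inferInstance hS (conjHom S g)
    fun a b hab => Subtype.ext ((MulAut.conj g).injective hab)
  rw [range_conjHom, show S.map (MulAut.conj g).toMonoidHom = S from
    Subgroup.mem_normalizer_iff_map_conj_eq.1 hg] at h1
  refine Subgroup.mem_normalizer_iff_map_conj_eq.2 (Eq.trans ?_ h1.symm)
  rw [conjHom, ← Subgroup.map_map, Subgroup.map_subgroupOf_eq_of_le (Φ.le S)]
  rfl

theorem Functorial.aut_mem (Φ : Functorial.{u} p) (hS : IsPGroup p S) (α : MulAut S) {x : S}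
    (hx : (x : Ω) ∈ Φ.W S) : ((α x : S) : Ω) ∈ Φ.W S := by
  have h1 := Φ.map S inferInstance hS (S.subtype.comp α.toMonoidHom)
    (S.subtype_injective.comp α.injective)
  rw [MonoidHom.range_comp, MonoidHom.range_eq_top.2 α.surjective, ← MonoidHom.range_eq_map,
    Subgroup.range_subtype] at h1
  exact h1.ge ⟨x, hx, rfl⟩

/-- The statement that a functor detects trivial fusion in saturated systems of order at most
`n`. -/
def Detects (Φ : Functorial.{u} p) (n : ℕ) : Prop :=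
  ∀ (Ω : Type u) (_ : Group Ω) (S : Subgroup Ω) (_ : Finite S) (F : FusionSystem S),
    Nat.card S < n → IsPGroup p S → F.IsSaturated p → Bad F p ⊥ → Bad F p (Φ.W S)

/-- A system with a normal subgroup `Q` that is maximal among the bad ones is constrained. -/
theorem centralizerIn_le (Φ : Functorial.{u} p) (hS : IsPGroup p S) (hF : F.IsSaturated p)
    (hbad : Bad F p ⊥) {Q : Subgroup Ω} (hQ : F.IsNormal Q) (hQ1 : Q ≠ ⊥)
    (hmax : ∀ Q' : Subgroup Ω, Q < Q' → Q' ≤ S → S ≤ Subgroup.normalizer (Q' : Set Ω) →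
      ¬ Bad F p Q')
    (hrec : Detects Φ (Nat.card S)) : centralizerIn S Q ≤ Q := by
  by_cases hQS : Q = S
  · rw [hQS]
    exact inf_le_left
  have hQsc := stronglyClosed_of_isNormal hQ
  have hSN := le_normalizer_of_isNormal hQ
  have : (Q.subgroupOf S).Normal :=
    Subgroup.normal_subgroupOf_iff_le_normalizer_inf.2 (by rw [inf_eq_left.2 hQ.1]; exact hSN)
  set θ := QuotientGroup.mk' (Q.subgroupOf S)
  have hker : ∀ s : S, θ s = 1 ↔ (s : Ω) ∈ Q := fun s => QuotientGroup.eq_one_iff s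
  obtain ⟨E, hE⟩ : ∃ E : FusionSystem (⊤ : Subgroup (S ⧸ Q.subgroupOf S)),
      F.IsFactorSystem Q θ E :=
    ⟨_, factorSystem_spec F hQsc θ hker (QuotientGroup.range_mk' _)⟩
  have hEsat : E.IsSaturated p := isSaturated_factorSystem hS hF hQsc hE
  have hfinQ : Finite Q := finite_of_le hQ.1
  -- the factor system has no nontrivial automorphism of order prime to `p`
  have hfac : ¬ Bad E p ⊥ := by
    intro h
    have hTp : IsPGroup p (⊤ : Subgroup (S ⧸ Q.subgroupOf S)) := (hS.to_quotient _).to_subgroup ⊤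
    have hcard : Nat.card (⊤ : Subgroup (S ⧸ Q.subgroupOf S)) < Nat.card S := by
      rw [Nat.card_congr Subgroup.topEquiv.toEquiv,
        Subgroup.card_eq_card_quotient_mul_card_subgroup (Q.subgroupOf S)]
      refine lt_mul_of_one_lt_right Nat.card_pos (Finite.one_lt_card_iff_nontrivial.2 ?_)
      refine (Subgroup.nontrivial_iff_ne_bot _).2 fun h0 => hQ1 ?_
      rw [← Subgroup.map_subgroupOf_eq_of_le hQ.1, h0, Subgroup.map_bot]
    obtain ⟨R', hR', hWR, hRN, α, hα, hαW, hne, hco⟩ :=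
      hrec _ _ _ inferInstance E hcard hTp hEsat h
    set W := Φ.W (⊤ : Subgroup (S ⧸ Q.subgroupOf S))
    have hW1 : W ≠ ⊥ := by
      refine Φ.ne_bot _ inferInstance hTp fun h0 => hQS (le_antisymm hQ.1 fun x hx => ?_)
      exact (hker ⟨x, hx⟩).1 (Subgroup.mem_bot.1 (h0.le trivial))
    obtain ⟨-, φ, hφ, hP0, hφS, hP2, hv⟩ := (hE.2.2.2 _ _).1 ((mem_autGroup_iff hR').1 hα)
    have hr : φ.range = preimageAlong θ R' := by
      rw [range_induced hQsc hE hR' hφ ⟨hP0, hφS, hP2, hv⟩, (hom_of_mem_autGroup hR' hα).2]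
    set β := toAut hφ hr
    have hβv : ∀ x : preimageAlong θ R', ((α ⟨θ ⟨x, hP0 x.2⟩, hP2 x⟩ : R') : S ⧸ Q.subgroupOf S) =
        θ ⟨β x, hP0 (β x).2⟩ := fun x => by
      refine (hv x).trans ?_
      exact congrArg θ (Subtype.ext (coe_toAut hφ hr x).symm)
    have hiter : ∀ (n : ℕ) (x : preimageAlong θ R'),
        (((α ^ n) ⟨θ ⟨x, hP0 x.2⟩, hP2 x⟩ : R') : S ⧸ Q.subgroupOf S) =
          θ ⟨(β ^ n) x, hP0 ((β ^ n) x).2⟩ := by
      intro n
      induction n with
      | zero => intro x; rfl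
      | succ n ih =>
        intro x
        rw [pow_succ α, pow_succ β, MulAut.mul_apply, MulAut.mul_apply]
        rw [show α ⟨θ ⟨x, hP0 x.2⟩, hP2 x⟩ = (⟨θ ⟨β x, hP0 (β x).2⟩, hP2 _⟩ : R') from
          Subtype.ext (hβv x)]
        exact ih (β x)
    have := finite_mulAut (Ω := Ω) (preimageAlong_le θ R')
    obtain ⟨k, hk⟩ := exists_pow_coprime (p := p) β
    set Q' := preimageAlong θ W
    refine hmax Q' (lt_of_le_of_ne (ker_le_preimage hker hQ.1 W) fun heq => hW1 ?_)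
      (preimageAlong_le θ W) (fun g hg => ?_) ?_
    · rw [eq_bot_iff]
      intro w hw
      obtain ⟨s, rfl⟩ := QuotientGroup.mk'_surjective _ w
      exact Subgroup.mem_bot.2 ((hker s).2 (heq.ge (mem_preimageAlong.2 ⟨s.2, hw⟩)))
    · refine conj_mem_preimage hg (Φ.le_normalizer hTp ?_)
      rw [Subgroup.normalizer_eq_top]
      trivial
    refine ⟨preimageAlong θ R', preimageAlong_le θ R', fun x hx => ?_, fun x hx => ?_,
      β ^ p ^ k, pow_mem (toAut_mem hφ hr) _, fun x hx => ?_, fun he => ?_, hk⟩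
    · obtain ⟨hxS, hxW⟩ := mem_preimageAlong.1 hx
      exact mem_preimageAlong.2 ⟨hxS, hWR hxW⟩
    · obtain ⟨hxS, hxR⟩ := mem_preimageAlong.1 hx
      exact conj_mem_preimage hxS (hRN hxR)
    · obtain ⟨hxS, hxW⟩ := mem_preimageAlong.1 hx
      refine mem_preimageAlong.2 ⟨hP0 ((β ^ p ^ k) x).2, ?_⟩
      rw [← hiter]
      have hstab : ∀ (n : ℕ) (y : R'), (y : S ⧸ Q.subgroupOf S) ∈ W →
          (((α ^ n) y : R') : S ⧸ Q.subgroupOf S) ∈ W := by
        intro n
        induction n with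
        | zero => intro y hy; exact hy
        | succ n ih => intro y hy; rw [pow_succ, MulAut.mul_apply]; exact ih _ (hαW y hy)
      exact hstab _ ⟨_, hP2 x⟩ hxW
    · refine pow_ne_one_of_coprime hne k hco (MulEquiv.ext fun y => Subtype.ext ?_)
      obtain ⟨y, hy⟩ := y
      obtain ⟨s, rfl⟩ := QuotientGroup.mk'_surjective _ y
      have h1 := hiter (p ^ k) ⟨s, mem_preimageAlong.2 ⟨s.2, hy⟩⟩
      rw [he] at h1
      exact h1
  -- automorphisms of order prime to `p` are trivial modulo `Q`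
  have htriv : ∀ R : Subgroup Ω, R ≤ S → ∀ α : F.autGroup R, (orderOf α).Coprime p →
      ∀ x : R, (x : Ω)⁻¹ * ((α : MulAut R) x : R) ∈ Q := by
    intro R hR α hco x
    obtain ⟨hαh, hαr⟩ := hom_of_mem_autGroup hR α.2
    set R' := imageAlong θ R with hR'
    obtain ⟨ψ, hψ, hP0, hψS, hP2, hv⟩ := exists_induced hS hF hQsc hE hαh
    have hψR : ∀ y : R', ψ y ∈ R' := by
      rintro ⟨_, s, hs, rfl⟩
      rw [hv ⟨s, hs⟩]
      exact ⟨⟨_, hψS ⟨s, hs⟩⟩, ((α : MulAut R) ⟨s, hs⟩).2, rfl⟩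
    have hψr : ψ.range = R' := range_eq_of_le hψ le_top hψR le_rfl
    set αb := toAut hψ hψr
    have hiter : ∀ (n : ℕ) (y : R),
        (((αb ^ n) ⟨θ ⟨y, hR y.2⟩, hP2 y⟩ : R') : S ⧸ Q.subgroupOf S) =
          θ ⟨((α : MulAut R) ^ n) y, hR (((α : MulAut R) ^ n) y).2⟩ := by
      intro n
      induction n with
      | zero => intro y; rfl
      | succ n ih =>
        intro y
        rw [pow_succ αb, pow_succ (α : MulAut R), MulAut.mul_apply, MulAut.mul_apply]
        rw [show αb ⟨θ ⟨y, hR y.2⟩, hP2 y⟩ =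
          (⟨θ ⟨(α : MulAut R) y, hR ((α : MulAut R) y).2⟩, hP2 _⟩ : R') from
          Subtype.ext ((coe_toAut hψ hψr _).trans (hv y))]
        exact ih _
    have hord : orderOf αb ∣ orderOf α := orderOf_dvd_of_pow_eq_one (MulEquiv.ext fun y => by
      obtain ⟨_, s, hs, rfl⟩ := y
      refine Subtype.ext ((hiter _ ⟨s, hs⟩).trans ?_)
      rw [← Subgroup.orderOf_coe α, pow_orderOf_eq_one]
      rfl)
    have hone : αb = 1 := by_contra fun hne =>
      hfac (bad_bot_iff.2 ⟨R', le_top, αb, toAut_mem hψ hψr, hne, hco.coprime_dvd_left hord⟩)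
    have h1 := hiter 1 x
    rw [pow_one, hone, pow_one] at h1
    exact (hker ((⟨x, hR x.2⟩ : S)⁻¹ * ⟨_, hR ((α : MulAut R) x).2⟩)).1 (by
      rw [map_mul, map_inv, ← h1]
      exact inv_mul_cancel _)
  set C := centralizerIn S Q with hC
  have hCS : C ≤ S := inf_le_left
  -- `C` lies in every centric radical subgroup
  have hle : ∀ R : Subgroup Ω, F.IsFullyNormalized R → F.IsCentric R → F.IsRadical p R →
      Q ⊔ C ≤ R := by
    intro R _ hc hr
    have hQR := le_of_isNormal hS hQ hc hr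
    refine sup_le hQR ?_
    by_contra hCR
    have hRS : R ≤ S := hc.1
    set H := R ⊔ C
    have hHS : H ≤ S := sup_le hRS hCS
    have hfinH : Finite H := finite_of_le hHS
    obtain ⟨g, ⟨hgH, hgN⟩, hgR⟩ := SetLike.exists_of_lt (lt_normalizerIn (hS.to_le hHS)
      (lt_of_le_of_ne le_sup_left fun h => hCR (h ▸ le_sup_right) : R < H))
    have hSC : S ≤ Subgroup.normalizer (C : Set Ω) := by
      refine le_trans (le_inf Subgroup.le_normalizer ?_) Subgroup.inf_normalizer_le_normalizer_inf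
      exact hSN.trans (normalizer_le_normalizer_centralizer Q)
    obtain ⟨r, hrR, c, hcC, rfl⟩ : ∃ r ∈ R, ∃ c ∈ C, r * c = g := by
      have h1 : g ∈ (R : Subgroup Ω) ⊔ C := hgH
      rw [← SetLike.mem_coe, Subgroup.coe_mul_of_left_le_normalizer_right R C (hRS.trans hSC)] at h1
      exact h1
    apply hgR
    refine R.mul_mem hrR ?_
    have hcN : c ∈ Subgroup.normalizer (R : Set Ω) := by
      have h1 := mul_mem (inv_mem (Subgroup.le_normalizer hrR : r ∈ Subgroup.normalizer (R : Set Ω))) hgN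
      rwa [inv_mul_cancel_left] at h1
    have hcS : c ∈ S := hCS hcC
    let b : F.autGroup R := ⟨R.normalizerMonoidHom ⟨c, hcN⟩,
      (mem_autGroup_iff hRS).2 (mem_of_conj hRS hcS fun _ => rfl)⟩
    have hfinA := finite_mulAut (Ω := Ω) hRS
    have hbQ : ∀ q : R, (q : Ω) ∈ Q → (b : MulAut R) q = q := fun q hq => Subtype.ext <| by
      show c * (q : Ω) * c⁻¹ = q
      rw [← Subgroup.mem_centralizer_iff.1 hcC.2 q hq, mul_inv_cancel_right]
    have hQinv : ∀ (γ : F.autGroup R) (q : R), (q : Ω) ∈ Q → (((γ : MulAut R) q : R) : Ω) ∈ Q :=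
      fun γ q hq => hQsc.2 Q le_rfl _ (restrict_mem (hom_of_mem_autGroup hRS γ.2).1 hQR) ⟨q, hq⟩
    -- the stabilizer of the series `1 ≤ Q ≤ R`
    let K : Subgroup (F.autGroup R) :=
      { carrier := {γ | (∀ q : R, (q : Ω) ∈ Q → (γ : MulAut R) q = q) ∧
          ∀ x : R, (x : Ω)⁻¹ * ((γ : MulAut R) x : R) ∈ Q}
        one_mem' := ⟨fun _ _ => rfl, fun x => by simp⟩
        mul_mem' := by
          rintro γ δ ⟨h1, h2⟩ ⟨h3, h4⟩
          refine ⟨fun q hq => ?_, fun x => ?_⟩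
          · rw [Subgroup.coe_mul, MulAut.mul_apply, h3 q hq, h1 q hq]
          · have h5 := Q.mul_mem (h4 x) (h2 ((δ : MulAut R) x))
            simpa [mul_assoc] using h5
        inv_mem' := by
          rintro γ ⟨h1, h2⟩
          refine ⟨fun q hq => ?_, fun x => ?_⟩
          · rw [Subgroup.coe_inv]
            nth_rw 1 [← h1 q hq]
            rw [MulAut.inv_apply_self]
          · have h3 := Q.inv_mem (h2 (((γ⁻¹ : F.autGroup R) : MulAut R) x))
            simpa [MulAut.apply_inv_self] using h3 }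
    have hKn : K.Normal := by
      refine ⟨fun γ hγ δ => ⟨fun q hq => ?_, fun x => ?_⟩⟩
      · have h1 := hγ.1 (((δ⁻¹ : F.autGroup R) : MulAut R) q) (hQinv δ⁻¹ q hq)
        simp only [Subgroup.coe_mul, MulAut.mul_apply]
        rw [h1, Subgroup.coe_inv, MulAut.apply_inv_self]
      · set y := ((δ⁻¹ : F.autGroup R) : MulAut R) x with hy
        have h1 := hQinv δ (y⁻¹ * (γ : MulAut R) y) (hγ.2 y)
        rw [map_mul, map_inv] at h1
        have h2 : (δ : MulAut R) y = x := by rw [hy, Subgroup.coe_inv, MulAut.apply_inv_self]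
        rw [h2] at h1
        simpa [MulAut.mul_apply, hy] using h1
    have hKp : IsPGroup p K := by
      intro γ
      obtain ⟨k, hk⟩ := exists_pow_coprime (p := p) γ
      refine ⟨k, Subtype.ext (Subtype.ext (MulEquiv.ext fun x => ?_))⟩
      set ε : K := γ ^ p ^ k
      refine eq_self_of_translate (hS.to_le hRS) ?_ (ε.2.1 _ (ε.2.2 x))
      rw [Subgroup.orderOf_coe, Subgroup.orderOf_coe]
      exact hk
    have hKle : K ≤ pCore p (F.autGroup R) := le_sSup ⟨hKn, hKp⟩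
    set P0 := pCore p (F.autGroup R)
    obtain ⟨k, hk⟩ := IsPGroup.iff_card.1 hS
    have hbk : b ^ p ^ k = 1 := by
      refine Subtype.ext ?_
      show R.normalizerMonoidHom ⟨c, hcN⟩ ^ p ^ k = 1
      rw [← map_pow]
      have h2 : c ^ p ^ k = 1 := by
        have h3 : (⟨c, hcS⟩ : S) ^ p ^ k = 1 := by rw [← hk]; exact pow_card_eq_one'
        exact congrArg Subtype.val h3
      rw [show (⟨c, hcN⟩ : Subgroup.normalizer (R : Set Ω)) ^ p ^ k = 1 from Subtype.ext h2,
        map_one]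
    have hb : b ∈ P0 := by
      refine (QuotientGroup.eq_one_iff b).1 (eq_one_of_commute (p := p)
        Cfsg.Agent.PCore.pCore_quotient_self_eq_bot (k := k)
        (by rw [← QuotientGroup.mk_pow, hbk]; rfl) fun y hy => ?_)
      obtain ⟨a, rfl⟩ := QuotientGroup.mk'_surjective P0 y
      obtain ⟨j, hj⟩ := exists_pow_coprime (p := p) a
      have hmem : a ^ p ^ j * b * (a ^ p ^ j)⁻¹ * b⁻¹ ∈ P0 := by
        refine hKle ⟨fun q hq => ?_, fun x => ?_⟩
        · set a' := a ^ p ^ j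
          have h1 : ((b⁻¹ : F.autGroup R) : MulAut R) q = q := by
            conv_lhs => rw [← hbQ q hq]
            rw [Subgroup.coe_inv, MulAut.inv_apply_self]
          simp only [Subgroup.coe_mul, MulAut.mul_apply]
          rw [h1, hbQ _ (hQinv a'⁻¹ q hq), Subgroup.coe_inv, MulAut.apply_inv_self]
        · set a' := a ^ p ^ j
          set z := ((b⁻¹ : F.autGroup R) : MulAut R) x
          set w := ((a'⁻¹ : F.autGroup R) : MulAut R) z
          set v := (b : MulAut R) w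
          have e1 : (v : Ω)⁻¹ * (((a' : MulAut R) v : R) : Ω) ∈ Q := htriv R hRS a' hj v
          have e2 : (((a' : MulAut R) w : R) : Ω) = z := by simp [w]
          have e3 : (((b : MulAut R) z : R) : Ω) = x := by simp [z]
          have e4 : (x : Ω)⁻¹ * (v : Ω) ∈ Q := by
            have h1 : (w : Ω)⁻¹ * (z : Ω) ∈ Q := by
              have := htriv R hRS a' hj w
              rwa [e2] at this
            have h2 := hQinv b (w⁻¹ * z) h1
            rw [map_mul, map_inv] at h2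
            have h3 := Q.inv_mem h2
            simpa [v, e3, mul_assoc] using h3
          have h4 := Q.mul_mem e4 e1
          simpa [Subgroup.coe_mul, MulAut.mul_apply, mul_assoc, v, w, z] using h4
      have hcomm : QuotientGroup.mk' P0 (a ^ p ^ j) * QuotientGroup.mk' P0 b =
          QuotientGroup.mk' P0 b * QuotientGroup.mk' P0 (a ^ p ^ j) := by
        have h1 : QuotientGroup.mk' P0 (a ^ p ^ j * b * (a ^ p ^ j)⁻¹ * b⁻¹) = 1 :=
          (QuotientGroup.eq_one_iff _).2 hmem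
        simp only [map_mul, map_inv] at h1
        rwa [mul_inv_eq_one, mul_inv_eq_iff_eq_mul] at h1
      obtain ⟨i, hi⟩ : ∃ i : ℕ, QuotientGroup.mk' P0 a = (QuotientGroup.mk' P0 (a ^ p ^ j)) ^ i := by
        obtain ⟨i, hi⟩ := exists_pow_eq_self_of_coprime (x := QuotientGroup.mk' P0 a) (n := p ^ j)
          (hy.symm.pow_left j)
        exact ⟨i, by rw [map_pow, hi]⟩
      rw [show (QuotientGroup.mk b : F.autGroup R ⧸ P0) = QuotientGroup.mk' P0 b from rfl, hi]
      exact ((Commute.pow_left hcomm i).eq).symm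
    obtain ⟨r', hr'⟩ := hr.2.le ⟨b, hb, rfl⟩
    have h3 : (r' : Ω)⁻¹ * c ∈ centralizerIn S R := by
      refine mem_centralizerIn.2 ⟨S.mul_mem (S.inv_mem (hRS r'.2)) hcS, fun x hx => ?_⟩
      have h4 : (r' : Ω) * x * (r' : Ω)⁻¹ = c * x * c⁻¹ :=
        congrArg (fun a : MulAut R => ((a ⟨x, hx⟩ : R) : Ω)) hr'
      calc x * ((r' : Ω)⁻¹ * c) = (r' : Ω)⁻¹ * ((r' : Ω) * x * (r' : Ω)⁻¹) * c := by group
        _ = (r' : Ω)⁻¹ * c * x := by rw [h4]; group
    have h5 := R.mul_mem r'.2 (hc.2 R (isConj_refl F hRS) h3)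
    rwa [mul_inv_cancel_left] at h5
  -- `Q C` is strongly closed
  have hsc : F.StronglyClosed (Q ⊔ C) := by
    refine ⟨sup_le hQ.1 hCS, fun P hP φ hφ x => ?_⟩
    obtain ⟨ψ, hψ, hψe, hψQ⟩ := hQ.2 P φ hφ
    have hx : (x : Ω) ∈ (Q : Subgroup Ω) ⊔ C := hP x.2
    rw [← SetLike.mem_coe, Subgroup.coe_mul_of_right_le_normalizer_left Q C (hCS.trans hSN)] at hx
    obtain ⟨q, hq, c, hc, hqc⟩ := hx
    have hcm : c ∈ P ⊔ Q := by
      have h1 := (P ⊔ Q).mul_mem ((P ⊔ Q).inv_mem (Subgroup.mem_sup_right hq : q ∈ P ⊔ Q))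
        (Subgroup.mem_sup_left x.2 : (x : Ω) ∈ P ⊔ Q)
      simpa [← hqc] using h1
    rw [← hψe x, show Subgroup.inclusion le_sup_left x =
      (⟨q, Subgroup.mem_sup_right hq⟩ : ↥(P ⊔ Q)) * ⟨c, hcm⟩ from Subtype.ext hqc.symm, map_mul]
    refine Subgroup.mul_mem_sup (hψQ.le ⟨_, hq, rfl⟩) (mem_centralizerIn.2 ⟨apply_mem hψ _, ?_⟩)
    intro y hy
    obtain ⟨z, hz, rfl⟩ := hψQ.ge hy
    rw [← map_mul, ← map_mul]
    exact congrArg ψ (Subtype.ext ((mem_centralizerIn.1 hc).2 _ hz))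
  have hn : F.IsNormal (Q ⊔ C) := isNormal_of_stronglyClosed hS hF hsc hle
  by_contra hCQ
  exact hmax _ (lt_of_le_of_ne le_sup_left fun h => hCQ (h ▸ le_sup_right)) hn.1
    (le_normalizer_of_isNormal hn) (bad_of_isNormal hn hbad)
where
  normalizer_le_normalizer_centralizer (Q : Subgroup Ω) :
      Subgroup.normalizer (Q : Set Ω) ≤
        Subgroup.normalizer ((Subgroup.centralizer (Q : Set Ω) : Subgroup Ω) : Set Ω) := by
    intro g hg
    rw [Subgroup.mem_normalizer_iff_map_conj_eq] at hg ⊢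
    exact (map_conj_centralizer Q g).trans
      (congrArg (fun H : Subgroup Ω => Subgroup.centralizer (H : Set Ω)) hg)

/-- A bad subgroup normal in `S` leads to a constrained subsystem with nontrivial fusion. -/
theorem exists_constrained (Φ : Functorial.{u} p) (hS : IsPGroup p S) (hF : F.IsSaturated p)
    (hrec : Detects Φ (Nat.card S)) {W : Subgroup Ω} (hW : W ≤ S)
    (hWn : S ≤ Subgroup.normalizer (W : Set Ω)) (hW1 : W ≠ ⊥) (hbad : Bad F p W) :
    ∃ E : FusionSystem S, E ≤ F ∧ E.IsConstrained p ∧ Bad E p ⊥ := by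
  obtain ⟨Q, ⟨hQS, hQn, hQ1, hQb⟩, hmax⟩ := ((finite_le_set S).subset (fun Q hQ => hQ.1) :
    {Q : Subgroup Ω | Q ≤ S ∧ S ≤ Subgroup.normalizer (Q : Set Ω) ∧ Q ≠ ⊥ ∧ Bad F p Q}.Finite).exists_maximalFor
      id _ ⟨W, hW, hWn, hW1, hbad⟩
  have hT : normalizerIn S Q = S := normalizerIn_eq_of_le hQn
  have hfn : F.IsFullyNormalized Q := ⟨hQS, fun R _ => by
    rw [hT]
    exact Subgroup.card_le_of_le inf_le_left⟩
  have hspec := normalizerSystem_spec F Q hQS
  have hN := isNormal_normalizerSystem (F := F) hQS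
  have hb := bad_normalizerSystem hQS hQb
  have hsat := normalizerSystem_saturated hS hF hfn hspec
  have hsub : (normalizerSystem F Q hQS).IsSubsystemOf F := fun P φ hφ => by
    rw [hspec] at hφ
    exact hφ.1
  have key : ∀ (T : Subgroup Ω) (E : FusionSystem T), T = S → E.IsSaturated p → E.IsNormal Q →
      Bad E p ⊥ → E.IsSubsystemOf F →
      ∃ E : FusionSystem S, E ≤ F ∧ E.IsConstrained p ∧ Bad E p ⊥ := by
    intro T E hTS hsat' hN' hb' hsub'
    subst hTS
    refine ⟨E, hsub', ⟨hsat', Q, hN', hQS, fun R hR => ?_⟩, hb'⟩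
    obtain ⟨φ, hφ, rfl⟩ := hR
    rw [show φ.range = Q from range_eq_of_le hφ hQS
      (fun x => (stronglyClosed_of_isNormal hN').2 Q le_rfl φ hφ x) le_rfl]
    refine centralizerIn_le Φ hS hsat' hb' hN' hQ1 (fun Q' hlt hQ'S hQ'n hbad' => ?_) hrec
    refine hlt.not_ge (hmax ⟨hQ'S, hQ'n, fun h0 => hQ1 (le_bot_iff.1 (h0 ▸ hlt.le)),
      bad_mono hsub' hbad'⟩ hlt.le)
  exact key _ _ hT hsat hN hb hsub

/-- The group theoretic hypothesis on the functor. -/
def Complements (Φ : Functorial.{u} p) : Prop :=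
  ∀ (G : Type u) (_ : Group G) (_ : Finite G) (P : Sylow p G),
    HasNormalPComplement p ↥(Subgroup.normalizer ((Φ.W (P : Subgroup G) : Subgroup G) : Set G)) →
      HasNormalPComplement p G

theorem pow_pullHom {G : Type u} [Group G] {ι : S →* G} (hι : F.IsRealizedBy ι)
    {R : Subgroup Ω} (hR : R ≤ S) {g : G} (α : MulAut R)
    (h : ∀ x : R, ι ⟨(α x : R), hR (α x).2⟩ = g * ι ⟨(x : Ω), hR x.2⟩ * g⁻¹) (n : ℕ) (x : R) :
    ι ⟨((α ^ n) x : R), hR ((α ^ n) x).2⟩ = g ^ n * ι ⟨(x : Ω), hR x.2⟩ * (g ^ n)⁻¹ := by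
  induction n generalizing x with
  | zero => simp
  | succ n ih =>
    simp only [pow_succ α, MulAut.mul_apply]
    rw [ih, h, pow_succ g]
    group

/-- The constrained case, from the group theorem. -/
theorem bad_of_constrained (Φ : Functorial.{u} p) (hG : Complements Φ) (hS : IsPGroup p S)
    (hF : F.IsConstrained p) (hbad : Bad F p ⊥) : Bad F p (Φ.W S) := by
  by_contra hW
  obtain ⟨hsat, Q, hQn, hQc⟩ := hF
  obtain ⟨G, hGg, ι, hM⟩ := Model.exists_model hS hsat hQn hQc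
  have hfin : Finite G := hM.1
  have hι := hM.2.1
  obtain ⟨T, hT⟩ := hM.2.2.1
  have hWr : Φ.W (T : Subgroup G) = pushSub ι (Φ.W S) := by
    rw [hT]
    exact Φ.map S inferInstance hS ι hι.1
  have hTN : (T : Subgroup G) ≤
      Subgroup.normalizer ((Φ.W (T : Subgroup G) : Subgroup G) : Set G) :=
    (Subgroup.le_normalizer).trans (Φ.le_normalizer T.2)
  have hcompl : HasNormalPComplement p G := by
    refine hG G hGg hfin T ?_
    set N := Subgroup.normalizer ((Φ.W (T : Subgroup G) : Subgroup G) : Set G)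
    refine Cfsg.Agent.Transfer.hasNormalPComplement_of_centralizer (T.subtype hTN)
      fun D hD g hg hco => ?_
    have hWT : (Φ.W (T : Subgroup G)).subgroupOf N ⊔ D ≤ ((T.subtype hTN : Sylow p N) : Subgroup N) :=
      sup_le (fun x hx => Φ.le (T : Subgroup G) hx) hD
    set WD := (Φ.W (T : Subgroup G)).subgroupOf N ⊔ D with hWD
    have hgWD : g ∈ Subgroup.normalizer (WD : Set N) := by
      rw [Subgroup.mem_normalizer_iff_map_conj_eq, hWD, Subgroup.map_sup,
        Subgroup.mem_normalizer_iff_map_conj_eq.1 hg]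
      congr 1
      refine Subgroup.mem_normalizer_iff_map_conj_eq.1 (Subgroup.mem_normalizer_iff.2 fun y => ?_)
      exact Subgroup.mem_normalizer_iff.1 g.2 (y : G)
    set R := pullSub ι (WD.map N.subtype)
    have hR : R ≤ S := pullSub_le ι _
    have hWDr : WD.map N.subtype ≤ ι.range := by
      rintro _ ⟨y, hy, rfl⟩
      exact hT.le (hWT hy)
    have hmem : ∀ x : R, (g : G) * ι ⟨x, hR x.2⟩ * (g : G)⁻¹ ∈ WD.map N.subtype := by
      rintro ⟨_, s, hs, rfl⟩
      obtain ⟨y, hy, hys⟩ := hs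
      refine ⟨g * y * g⁻¹, (Subgroup.mem_normalizer_iff.1 hgWD y).1 hy, ?_⟩
      show (g : G) * (y : G) * (g : G)⁻¹ = _
      rw [show (y : G) = ι s from hys]
      rfl
    have hφ := pullHom_mem hι hR (g : G) fun x => hWDr (hmem x)
    have hr : (pullHom hι.1 hR (g : G) fun x => hWDr (hmem x)).range = R :=
      range_eq_of_le hφ hR (fun x => ⟨⟨_, apply_mem hφ x⟩, by
        show ι _ ∈ WD.map N.subtype
        rw [apply_pullHom]
        exact hmem x, rfl⟩) le_rfl
    set α := toAut hφ hr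
    have hαv : ∀ x : R, ι ⟨(α x : R), hR (α x).2⟩ = (g : G) * ι ⟨(x : Ω), hR x.2⟩ * (g : G)⁻¹ := by
      intro x
      rw [← apply_pullHom hι.1 hR (g : G) (fun x => hWDr (hmem x)) x (apply_mem hφ x)]
      exact congrArg ι (Subtype.ext (coe_toAut hφ hr x))
    have hα : α = 1 := by
      have := finite_mulAut (Ω := Ω) hR
      by_contra hne
      refine hW ⟨R, hR, fun x hx => ?_, fun x hx => ?_, α, toAut_mem hφ hr, fun x hx => ?_, hne, ?_⟩
      · have h1 : ι ⟨x, Φ.le S hx⟩ ∈ Φ.W (T : Subgroup G) := hWr.ge ⟨⟨x, Φ.le S hx⟩, hx, rfl⟩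
        exact ⟨⟨x, Φ.le S hx⟩, ⟨⟨_, hTN (Φ.le _ h1)⟩, Subgroup.mem_sup_left h1, rfl⟩, rfl⟩
      · exact Φ.le_normalizer hS (Subgroup.le_normalizer (hR hx))
      · have h1 : ι ⟨(α x : R), hR (α x).2⟩ ∈ Φ.W (T : Subgroup G) := by
          rw [hαv]
          exact (Subgroup.mem_normalizer_iff.1 g.2 _).1 (hWr.ge ⟨⟨x, hR x.2⟩, hx, rfl⟩)
        obtain ⟨s, hs, hse⟩ := hWr.le h1
        obtain rfl : s = ⟨(α x : R), hR (α x).2⟩ := hι.1 hse
        exact hs
      · refine hco.coprime_dvd_left (orderOf_dvd_of_pow_eq_one (MulEquiv.ext fun x => Subtype.ext ?_))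
        have h1 := pow_pullHom hι hR α hαv (orderOf g) x
        rw [← Subgroup.coe_pow, pow_orderOf_eq_one, Subgroup.coe_one, one_mul, inv_one, mul_one] at h1
        exact congrArg (fun y : S => (y : Ω)) (hι.1 h1)
    rw [Subgroup.mem_centralizer_iff]
    intro d hd
    obtain ⟨s, hs⟩ := hT.le (hD hd : (d : G) ∈ (T : Subgroup G))
    have hsR : (s : Ω) ∈ R := ⟨s, ⟨d, Subgroup.mem_sup_right hd, hs.symm⟩, rfl⟩
    have h1 := hαv ⟨s, hsR⟩
    rw [hα] at h1
    apply Subtype.ext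
    show (d : G) * (g : G) = (g : G) * (d : G)
    rw [show (d : G) = ι s from hs.symm]
    exact (mul_inv_eq_iff_eq_mul.1 h1.symm).symm
  -- hence the model is a `p`-group
  obtain ⟨T', N, hNn, hNc⟩ := hcompl
  have hN1 : N = ⊥ := by
    have hQp : IsPGroup p (pushSub ι Q) := (hS.to_subgroup _).map ι
    have hco : (Nat.card N).Coprime p := by
      refine ((Fact.out : p.Prime).coprime_iff_not_dvd.2 ?_).symm
      rw [show Nat.card N = (T' : Subgroup G).index from hNc.index_eq_card.symm]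
      exact T'.not_dvd_index
    have hdisj : ∀ {A : Subgroup G}, A ≤ N → IsPGroup p A → A = ⊥ := fun hA hp =>
      Cfsg.Agent.PCore.eq_bot_of_isPGroup_of_coprime hp
        (hco.coprime_dvd_left (Subgroup.card_dvd_of_le hA))
    have hle : N ≤ pushSub ι Q := fun g hg => Model.mem_pushSub_of_centralizes hS hsat hM hQn hQc
      fun y hy => Subgroup.commute_of_normal_of_disjoint N (pushSub ι Q) hNn
        ⟨fun z hz h => Model.conj_pushSub_mem hM hQn h hz⟩
        (disjoint_iff.2 (hdisj inf_le_left (hQp.to_le inf_le_right))) g y hg hy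
    exact hdisj le_rfl (hQp.to_le hle)
  have hGp : IsPGroup p G := by
    have htop : (T' : Subgroup G) = ⊤ := by
      have := hNc.sup_eq_top
      rwa [hN1, bot_sup_eq] at this
    exact (htop ▸ T'.2 : IsPGroup p (⊤ : Subgroup G)).of_equiv Subgroup.topEquiv
  obtain ⟨R, hR, α, hα, hne, hco⟩ := bad_bot_iff.1 hbad
  obtain ⟨_h0, _h1, g, hg⟩ := (realized_hom_iff hι).1 ((mem_autGroup_iff hR).1 hα)
  obtain ⟨k, hk⟩ := hGp g
  refine pow_ne_one_of_coprime hne k hco (MulEquiv.ext fun x => Subtype.ext ?_)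
  have h1 := pow_pullHom hι hR α hg (p ^ k) x
  rw [hk, one_mul, inv_one, mul_one] at h1
  exact congrArg (fun y : S => (y : Ω)) (hι.1 h1)

/-- **Transfer to fusion systems**: the functor detects nontrivial fusion. -/
theorem detects (Φ : Functorial.{u} p) (hG : Complements Φ) (n : ℕ) : Detects Φ n := by
  induction n with
  | zero => exact fun Ω _ S _ F h => absurd h (Nat.not_lt_zero _)
  | succ n ih =>
    intro Ω _ S _ F hlt hS hF hbad
    have hrec : Detects Φ (Nat.card S) := fun Ω' i1 S' i2 F' h1 =>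
      ih Ω' i1 S' i2 F' (lt_of_lt_of_le h1 (Nat.lt_succ_iff.1 hlt))
    obtain ⟨W₀, hW₀, hW₀1, hW₀b⟩ := exists_bad_ne_bot hbad
    obtain ⟨Q, ⟨hQS, hQ1, hQb⟩, hmax⟩ := ((finite_le_set S).subset (fun Q hQ => hQ.1) :
      {Q : Subgroup Ω | Q ≤ S ∧ Q ≠ ⊥ ∧ Bad F p Q}.Finite).exists_maximalFor
        (fun Q => Nat.card (normalizerIn S Q)) _ ⟨W₀, hW₀, hW₀1, hW₀b⟩
    obtain ⟨Q₁, hconj, hQ₁n⟩ := exists_fullyNormalized F hQS
    obtain ⟨ψ, hψ, hψN, hψQ⟩ := exists_hom_fullyNormalized hS hF hQ₁n hconj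
    have hQ₁b := bad_transport hψ hψQ hQb
    have hcard : Nat.card (normalizerIn S Q) ≤ Nat.card (normalizerIn S Q₁) := by
      have : Finite ↥(normalizerIn S Q₁) := finite_of_le inf_le_left
      exact Nat.card_le_card_of_injective (fun x => (⟨ψ x, hψN x⟩ : normalizerIn S Q₁))
        fun a b hab => F.injective_of_mem hψ (congrArg Subtype.val hab)
    have hQ₁1 : Q₁ ≠ ⊥ := fun h0 => hQ1 <| by
      rw [eq_bot_iff]
      intro x hx
      have hxN : x ∈ normalizerIn S Q := le_normalizerIn hQS hx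
      have h1 : ψ ⟨x, hxN⟩ ∈ Q₁ := hψQ.le ⟨⟨x, hxN⟩, hx, rfl⟩
      rw [h0, Subgroup.mem_bot] at h1
      exact Subgroup.mem_bot.2 (congrArg Subtype.val
        (F.injective_of_mem hψ (h1.trans (map_one ψ).symm)))
    by_cases hT : normalizerIn S Q₁ = S
    · have hQ₁N : S ≤ Subgroup.normalizer (Q₁ : Set Ω) := hT.ge.trans inf_le_right
      obtain ⟨E, hEF, hEc, hEb⟩ := exists_constrained Φ hS hF hrec hQ₁n.1 hQ₁N hQ₁1 hQ₁b
      exact bad_mono hEF (bad_of_constrained Φ hG hS hEc hEb)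
    · exfalso
      set T := normalizerIn S Q₁ with hTdef
      have hTS : T < S := lt_of_le_of_ne inf_le_left hT
      have hfinT : Finite T := finite_of_le hTS.le
      have hTp : IsPGroup p T := hS.to_le hTS.le
      have hT1 : T ≠ ⊥ := fun h0 => hQ₁1 (le_bot_iff.1 (h0 ▸ le_normalizerIn hQ₁n.1))
      have hspec := normalizerSystem_spec F Q₁ hQ₁n.1
      have hcT : Nat.card T < Nat.card S := by
        refine lt_of_le_of_ne (Subgroup.card_le_of_le hTS.le) fun h => hT ?_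
        exact Subgroup.eq_of_le_of_card_ge hTS.le h.ge
      have hb := hrec Ω _ T hfinT (normalizerSystem F Q₁ hQ₁n.1) hcT hTp
        (normalizerSystem_saturated hS hF hQ₁n hspec) (bad_normalizerSystem hQ₁n.1 hQ₁b)
      have hWb : Bad F p (Φ.W T) := bad_mono (fun P φ hφ => by rw [hspec] at hφ; exact hφ.1) hb
      have hlt' : T < normalizerIn S (Φ.W T) := by
        refine lt_of_lt_of_le (lt_normalizerIn hS hTS) (le_inf inf_le_left ?_)
        exact inf_le_right.trans (Φ.le_normalizer hTp)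
      have hgt : Nat.card T < Nat.card (normalizerIn S (Φ.W T)) := by
        have : Finite ↥(normalizerIn S (Φ.W T)) := finite_of_le inf_le_left
        refine lt_of_le_of_ne (Subgroup.card_le_of_le hlt'.le) fun h => hlt'.ne ?_
        exact Subgroup.eq_of_le_of_card_ge hlt'.le h.ge
      have h2 : Nat.card (normalizerIn S Q) ≤ Nat.card (normalizerIn S (Φ.W T)) := by omega
      have h3 : Nat.card (normalizerIn S (Φ.W T)) ≤ Nat.card (normalizerIn S Q) :=
        hmax ⟨(Φ.le T).trans hTS.le, Φ.ne_bot T hfinT hTp hT1, hWb⟩ h2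
      omega

theorem bad_W (Φ : Functorial.{u} p) (hG : Complements Φ) (hS : IsPGroup p S)
    (hF : F.IsSaturated p) (hbad : Bad F p ⊥) : Bad F p (Φ.W S) :=
  detects Φ hG (Nat.card S + 1) Ω _ S inferInstance F (Nat.lt_succ_self _) hS hF hbad

end Cfsg.Agent.Fusion.Nilpotence
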