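import Cfsg.Agent.Lib.Fusion.InnerType
import Cfsg.Agent.Lib.Fusion.CriterionAux
import Cfsg.Agent.Lib.Fusion.KNormalizer
import Cfsg.Agent.Lib.Fusion.Model
import Cfsg.Agent.Lib.Fusion.Nilpotence
import Cfsg.Agent.Lib.Fusion.ModelFacts
import Cfsg.Agent.Lib.Coprime.Commutator
import Cfsg.Agent.Lib.PGroup.Frattini
import Cfsg.Agent.Lib.PGroup.Basic
import Cfsg.Agent.Lib.PComplement.SFour
import Cfsg.Prelude.Def_FusionReduction

/-!
A finite group with a self-centralizing normal 2-subgroup that involves `Sym(3)` involves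
`Sym(4)`. Hence a saturated 2-fusion system that is `Sym(4)`-free has no automorphism group
involving `Sym(3)`.
-/

set_option autoImplicit false

universe u

namespace Cfsg.Agent.Fusion

open Cfsg Cfsg.FusionSystem

section Group

variable {G : Type u} [Group G] [Finite G]

theorem mem_normalizer_of_conj_mem {M : Subgroup G} {g : G}
    (h : ∀ m ∈ M, g * m * g⁻¹ ∈ M) : g ∈ Subgroup.normalizer (M : Set G) := by
  refine Subgroup.mem_normalizer_iff.2 fun m => ⟨h m, fun hm => ?_⟩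
  have hf : Function.Injective (fun x : M => (⟨g * x * g⁻¹, h x x.2⟩ : M)) := fun a b hab =>
    Subtype.ext (mul_left_cancel (mul_right_cancel (congrArg Subtype.val hab)))
  obtain ⟨x, hx⟩ := (Finite.injective_iff_surjective.1 hf) ⟨g * m * g⁻¹, hm⟩
  have := congrArg Subtype.val hx
  exact (mul_left_cancel (mul_right_cancel this) : (x : G) = m) ▸ x.2

/-- An element of order 3 and a 2-element inverting it, from an `Sym(3)`-section. -/
theorem exists_inverted_of_involves (h : Involves (Equiv.Perm (Fin 3)) G) :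
    ∃ y s : G, orderOf y = 3 ∧ (∃ k : ℕ, s ^ 2 ^ k = 1) ∧ s * y * s⁻¹ = y⁻¹ := by
  classical
  obtain ⟨K, φ, hφ⟩ := PComplement.involves_iff.1 h
  let sg : K →* ℤˣ := Equiv.Perm.sign.comp φ
  set L := sg.ker with hL
  have : Fact (Nat.Prime 3) := ⟨Nat.prime_three⟩
  let T : Sylow 3 L := default
  have htop := Sylow.normalizer_sup_eq_top T
  -- an element of the normalizer of the Sylow subgroup with odd image
  obtain ⟨t, ht, htsg⟩ : ∃ t ∈ Subgroup.normalizer ((T : Subgroup L).map L.subtype : Set K),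
      sg t ≠ 1 := by
    by_contra hne
    push Not at hne
    have hle : Subgroup.normalizer ((T : Subgroup L).map L.subtype : Set K) ≤ L := fun x hx =>
      hne x hx
    rw [sup_eq_right.2 hle] at htop
    obtain ⟨k, hk⟩ := hφ (Equiv.swap 0 1)
    have hk1 : sg k = 1 := (htop.ge (Subgroup.mem_top k) : k ∈ L)
    change Equiv.Perm.sign (φ k) = 1 at hk1
    rw [hk, Equiv.Perm.sign_swap (by decide)] at hk1
    exact absurd hk1 (by decide)
  -- its 2-part
  set n := orderOf t with hn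
  set m := n / 2 ^ n.factorization 2 with hm
  have hodd : ¬ 2 ∣ m := Nat.not_dvd_ordCompl Nat.prime_two (orderOf_pos t).ne'
  set s0 : K := t ^ m with hs0
  have hs02 : s0 ^ 2 ^ n.factorization 2 = 1 := by
    rw [hs0, ← pow_mul, mul_comm, Nat.ordProj_mul_ordCompl_eq_self, hn, pow_orderOf_eq_one]
  have hs0N : s0 ∈ Subgroup.normalizer ((T : Subgroup L).map L.subtype : Set K) :=
    Subgroup.pow_mem _ ht m
  have hs0sg : Equiv.Perm.sign (φ s0) = -1 := by
    show sg s0 = -1
    rw [hs0, map_pow, (Int.units_eq_one_or (sg t)).resolve_left htsg]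
    exact Odd.neg_one_pow (Nat.odd_iff.2 (by omega))
  -- an element of the Sylow subgroup with nontrivial image
  obtain ⟨x, hx, hxne⟩ : ∃ x : L, x ∈ (T : Subgroup L) ∧ φ x ≠ 1 := by
    by_contra hne
    push Not at hne
    let f : L →* Equiv.Perm (Fin 3) := φ.comp L.subtype
    have hle : (T : Subgroup L) ≤ f.ker := fun x hx => hne x hx
    obtain ⟨k, hk⟩ := hφ (Equiv.swap 0 1 * Equiv.swap 1 2)
    have hkL : k ∈ L := by
      show Equiv.Perm.sign (φ k) = 1
      rw [hk]
      decide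
    have hmem : f ⟨k, hkL⟩ ∈ f.range := ⟨_, rfl⟩
    have hdvd : 3 ∣ Nat.card f.range := by
      have h1 := orderOf_dvd_natCard (⟨f ⟨k, hkL⟩, hmem⟩ : f.range)
      rw [← Subgroup.orderOf_coe] at h1
      have h3 : orderOf (f ⟨k, hkL⟩) = 3 := by
        refine orderOf_eq_prime ?_ ?_
        · show (φ k) ^ 3 = 1
          rw [hk]; decide
        · show φ k ≠ 1
          rw [hk]; decide
      rwa [h3] at h1
    rw [← Subgroup.index_ker] at hdvd
    exact T.not_dvd_index (hdvd.trans (Subgroup.index_dvd_of_le hle))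
  -- move to the group
  set P3 : Subgroup G := ((T : Subgroup L).map L.subtype).map K.subtype with hP3
  have hxP : ((x : K) : G) ∈ P3 := ⟨(x : K), ⟨x, hx, rfl⟩, rfl⟩
  have hP3p : IsPGroup 3 P3 := (T.2.map L.subtype).map K.subtype
  have hconj : ∀ z ∈ P3, ∀ j : ℕ,
      ((s0 : G) ^ j) * z * ((s0 : G) ^ j)⁻¹ ∈ P3 := by
    rintro _ ⟨z, hz, rfl⟩ j
    exact ⟨s0 ^ j * z * (s0 ^ j)⁻¹,
      (Subgroup.mem_normalizer_iff.1 (Subgroup.pow_mem _ hs0N j) z).1 hz, by simp⟩
  let Q : ℕ → Prop := fun i => ∀ z ∈ P3, (s0 : G) ^ 2 ^ i * z = z * (s0 : G) ^ 2 ^ i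
  have hQk : Q (n.factorization 2) := fun z hz => by
    rw [show (s0 : G) ^ 2 ^ n.factorization 2 = 1 by
      rw [← Subgroup.coe_pow, hs02]; rfl, one_mul, mul_one]
  have hQ0 : ¬ Q 0 := by
    intro hQ
    have h1 := hQ _ hxP
    rw [pow_zero, pow_one, ← Subgroup.coe_mul, ← Subgroup.coe_mul] at h1
    have h2 := congrArg φ (Subtype.ext h1 : s0 * (x : K) = (x : K) * s0)
    rw [map_mul, map_mul] at h2
    have key : ∀ a b : Equiv.Perm (Fin 3), Equiv.Perm.sign a = -1 → Equiv.Perm.sign b = 1 →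
        b ≠ 1 → a * b ≠ b * a := by decide
    exact key _ _ hs0sg x.2 hxne h2
  obtain ⟨i, hi, hi'⟩ : ∃ i, ¬ Q i ∧ Q (i + 1) := by
    by_contra hne
    push Not at hne
    have : ∀ i, ¬ Q i := fun i => by
      induction i with
      | zero => exact hQ0
      | succ i ih => exact hne i ih
    exact this _ hQk
  set s : G := (s0 : G) ^ 2 ^ i with hs
  obtain ⟨w, hw, hwne⟩ : ∃ w ∈ P3, s * w ≠ w * s := by
    by_contra hne
    push Not at hne
    exact hi hne
  set z := w⁻¹ * (s * w * s⁻¹) with hz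
  have hzP : z ∈ P3 := P3.mul_mem (P3.inv_mem hw) (hconj w hw _)
  have hzne : z ≠ 1 := by
    intro h1
    rw [hz, inv_mul_eq_one] at h1
    exact hwne (eq_mul_inv_iff_mul_eq.1 h1).symm
  have hss : s * s * w = w * (s * s) := by
    have := hi' w hw
    rwa [pow_succ, pow_mul, pow_two, ← hs] at this
  have hinv : s * z * s⁻¹ = z⁻¹ := by
    have h1 : s * s * w * (s⁻¹ * s⁻¹) = w := by rw [hss]; group
    calc s * z * s⁻¹ = s * w⁻¹ * s⁻¹ * (s * s * w * (s⁻¹ * s⁻¹)) := by rw [hz]; group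
      _ = s * w⁻¹ * s⁻¹ * w := by rw [h1]
      _ = z⁻¹ := by rw [hz]; group
  obtain ⟨j, hj⟩ := (IsPGroup.iff_orderOf.1 hP3p) ⟨z, hzP⟩
  rw [Subgroup.orderOf_mk] at hj
  obtain ⟨j', rfl⟩ : ∃ j', j = j' + 1 := by
    refine ⟨j - 1, (Nat.succ_pred_eq_of_pos (Nat.pos_of_ne_zero fun h0 => ?_)).symm⟩
    rw [h0, pow_zero] at hj
    exact hzne (orderOf_eq_one_iff.1 hj)
  refine ⟨z ^ 3 ^ j', s, ?_, ⟨n.factorization 2, ?_⟩, ?_⟩
  · rw [orderOf_pow, hj, Nat.gcd_eq_right (pow_dvd_pow 3 (Nat.le_succ _)), pow_succ,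
      Nat.mul_div_cancel_left _ (pow_pos (by norm_num) _)]
  · rw [hs, ← pow_mul, mul_comm, pow_mul, ← Subgroup.coe_pow, hs02]
    simp
  · rw [← conj_pow, hinv, inv_pow]

/-- The section at an elementary abelian normal 2-subgroup. -/
theorem involves_sfour_of_elementary {A : Subgroup G} [A.Normal]
    (hcomm : ∀ a ∈ A, ∀ b ∈ A, a * b = b * a) (hexp : ∀ a ∈ A, a * a = 1)
    {c u : G} (hc3 : c ^ 3 = 1) (hu : ∃ k : ℕ, u ^ 2 ^ k = 1) (huc : u * c * u⁻¹ = c⁻¹)
    (hne : ∃ a ∈ A, c * a ≠ a * c) : Involves (Equiv.Perm (Fin 4)) G := by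
  classical
  have : Fact (Nat.Prime 2) := ⟨Nat.prime_two⟩
  let f : MulAut G := MulAut.conj c
  have hf : ∀ a, f a = c * a * c⁻¹ := fun a => rfl
  have hfA : ∀ a ∈ A, f a ∈ A := fun a ha => (inferInstance : A.Normal).conj_mem a ha c
  have hc3' : c * c * c = 1 := by rw [← hc3, pow_succ, pow_two]
  have hf3 : ∀ a, f (f (f a)) = a := fun a => by
    show c * (c * (c * a * c⁻¹) * c⁻¹) * c⁻¹ = a
    calc c * (c * (c * a * c⁻¹) * c⁻¹) * c⁻¹ = c * c * c * a * (c * c * c)⁻¹ := by group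
      _ = a := by rw [hc3']; simp
  have hinv : ∀ a ∈ A, a⁻¹ = a := fun a ha => inv_eq_of_mul_eq_one_right (hexp a ha)
  have hswap : ∀ a ∈ A, ∀ b ∈ A, ∀ a' ∈ A, ∀ b' ∈ A, a * b * (a' * b') = a * a' * (b * b') :=
    fun a _ b hb a' ha' b' _ => by
      rw [mul_assoc, ← mul_assoc b, hcomm b hb a' ha', mul_assoc a', ← mul_assoc a]
  let W : Subgroup G :=
    { carrier := {v | v ∈ A ∧ v * f v * f (f v) = 1}
      one_mem' := ⟨A.one_mem, by simp⟩
      mul_mem' := fun {a b} ha hb => ⟨A.mul_mem ha.1 hb.1, by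
        rw [map_mul, map_mul, hswap a ha.1 b hb.1 _ (hfA a ha.1) _ (hfA b hb.1),
          hswap _ (A.mul_mem ha.1 (hfA a ha.1)) _ (A.mul_mem hb.1 (hfA b hb.1)) _
            (hfA _ (hfA a ha.1)) _ (hfA _ (hfA b hb.1)), ha.2, hb.2, one_mul]⟩
      inv_mem' := fun {a} ha => by
        show a⁻¹ ∈ A ∧ a⁻¹ * f a⁻¹ * f (f a⁻¹) = 1
        rw [hinv a ha.1]
        exact ha }
  have hWA : ∀ v ∈ W, v ∈ A := fun v hv => hv.1
  have hW2 : IsPGroup 2 W := fun v => ⟨1, Subtype.ext (by
    rw [pow_one, pow_two]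
    exact hexp v (hWA v v.2))⟩
  -- `W` is nontrivial
  obtain ⟨v0, hv0, hv0ne⟩ : ∃ v ∈ W, v ≠ 1 := by
    obtain ⟨a, ha, hane⟩ := hne
    refine ⟨a * f a, ⟨A.mul_mem ha (hfA a ha), ?_⟩, fun h1 => hane ?_⟩
    · rw [map_mul, map_mul, hf3]
      calc a * f a * (f a * f (f a)) * (f (f a) * a)
          = a * (f a * f a) * (f (f a) * f (f a)) * a := by group
        _ = 1 := by
          rw [hexp _ (hfA a ha), hexp _ (hfA _ (hfA a ha)), mul_one, mul_one, hexp a ha]
    · have h2 : f a = a := by rw [← inv_eq_of_mul_eq_one_right h1, hinv a ha]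
      rw [hf, mul_inv_eq_iff_eq_mul] at h2
      exact h2
  -- `u` normalizes `W`
  have hcinv : c⁻¹ = c * c := inv_eq_of_mul_eq_one_right (by rw [← mul_assoc, hc3'])
  let g : MulAut G := MulAut.conj u
  have hgA : ∀ a ∈ A, g a ∈ A := fun a ha => (inferInstance : A.Normal).conj_mem a ha u
  have hgf : ∀ a, g (f a) = f (f (g a)) := fun a => by
    show u * (c * a * c⁻¹) * u⁻¹ = c * (c * (u * a * u⁻¹) * c⁻¹) * c⁻¹
    calc u * (c * a * c⁻¹) * u⁻¹ = (u * c * u⁻¹) * (u * a * u⁻¹) * (u * c * u⁻¹)⁻¹ := by group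
      _ = (c * c) * (u * a * u⁻¹) * (c * c)⁻¹ := by rw [huc, hcinv]
      _ = _ := by group
  have hgff : ∀ a, g (f (f a)) = f (g a) := fun a => by rw [hgf, hgf, hf3]
  have huW : ∀ v ∈ W, u * v * u⁻¹ ∈ W := fun v hv => by
    refine ⟨hgA v hv.1, ?_⟩
    have h1 := congrArg g hv.2
    rw [map_mul, map_mul, map_one, hgff, hgf] at h1
    have hgv := hgA v hv.1
    show g v * f (g v) * f (f (g v)) = 1
    rw [mul_assoc, hcomm (f (g v)) (hfA _ hgv) _ (hfA _ (hfA _ hgv)), ← mul_assoc]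
    exact h1
  -- a fixed point of `u` in `W`
  have huN := mem_normalizer_of_conj_mem huW
  set P := W ⊔ Subgroup.zpowers u with hP
  have huP : IsPGroup 2 (Subgroup.zpowers u) := by
    obtain ⟨k, hk⟩ := hu
    rintro ⟨_, i, rfl⟩
    refine ⟨k, Subtype.ext ?_⟩
    rw [SubgroupClass.coe_pow, ← zpow_natCast, ← zpow_mul, mul_comm, zpow_mul, zpow_natCast, hk,
      one_zpow]
    rfl
  have hPp : IsPGroup 2 P := hW2.to_sup_of_normal_left' huP (Subgroup.zpowers_le.2 huN)
  have hWn : (W.subgroupOf P).Normal := (Subgroup.normal_subgroupOf_iff_le_normalizer le_sup_left).2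
    (sup_le Subgroup.le_normalizer (Subgroup.zpowers_le.2 huN))
  obtain ⟨w, hw, hwne, hwu⟩ : ∃ w ∈ W, w ≠ 1 ∧ u * w = w * u := by
    have hne' : W.subgroupOf P ≠ ⊥ := fun h0 => hv0ne (by
      have := h0.le (show (⟨v0, Subgroup.mem_sup_left hv0⟩ : P) ∈ W.subgroupOf P from hv0)
      exact congrArg Subtype.val (Subgroup.mem_bot.1 this))
    have h1 := PGroup.inf_center_ne_bot hPp (W.subgroupOf P) hne'
    rw [Ne, Subgroup.eq_bot_iff_forall] at h1
    push Not at h1
    obtain ⟨w, hw, hwne⟩ := h1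
    exact ⟨w, (Subgroup.mem_inf.1 hw).1, fun h => hwne (Subtype.ext h),
      congrArg Subtype.val (Subgroup.mem_center_iff.1 (Subgroup.mem_inf.1 hw).2
        ⟨u, Subgroup.mem_sup_right (Subgroup.mem_zpowers u)⟩)⟩
  -- the four-group
  set a1 := w with ha1
  set a2 := f w with ha2
  set a3 := f (f w) with ha3
  have h1A : a1 ∈ A := hWA w hw
  have h2A : a2 ∈ A := hfA _ h1A
  have h3A : a3 ∈ A := hfA _ h2A
  have hrel : a1 * a2 * a3 = 1 := hw.2
  have h12 : a1 * a2 = a3 := by rw [eq_comm, ← hinv a3 h3A]; exact inv_eq_of_mul_eq_one_left hrel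
  have h21 : a2 * a1 = a3 := by rw [hcomm a2 h2A a1 h1A, h12]
  have h13 : a1 * a3 = a2 := by rw [← h12, ← mul_assoc, hexp a1 h1A, one_mul]
  have h31 : a3 * a1 = a2 := by rw [hcomm a3 h3A a1 h1A, h13]
  have h23 : a2 * a3 = a1 := by rw [← h21, ← mul_assoc, hexp a2 h2A, one_mul]
  have h32 : a3 * a2 = a1 := by rw [hcomm a3 h3A a2 h2A, h23]
  have hne2 : a2 ≠ 1 := fun h => hwne (f.injective (by rw [← ha2, h, map_one]))
  have hne3 : a3 ≠ 1 := fun h => hne2 (f.injective (by rw [← ha3, h, map_one]))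
  have hd12 : a1 ≠ a2 := fun h => hne3 (by rw [← h12, ← h, hexp a1 h1A])
  have hd13 : a1 ≠ a3 := fun h => hne2 (by rw [← h13, ← h, hexp a1 h1A])
  have hd23 : a2 ≠ a3 := fun h => hwne (by rw [← h23, ← h, hexp a2 h2A])
  let M : Subgroup G :=
    { carrier := {1, a1, a2, a3}
      one_mem' := by simp
      mul_mem' := fun {a b} ha hb => by
        simp only [Set.mem_insert_iff, Set.mem_singleton_iff] at ha hb ⊢
        rcases ha with h | h | h | h <;> rcases hb with h' | h' | h' | h' <;> rw [h, h'] <;>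
          simp [hexp a1 h1A, hexp a2 h2A, hexp a3 h3A, h12, h21, h13, h31, h23, h32]
      inv_mem' := fun {a} ha => by
        simp only [Set.mem_insert_iff, Set.mem_singleton_iff] at ha ⊢
        rcases ha with h | h | h | h <;> rw [h] <;>
          simp [hinv a1 h1A, hinv a2 h2A, hinv a3 h3A] }
  have hMmem : ∀ m, m ∈ M ↔ m = 1 ∨ m = a1 ∨ m = a2 ∨ m = a3 := fun m => Iff.rfl
  have hcard : Nat.card M = 4 := by
    show Nat.card ({1, a1, a2, a3} : Set G) = 4
    rw [Nat.card_coe_set_eq, Set.ncard_insert_of_notMem (by simp [Ne.symm, hwne.symm, hne2.symm, hne3.symm]),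
      Set.ncard_insert_of_notMem (by simp [hd12, hd13]), Set.ncard_pair hd23]
  have hgw : g w = w := mul_inv_eq_iff_eq_mul.2 hwu
  have hg2 : g a2 = a3 := by rw [ha2, hgf, hgw]
  have hg3 : g a3 = a2 := by rw [ha3, hgff, hgw]
  refine PComplement.involves_sfour M hcard (c := c) (t := u) ?_ ?_ ?_
    ⟨w, (hMmem w).2 (Or.inr (Or.inl rfl)), hwne, hwu⟩ ?_
  · refine mem_normalizer_of_conj_mem fun m hm => (hMmem _).2 ?_
    show f m = 1 ∨ f m = a1 ∨ f m = a2 ∨ f m = a3
    rcases (hMmem m).1 hm with rfl | rfl | rfl | rfl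
    · exact Or.inl (map_one f)
    · exact Or.inr (Or.inr (Or.inl rfl))
    · exact Or.inr (Or.inr (Or.inr rfl))
    · exact Or.inr (Or.inl (hf3 w))
  · refine mem_normalizer_of_conj_mem fun m hm => (hMmem _).2 ?_
    show g m = 1 ∨ g m = a1 ∨ g m = a2 ∨ g m = a3
    rcases (hMmem m).1 hm with rfl | rfl | rfl | rfl
    · exact Or.inl (map_one g)
    · exact Or.inr (Or.inl hgw)
    · exact Or.inr (Or.inr (Or.inr hg2))
    · exact Or.inr (Or.inr (Or.inl hg3))
  · intro m hm hcm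
    have hfm : f m = m := mul_inv_eq_iff_eq_mul.2 hcm.eq
    rcases (hMmem m).1 hm with rfl | rfl | rfl | rfl
    · rfl
    · exact absurd hfm.symm hd12
    · exact absurd hfm.symm hd23
    · exact absurd ((hf3 w).symm.trans hfm) hd13
  · intro hall
    have h := hall a2 ((hMmem a2).2 (Or.inr (Or.inr (Or.inl rfl))))
    have h' : g a2 = a2 := mul_inv_eq_iff_eq_mul.2 h.eq
    exact hd23 (h'.symm.trans hg2)

/-- A group with a self-centralizing normal 2-subgroup which involves `Sym(3)` involves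
`Sym(4)`. -/
theorem involves_sfour_of_perm_three {O : Subgroup G} [O.Normal] (hO : IsPGroup 2 O)
    (hC : Subgroup.centralizer (O : Set G) ≤ O) (h : Involves (Equiv.Perm (Fin 3)) G) :
    Involves (Equiv.Perm (Fin 4)) G := by
  have : Fact (Nat.Prime 2) := ⟨Nat.prime_two⟩
  obtain ⟨y, s, hy, ⟨k, hk⟩, hsy⟩ := exists_inverted_of_involves h
  set Φ := (frattini O).map O.subtype with hΦ
  have hΦn : Φ.Normal := inferInstance
  let q := QuotientGroup.mk' Φ
  have hq : Function.Surjective q := QuotientGroup.mk'_surjective Φ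
  have hAn : (O.map q).Normal := Subgroup.Normal.map inferInstance q hq
  have hcomm : ∀ a ∈ O.map q, ∀ b ∈ O.map q, a * b = b * a := by
    rintro _ ⟨a, ha, rfl⟩ _ ⟨b, hb, rfl⟩
    rw [← map_mul, ← map_mul]
    refine QuotientGroup.eq.2 ?_
    have h1 : (b * a)⁻¹ * (a * b) ∈ Φ := by
      refine ⟨(⟨b, hb⟩ * ⟨a, ha⟩)⁻¹ * (⟨a, ha⟩ * ⟨b, hb⟩),
        PGroup.commutator_le_frattini hO ?_, rfl⟩
      have h2 := Subgroup.commutator_mem_commutator (Subgroup.mem_top (⟨a, ha⟩ : O)⁻¹)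
        (Subgroup.mem_top (⟨b, hb⟩ : O)⁻¹)
      rw [commutatorElement_def, inv_inv, inv_inv] at h2
      rw [commutator_def, mul_inv_rev]
      simpa only [mul_assoc] using h2
    simpa [mul_assoc] using Φ.inv_mem h1
  have hexp : ∀ a ∈ O.map q, a * a = 1 := by
    rintro _ ⟨a, ha, rfl⟩
    rw [← map_mul]
    refine (QuotientGroup.eq_one_iff _).2 ⟨⟨a, ha⟩ ^ 2, PGroup.pow_mem_frattini hO _, ?_⟩
    simp [pow_two]
  refine PComplement.involves_of_quotient (N := Φ) ?_
  refine involves_sfour_of_elementary (A := O.map q) hcomm hexp (c := q y) (u := q s)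
    (by rw [← map_pow, ← hy, pow_orderOf_eq_one, map_one])
    ⟨k, by rw [← map_pow, hk, map_one]⟩
    (by rw [← map_inv, ← map_inv, ← map_mul, ← map_mul, hsy]) ?_
  by_contra hne
  push Not at hne
  have hAc : Subgroup.zpowers y ≤ Subgroup.centralizer (O : Set G) := by
    refine Coprime.le_centralizer_of_frattini ?_ ?_ ?_
    · exact Subgroup.normalizer_eq_top (H := O) ▸ le_top
    · rw [Nat.card_zpowers, hy]
      obtain ⟨e, he⟩ := IsPGroup.iff_card.1 (hO.to_subgroup (frattini O))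
      rw [he]
      exact Nat.Coprime.pow_right e (by norm_num)
    · rintro _ ⟨i, rfl⟩ o ho
      rw [← hΦ, ← QuotientGroup.eq_one_iff]
      show q (y ^ i * o * (y ^ i)⁻¹ * o⁻¹) = 1
      rw [map_mul, map_mul, map_mul, map_inv, map_inv, map_zpow,
        ((show Commute (q y) (q o) from hne _ ⟨o, ho, rfl⟩).zpow_left i).eq]
      group
  obtain ⟨e, he⟩ := hO ⟨y, hC (hAc (Subgroup.mem_zpowers y))⟩
  have h3 : 3 ∣ 2 ^ e := hy ▸ orderOf_dvd_of_pow_eq_one (congrArg Subtype.val he :)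
  exact absurd (Nat.prime_three.dvd_of_dvd_pow h3) (by norm_num)

end Group

variable {Ω : Type u} [Group Ω] {S : Subgroup Ω} [Finite S] {F : FusionSystem S} {p : ℕ}
  [Fact p.Prime]

/-- For a fully normalized `Q` the subgroup `Q C_S(Q)` is centric. -/
theorem isCentric_sup_centralizerIn (hS : IsPGroup p S) (hF : F.IsSaturated p) {Q : Subgroup Ω}
    (hQ : F.IsFullyNormalized Q) : F.IsCentric (Q ⊔ centralizerIn S Q) := by
  refine ⟨sup_le hQ.1 (centralizerIn_le S Q), ?_⟩
  rintro R ⟨φ, hφ, rfl⟩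
  set φ0 := φ.comp (Subgroup.inclusion (le_sup_left : Q ≤ Q ⊔ centralizerIn S Q)) with hφ0
  have h0 : φ0 ∈ F.Hom Q := restrict_mem hφ le_sup_left
  have hconj : F.IsConj Q φ0.range := ⟨φ0, h0, rfl⟩
  have hcard := (isFullyCentralized_of_fullyNormalized hS hF hQ).2 _ hconj
  have hle0 : φ0.range ≤ φ.range := by rintro _ ⟨x, rfl⟩; exact ⟨_, rfl⟩
  set I := ((centralizerIn S Q).subgroupOf (Q ⊔ centralizerIn S Q)).map φ with hI
  have hIle : I ≤ centralizerIn S φ0.range := by
    rintro _ ⟨c, hc, rfl⟩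
    refine mem_centralizerIn.2 ⟨apply_mem hφ c, ?_⟩
    rintro _ ⟨x, rfl⟩
    rw [hφ0, MonoidHom.comp_apply, ← map_mul, ← map_mul]
    exact congrArg φ (Subtype.ext ((mem_centralizerIn.1 hc).2 _ x.2))
  have hIcard : Nat.card I = Nat.card (centralizerIn S Q) := by
    rw [hI, Subgroup.card_map_of_injective (fun a b h => F.injective_of_mem hφ h)]
    exact Nat.card_congr (Subgroup.subgroupOfEquivOfLe le_sup_right).toEquiv
  refine (centralizerIn_anti hle0).trans ?_
  rw [← eq_of_le_of_card_le (centralizerIn_le S φ0.range) hIle (hIcard.symm ▸ hcard)]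
  rintro _ ⟨c, -, rfl⟩
  exact ⟨c, rfl⟩

/-- A saturated system free of `Sym(4)` (or with odd `p`) is tame. -/
theorem isTame_of_sectionFree (hS : IsPGroup p S) (hF : F.IsSaturated p)
    (h : p ≠ 2 ∨ F.IsSectionFree p (Equiv.Perm (Fin 4))) : IsTame F p := by
  by_cases hp : p = 2
  swap
  · exact Or.inl hp
  have hfree := h.resolve_left (not_not.2 hp)
  refine Or.inr fun P hP hinv => ?_
  -- move to a fully normalized conjugate
  obtain ⟨Q, ⟨φ, hφ, hφr⟩, hQ⟩ := exists_fullyNormalized F hP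
  have hinvQ : Involves (Equiv.Perm (Fin 3)) (F.autGroup Q) := by
    refine involves_of_injective (((F.autGroup P).equivMapOfInjective
      (MulAut.congr (homEquiv hφ hφr)).toMonoidHom
      (MulAut.congr (homEquiv hφ hφr)).injective).trans
      (MulEquiv.subgroupCongr (map_autGroup hφ hφr))).toMonoidHom (MulEquiv.injective _) hinv
  -- extend to `R = Q C_S(Q)`
  have hQS := hQ.1
  set R := Q ⊔ centralizerIn S Q with hRdef
  have hQR : Q ≤ R := le_sup_left
  have hRc : F.IsCentric R := isCentric_sup_centralizerIn hS hF hQ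
  have hRS := hRc.1
  let res : stabAut F R Q →* F.autGroup Q :=
    (restrictStab F hQR).codRestrict _ (restrictStab_mem hRS hQR)
  have hres : Function.Surjective res := by
    rintro ⟨β, hβ⟩
    obtain ⟨hβm, hβr⟩ := hom_of_mem_autGroup hQS hβ
    have hRe : R ≤ extender S Q (Q.subtype.comp β.toMonoidHom) :=
      sup_le (le_extender hQS (apply_mem hβm)) (centralizerIn_le_extender _)
    obtain ⟨ψ, hψ, hψe⟩ := exists_extension (isReceptive_of_fullyNormalized hS hF hQ) hβm hβr hRe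
    have hψQ : ∀ z : Q, ψ (Subgroup.inclusion hQR z) = (β z : Ω) := fun z => hψe z z.2 (hQR z.2)
    have hψR : ∀ x : R, ψ x ∈ R := by
      refine forall_sup_mem ψ (fun z => ?_) fun c => ?_
      · rw [hψQ]
        exact hQR (β z).2
      · refine Subgroup.mem_sup_right (mem_centralizerIn.2 ⟨apply_mem hψ _, fun y hy => ?_⟩)
        obtain ⟨z, hz⟩ := β.surjective ⟨y, hy⟩
        have hy' : y = ψ (Subgroup.inclusion hQR z) := by rw [hψQ, hz]
        rw [hy', ← map_mul, ← map_mul]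
        refine congrArg ψ (Subtype.ext ?_)
        exact (mem_centralizerIn.1 c.2).2 _ z.2
    have hr := range_eq_of_le hψ hRS hψR le_rfl
    refine ⟨⟨toAut hψ hr, toAut_mem hψ hr, fun x => ?_⟩, Subtype.ext (MulEquiv.ext fun z =>
      Subtype.ext ?_)⟩
    · rw [coe_toAut]
      constructor
      · intro hx
        rw [show x = Subgroup.inclusion hQR ⟨x, hx⟩ from rfl, hψQ]
        exact (β ⟨x, hx⟩).2
      · intro hx
        obtain ⟨z, hz⟩ := β.surjective ⟨_, hx⟩
        have : Subgroup.inclusion hQR z = x :=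
          F.injective_of_mem hψ (by rw [hψQ, hz])
        exact this ▸ z.2
    · show ((toAut hψ hr (Subgroup.inclusion hQR z) : R) : Ω) = β z
      rw [coe_toAut, hψQ]
  have hinvR : Involves (Equiv.Perm (Fin 3)) (F.autGroup R) :=
    involves_of_injective (Subgroup.inclusion (stabAut_le R Q)) (Subgroup.inclusion_injective _)
      (involves_of_surjective res hres hinvQ)
  -- a fully normalized conjugate of `R` and its model
  obtain ⟨T, hconj, hT⟩ := exists_fullyNormalized F hRS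
  have hTc := isCentric_of_isConj hRc hconj
  obtain ⟨χ, hχ, hχr⟩ := hconj
  have hinvT : Involves (Equiv.Perm (Fin 3)) (F.autGroup T) := by
    refine involves_of_injective (((F.autGroup R).equivMapOfInjective
      (MulAut.congr (homEquiv hχ hχr)).toMonoidHom
      (MulAut.congr (homEquiv hχ hχr)).injective).trans
      (MulEquiv.subgroupCongr (map_autGroup hχ hχr))).toMonoidHom (MulEquiv.injective _) hinvR
  have hTS := hT.1
  have hN := normalizerSystem_spec F T hTS
  set N := normalizerSystem F T hTS with hNdef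
  have hNs := normalizerSystem_saturated hS hF hT hN
  have hTle : T ≤ normalizerIn S T := le_normalizerIn hTS
  have hNp := hS.to_le (normalizerIn_le S T)
  have := finite_of_le (Ω := Ω) (normalizerIn_le S T)
  have hTn : N.IsNormal T := Nilpotence.isNormal_normalizerSystem hTS
  have hTcN : N.IsCentric T := by
    refine ⟨hTle, fun T' hT' => ?_⟩
    obtain ⟨ψ, hψ, rfl⟩ := hT'
    have hm : ψ ∈ F.Hom T := by rw [hN] at hψ; exact hψ.1
    exact (inf_le_inf_right _ (normalizerIn_le S T)).trans (hTc.2 _ ⟨ψ, hm, rfl⟩)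
  obtain ⟨L, _, ι, hL⟩ := Model.exists_model hNp hNs hTn hTcN
  refine hfree T hT hTc N hN L ι hL ?_
  -- `L` maps onto `Aut_F(T)`
  have hfin := hL.1
  have hι := hL.2.1
  set U := pushSub ι T with hU
  have hUn : U.Normal := ⟨fun y hy g => Model.conj_pushSub_mem hL hTn g hy⟩
  let e : T ≃* U := pushEquiv hι.1 hTle
  let ρ : L →* MulAut T := (MulAut.congr e.symm).toMonoidHom.comp MulAut.conjNormal
  have hρ : ∀ g (x : T), (e (ρ g x) : L) = g * e x * g⁻¹ := by
    intro g x
    show (e (e.symm (MulAut.conjNormal g (e x))) : L) = _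
    rw [MulEquiv.apply_symm_apply]
    rfl
  have hρmem : ∀ g, ρ g ∈ F.autGroup T := by
    intro g
    refine (mem_autGroup_iff hTS).2 ?_
    have hm : T.subtype.comp (ρ g).toMonoidHom ∈ N.Hom T :=
      (realized_hom_iff hι).2 ⟨hTle, fun x => hTle (ρ g x).2, g, fun x => hρ g x⟩
    rw [hN] at hm
    exact hm.1
  have hρsurj : Function.Surjective (ρ.codRestrict _ hρmem) := by
    rintro ⟨α, hα⟩
    have hm : T.subtype.comp α.toMonoidHom ∈ N.Hom T := by
      rw [hN]
      have hmF := (mem_autGroup_iff hTS).1 hα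
      have hh := restrict_mem hmF (sup_le le_rfl le_rfl : T ⊔ T ≤ T)
      exact ⟨hmF, hTle, fun x => hTle (α x).2, _, hh, fun x => rfl,
        (map_subgroupOf_eq_iff hh le_sup_right).2 fun x hx => (α ⟨x, hx⟩).2⟩
    obtain ⟨_, _, g, hg⟩ := (realized_hom_iff hι).1 hm
    refine ⟨g, Subtype.ext (MulEquiv.ext fun x => e.injective (Subtype.ext ?_))⟩
    show (e (ρ g x) : L) = e (α x)
    rw [hρ]
    exact (hg x).symm
  subst hp
  refine involves_sfour_of_perm_three (O := U) ((hNp.to_subgroup _).map ι) (fun g hg => ?_)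
    (involves_of_surjective _ hρsurj hinvT)
  exact Model.mem_pushSub_of_centralizes hNp hNs hL hTn hTcN fun y hy =>
    (Subgroup.mem_centralizer_iff.1 hg y hy).symm

end Cfsg.Agent.Fusion
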