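import Cfsg.Agent.Lib.Fusion.ModelEmbed
import Cfsg.Agent.Lib.Fusion.SectionFreeTame

/-!
Control of the centre of a saturated fusion system by a functor on subgroups of `S`: if the
condition holds in the models at fully normalized centric subgroups, an element of `Z(S)` fixed by
`Aut_F(J S)` lies in the centre of the system.
-/

set_option autoImplicit false
set_option linter.unusedSectionVars false

namespace Cfsg.Agent.Fusion.CenterControl

open Cfsg Cfsg.FusionSystem Cfsg.Agent.Fusion Cfsg.Agent.Fusion.ModelEmbed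

universe u

variable {Ω : Type u} [Group Ω] {S : Subgroup Ω} {p : ℕ} {F : FusionSystem S}

/-- `φ` extends to a map on `P ⊔ ⟨x⟩` fixing `x`. -/
def FixExt (F : FusionSystem S) (x : Ω) (P : Subgroup Ω) (φ : P →* Ω) : Prop :=
  ∃ ψ ∈ F.Hom (P ⊔ Subgroup.zpowers x),
    (∀ y : P, ψ (Subgroup.inclusion le_sup_left y) = φ y) ∧
      ψ ⟨x, Subgroup.mem_sup_right (Subgroup.mem_zpowers x)⟩ = x

theorem FixExt.apply_eq {x : Ω} {P : Subgroup Ω} {φ : P →* Ω} (h : FixExt F x P φ) (hx : x ∈ P) :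
    φ ⟨x, hx⟩ = x := by
  obtain ⟨ψ, -, he, hf⟩ := h
  exact (he ⟨x, hx⟩).symm.trans hf

theorem map_zpowers_eq {x : Ω} {P : Subgroup Ω} (ψ : ↥(P ⊔ Subgroup.zpowers x) →* Ω)
    (hf : ψ ⟨x, Subgroup.mem_sup_right (Subgroup.mem_zpowers x)⟩ = x) :
    ∀ z : Subgroup.zpowers x, ψ (Subgroup.inclusion le_sup_right z) = z := by
  rintro ⟨_, n, rfl⟩
  show ψ ⟨x ^ n, _⟩ = x ^ n
  rw [show (⟨x ^ n, Subgroup.mem_sup_right ⟨n, rfl⟩⟩ : ↥(P ⊔ Subgroup.zpowers x)) =
    ⟨x, Subgroup.mem_sup_right (Subgroup.mem_zpowers x)⟩ ^ n from Subtype.ext (by simp),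
    map_zpow, hf]

variable [Finite S] [Fact p.Prime]

/-- `x` is central in `F` if the automorphism groups of the fully normalized centric subgroups fix
it, given that the maps with larger sources do. -/
theorem mem_center_of_step (hS : IsPGroup p S) (hF : F.IsSaturated p) {x : Ω} (hxS : x ∈ S)
    (hxc : ∀ s ∈ S, s * x = x * s)
    (hstep : ∀ R : Subgroup Ω, F.IsFullyNormalized R → F.IsCentric R →
      (∀ P : Subgroup Ω, Nat.card R < Nat.card P → ∀ ψ ∈ F.Hom P, ∀ h : x ∈ P, ψ ⟨x, h⟩ = x) →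
      ∀ α ∈ F.autGroup R, ∀ h : x ∈ R, ((α ⟨x, h⟩ : R) : Ω) = x) :
    x ∈ F.center := by
  have hxR : ∀ R : Subgroup Ω, F.IsCentric R → x ∈ R := fun R hR =>
    hR.2 R (isConj_refl F hR.1) (mem_centralizerIn.2 ⟨hxS, fun y hy => hxc y (hR.1 hy)⟩)
  have hXS : Subgroup.zpowers x ≤ S := Subgroup.zpowers_le.2 hxS
  refine le_sSup (a := Subgroup.zpowers x) ?_ (Subgroup.mem_zpowers x)
  refine ⟨hXS, fun P φ hφ => ?_⟩
  suffices h : FixExt F x P φ by
    obtain ⟨ψ, hψ, he, hf⟩ := h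
    exact ⟨ψ, hψ, he, map_zpowers_eq ψ hf⟩
  refine alperin_strong_induction (C := FixExt F x) hS hF ?_ ?_ ?_ ?_ hφ
  · intro P g hP hg
    refine ⟨conjHom _ g, F.conj_mem (sup_le hP hXS) hg, fun y => rfl, ?_⟩
    show g * x * g⁻¹ = x
    rw [hxc g hg, mul_inv_cancel_right]
  · rintro P P' φ ψ hφ hψ ⟨φ', hφ', hφe, hφx⟩ ⟨ψ', hψ', hψe, hψx⟩ h
    have hmem : ∀ y, φ' y ∈ P' ⊔ Subgroup.zpowers x :=
      forall_sup_mem φ' (fun y => Subgroup.mem_sup_left (hφe y ▸ h y))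
        fun y => Subgroup.mem_sup_right (by rw [map_zpowers_eq φ' hφx y]; exact y.2)
    refine ⟨_, F.comp_mem hφ' hψ' hmem, fun y => ?_, ?_⟩
    · show ψ' ⟨φ' _, _⟩ = ψ ⟨φ y, h y⟩
      rw [← hψe ⟨φ y, h y⟩]
      exact congrArg ψ' (Subtype.ext (hφe y))
    · exact (congrArg ψ' (Subtype.ext hφx)).trans hψx
  · rintro P φ ψ hφ ⟨φ', hφ', hφe, hφx⟩ hψ hi
    have hm : ((Subgroup.zpowers x).subgroupOf (P ⊔ Subgroup.zpowers x)).map φ' =
        Subgroup.zpowers x := by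
      ext y
      constructor
      · rintro ⟨z, hz, rfl⟩
        exact (map_zpowers_eq φ' hφx ⟨z, hz⟩).symm ▸ hz
      · intro hy
        exact ⟨⟨y, Subgroup.mem_sup_right hy⟩, hy, map_zpowers_eq φ' hφx ⟨y, hy⟩⟩
    have hr : φ'.range = φ.range ⊔ Subgroup.zpowers x := range_sup_eq hφe hm
    obtain ⟨χ, hχ, -, hχi, -⟩ := exists_inverse hφ' hr
    refine ⟨χ, hχ, ?_, ?_⟩
    · rintro ⟨_, y, rfl⟩
      rw [hi y]
      refine Eq.trans (congrArg χ (Subtype.ext ?_))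
        (hχi (Subgroup.inclusion le_sup_left y) (hr.le ⟨_, rfl⟩))
      exact (hφe y).symm
    · exact Eq.trans (congrArg χ (Subtype.ext hφx.symm))
        (hχi ⟨x, Subgroup.mem_sup_right (Subgroup.mem_zpowers x)⟩ (hr.le ⟨_, rfl⟩))
  · intro R hn hc _ hbig α hα
    have hsup : R ⊔ Subgroup.zpowers x ≤ R := sup_le le_rfl (Subgroup.zpowers_le.2 (hxR R hc))
    refine ⟨_, restrict_mem ((mem_autGroup_iff hn.1).1 hα) hsup, fun y => rfl, ?_⟩
    exact hstep R hn hc (fun Q hQ ψ hψ h => (hbig Q hQ ψ hψ).apply_eq h) α hα (hxR R hc)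

/-- The local condition at `x`: in the model of the normalizer system of a fully normalized
centric `R`, if the normalizer of the image of `J(N_S(R))` centralizes `x`, everything does. -/
def LocalCond (F : FusionSystem S) (p : ℕ) (J : Subgroup Ω → Subgroup Ω) (x : Ω) : Prop :=
  ∀ R : Subgroup Ω, F.IsFullyNormalized R → F.IsCentric R → x ∈ R →
    ∀ N : FusionSystem (normalizerIn S R), F.IsNormalizerSystem R N →
    ∀ (L : Type u) [Group L] (ι : ↥(normalizerIn S R) →* L), N.IsModel p L ι →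
    ∀ hx : x ∈ normalizerIn S R,
      (∀ g ∈ Subgroup.normalizer (pushSub ι (J (normalizerIn S R)) : Set L),
        g * ι ⟨x, hx⟩ = ι ⟨x, hx⟩ * g) →
      ∀ g : L, g * ι ⟨x, hx⟩ = ι ⟨x, hx⟩ * g

/-- Automorphisms of fully normalized centric subgroups with large normalizer fix `x`. -/
theorem autGroup_fixes (hS : IsPGroup p S) (hF : F.IsSaturated p)
    {J : Subgroup Ω → Subgroup Ω} (hJle : ∀ T ≤ S, J T ≤ T)
    (hJn : ∀ T ≤ S, normalizerIn S T ≤ Subgroup.normalizer (J T : Set Ω))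
    {x : Ω} (hxS : x ∈ S) (hxc : ∀ s ∈ S, s * x = x * s)
    (hJx : ∀ T ≤ S, x ∈ T → x ∈ J T)
    (hloc : LocalCond F p J x)
    (hbase : ∀ α ∈ F.autGroup (J S), ∀ h : x ∈ J S, ((α ⟨x, h⟩ : J S) : Ω) = x) (r : ℕ)
    (hr : ∀ P : Subgroup Ω, r < Nat.card P → ∀ ψ ∈ F.Hom P, ∀ h : x ∈ P, ψ ⟨x, h⟩ = x) :
    ∀ d : ℕ, ∀ Y : Subgroup Ω, F.IsFullyNormalized Y → F.IsCentric Y →
      (r < Nat.card (normalizerIn S Y) ∨ normalizerIn S Y = S) →
      Nat.card S ≤ Nat.card (normalizerIn S Y) + d →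
      ∀ α ∈ F.autGroup Y, ∀ h : x ∈ Y, ((α ⟨x, h⟩ : Y) : Ω) = x := by
  intro d
  induction d using Nat.strong_induction_on with
  | _ d ih =>
  intro Y hY hYc hbigY hd α hα hxY
  set T := normalizerIn S Y with hT
  have hTS : T ≤ S := normalizerIn_le S Y
  have := finite_of_le hTS
  have hTp : IsPGroup p ↥T := hS.to_le hTS
  have hYT : Y ≤ T := le_normalizerIn hY.1
  have hxT : x ∈ T := hYT hxY
  have hN := normalizerSystem_spec F Y hY.1
  obtain ⟨hsat, hnY, hcY, L, _, ι, hL⟩ := exists_model_normalizer hS hF hYc hY hN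
  obtain ⟨π, hπ, -, hπA⟩ := Model.exists_act hTp hsat hL hnY hcY
  have hαN : α ∈ (normalizerSystem F Y hY.1).autGroup Y := by
    refine (mem_autGroup_iff hYT).2 ?_
    have hm := (mem_autGroup_iff hY.1).1 hα
    refine ⟨hm, hYT, fun y => hYT (α y).2, _, restrict_mem hm (sup_le le_rfl le_rfl : Y ⊔ Y ≤ Y),
      fun y => rfl, ?_⟩
    exact (map_subgroupOf_eq_iff (restrict_mem hm _) le_sup_right).2
      fun y hy => (α ⟨y, hy⟩).2
  obtain ⟨g, rfl⟩ := (hπA α).1 hαN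
  suffices hg : g * ι ⟨x, hxT⟩ = ι ⟨x, hxT⟩ * g by
    have h1 := hπ g ⟨x, hxY⟩
    rw [hg, mul_inv_cancel_right] at h1
    exact congrArg Subtype.val (hL.2.1.1 h1)
  refine hloc Y hY hYc hxY _ hN L ι hL hxT (fun g hg => ?_) g
  -- the automorphism of `J T` induced by `g`
  have hWT : J T ≤ T := hJle T hTS
  have hWS : J T ≤ S := hWT.trans hTS
  have hmem : ∀ y : J T, g * ι ⟨(y : Ω), hWT y.2⟩ * g⁻¹ ∈ pushSub ι (J T) := fun y =>
    (Subgroup.mem_normalizer_iff.1 hg _).1 ⟨⟨(y : Ω), hWT y.2⟩, y.2, rfl⟩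
  have hmr : ∀ y : J T, g * ι ⟨(y : Ω), hWT y.2⟩ * g⁻¹ ∈ ι.range := fun y =>
    pushSub_le ι _ (hmem y)
  set φ := pullHom hL.2.1.1 hWT g hmr with hφdef
  have hφN : φ ∈ (normalizerSystem F Y hY.1).Hom (J T) := pullHom_mem hL.2.1 hWT g hmr
  have hφ : φ ∈ F.Hom (J T) := hφN.1
  have hφv : ∀ y : J T, φ y ∈ J T := by
    intro y
    have h1 := apply_pullHom hL.2.1.1 hWT g hmr y (apply_mem hφN y)
    have h2 := hmem y
    rw [← h1, apply_mem_pushSub hL.2.1.1] at h2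
    exact h2
  have hφr : φ.range = J T := range_eq_of_le hφ hWS hφv le_rfl
  have hxW : x ∈ J T := hJx T hTS hxT
  suffices hfix : φ ⟨x, hxW⟩ = x by
    have h1 := apply_pullHom hL.2.1.1 hWT g hmr ⟨x, hxW⟩ (apply_mem hφN _)
    rw [show (⟨φ ⟨x, hxW⟩, apply_mem hφN _⟩ : T) = ⟨x, hxT⟩ from Subtype.ext hfix] at h1
    calc g * ι ⟨x, hxT⟩ = g * ι ⟨x, hxT⟩ * g⁻¹ * g := by group
      _ = ι ⟨x, hxT⟩ * g := by rw [← h1]
  have hβ := toAut_mem hφ hφr
  rcases eq_or_ne T S with hTeq | hne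
  · have h0 : ∀ (W : Subgroup Ω), W = J S → ∀ β ∈ F.autGroup W, ∀ h : x ∈ W,
        ((β ⟨x, h⟩ : W) : Ω) = x := by
      rintro _ rfl
      exact hbase
    exact h0 (J T) (by rw [hTeq]) _ hβ hxW
  have hlt : T < normalizerIn S T := lt_normalizerIn hS (lt_of_le_of_ne hTS hne)
  have hbig : r < Nat.card T := hbigY.resolve_right hne
  have hle : normalizerIn S T ≤ normalizerIn S (J T) := le_inf (normalizerIn_le S T) (hJn T hTS)
  have h1 : Nat.card T < Nat.card (normalizerIn S (J T)) :=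
    (card_lt_of_lt (normalizerIn_le S T) hlt).trans_le (card_le_of_le (normalizerIn_le S _) hle)
  -- a fully normalized conjugate of `J T`
  obtain ⟨W', hWW', hW'⟩ := exists_fullyNormalized F hWS
  obtain ⟨χ, hχ, hχN, hχW⟩ := exists_hom_fullyNormalized hS hF hW' hWW'
  have hres := restrict_mem hχ (le_normalizerIn hWS)
  have hχr : (χ.comp (Subgroup.inclusion (le_normalizerIn hWS))).range = W' := by
    rw [MonoidHom.range_comp, Subgroup.inclusion_range, hχW]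
  have hβ' := congr_mem_autGroup hres hχr hβ
  set β' := MulAut.congr (homEquiv hres hχr) (toAut hφ hφr) with hβ'def
  have hxχ : χ ⟨x, le_normalizerIn hWS hxW⟩ = x := hr _ (hbig.trans h1) χ hχ _
  have hxW' : x ∈ W' := hχr ▸ ⟨⟨x, hxW⟩, hxχ⟩
  suffices hfix' : ((β' ⟨x, hxW'⟩ : W') : Ω) = x by
    have he : homEquiv hres hχr ⟨x, hxW⟩ = ⟨x, hxW'⟩ := Subtype.ext hxχ
    have hc : β' (homEquiv hres hχr ⟨x, hxW⟩) = homEquiv hres hχr (toAut hφ hφr ⟨x, hxW⟩) :=
      congr_apply _ _ _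
    rw [he, show β' ⟨x, hxW'⟩ = ⟨x, hxW'⟩ from Subtype.ext hfix', ← he] at hc
    exact (congrArg Subtype.val ((homEquiv hres hχr).injective hc)).symm
  have h2 : Nat.card T < Nat.card (normalizerIn S W') :=
    h1.trans_le (card_normalizerIn_le_of_map hχ hχN)
  -- extend to `W' C_S(W')`
  have hW'S := hW'.1
  set U := W' ⊔ centralizerIn S W' with hU
  have hUS : U ≤ S := sup_le hW'S (centralizerIn_le S W')
  have hUc : F.IsCentric U := isCentric_sup_centralizerIn hS hF hW'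
  obtain ⟨hm, hmr'⟩ := hom_of_mem_autGroup hW'S hβ'
  have hext : U ≤ extender S W' (W'.subtype.comp β'.toMonoidHom) :=
    sup_le (le_extender hW'S (apply_mem hm)) (centralizerIn_le_extender _)
  obtain ⟨ψ, hψ, hψe⟩ := exists_extension (isReceptive_of_fullyNormalized hS hF hW') hm hmr' hext
  have hψW : ∀ w : W', ψ ⟨w, Subgroup.mem_sup_left w.2⟩ = ((β' w : W') : Ω) :=
    fun w => hψe w w.2 (Subgroup.mem_sup_left w.2)
  have hψU : ∀ u : U, ψ u ∈ U := by
    refine forall_sup_mem ψ (fun w => Subgroup.mem_sup_left ?_) fun c => Subgroup.mem_sup_right ?_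
    · exact (hψW w).symm ▸ (β' w).2
    · refine mem_centralizerIn.2 ⟨apply_mem hψ _, fun y hy => ?_⟩
      obtain ⟨w, hw⟩ := β'.surjective ⟨y, hy⟩
      have hy' : y = ψ ⟨w, Subgroup.mem_sup_left w.2⟩ := by rw [hψW, hw]
      rw [hy', ← map_mul, ← map_mul]
      exact congrArg ψ (Subtype.ext ((mem_centralizerIn.1 c.2).2 _ w.2))
  have hψr := range_eq_of_le hψ hUS hψU le_rfl
  have hxU : x ∈ U := Subgroup.mem_sup_left hxW'
  rw [← hψW ⟨x, hxW'⟩]
  -- a fully normalized conjugate of `W' C_S(W')`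
  have hNU : normalizerIn S W' ≤ normalizerIn S U := by
    have hcl : ∀ s ∈ normalizerIn S W', ∀ u ∈ U, s * u * s⁻¹ ∈ U := by
      intro s hs u hu
      have hsle : U ≤ U.comap (MulAut.conj s).toMonoidHom := by
        refine sup_le (fun w hw => ?_) fun c hc => ?_
        · exact Subgroup.mem_sup_left ((Subgroup.mem_normalizer_iff.1 hs.2 w).1 hw)
        · refine Subgroup.mem_sup_right (mem_centralizerIn.2
            ⟨S.mul_mem (S.mul_mem hs.1 (mem_centralizerIn.1 hc).1) (S.inv_mem hs.1), fun w hw => ?_⟩)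
          have h3 := (mem_centralizerIn.1 hc).2 (s⁻¹ * w * s)
            ((Subgroup.mem_normalizer_iff''.1 hs.2 w).1 hw)
          show w * (s * c * s⁻¹) = s * c * s⁻¹ * w
          calc w * (s * c * s⁻¹) = s * (s⁻¹ * w * s * c) * s⁻¹ := by group
            _ = s * c * s⁻¹ * w := by rw [h3]; group
      exact hsle hu
    have := finite_of_le hUS
    exact fun s hs => ⟨hs.1, mem_normalizer_of_finite (hcl s hs)⟩
  have h3 : Nat.card T < Nat.card (normalizerIn S U) :=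
    h2.trans_le (card_le_of_le (normalizerIn_le S U) hNU)
  obtain ⟨U', hUU', hU'⟩ := exists_fullyNormalized F hUS
  obtain ⟨χ', hχ', hχN', hχU⟩ := exists_hom_fullyNormalized hS hF hU' hUU'
  have hres' := restrict_mem hχ' (le_normalizerIn hUS)
  have hχr' : (χ'.comp (Subgroup.inclusion (le_normalizerIn hUS))).range = U' := by
    rw [MonoidHom.range_comp, Subgroup.inclusion_range, hχU]
  have hxχ' : χ' ⟨x, le_normalizerIn hUS hxU⟩ = x := hr _ (hbig.trans h3) χ' hχ' _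
  have hxU' : x ∈ U' := hχr' ▸ ⟨⟨x, hxU⟩, hxχ'⟩
  have h4 : Nat.card T < Nat.card (normalizerIn S U') :=
    h3.trans_le (card_normalizerIn_le_of_map hχ' hχN')
  have h5 : Nat.card (normalizerIn S U') ≤ Nat.card S := card_le_of_le le_rfl (normalizerIn_le S _)
  have hfix'' := ih (d - (Nat.card (normalizerIn S U') - Nat.card T)) (by omega) U' hU'
    (isCentric_of_isConj hUc hUU') (Or.inl (hbig.trans h4)) (by omega) _
    (congr_mem_autGroup hres' hχr' (toAut_mem hψ hψr)) hxU'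
  have he : homEquiv hres' hχr' ⟨x, hxU⟩ = ⟨x, hxU'⟩ := Subtype.ext hxχ'
  have hc := congr_apply (homEquiv hres' hχr') (toAut hψ hψr) ⟨x, hxU⟩
  rw [he, show (MulAut.congr (homEquiv hres' hχr') (toAut hψ hψr)) ⟨x, hxU'⟩ = ⟨x, hxU'⟩ from
    Subtype.ext hfix'', ← he] at hc
  exact (congrArg Subtype.val ((homEquiv hres' hχr').injective hc)).symm

/-- An element of `Z(S)` fixed by `Aut_F(J S)` is central in `F` under the local condition. -/
theorem mem_center (hS : IsPGroup p S) (hF : F.IsSaturated p)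
    {J : Subgroup Ω → Subgroup Ω} (hJle : ∀ T ≤ S, J T ≤ T)
    (hJn : ∀ T ≤ S, normalizerIn S T ≤ Subgroup.normalizer (J T : Set Ω))
    {x : Ω} (hxS : x ∈ S) (hxc : ∀ s ∈ S, s * x = x * s)
    (hJx : ∀ T ≤ S, x ∈ T → x ∈ J T)
    (hloc : LocalCond F p J x)
    (hbase : ∀ α ∈ F.autGroup (J S), ∀ h : x ∈ J S, ((α ⟨x, h⟩ : J S) : Ω) = x) :
    x ∈ F.center := by
  refine mem_center_of_step hS hF hxS hxc fun R hn hc hbig α hα h => ?_
  refine autGroup_fixes hS hF hJle hJn hxS hxc hJx hloc hbase (Nat.card R) hbig (Nat.card S) R hn hc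
    ?_ le_add_self α hα h
  rcases eq_or_ne R S with rfl | hne
  · exact Or.inr (le_antisymm inf_le_left (le_inf le_rfl Subgroup.le_normalizer))
  · exact Or.inl (card_lt_of_lt (normalizerIn_le S R)
      (lt_normalizerIn hS (lt_of_le_of_ne hn.1 hne)))

/-! ### The centre of a normalizer system -/

variable {W : Subgroup Ω} {N : FusionSystem (normalizerIn S W)}

/-- A central element of `N_F(W)`, for `W` normal in `S` containing it, lies in `Z(S)` and is fixed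
by `Aut_F(W)`. -/
theorem fixed_of_mem_center (hWS : W ≤ S) (hn : S ≤ Subgroup.normalizer (W : Set Ω))
    (hN : F.IsNormalizerSystem W N) (hZW : S ⊓ Subgroup.centralizer (S : Set Ω) ≤ W) {x : Ω}
    (hx : x ∈ N.center) :
    x ∈ S ∧ (∀ s ∈ S, s * x = x * s) ∧
      ∀ α ∈ F.autGroup W, ∀ h : x ∈ W, ((α ⟨x, h⟩ : W) : Ω) = x := by
  let K : Subgroup W :=
    { carrier := {w | ∀ α ∈ F.autGroup W, α w = w}
      one_mem' := fun α _ => map_one α
      mul_mem' := fun ha hb α hα => by rw [map_mul, ha α hα, hb α hα]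
      inv_mem' := fun ha α hα => by rw [map_inv, ha α hα] }
  suffices hle : N.center ≤ K.map W.subtype ⊓ (S ⊓ Subgroup.centralizer (S : Set Ω)) by
    obtain ⟨⟨w, hw, rfl⟩, hxS, hxc⟩ := hle hx
    exact ⟨hxS, fun s hs => Subgroup.mem_centralizer_iff.1 hxc s hs,
      fun α hα h => congrArg Subtype.val (hw α hα)⟩
  refine sSup_le fun Q hQ y hy => ?_
  obtain ⟨hQT, hQ⟩ := hQ
  have hST : S ≤ normalizerIn S W := le_inf le_rfl hn
  have hys : ∀ s ∈ S, s * y = y * s := by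
    intro s hs
    obtain ⟨ψ, hψ, he, hf⟩ := hQ _ _ (N.conj_mem (le_refl (normalizerIn S W)) (hST hs))
    have h1 : ψ ⟨y, Subgroup.mem_sup_left (hQT hy)⟩ = s * y * s⁻¹ := he ⟨y, hQT hy⟩
    have h2 : ψ ⟨y, Subgroup.mem_sup_right hy⟩ = y := hf ⟨y, hy⟩
    calc s * y = s * y * s⁻¹ * s := by group
      _ = y * s := by rw [← h1, h2]
  have hyZ : y ∈ S ⊓ Subgroup.centralizer (S : Set Ω) :=
    ⟨normalizerIn_le S W (hQT hy), Subgroup.mem_centralizer_iff.2 fun s hs => hys s hs⟩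
  refine ⟨⟨⟨y, hZW hyZ⟩, fun α hα => ?_, rfl⟩, hyZ⟩
  have hm := (mem_autGroup_iff hWS).1 hα
  have hWT : W ≤ normalizerIn S W := le_normalizerIn hWS
  have hφN : W.subtype.comp α.toMonoidHom ∈ N.Hom W := by
    rw [hN W]
    refine ⟨hm, hWT, fun w => hWT (α w).2, _, restrict_mem hm (sup_le le_rfl le_rfl : W ⊔ W ≤ W),
      fun w => rfl, ?_⟩
    exact (map_subgroupOf_eq_iff (restrict_mem hm _) le_sup_right).2
      fun w hw => (α ⟨w, hw⟩).2
  obtain ⟨ψ, -, he, hf⟩ := hQ W _ hφN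
  exact Subtype.ext ((he ⟨y, hZW hyZ⟩).symm.trans (hf ⟨y, hy⟩))

/-- The centre of `F` is contained in the centre of `N_F(W)`. -/
theorem center_le (hWS : W ≤ S) (hn : S ≤ Subgroup.normalizer (W : Set Ω))
    (hN : F.IsNormalizerSystem W N) : F.center ≤ N.center := by
  refine sSup_le fun Q hQ => le_sSup ?_
  obtain ⟨hQS, hQ⟩ := hQ
  have hQT : Q ≤ normalizerIn S W := le_inf hQS (hQS.trans hn)
  refine ⟨hQT, fun P φ hφ => ?_⟩
  rw [hN P] at hφ
  obtain ⟨hφF, hP, hφT, φ', hφ', he', hW'⟩ := hφ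
  obtain ⟨ψ, hψ, hψe, hψf⟩ := hQ _ φ' hφ'
  have hle : P ⊔ Q ≤ P ⊔ W ⊔ Q := sup_le_sup_right le_sup_left Q
  have hle2 : P ⊔ Q ⊔ W ≤ P ⊔ W ⊔ Q := by rw [sup_right_comm]
  refine ⟨ψ.comp (Subgroup.inclusion hle), ?_, fun x => ?_, fun x => hψf x⟩
  · rw [hN _]
    refine ⟨restrict_mem hψ hle, sup_le hP hQT, fun y => ?_, ψ.comp (Subgroup.inclusion hle2),
      restrict_mem hψ hle2, fun y => rfl, ?_⟩
    · exact ⟨apply_mem hψ _, hn (apply_mem hψ _)⟩
    · refine (map_subgroupOf_eq_iff (restrict_mem hψ hle2) le_sup_right).2 fun y hy => ?_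
      show ψ ⟨y, hle2 (Subgroup.mem_sup_right hy)⟩ ∈ W
      rw [show ψ ⟨y, hle2 (Subgroup.mem_sup_right hy)⟩ = _ from
        hψe ⟨y, Subgroup.mem_sup_right hy⟩]
      exact map_subgroupOf_le hW' le_sup_right ⟨y, hy⟩
  · exact (hψe ⟨x, Subgroup.mem_sup_left x.2⟩).trans (he' x)

end Cfsg.Agent.Fusion.CenterControl
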