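import Cfsg.Agent.Lib.Fusion.Basic
import Cfsg.Agent.Lib.Fusion.Nilpotent

/-!
Saturated fusion systems: the twisting lemma, maps `N_S(Q) → N_S(P)`, fully normalized subgroups
are fully automized, receptive and fully centralized, fully centralized subgroups are receptive,
the Sylow axiom at `S`, and the elementary theory of centric subgroups.
-/

set_option autoImplicit false

namespace Cfsg.Agent.Fusion

open Cfsg Cfsg.FusionSystem

variable {Ω : Type*} [Group Ω] {S : Subgroup Ω} {F : FusionSystem S} {p : ℕ}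

/-! ### Finiteness and the map `N_S(P) → Aut(P)` -/

theorem finite_mulAut [Finite S] {P : Subgroup Ω} (hP : P ≤ S) : Finite (MulAut P) := by
  have := finite_of_le (Ω := Ω) hP
  exact Finite.of_injective (fun α : MulAut P => (α : P → P)) DFunLike.coe_injective

theorem card_le_of_le [Finite S] {P Q : Subgroup Ω} (hQ : Q ≤ S) (h : P ≤ Q) :
    Nat.card P ≤ Nat.card Q := by
  have := finite_of_le (Ω := Ω) hQ
  exact Subgroup.card_le_of_le h

theorem eq_of_le_of_card_le [Finite S] {P Q : Subgroup Ω} (hQ : Q ≤ S) (h : P ≤ Q)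
    (hc : Nat.card Q ≤ Nat.card P) : P = Q := by
  have := finite_of_le (Ω := Ω) hQ
  exact Subgroup.eq_of_le_of_card_ge h hc

theorem card_lt_of_lt [Finite S] {P Q : Subgroup Ω} (hQ : Q ≤ S) (h : P < Q) :
    Nat.card P < Nat.card Q :=
  lt_of_le_of_ne (card_le_of_le hQ h.le) fun hc => h.ne (eq_of_le_of_card_le hQ h.le hc.ge)

/-- The homomorphism `N_S(P) → Aut(P)`. -/
noncomputable def normalizerAut (S P : Subgroup Ω) : normalizerIn S P →* MulAut P :=
  P.normalizerMonoidHom.comp (Subgroup.inclusion inf_le_right)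

@[simp] theorem coe_normalizerAut {P : Subgroup Ω} (g : normalizerIn S P) (x : P) :
    ((normalizerAut S P g x : P) : Ω) = (g : Ω) * (x : Ω) * (g : Ω)⁻¹ := rfl

theorem range_normalizerAut (S P : Subgroup Ω) : (normalizerAut S P).range = autInducedBy S P := by
  ext α
  constructor
  · rintro ⟨g, rfl⟩
    exact mem_autInducedBy_iff.2 ⟨g, g.2.1, fun _ => rfl⟩
  · intro hα
    obtain ⟨g, hg, hx⟩ := mem_autInducedBy_iff.1 hα
    exact ⟨⟨g, hg, mem_normalizer_of_aut hx⟩,
      MulEquiv.ext fun x => Subtype.ext (hx x).symm⟩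

theorem ker_normalizerAut (S P : Subgroup Ω) :
    (normalizerAut S P).ker = (centralizerIn S P).subgroupOf (normalizerIn S P) := by
  ext g
  rw [MonoidHom.mem_ker, Subgroup.mem_subgroupOf, mem_centralizerIn]
  constructor
  · intro h
    refine ⟨g.2.1, fun x hx => ?_⟩
    have h1 : ((normalizerAut S P g ⟨x, hx⟩ : P) : Ω) = x := by rw [h]; rfl
    rw [coe_normalizerAut] at h1
    calc x * (g : Ω) = ((g : Ω) * x * (g : Ω)⁻¹) * (g : Ω) := by rw [h1]
      _ = (g : Ω) * x := by group
  · rintro ⟨-, h⟩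
    refine MulEquiv.ext fun x => Subtype.ext ?_
    rw [coe_normalizerAut, ← h x x.2, mul_inv_cancel_right]
    rfl

/-- `|C_S(P)| |Aut_S(P)| = |N_S(P)|`. -/
theorem card_centralizerIn_mul_card_autInducedBy (S P : Subgroup Ω) :
    Nat.card (centralizerIn S P) * Nat.card (autInducedBy S P) = Nat.card (normalizerIn S P) := by
  rw [← range_normalizerAut, ← Subgroup.index_ker, ← (normalizerAut S P).ker.card_mul_index,
    ker_normalizerAut]
  congr 1
  exact (Nat.card_congr
    (Subgroup.subgroupOfEquivOfLe (centralizerIn_le_normalizerIn S P)).toEquiv).symm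

theorem isPGroup_autInducedBy (hS : IsPGroup p S) (P : Subgroup Ω) :
    IsPGroup p (autInducedBy S P) := by
  rw [← range_normalizerAut]
  exact IsPGroup.of_surjective (hS.to_le (normalizerIn_le S P)) _
    (normalizerAut S P).rangeRestrict_surjective

/-! ### Conjugation along an isomorphism -/

theorem congr_apply {P Q : Subgroup Ω} (e : P ≃* Q) (α : MulAut P) (x : P) :
    MulAut.congr e α (e x) = e (α x) := by
  simp [MulAut.congr]

/-- `g ∈ N_φ` iff `φ c_g φ⁻¹` is induced by an element of `S`. -/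
theorem mem_extender_iff_congr {P Q : Subgroup Ω} {φ : P →* Ω} (hφ : φ ∈ F.Hom P)
    (hQ : φ.range = Q) {g : Ω} :
    g ∈ extender S P φ ↔ g ∈ S ∧ ∃ hg : g ∈ Subgroup.normalizer (P : Set Ω),
      MulAut.congr (homEquiv hφ hQ) (conjAut hg) ∈ autInducedBy S Q := by
  rw [mem_extender_iff]
  constructor
  · rintro ⟨hgS, hgN, h, hh, hx⟩
    refine ⟨hgS, hgN, mem_autInducedBy_iff.2 ⟨h, hh, fun y => ?_⟩⟩
    obtain ⟨x, rfl⟩ := (homEquiv hφ hQ).surjective y
    rw [congr_apply, coe_homEquiv, coe_homEquiv]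
    exact hx x (conjAut hgN x).2
  · rintro ⟨hgS, hgN, hm⟩
    obtain ⟨h, hh, hx⟩ := mem_autInducedBy_iff.1 hm
    refine ⟨hgS, hgN, h, hh, fun x hx' => ?_⟩
    have h1 := hx (homEquiv hφ hQ x)
    rw [congr_apply, coe_homEquiv, coe_homEquiv] at h1
    exact h1

/-- The image under an isomorphism of the system of the automorphisms induced by `S` is a subgroup
of the automorphism group. -/
theorem map_autInducedBy_le {P Q : Subgroup Ω} {φ : P →* Ω} (hφ : φ ∈ F.Hom P) (hQ : φ.range = Q) :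
    (autInducedBy S P).map (MulAut.congr (homEquiv hφ hQ)).toMonoidHom ≤ F.autGroup Q :=
  (Subgroup.map_mono (autInducedBy_le_autGroup F (dom_le hφ))).trans_eq (map_autGroup hφ hQ)

theorem range_eq_of_aut {P Q : Subgroup Ω} {φ : P →* Ω} (hφ : φ ∈ F.Hom P) (hQ : φ.range = Q)
    (a : MulAut Q) {χ : P →* Ω} (hχ : ∀ x : P, χ x = (a (homEquiv hφ hQ x) : Ω)) :
    χ.range = Q := by
  ext y
  constructor
  · rintro ⟨x, rfl⟩
    rw [hχ]
    exact (a _).2
  · intro hy
    obtain ⟨x, hx⟩ := (homEquiv hφ hQ).surjective (a.symm ⟨y, hy⟩)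
    exact ⟨x, by rw [hχ, hx, MulEquiv.apply_symm_apply]⟩

theorem aut_comp_mem {P Q : Subgroup Ω} {φ : P →* Ω} (hφ : φ ∈ F.Hom P) (hQ : φ.range = Q)
    {a : MulAut Q} (ha : a ∈ F.autGroup Q) {χ : P →* Ω}
    (hχ : ∀ x : P, χ x = (a (homEquiv hφ hQ x) : Ω)) : χ ∈ F.Hom P :=
  comp_mem' hφ ((mem_autGroup_iff (hQ ▸ range_le hφ)).1 ha) (fun x => (homEquiv hφ hQ x).2) hχ

/-- Twisting lemma: for an isomorphism `φ : P → Q` of the system with `Q` fully automized, some
`a ∈ Aut_F(Q)` makes the extender of `a ∘ φ` the whole of `N_S(P)`. -/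
theorem exists_twist [Finite S] [Fact p.Prime] (hS : IsPGroup p S) {P Q : Subgroup Ω}
    (hQ : F.IsFullyAutomized p Q) {φ : P →* Ω} (hφ : φ ∈ F.Hom P) (hr : φ.range = Q) :
    ∃ a ∈ F.autGroup Q, ∃ χ ∈ F.Hom P, χ.range = Q ∧
      (∀ x : P, χ x = (a (homEquiv hφ hr x) : Ω)) ∧ normalizerIn S P ≤ extender S P χ := by
  obtain ⟨hQS, R, hR⟩ := hQ
  have := finite_mulAut (Ω := Ω) hQS
  set T := ((autInducedBy S P).map (MulAut.congr (homEquiv hφ hr)).toMonoidHom).subgroupOf
    (F.autGroup Q) with hT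
  have hTp : IsPGroup p T :=
    ((isPGroup_autInducedBy hS P).map _).of_equiv
      (Subgroup.subgroupOfEquivOfLe (map_autInducedBy_le hφ hr)).symm
  obtain ⟨T', hT'⟩ := hTp.exists_le_sylow
  obtain ⟨a, ha⟩ := MulAction.exists_smul_eq (F.autGroup Q) T' R
  let χ : P →* Ω := (Q.subtype.comp (a : MulAut Q).toMonoidHom).comp (homEquiv hφ hr).toMonoidHom
  have hχv : ∀ x : P, χ x = ((a : MulAut Q) (homEquiv hφ hr x) : Ω) := fun x => rfl
  have hχ : χ ∈ F.Hom P := aut_comp_mem hφ hr a.2 hχv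
  have hχr : χ.range = Q := range_eq_of_aut hφ hr _ hχv
  refine ⟨a, a.2, χ, hχ, hχr, hχv, fun g hg => ?_⟩
  refine (mem_extender_iff_congr hχ hχr).2 ⟨hg.1, hg.2, ?_⟩
  have hm : MulAut.congr (homEquiv hφ hr) (conjAut hg.2) ∈ F.autGroup Q :=
    map_autInducedBy_le hφ hr ⟨_, conjAut_mem_autInducedBy hg.1 hg.2, rfl⟩
  have h1 : a * ⟨_, hm⟩ * a⁻¹ ∈ (R : Subgroup (F.autGroup Q)) := by
    rw [← ha, Sylow.coe_subgroup_smul]
    exact Subgroup.smul_mem_pointwise_smul _ (MulAut.conj a) _
      (hT' ⟨_, conjAut_mem_autInducedBy hg.1 hg.2, rfl⟩)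
  rw [hR, Subgroup.mem_subgroupOf] at h1
  have he : homEquiv hχ hχr = (homEquiv hφ hr).trans (a : MulAut Q) :=
    MulEquiv.ext fun x => Subtype.ext rfl
  rw [he]
  convert h1 using 1
  exact MulEquiv.ext fun y => rfl

/-- Twisting and receptivity: an isomorphism onto a fully automized receptive subgroup, composed
with an automorphism in the system, extends to the normalizer. -/
theorem exists_twist_extension [Finite S] [Fact p.Prime] (hS : IsPGroup p S) {P Q : Subgroup Ω}
    (hQa : F.IsFullyAutomized p Q) (hQr : F.IsReceptive Q) {φ : P →* Ω} (hφ : φ ∈ F.Hom P)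
    (hr : φ.range = Q) :
    ∃ a ∈ F.autGroup Q, ∃ ψ ∈ F.Hom (normalizerIn S P),
      ∀ (x : P) (hx : (x : Ω) ∈ normalizerIn S P),
        ψ ⟨x, hx⟩ = (a (homEquiv hφ hr x) : Ω) := by
  obtain ⟨a, ha, χ, hχ, hχr, hχv, hle⟩ := exists_twist hS hQa hφ hr
  obtain ⟨ψ, hψ, hext⟩ := exists_extension hQr hχ hχr hle
  exact ⟨a, ha, ψ, hψ, fun x hx => (hext x x.2 hx).trans (hχv x)⟩

/-- A map on `N_S(P)` carrying `P` into `Q` maps into `N_S(Q)` when it carries `P` onto `Q`. -/
theorem apply_mem_normalizerIn {P Q : Subgroup Ω} (_hP : P ≤ S) {ψ : normalizerIn S P →* Ω}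
    (hψ : ψ ∈ F.Hom (normalizerIn S P)) (hm : (P.subgroupOf (normalizerIn S P)).map ψ = Q)
    (g : normalizerIn S P) : ψ g ∈ normalizerIn S Q := by
  refine ⟨apply_mem hψ g, Subgroup.mem_normalizer_iff.2 fun y => ?_⟩
  have hc : ∀ (h : normalizerIn S P), ∀ z ∈ Q, ψ h * z * (ψ h)⁻¹ ∈ Q := by
    intro h z hz
    obtain ⟨x, hx, rfl⟩ := hm.ge hz
    rw [← map_inv, ← map_mul, ← map_mul, ← hm]
    refine ⟨h * x * h⁻¹, ?_, rfl⟩
    exact (Subgroup.mem_normalizer_iff.1 h.2.2 (x : Ω)).1 hx
  refine ⟨hc g y, fun hy => ?_⟩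
  have h1 := hc g⁻¹ _ hy
  rw [map_inv, inv_inv] at h1
  simpa [mul_assoc] using h1

/-- If `Q` is fully automized and receptive and `P` is conjugate to it, some map
`N_S(P) → N_S(Q)` of the system carries `P` onto `Q`. -/
theorem exists_hom_normalizerIn [Finite S] [Fact p.Prime] (hS : IsPGroup p S) {P Q : Subgroup Ω}
    (hQa : F.IsFullyAutomized p Q) (hQr : F.IsReceptive Q) (h : F.IsConj P Q) :
    ∃ ψ ∈ F.Hom (normalizerIn S P), (∀ g, ψ g ∈ normalizerIn S Q) ∧
      (P.subgroupOf (normalizerIn S P)).map ψ = Q := by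
  obtain ⟨φ, hφ, hr⟩ := h
  obtain ⟨a, -, ψ, hψ, hv⟩ := exists_twist_extension hS hQa hQr hφ hr
  have hPS := dom_le hφ
  have hm : (P.subgroupOf (normalizerIn S P)).map ψ = Q := by
    ext y
    constructor
    · rintro ⟨g, hg, rfl⟩
      rw [show ψ g = _ from hv ⟨g, hg⟩ g.2]
      exact (a _).2
    · intro hy
      obtain ⟨x, hx⟩ := ((homEquiv hφ hr).trans a).surjective ⟨y, hy⟩
      refine ⟨⟨x, le_normalizerIn hPS x.2⟩, x.2, ?_⟩
      rw [hv x (le_normalizerIn hPS x.2)]
      exact congrArg Subtype.val hx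
  exact ⟨ψ, hψ, apply_mem_normalizerIn hPS hψ hm, hm⟩

/-! ### Transfer of cardinalities along `N_S(P) → N_S(Q)` -/

theorem isConj_of_map_normalizerIn {P Q : Subgroup Ω} (hP : P ≤ S) {ψ : normalizerIn S P →* Ω}
    (hψ : ψ ∈ F.Hom (normalizerIn S P)) (hm : (P.subgroupOf (normalizerIn S P)).map ψ = Q) :
    F.IsConj P Q :=
  ⟨_, restrict_mem hψ (le_normalizerIn hP), by
    rw [MonoidHom.range_comp, Subgroup.inclusion_range, hm]⟩

theorem card_normalizerIn_le_of_map [Finite S] {P Q : Subgroup Ω} {ψ : normalizerIn S P →* Ω}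
    (hψ : ψ ∈ F.Hom (normalizerIn S P)) (hi : ∀ g, ψ g ∈ normalizerIn S Q) :
    Nat.card (normalizerIn S P) ≤ Nat.card (normalizerIn S Q) := by
  have := finite_of_le (normalizerIn_le S Q)
  refine Nat.card_le_card_of_injective (fun g => (⟨ψ g, hi g⟩ : normalizerIn S Q)) fun a b h => ?_
  exact F.injective_of_mem hψ (congrArg Subtype.val h)

/-- A map `N_S(P) → Ω` carrying `P` onto `Q` carries `C_S(P)` into `C_S(Q)`. -/
theorem apply_mem_centralizerIn {P Q : Subgroup Ω} {ψ : normalizerIn S P →* Ω}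
    (hψ : ψ ∈ F.Hom (normalizerIn S P)) (hm : (P.subgroupOf (normalizerIn S P)).map ψ = Q)
    {g : normalizerIn S P} (hg : (g : Ω) ∈ centralizerIn S P) : ψ g ∈ centralizerIn S Q := by
  refine mem_centralizerIn.2 ⟨apply_mem hψ g, fun y hy => ?_⟩
  obtain ⟨x, hx, rfl⟩ := hm.ge hy
  rw [← map_mul, ← map_mul]
  exact congrArg ψ (Subtype.ext ((mem_centralizerIn.1 hg).2 x hx))

theorem card_centralizerIn_le_of_map [Finite S] {P Q : Subgroup Ω}
    {ψ : normalizerIn S P →* Ω}
    (hψ : ψ ∈ F.Hom (normalizerIn S P)) (hm : (P.subgroupOf (normalizerIn S P)).map ψ = Q) :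
    Nat.card (centralizerIn S P) ≤ Nat.card (centralizerIn S Q) := by
  have := finite_of_le (centralizerIn_le S Q)
  refine Nat.card_le_card_of_injective (fun g : centralizerIn S P =>
    (⟨ψ ⟨g, centralizerIn_le_normalizerIn S P g.2⟩, apply_mem_centralizerIn hψ hm g.2⟩ :
      centralizerIn S Q)) fun a b h => ?_
  exact Subtype.ext (congrArg (fun z : normalizerIn S P => (z : Ω))
    (F.injective_of_mem hψ (congrArg Subtype.val h)))

/-- `|Aut_S(P)| ≤ |Aut_S(Q)|` for `Q` fully automized and `P` conjugate to `Q`. -/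
theorem card_autInducedBy_le [Finite S] [Fact p.Prime] (hS : IsPGroup p S) {P Q : Subgroup Ω}
    (hQ : F.IsFullyAutomized p Q) (h : F.IsConj P Q) :
    Nat.card (autInducedBy S P) ≤ Nat.card (autInducedBy S Q) := by
  obtain ⟨φ, hφ, hr⟩ := h
  obtain ⟨hQS, R, hR⟩ := hQ
  have := finite_mulAut (Ω := Ω) hQS
  set U := (autInducedBy S P).map (MulAut.congr (homEquiv hφ hr)).toMonoidHom with hU
  set T := U.subgroupOf (F.autGroup Q) with hT
  have hle : U ≤ F.autGroup Q := map_autInducedBy_le hφ hr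
  have hTp : IsPGroup p T :=
    ((isPGroup_autInducedBy hS P).map _).of_equiv (Subgroup.subgroupOfEquivOfLe hle).symm
  obtain ⟨T', hT'⟩ := hTp.exists_le_sylow
  calc Nat.card (autInducedBy S P) = Nat.card U :=
        (Subgroup.card_map_of_injective (MulEquiv.injective _)).symm
    _ = Nat.card T := (Nat.card_congr (Subgroup.subgroupOfEquivOfLe hle).toEquiv).symm
    _ ≤ Nat.card T' := Subgroup.card_le_of_le hT'
    _ = Nat.card R := by rw [T'.card_eq_multiplicity, R.card_eq_multiplicity]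
    _ = Nat.card (autInducedBy S Q) := by
        rw [hR]
        exact Nat.card_congr
          (Subgroup.subgroupOfEquivOfLe (autInducedBy_le_autGroup F hQS)).toEquiv

/-- Fully automized and receptive subgroups are fully normalized. -/
theorem isFullyNormalized_of_automized_receptive [Finite S] [Fact p.Prime] (hS : IsPGroup p S)
    {Q : Subgroup Ω} (hQa : F.IsFullyAutomized p Q) (hQr : F.IsReceptive Q) :
    F.IsFullyNormalized Q := by
  refine ⟨hQr.1, fun P hP => ?_⟩
  obtain ⟨ψ, hψ, hi, -⟩ := exists_hom_normalizerIn hS hQa hQr (isConj_symm hP)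
  exact card_normalizerIn_le_of_map hψ hi

/-- For a subgroup fully normalized in a saturated system: a map of normalizers onto a fully
automized receptive conjugate, with all cardinalities equal. -/
theorem fullyNormalized_transfer [Finite S] [Fact p.Prime] (hS : IsPGroup p S)
    (hF : F.IsSaturated p) {P : Subgroup Ω} (hP : F.IsFullyNormalized P) :
    ∃ R, F.IsConj P R ∧ F.IsFullyAutomized p R ∧ F.IsReceptive R ∧
      Nat.card (centralizerIn S P) = Nat.card (centralizerIn S R) ∧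
      Nat.card (autInducedBy S P) = Nat.card (autInducedBy S R) := by
  obtain ⟨R, hPR, hRa, hRr⟩ := hF P hP.1
  obtain ⟨ψ, hψ, -, hm⟩ := exists_hom_normalizerIn hS hRa hRr hPR
  have hC := card_centralizerIn_le_of_map hψ hm
  have hA := card_autInducedBy_le hS hRa hPR
  have hN := hP.2 R hPR
  rw [← card_centralizerIn_mul_card_autInducedBy, ← card_centralizerIn_mul_card_autInducedBy] at hN
  have := finite_of_le (centralizerIn_le S R)
  have := finite_mulAut (Ω := Ω) hRa.1
  have hC0 : 0 < Nat.card (centralizerIn S R) := Nat.card_pos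
  have hA0 : 0 < Nat.card (autInducedBy S R) := Nat.card_pos
  refine ⟨R, hPR, hRa, hRr, ?_, ?_⟩
  · refine le_antisymm hC (Nat.le_of_mul_le_mul_right ?_ hA0)
    exact hN.trans (Nat.mul_le_mul_left _ hA)
  · refine le_antisymm hA (Nat.le_of_mul_le_mul_left ?_ hC0)
    exact hN.trans (Nat.mul_le_mul_right _ hC)

/-- In a saturated system fully normalized subgroups are fully centralized. -/
theorem isFullyCentralized_of_fullyNormalized [Finite S] [Fact p.Prime] (hS : IsPGroup p S)
    (hF : F.IsSaturated p) {P : Subgroup Ω} (hP : F.IsFullyNormalized P) :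
    F.IsFullyCentralized P := by
  obtain ⟨R, hPR, -, hRr, hC, -⟩ := fullyNormalized_transfer hS hF hP
  refine ⟨hP.1, fun Q hQ => ?_⟩
  rw [hC]
  exact (isFullyCentralized_of_receptive hRr).2 Q (isConj_trans (isConj_symm hPR) hQ)

/-- Fully automized is equivalent to the cardinality of `Aut_S(P)` being the Sylow order. -/
theorem isFullyAutomized_iff_card [Finite S] [Fact p.Prime] (_hS : IsPGroup p S) {P : Subgroup Ω}
    (hP : P ≤ S) :
    F.IsFullyAutomized p P ↔
      Nat.card (autInducedBy S P) = p ^ (Nat.card (F.autGroup P)).factorization p := by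
  have := finite_mulAut (Ω := Ω) hP
  have hc : Nat.card ((autInducedBy S P).subgroupOf (F.autGroup P)) =
      Nat.card (autInducedBy S P) :=
    Nat.card_congr (Subgroup.subgroupOfEquivOfLe (autInducedBy_le_autGroup F hP)).toEquiv
  constructor
  · rintro ⟨-, R, hR⟩
    rw [← hc, ← hR]
    exact R.card_eq_multiplicity
  · intro h
    exact ⟨hP, Sylow.ofCard _ (hc.trans h), rfl⟩

/-- In a saturated system fully normalized subgroups are fully automized. -/
theorem isFullyAutomized_of_fullyNormalized [Finite S] [Fact p.Prime] (hS : IsPGroup p S)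
    (hF : F.IsSaturated p) {P : Subgroup Ω} (hP : F.IsFullyNormalized P) :
    F.IsFullyAutomized p P := by
  obtain ⟨R, ⟨φ, hφ, hr⟩, hRa, -, -, hA⟩ := fullyNormalized_transfer hS hF hP
  rw [isFullyAutomized_iff_card hS hP.1, hA, (isFullyAutomized_iff_card hS hRa.1).1 hRa,
    ← map_autGroup hφ hr, Subgroup.card_map_of_injective (MulEquiv.injective _)]

/-- Receptivity passes to a conjugate `P` of a receptive subgroup along a map of normalizers that
carries `C_S(P)` onto the centralizer. -/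
theorem isReceptive_of_map [Finite S] {P R : Subgroup Ω} (hP : P ≤ S) (hR : F.IsReceptive R)
    {ψ : normalizerIn S P →* Ω} (hψ : ψ ∈ F.Hom (normalizerIn S P))
    (hm : (P.subgroupOf (normalizerIn S P)).map ψ = R)
    (hC : Nat.card (centralizerIn S R) ≤ Nat.card (centralizerIn S P)) : F.IsReceptive P := by
  have hsurj : ∀ c ∈ centralizerIn S R, c ∈ ψ.range := by
    have := finite_of_le (centralizerIn_le S R)
    let f : centralizerIn S P → centralizerIn S R := fun g =>
      ⟨ψ ⟨g, centralizerIn_le_normalizerIn S P g.2⟩, apply_mem_centralizerIn hψ hm g.2⟩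
    have hf : Function.Injective f := fun a b h => Subtype.ext
      (congrArg (fun z : normalizerIn S P => (z : Ω))
        (F.injective_of_mem hψ (congrArg Subtype.val h)))
    intro c hc
    obtain ⟨g, hg⟩ := ((Nat.bijective_iff_injective_and_card f).2 ⟨hf, le_antisymm
      (Nat.card_le_card_of_injective f hf) hC⟩).2 ⟨c, hc⟩
    exact ⟨_, congrArg Subtype.val hg⟩
  refine ⟨hP, fun Q χ hχ hr => ?_⟩
  have hPN := le_normalizerIn hP
  have hQS := dom_le hχ
  have hχP : ∀ x : Q, χ x ∈ P := fun x => hr.le ⟨x, rfl⟩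
  let χ' : Q →* Ω := (ψ.comp (Subgroup.inclusion hPN)).comp (χ.codRestrict P hχP)
  have hχ'v : ∀ x : Q, χ' x = ψ ⟨χ x, hPN (hχP x)⟩ := fun x => rfl
  have hχ' : χ' ∈ F.Hom Q := comp_mem' hχ (restrict_mem hψ hPN) hχP fun x => rfl
  have hχ'r : χ'.range = R := by
    rw [← hm]
    ext y
    constructor
    · rintro ⟨x, rfl⟩
      exact ⟨⟨χ x, hPN (hχP x)⟩, hχP x, rfl⟩
    · rintro ⟨g, hg, rfl⟩
      obtain ⟨x, hx⟩ := hr.ge hg
      exact ⟨x, by rw [hχ'v]; exact congrArg ψ (Subtype.ext hx)⟩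
  have key : ∀ g ∈ extender S Q χ, ∃ h : normalizerIn S P,
      ∀ (x : Q) (hx : g * (x : Ω) * g⁻¹ ∈ Q),
        χ' ⟨g * x * g⁻¹, hx⟩ = ψ h * χ' x * (ψ h)⁻¹ := by
    intro g hg
    obtain ⟨hgS, hgN, h, hh, hx⟩ := mem_extender_iff.1 hg
    have hhN : h ∈ normalizerIn S P := by
      refine ⟨hh, Subgroup.mem_normalizer_iff.2 fun y => ⟨fun hy => ?_, fun hy => ?_⟩⟩
      · obtain ⟨x, rfl⟩ := hr.ge hy
        rw [← hx x ((Subgroup.mem_normalizer_iff.1 hgN x).1 x.2)]
        exact hχP _
      · obtain ⟨x, hxe⟩ := hr.ge hy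
        have hx2 : g⁻¹ * (x : Ω) * g ∈ Q := by
          have := (Subgroup.mem_normalizer_iff.1 (Subgroup.inv_mem _ hgN) x).1 x.2
          simpa using this
        have hx3 : g * (g⁻¹ * (x : Ω) * g) * g⁻¹ ∈ Q := by
          simpa [mul_assoc] using x.2
        have h1 := hx ⟨_, hx2⟩ hx3
        rw [show (⟨_, hx3⟩ : Q) = x from Subtype.ext (by group), hxe] at h1
        rw [mul_left_cancel (mul_right_cancel h1)]
        exact hχP _
    refine ⟨⟨h, hhN⟩, fun x hx' => ?_⟩
    rw [hχ'v, hχ'v, ← map_inv, ← map_mul, ← map_mul]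
    exact congrArg ψ (Subtype.ext (hx x hx'))
  have hle : extender S Q χ ≤ extender S Q χ' := fun g hg => by
    obtain ⟨h, hh⟩ := key g hg
    exact mem_extender_iff.2 ⟨(mem_extender_iff.1 hg).1, (mem_extender_iff.1 hg).2.1, ψ h,
      apply_mem hψ h, hh⟩
  obtain ⟨θ, hθ, hθe⟩ := exists_extension hR hχ' hχ'r hle
  have hθr : ∀ g, θ g ∈ ψ.range := by
    intro g
    obtain ⟨h, hh⟩ := key g g.2
    have hc : (ψ h)⁻¹ * θ g ∈ centralizerIn S R := by
      refine mem_centralizerIn.2
        ⟨S.mul_mem (S.inv_mem (apply_mem hψ h)) (apply_mem hθ g), fun y hy => ?_⟩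
      obtain ⟨x, rfl⟩ := hχ'r.ge hy
      have hgN := (mem_extender_iff.1 g.2).2.1
      have hxQ := (Subgroup.mem_normalizer_iff.1 hgN x).1 x.2
      have hxN := le_extender hQS (apply_mem hχ) x.2
      have h1 : θ g * χ' x * (θ g)⁻¹ = ψ h * χ' x * (ψ h)⁻¹ := by
        rw [← hh x hxQ, ← hθe _ hxQ (le_extender hQS (apply_mem hχ) hxQ), ← hθe x x.2 hxN,
          ← map_inv, ← map_mul, ← map_mul]
        exact congrArg θ (Subtype.ext rfl)
      calc χ' x * ((ψ h)⁻¹ * θ g) = (ψ h)⁻¹ * (ψ h * χ' x * (ψ h)⁻¹) * θ g := by group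
        _ = (ψ h)⁻¹ * (θ g * χ' x * (θ g)⁻¹) * θ g := by rw [h1]
        _ = _ := by group
    have h2 := ψ.range.mul_mem ⟨h, rfl⟩ (hsurj _ hc)
    simpa using h2
  obtain ⟨ψi, hψi, -, hi, -⟩ := exists_inverse hψ (rfl : ψ.range = ψ.range)
  refine ⟨ψi.comp (θ.codRestrict ψ.range hθr), F.comp_mem hθ hψi hθr, fun x hxQ hxN => ?_⟩
  show ψi ⟨θ ⟨x, hxN⟩, hθr _⟩ = χ ⟨x, hxQ⟩
  have h1 : θ ⟨x, hxN⟩ = ψ ⟨χ ⟨x, hxQ⟩, hPN (hχP _)⟩ := hθe x hxQ hxN
  rw [show (⟨θ ⟨x, hxN⟩, hθr _⟩ : ψ.range) = ⟨_, h1 ▸ hθr ⟨x, hxN⟩⟩ from Subtype.ext h1]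
  exact hi _ _

/-- In a saturated system fully centralized subgroups are receptive. -/
theorem isReceptive_of_fullyCentralized [Finite S] [Fact p.Prime] (hS : IsPGroup p S)
    (hF : F.IsSaturated p) {P : Subgroup Ω} (hP : F.IsFullyCentralized P) : F.IsReceptive P := by
  obtain ⟨R, hPR, hRa, hRr⟩ := hF P hP.1
  obtain ⟨ψ, hψ, -, hm⟩ := exists_hom_normalizerIn hS hRa hRr hPR
  exact isReceptive_of_map hP.1 hRr hψ hm (hP.2 R hPR)

theorem isReceptive_of_fullyNormalized [Finite S] [Fact p.Prime] (hS : IsPGroup p S)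
    (hF : F.IsSaturated p) {P : Subgroup Ω} (hP : F.IsFullyNormalized P) : F.IsReceptive P :=
  isReceptive_of_fullyCentralized hS hF (isFullyCentralized_of_fullyNormalized hS hF hP)

/-- The Roberts–Shpectorov criterion. -/
theorem isSaturated_of_fullyNormalized [Finite S]
    (h : ∀ P : Subgroup Ω, F.IsFullyNormalized P → F.IsFullyAutomized p P ∧ F.IsReceptive P) :
    F.IsSaturated p := fun P hP => by
  obtain ⟨Q, hQ, hQn⟩ := exists_fullyNormalized F hP
  exact ⟨Q, hQ, h Q hQn⟩

theorem isSaturated_iff_fullyNormalized [Finite S] [Fact p.Prime] (hS : IsPGroup p S) :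
    F.IsSaturated p ↔
      ∀ P : Subgroup Ω, F.IsFullyNormalized P → F.IsFullyAutomized p P ∧ F.IsReceptive P :=
  ⟨fun hF _ hP => ⟨isFullyAutomized_of_fullyNormalized hS hF hP,
    isReceptive_of_fullyNormalized hS hF hP⟩, isSaturated_of_fullyNormalized⟩

/-- In a saturated system every subgroup has a map of normalizers onto a fully normalized
conjugate. -/
theorem exists_hom_fullyNormalized [Finite S] [Fact p.Prime] (hS : IsPGroup p S)
    (hF : F.IsSaturated p) {P Q : Subgroup Ω} (hQ : F.IsFullyNormalized Q) (h : F.IsConj P Q) :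
    ∃ ψ ∈ F.Hom (normalizerIn S P), (∀ g, ψ g ∈ normalizerIn S Q) ∧
      (P.subgroupOf (normalizerIn S P)).map ψ = Q :=
  exists_hom_normalizerIn hS (isFullyAutomized_of_fullyNormalized hS hF hQ)
    (isReceptive_of_fullyNormalized hS hF hQ) h

/-! ### The subgroup `S` itself -/

theorem eq_of_isConj_self [Finite S] {Q : Subgroup Ω} (h : F.IsConj S Q) : Q = S :=
  eq_of_le_of_card_le le_rfl (isConj_le h).2 (isConj_card h).ge

theorem isFullyNormalized_self [Finite S] (F : FusionSystem S) : F.IsFullyNormalized S :=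
  ⟨le_rfl, fun Q hQ => by rw [eq_of_isConj_self hQ]⟩

theorem isCentric_self [Finite S] (F : FusionSystem S) : F.IsCentric S :=
  ⟨le_rfl, fun Q hQ => by rw [eq_of_isConj_self hQ]; exact centralizerIn_le S S⟩

theorem autInducedBy_self (S : Subgroup Ω) : autInducedBy S S = Inn S := by
  refine le_antisymm (fun α hα => ?_) (inn_le_autInducedBy le_rfl)
  obtain ⟨g, hg, hx⟩ := mem_autInducedBy_iff.1 hα
  exact ⟨⟨g, hg⟩, MulEquiv.ext fun x => Subtype.ext (hx x).symm⟩

theorem isFullyAutomized_self [Finite S] [Fact p.Prime] (hS : IsPGroup p S)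
    (hF : F.IsSaturated p) : F.IsFullyAutomized p S :=
  isFullyAutomized_of_fullyNormalized hS hF (isFullyNormalized_self F)

/-! ### The second criterion -/

theorem hom_aut_pow {N : Subgroup Ω} {α : MulAut N} {P : Subgroup Ω} {β : MulAut P} (hPN : P ≤ N)
    (h : ∀ x : P, (α (Subgroup.inclusion hPN x) : Ω) = β x) (m : ℕ) :
    ∀ x : P, ((α ^ m) (Subgroup.inclusion hPN x) : Ω) = (β ^ m) x := by
  induction m with
  | zero => intro x; rfl
  | succ m ih =>
    intro x
    rw [pow_succ', pow_succ', MulAut.mul_apply, MulAut.mul_apply, ← h]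
    congr 2
    exact Subtype.ext (ih x)

/-- If `Aut_S(S)` is Sylow in `Aut_F(S)` and fully normalized subgroups are receptive, then fully
normalized subgroups are fully automized. -/
theorem isFullyAutomized_of_receptive [Finite S] [Fact p.Prime] (hS : IsPGroup p S)
    (hA : F.IsFullyAutomized p S)
    (hR : ∀ P : Subgroup Ω, F.IsFullyNormalized P → F.IsReceptive P) :
    ∀ (n : ℕ) (P : Subgroup Ω), Nat.card S ≤ Nat.card P + n → F.IsFullyNormalized P →
      F.IsFullyAutomized p P := by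
  intro n
  induction n using Nat.strong_induction_on with
  | _ n ih =>
    intro P hn hP
    rcases hP.1.eq_or_lt with rfl | hlt
    · exact hA
    have := finite_mulAut (Ω := Ω) hP.1
    have hprec := hR P hP
    set A := F.autGroup P
    set T := (autInducedBy S P).subgroupOf A with hT
    have hTp : IsPGroup p T :=
      (isPGroup_autInducedBy hS P).of_equiv
        (Subgroup.subgroupOfEquivOfLe (autInducedBy_le_autGroup F hP.1)).symm
    obtain ⟨T', hTT'⟩ := hTp.exists_le_sylow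
    by_contra hcon
    have hne : T ≠ (T' : Subgroup A) := fun h => hcon ⟨hP.1, T', h.symm⟩
    have hlt' : T < (T' : Subgroup A) := lt_of_le_of_ne hTT' hne
    obtain ⟨a, ⟨ha', haN⟩, haT⟩ := SetLike.exists_of_lt (lt_normalizerIn T'.isPGroup' hlt')
    set N := normalizerIn S P with hN
    have hPN : P ≤ N := le_normalizerIn hP.1
    have hφ : P.subtype.comp (a : MulAut P).toMonoidHom ∈ F.Hom P :=
      (mem_autGroup_iff hP.1).1 a.2
    have hφr : (P.subtype.comp (a : MulAut P).toMonoidHom).range = P :=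
      (hom_of_mem_autGroup hP.1 a.2).2
    have he : homEquiv hφ hφr = (a : MulAut P) := MulEquiv.ext fun x => Subtype.ext rfl
    have hle : N ≤ extender S P (P.subtype.comp (a : MulAut P).toMonoidHom) := by
      intro g hg
      refine (mem_extender_iff_congr hφ hφr).2 ⟨hg.1, hg.2, ?_⟩
      have h1 : a * ⟨conjAut hg.2, autInducedBy_le_autGroup F hP.1
          (conjAut_mem_autInducedBy hg.1 hg.2)⟩ * a⁻¹ ∈ T :=
        (Subgroup.mem_normalizer_iff.1 haN _).1 (conjAut_mem_autInducedBy hg.1 hg.2)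
      rw [hT, Subgroup.mem_subgroupOf] at h1
      rw [he]
      convert h1 using 1
      exact MulEquiv.ext fun y => rfl
    obtain ⟨ψ, hψ, hext⟩ := exists_extension hprec hφ hφr hle
    have hm : (P.subgroupOf N).map ψ = P := by
      ext y
      constructor
      · rintro ⟨g, hg, rfl⟩
        rw [show ψ g = _ from hext g hg g.2]
        exact ((a : MulAut P) _).2
      · intro hy
        exact ⟨⟨((a : MulAut P).symm ⟨y, hy⟩ : P), hPN (Subtype.property _)⟩, Subtype.property _,
          by rw [hext _ (Subtype.property _)]; simp⟩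
    have hψN : ψ.range = N := range_eq_of_le hψ (normalizerIn_le S P)
      (apply_mem_normalizerIn hP.1 hψ hm) le_rfl
    set α := toAut hψ hψN with hα
    have hαA : α ∈ F.autGroup N := toAut_mem hψ hψN
    have hrest : ∀ x : P, (α (Subgroup.inclusion hPN x) : Ω) = (a : MulAut P) x := fun x =>
      hext x x.2 (hPN x.2)
    have hNS : N ≤ S := normalizerIn_le S P
    have := finite_mulAut (Ω := Ω) hNS
    obtain ⟨k, hk⟩ := IsPGroup.iff_orderOf.1 T'.isPGroup' ⟨a, ha'⟩
    have hao : orderOf a = p ^ k := by simpa using hk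
    obtain ⟨j, m, hm', hjm⟩ := Nat.exists_eq_pow_mul_and_not_dvd
      (orderOf_pos α).ne' p (Fact.out : p.Prime).ne_one
    have hαo : orderOf (α ^ m) = p ^ j := by
      rw [orderOf_pow, hjm, Nat.gcd_mul_left_left, Nat.mul_div_cancel]
      exact Nat.pos_of_ne_zero fun h => hm' (h ▸ dvd_zero p)
    obtain ⟨N', hNN', hN'n⟩ := exists_fullyNormalized F hNS
    have hN'lt : Nat.card P < Nat.card N := card_lt_of_lt hNS (lt_normalizerIn hS hlt)
    have hcN := card_le_of_le le_rfl hNS
    have hN'a : F.IsFullyAutomized p N' := by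
      refine ih (Nat.card S - Nat.card N) (by omega) N' ?_ hN'n
      rw [isConj_card hNN']
      omega
    obtain ⟨χ, hχ, hχr⟩ := hNN'
    obtain ⟨hN'S, R, hRe⟩ := hN'a
    have := finite_mulAut (Ω := Ω) hN'S
    set β : F.autGroup N' := ⟨MulAut.congr (homEquiv hχ hχr) (α ^ m),
      congr_mem_autGroup hχ hχr (Subgroup.pow_mem _ hαA m)⟩ with hβ
    have hβo : orderOf β = p ^ j := by
      rw [← Subgroup.orderOf_coe, hβ, ← hαo]
      exact orderOf_injective (MulAut.congr (homEquiv hχ hχr)).toMonoidHom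
        (MulEquiv.injective _) _
    have hβp : IsPGroup p (Subgroup.zpowers β) :=
      IsPGroup.of_card (by rw [Nat.card_zpowers, hβo])
    obtain ⟨R', hR'⟩ := hβp.exists_le_sylow
    obtain ⟨b, hb⟩ := MulAction.exists_smul_eq (F.autGroup N') R' R
    have h1 : b * β * b⁻¹ ∈ (R : Subgroup (F.autGroup N')) := by
      rw [← hb, Sylow.coe_subgroup_smul]
      exact Subgroup.smul_mem_pointwise_smul _ (MulAut.conj b) _ (hR' (Subgroup.mem_zpowers β))
    rw [hRe, Subgroup.mem_subgroupOf] at h1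
    obtain ⟨g, hg, hgx⟩ := mem_autInducedBy_iff.1 h1
    set e : N ≃* N' := (homEquiv hχ hχr).trans (b : MulAut N') with he'
    have hgx' : ∀ y : N, (e ((α ^ m) y) : Ω) = g * (e y : Ω) * g⁻¹ := by
      intro y
      have h2 := hgx (e y)
      rw [← h2]
      congr 1
      show (b : MulAut N') _ = (b : MulAut N') (MulAut.congr (homEquiv hχ hχr) (α ^ m)
        ((b : MulAut N')⁻¹ ((b : MulAut N') (homEquiv hχ hχr y))))
      rw [MulAut.inv_apply_self, congr_apply]
      rfl
    let χ' : N →* Ω := N'.subtype.comp e.toMonoidHom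
    have hχ' : χ' ∈ F.Hom N := aut_comp_mem hχ hχr b.2 fun x => rfl
    have hχ'r : χ'.range = N' := range_eq_of_aut hχ hχr b fun x => rfl
    set P' := (P.subgroupOf N).map χ' with hP'
    have hPP' : F.IsConj P P' := isConj_of_map_normalizerIn hP.1 hχ' hP'.symm
    have hN'le : N' ≤ normalizerIn S P' := by
      rw [← hχ'r]
      rintro _ ⟨x, rfl⟩
      exact apply_mem_normalizerIn hP.1 hχ' hP'.symm x
    have hN'eq : N' = normalizerIn S P' :=
      eq_of_le_of_card_le (normalizerIn_le S P') hN'le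
        ((hP.2 P' hPP').trans (isConj_card ⟨χ', hχ', hχ'r⟩).ge)
    have hmem : ∀ y : N, (y : Ω) ∈ P → ((α ^ m) y : Ω) ∈ P := by
      intro y hy
      have h2 := hom_aut_pow hPN hrest m ⟨y, hy⟩
      rw [show Subgroup.inclusion hPN ⟨y, hy⟩ = y from Subtype.ext rfl] at h2
      rw [h2]
      exact Subtype.property _
    have hgN : g ∈ Subgroup.normalizer (P' : Set Ω) := by
      refine Subgroup.mem_normalizer_iff.2 fun y => ⟨?_, ?_⟩
      · rintro ⟨x, hx, rfl⟩
        exact ⟨(α ^ m) x, hmem x hx, hgx' x⟩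
      · rintro ⟨x, hx, hxe⟩
        obtain ⟨x', hx'⟩ := (α ^ m).surjective x
        have hx'P : (x' : Ω) ∈ P := by
          obtain ⟨z, hz⟩ := ((a : MulAut P) ^ m).surjective ⟨x, hx⟩
          have h2 := hom_aut_pow hPN hrest m z
          rw [hz] at h2
          have h3 : x' = Subgroup.inclusion hPN z :=
            (α ^ m).injective (hx'.trans (Subtype.ext h2.symm))
          rw [h3]
          exact z.2
        refine ⟨x', hx'P, ?_⟩
        have h2 := hgx' x'
        rw [hx'] at h2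
        exact mul_left_cancel (mul_right_cancel (h2.symm.trans hxe))
    obtain ⟨h, hh⟩ := e.surjective ⟨g, hN'eq.ge ⟨hg, hgN⟩⟩
    have key : a ^ m ∈ T := by
      refine mem_autInducedBy_iff.2 ⟨h, h.2.1, fun x => ?_⟩
      show ((((a : MulAut P) ^ m) x : P) : Ω) = _
      rw [← hom_aut_pow hPN hrest m x]
      have h2 := hgx' (Subgroup.inclusion hPN x)
      rw [show g = (e h : Ω) from (congrArg Subtype.val hh).symm, ← Subgroup.coe_inv,
        ← Subgroup.coe_mul, ← Subgroup.coe_mul, ← map_inv, ← map_mul, ← map_mul] at h2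
      exact congrArg Subtype.val (e.injective (Subtype.ext h2))
    apply haT
    have hcop : (orderOf a).Coprime m := by
      rw [hao]
      exact Nat.Coprime.pow_left k ((Fact.out : p.Prime).coprime_iff_not_dvd.2 hm')
    obtain ⟨l, hl⟩ := exists_pow_eq_self_of_coprime hcop.symm
    rw [← hl]
    exact Subgroup.pow_mem _ key l

theorem isSaturated_iff_receptive [Finite S] [Fact p.Prime] (hS : IsPGroup p S) :
    F.IsSaturated p ↔
      F.IsFullyAutomized p S ∧ ∀ P : Subgroup Ω, F.IsFullyNormalized P → F.IsReceptive P :=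
  ⟨fun hF => ⟨isFullyAutomized_self hS hF, fun _ hP => isReceptive_of_fullyNormalized hS hF hP⟩,
    fun h => isSaturated_of_fullyNormalized fun P hP =>
      ⟨isFullyAutomized_of_receptive hS h.1 h.2 (Nat.card S) P (Nat.le_add_left _ _) hP,
        h.2 P hP⟩⟩

/-! ### Centric subgroups -/

theorem isCentric_of_isConj {P Q : Subgroup Ω} (hP : F.IsCentric P) (h : F.IsConj P Q) :
    F.IsCentric Q :=
  ⟨(isConj_le h).2, fun R hR => hP.2 R (isConj_trans h hR)⟩

theorem centralizerIn_anti {P Q : Subgroup Ω} (h : P ≤ Q) :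
    centralizerIn S Q ≤ centralizerIn S P :=
  inf_le_inf_left S (Subgroup.centralizer_le (SetLike.coe_subset_coe.2 h))

theorem isCentric_centralizerIn_le {P : Subgroup Ω} (hP : F.IsCentric P) :
    centralizerIn S P ≤ P :=
  hP.2 P (isConj_refl F hP.1)

/-- Overgroups of centric subgroups are centric. -/
theorem isCentric_of_le {P Q : Subgroup Ω} (hP : F.IsCentric P) (hPQ : P ≤ Q) (hQ : Q ≤ S) :
    F.IsCentric Q := by
  refine ⟨hQ, ?_⟩
  rintro R ⟨φ, hφ, rfl⟩
  have hle : (φ.comp (Subgroup.inclusion hPQ)).range ≤ φ.range := by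
    rintro _ ⟨x, rfl⟩; exact ⟨_, rfl⟩
  exact (centralizerIn_anti hle).trans
    ((hP.2 _ ⟨_, restrict_mem hφ hPQ, rfl⟩).trans hle)

/-- A map sends elements centralizing its source, inside it, to elements centralizing the image. -/
theorem card_centralizer_inf_eq [Finite S] {P Q : Subgroup Ω} (h : F.IsConj P Q) :
    Nat.card ↥(P ⊓ Subgroup.centralizer (P : Set Ω)) ≤
      Nat.card ↥(Q ⊓ Subgroup.centralizer (Q : Set Ω)) := by
  obtain ⟨φ, hφ, rfl⟩ := h
  have := finite_of_le (Ω := Ω) (inf_le_left.trans (range_le hφ) :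
    φ.range ⊓ Subgroup.centralizer (φ.range : Set Ω) ≤ S)
  refine Nat.card_le_card_of_injective (fun z : ↥(P ⊓ Subgroup.centralizer (P : Set Ω)) =>
    (⟨φ ⟨z, z.2.1⟩, ⟨_, rfl⟩, ?_⟩ : ↥(φ.range ⊓ Subgroup.centralizer (φ.range : Set Ω)))) ?_
  · rintro _ ⟨x, rfl⟩
    rw [← map_mul, ← map_mul]
    exact congrArg φ (Subtype.ext (z.2.2 x x.2))
  · intro a b h
    exact Subtype.ext (congrArg (fun z : P => (z : Ω))
      (F.injective_of_mem hφ (congrArg Subtype.val h)))

theorem centralizerIn_eq_of_le {P : Subgroup Ω} (hP : P ≤ S) (h : centralizerIn S P ≤ P) :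
    centralizerIn S P = P ⊓ Subgroup.centralizer (P : Set Ω) :=
  le_antisymm (le_inf h inf_le_right) (le_inf (inf_le_left.trans hP) inf_le_right)

/-- Centric subgroups are fully centralized. -/
theorem isFullyCentralized_of_centric [Finite S] {P : Subgroup Ω} (hP : F.IsCentric P) :
    F.IsFullyCentralized P := by
  refine ⟨hP.1, fun Q hQ => ?_⟩
  rw [centralizerIn_eq_of_le (isConj_le hQ).2 (hP.2 Q hQ),
    centralizerIn_eq_of_le hP.1 (isCentric_centralizerIn_le hP)]
  exact card_centralizer_inf_eq (isConj_symm hQ)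

theorem isReceptive_of_centric [Finite S] [Fact p.Prime] (hS : IsPGroup p S)
    (hF : F.IsSaturated p) {P : Subgroup Ω} (hP : F.IsCentric P) : F.IsReceptive P :=
  isReceptive_of_fullyCentralized hS hF (isFullyCentralized_of_centric hP)

/-- A fully centralized subgroup containing its centralizer in `S` is centric. -/
theorem isCentric_of_fullyCentralized [Finite S] {P : Subgroup Ω} (hP : F.IsFullyCentralized P)
    (h : centralizerIn S P ≤ P) : F.IsCentric P := by
  refine ⟨hP.1, fun Q hQ => ?_⟩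
  have hQS := (isConj_le hQ).2
  have hle : Q ⊓ Subgroup.centralizer (Q : Set Ω) ≤ centralizerIn S Q :=
    le_inf (inf_le_left.trans hQS) inf_le_right
  have h1 := hP.2 Q hQ
  rw [centralizerIn_eq_of_le hP.1 h] at h1
  rw [← eq_of_le_of_card_le (centralizerIn_le S Q) hle (h1.trans (card_centralizer_inf_eq hQ))]
  exact inf_le_left

end Cfsg.Agent.Fusion
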