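import Mathlib

/-!
Upper unitriangular matrices inside `SL_n`, used for the fusion systems of `PSL_n` in defining characteristic.
-/

set_option autoImplicit false

namespace Cfsg.Agent.Fusion.UniTri

open Matrix

variable {n : ℕ} {F : Type*} [Field F] [Fintype F]

local notation "SLn" => Matrix.SpecialLinearGroup (Fin n) F

theorem mul_apply_le {A B : Matrix (Fin n) (Fin n) F} (hA : ∀ i j, j < i → A i j = 0)
    (hB : ∀ i j, j < i → B i j = 0) {i j : Fin n} (hji : j ≤ i) : (A * B) i j = A i i * B i j := by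
  rw [Matrix.mul_apply]
  refine Finset.sum_eq_single i (fun k _ hk => ?_) (by simp)
  rcases lt_or_gt_of_ne hk with h | h
  · rw [hA i k h, zero_mul]
  · rw [hB k j (lt_of_le_of_lt hji h), mul_zero]

theorem inv_mem_of_finite {G : Type*} [Group G] [Finite G] (M : Submonoid G) {x : G} (hx : x ∈ M) :
    x⁻¹ ∈ M := by
  rw [inv_eq_of_mul_eq_one_right (b := x ^ (orderOf x - 1))]
  · exact M.pow_mem hx _
  · rw [← pow_succ', Nat.sub_add_cancel (orderOf_pos x), pow_orderOf_eq_one]

/-- The upper triangular matrices. -/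
def triMonoid : Submonoid SLn where
  carrier := {M | ∀ i j, j < i → (M : Matrix (Fin n) (Fin n) F) i j = 0}
  one_mem' i j h := by simp [h.ne']
  mul_mem' {A B} hA hB i j h := by
    rw [Matrix.SpecialLinearGroup.coe_mul, mul_apply_le hA hB h.le, hB i j h, mul_zero]

/-- The upper triangular subgroup `B`. -/
def tri : Subgroup SLn where
  toSubmonoid := triMonoid
  inv_mem' := inv_mem_of_finite _

theorem mem_tri {M : SLn} : M ∈ tri ↔ ∀ i j, j < i → (M : Matrix (Fin n) (Fin n) F) i j = 0 := Iff.rfl

theorem tri_mul_diag {A B : SLn} (hA : A ∈ tri) (hB : B ∈ tri) (i : Fin n) :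
    ((A * B : SLn) : Matrix (Fin n) (Fin n) F) i i = (A : Matrix _ _ F) i i * (B : Matrix _ _ F) i i :=
  mul_apply_le hA hB le_rfl

theorem tri_pow_diag {A : SLn} (hA : A ∈ tri) (m : ℕ) (i : Fin n) :
    ((A ^ m : SLn) : Matrix (Fin n) (Fin n) F) i i = (A : Matrix _ _ F) i i ^ m := by
  induction m with
  | zero => simp
  | succ m ih => rw [pow_succ, tri_mul_diag (tri.pow_mem hA m) hA, ih, pow_succ]

/-- The unitriangular matrices. -/
def uniMonoid : Submonoid SLn where
  carrier := {M | M ∈ tri ∧ ∀ i, (M : Matrix (Fin n) (Fin n) F) i i = 1}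
  one_mem' := ⟨one_mem _, fun i => by simp⟩
  mul_mem' {A B} hA hB := ⟨mul_mem hA.1 hB.1, fun i => by rw [tri_mul_diag hA.1 hB.1, hA.2, hB.2, one_mul]⟩

/-- The unitriangular subgroup `U`. -/
def uni : Subgroup SLn where
  toSubmonoid := uniMonoid
  inv_mem' := inv_mem_of_finite _

theorem mem_uni {M : SLn} : M ∈ uni ↔ M ∈ tri ∧ ∀ i, (M : Matrix (Fin n) (Fin n) F) i i = 1 := Iff.rfl

theorem uni_le_tri : (uni : Subgroup SLn) ≤ tri := fun _ h => h.1

theorem mul_apply_succ {A B : SLn} (hA : A ∈ uni) (hB : B ∈ uni) {k k' : Fin n}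
    (hk : (k' : ℕ) = (k : ℕ) + 1) :
    ((A * B : SLn) : Matrix (Fin n) (Fin n) F) k k' =
      (A : Matrix _ _ F) k k' + (B : Matrix _ _ F) k k' := by
  have hne : k ≠ k' := fun h => by rw [h] at hk; omega
  rw [Matrix.SpecialLinearGroup.coe_mul, Matrix.mul_apply, Fintype.sum_eq_add k k' hne]
  · rw [hA.2, hB.2, one_mul, mul_one, add_comm]
  · rintro j ⟨h1, h2⟩
    rcases lt_or_gt_of_ne h1 with h | h
    · rw [hA.1 k j h, zero_mul]
    · have : k' < j := by
        rw [Fin.lt_def] at h ⊢
        have := Fin.val_ne_of_ne h2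
        omega
      rw [hB.1 j k' this, mul_zero]

/-- The unipotent radical of the `k`-th minimal parabolic: `U` with entry `(k, k+1)` zero. -/
def rad (k k' : Fin n) (hk : (k' : ℕ) = (k : ℕ) + 1) : Subgroup SLn where
  carrier := {M | M ∈ uni ∧ (M : Matrix (Fin n) (Fin n) F) k k' = 0}
  one_mem' := ⟨one_mem _, by
    have : k ≠ k' := fun h => by rw [h] at hk; omega
    simp [this]⟩
  mul_mem' {A B} hA hB := ⟨mul_mem hA.1 hB.1, by rw [mul_apply_succ hA.1 hB.1 hk, hA.2, hB.2, add_zero]⟩
  inv_mem' {A} hA := ⟨inv_mem hA.1, by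
    have h := mul_apply_succ hA.1 (inv_mem hA.1) hk
    have hne : k ≠ k' := fun h => by rw [h] at hk; omega
    rw [mul_inv_cancel, hA.2, zero_add] at h
    simpa [hne] using h.symm⟩

theorem mem_rad {k k' : Fin n} {hk : (k' : ℕ) = (k : ℕ) + 1} {M : SLn} :
    M ∈ rad k k' hk ↔ M ∈ uni ∧ (M : Matrix (Fin n) (Fin n) F) k k' = 0 := Iff.rfl

theorem rad_le_uni {k k' : Fin n} {hk : (k' : ℕ) = (k : ℕ) + 1} : (rad k k' hk : Subgroup SLn) ≤ uni :=
  fun _ h => h.1

theorem conj_mem_rad_of_uni {k k' : Fin n} {hk : (k' : ℕ) = (k : ℕ) + 1} {u r : SLn} (hu : u ∈ uni)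
    (hr : r ∈ rad k k' hk) : u * r * u⁻¹ ∈ rad k k' hk := by
  refine ⟨mul_mem (mul_mem hu hr.1) (inv_mem hu), ?_⟩
  have hne : k ≠ k' := fun h => by rw [h] at hk; omega
  have h1 := mul_apply_succ hu (inv_mem hu) hk
  rw [mul_inv_cancel] at h1
  rw [mul_apply_succ (mul_mem hu hr.1) (inv_mem hu) hk, mul_apply_succ hu hr.1 hk, hr.2, add_zero, ← h1]
  simp [hne]

/-! ### transvections and diagonal elements -/

theorem transvection_apply {i j : Fin n} (hij : i ≠ j) (c : F) (a b : Fin n) :
    ((SpecialLinearGroup.transvection hij c : SLn) : Matrix (Fin n) (Fin n) F) a b =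
      (if a = b then 1 else 0) + (if i = a ∧ j = b then c else 0) := by
  simp [SpecialLinearGroup.transvection_coe, Matrix.one_apply, Matrix.single_apply]

theorem transvection_mem_uni {i j : Fin n} (hij : i < j) (c : F) :
    SpecialLinearGroup.transvection hij.ne c ∈ (uni : Subgroup SLn) := by
  refine ⟨fun a b h => ?_, fun a => ?_⟩
  · rw [transvection_apply, if_neg h.ne', if_neg, add_zero]
    rintro ⟨rfl, rfl⟩
    exact lt_asymm hij h
  · rw [transvection_apply, if_pos rfl, if_neg, add_zero]
    rintro ⟨rfl, rfl⟩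
    exact lt_irrefl _ hij

theorem transvection_mem_rad {k k' : Fin n} {hk : (k' : ℕ) = (k : ℕ) + 1} {i j : Fin n} (hij : i < j)
    (h : ¬ (i = k ∧ j = k')) (c : F) : SpecialLinearGroup.transvection hij.ne c ∈ (rad k k' hk : Subgroup SLn) := by
  refine ⟨transvection_mem_uni hij c, ?_⟩
  have hne : k ≠ k' := fun h => by rw [h] at hk; omega
  rw [transvection_apply, if_neg hne, if_neg h, add_zero]

theorem transvection_pow {i j : Fin n} (hij : i ≠ j) (c : F) (m : ℕ) :
    (SpecialLinearGroup.transvection hij c : SLn) ^ m = SpecialLinearGroup.transvection hij (m * c) := by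
  induction m with
  | zero => simp
  | succ m ih => rw [pow_succ, ih, ← SpecialLinearGroup.transvection_add, Nat.cast_succ, add_mul, one_mul]

theorem transvection_pow_char (p : ℕ) [CharP F p] {i j : Fin n} (hij : i ≠ j) (c : F) :
    (SpecialLinearGroup.transvection hij c : SLn) ^ p = 1 := by
  rw [transvection_pow, CharP.cast_eq_zero F p, zero_mul, SpecialLinearGroup.transvection_coeff_zero]

/-- The matrix of the lower transvection normalises the radical. -/
theorem lower_conj_mem_rad {k k' : Fin n} {hk : (k' : ℕ) = (k : ℕ) + 1} (hne : k' ≠ k) (c : F) {r : SLn}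
    (hr : r ∈ rad k k' hk) :
    SpecialLinearGroup.transvection hne c * r * (SpecialLinearGroup.transvection hne c)⁻¹ ∈ rad k k' hk := by
  rw [SpecialLinearGroup.transvection_inv]
  set M : Matrix (Fin n) (Fin n) F := (r : Matrix (Fin n) (Fin n) F) with hM
  have hcoe : ((SpecialLinearGroup.transvection hne c * r * SpecialLinearGroup.transvection hne (-c) : SLn) :
      Matrix (Fin n) (Fin n) F) = Matrix.transvection k' k c * M * Matrix.transvection k' k (-c) := rfl
  have hkk : k < k' := by rw [Fin.lt_def]; omega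
  have htri : ∀ i j, j < i → M i j = 0 := hr.1.1
  have hdiag : ∀ i, M i i = 1 := hr.1.2
  have h0 : M k k' = 0 := hr.2
  have key : ∀ a b, (Matrix.transvection k' k c * M * Matrix.transvection k' k (-c) : Matrix _ _ F) a b =
      (M a b + if a = k' then c * M k b else 0) +
        if b = k then -c * (M a k' + if a = k' then c * M k k' else 0) else 0 := by
    intro a b
    have hleft : ∀ b, (Matrix.transvection k' k c * M : Matrix _ _ F) a b =
        M a b + if a = k' then c * M k b else 0 := by
      intro b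
      by_cases ha : a = k'
      · subst ha; rw [transvection_mul_apply_same, if_pos rfl]
      · rw [transvection_mul_apply_of_ne _ _ _ _ ha, if_neg ha, add_zero]
    by_cases hb : b = k
    · subst hb
      rw [mul_transvection_apply_same, if_pos rfl, hleft, hleft]
    · rw [mul_transvection_apply_of_ne _ _ _ _ hb, if_neg hb, hleft, add_zero]
  refine ⟨⟨fun a b hab => ?_, fun a => ?_⟩, ?_⟩
  · rw [hcoe, key]
    rw [htri a b hab, zero_add]
    by_cases ha : a = k'
    · subst ha
      rw [if_pos rfl, if_pos rfl, hdiag, h0]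
      by_cases hb : b = k
      · subst hb; rw [if_pos rfl, hdiag]; ring
      · rw [if_neg hb, htri k b, mul_zero, add_zero]
        rw [Fin.lt_def] at hab ⊢
        have := Fin.val_ne_of_ne hb
        omega
    · rw [if_neg ha, if_neg ha, zero_add, add_zero]
      by_cases hb : b = k
      · subst hb
        rw [if_pos rfl, htri a k', mul_zero]
        rw [Fin.lt_def] at hab ⊢
        have := Fin.val_ne_of_ne ha
        omega
      · rw [if_neg hb]
  · rw [hcoe, key]
    by_cases ha : a = k'
    · subst ha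
      rw [if_pos rfl, if_neg hkk.ne', hdiag, h0, mul_zero, add_zero, add_zero]
    · rw [if_neg ha]
      by_cases hb : a = k
      · subst hb; rw [if_pos rfl, if_neg ha, hdiag, h0]; ring
      · rw [if_neg hb, hdiag]; ring
  · rw [hcoe, key, if_neg hkk.ne, if_neg hkk.ne', h0]; ring

theorem mem_normalizer_rad_of_forall {k k' : Fin n} {hk : (k' : ℕ) = (k : ℕ) + 1} {g : SLn}
    (h : ∀ r ∈ rad k k' hk, g * r * g⁻¹ ∈ rad k k' hk) :
    g ∈ Subgroup.normalizer ((rad k k' hk : Subgroup SLn) : Set SLn) := by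
  refine Subgroup.mem_normalizer_iff_map_conj_eq.mpr (Subgroup.eq_of_le_of_card_ge ?_ ?_)
  · rintro _ ⟨r, hr, rfl⟩
    exact h r hr
  · rw [Subgroup.card_map_of_injective (MulAut.conj g).injective]

theorem uni_le_normalizer_rad {k k' : Fin n} {hk : (k' : ℕ) = (k : ℕ) + 1} :
    (uni : Subgroup SLn) ≤ Subgroup.normalizer ((rad k k' hk : Subgroup SLn) : Set SLn) :=
  fun _ hu => mem_normalizer_rad_of_forall fun _ hr => conj_mem_rad_of_uni hu hr

theorem lower_mem_normalizer_rad {k k' : Fin n} {hk : (k' : ℕ) = (k : ℕ) + 1} (hne : k' ≠ k) (c : F) :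
    SpecialLinearGroup.transvection hne c ∈ Subgroup.normalizer ((rad k k' hk : Subgroup SLn) : Set SLn) :=
  mem_normalizer_rad_of_forall fun _ hr => lower_conj_mem_rad hne c hr

/-! ### diagonal matrices -/

theorem det_eq_prod {M : SLn} (hM : M ∈ tri) : ∏ i, (M : Matrix (Fin n) (Fin n) F) i i = 1 := by
  rw [← Matrix.det_of_isUpperTriangular (M := (M : Matrix (Fin n) (Fin n) F)) (fun i j h => hM i j h)]
  exact M.2

/-- A diagonal matrix as an element of `SL`. -/
def diagSL (d : Fin n → F) (hd : ∏ i, d i = 1) : SLn := ⟨diagonal d, by rw [det_diagonal, hd]⟩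

theorem diag2n_mem_tri {i j : Fin n} (hij : i ≠ j) (a : F) (ha : a ≠ 0) :
    SpecialLinearGroup.diag2n hij a ha ∈ (tri : Subgroup SLn) := fun r c h => by
  simp [SpecialLinearGroup.diag2n_coe, h.ne']

theorem diag_mem_closure (d : Fin n → F) (hd : ∏ i, d i = 1) (H : Subgroup SLn)
    (hH : ∀ (k k' : Fin n) (hkk : k ≠ k') (_ : (k' : ℕ) = (k : ℕ) + 1) (t : F) (ht : t ≠ 0),
      SpecialLinearGroup.diag2n hkk t ht ∈ H) : diagSL d hd ∈ H := by
  suffices ∀ m : ℕ, ∀ (d : Fin n → F) (hd : ∏ i, d i = 1), (∀ i : Fin n, m < (i : ℕ) → d i = 1) →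
      diagSL d hd ∈ H from this n d hd fun i hi => absurd i.2 (by omega)
  intro m
  induction m with
  | zero =>
    intro d hd h
    have : diagSL d hd = 1 := by
      refine Subtype.ext ?_
      show diagonal d = 1
      rw [← diagonal_one]
      congr 1
      funext i
      by_cases hi : (i : ℕ) = 0
      · rw [← hd, Finset.prod_eq_single i (fun j _ hj => h j (by have := Fin.val_ne_of_ne hj; omega)) (by simp)]
      · exact h i (by omega)
    rw [this]; exact H.one_mem
  | succ m ih =>
    intro d hd h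
    by_cases hm : m + 1 < n
    · let k : Fin n := ⟨m, by omega⟩
      let k' : Fin n := ⟨m + 1, hm⟩
      have hkk : k ≠ k' := by simp [k, k']
      have ht : d k' ≠ 0 := fun h0 => by
        rw [Finset.prod_eq_zero (Finset.mem_univ k') h0] at hd
        exact zero_ne_one hd
      let e : Fin n → F := fun i => d i * if i = k then d k' else if i = k' then (d k')⁻¹ else 1
      have hprod : ∏ i, e i = 1 := by
        rw [Finset.prod_mul_distrib, hd, one_mul]
        have := (SpecialLinearGroup.diag2n hkk (d k') ht : SLn).2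
        simpa [SpecialLinearGroup.diag2n_coe, det_diagonal] using this
      have h1 := ih e hprod fun i hi => by
        have hik : i ≠ k := fun h => by subst h; simp [k] at hi
        by_cases hik' : i = k'
        · subst hik'; simp [e, hkk.symm, ht]
        · simp only [e, if_neg hik, if_neg hik', mul_one]
          exact h i (by
            have := Fin.val_ne_of_ne hik'
            simp only [k'] at this
            omega)
      have heq : diagSL d hd = diagSL e hprod * (SpecialLinearGroup.diag2n hkk (d k') ht)⁻¹ := by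
        rw [eq_mul_inv_iff_mul_eq]
        exact Subtype.ext (diagonal_mul_diagonal _ _)
      rw [heq]
      exact H.mul_mem h1 (H.inv_mem (hH k k' hkk rfl _ ht))
    · exact ih d hd fun i hi => h i (by omega)

theorem tri_decomp {M : SLn} (hM : M ∈ tri) :
    ∃ (d : Fin n → F) (hd : ∏ i, d i = 1) (u : SLn), u ∈ uni ∧ M = diagSL d hd * u ∧
      ∀ i, d i = (M : Matrix (Fin n) (Fin n) F) i i := by
  refine ⟨_, det_eq_prod hM, (diagSL _ (det_eq_prod hM))⁻¹ * M, ?_, (mul_inv_cancel_left _ _).symm, fun i => rfl⟩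
  have hd : diagSL _ (det_eq_prod hM) ∈ (tri : Subgroup SLn) := fun i j h => diagonal_apply_ne _ h.ne'
  refine ⟨mul_mem (inv_mem hd) hM, fun i => ?_⟩
  have h := tri_mul_diag hd (mul_mem (inv_mem hd) hM) i
  rw [mul_inv_cancel_left] at h
  rw [show ((diagSL _ (det_eq_prod hM) : SLn) : Matrix (Fin n) (Fin n) F) i i =
    (M : Matrix (Fin n) (Fin n) F) i i from diagonal_apply_eq _ i] at h
  have hne : (M : Matrix (Fin n) (Fin n) F) i i ≠ 0 := fun h0 => by
    have := det_eq_prod hM
    rw [Finset.prod_eq_zero (f := fun j => (M : Matrix (Fin n) (Fin n) F) j j) (Finset.mem_univ i) h0] at this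
    exact zero_ne_one this
  exact (mul_eq_left₀ hne).mp h.symm

/-- An upper triangular matrix with constant diagonal is a central element times a unitriangular one. -/
theorem const_diag_decomp {M : SLn} (hM : M ∈ tri)
    (hc : ∀ i j, (M : Matrix (Fin n) (Fin n) F) i i = (M : Matrix (Fin n) (Fin n) F) j j) :
    ∃ z ∈ Subgroup.center SLn, ∃ u ∈ uni, M = z * u := by
  obtain ⟨d, hd, u, hu, hMu, hdM⟩ := tri_decomp hM
  refine ⟨diagSL d hd, ?_, u, hu, hMu⟩
  rw [Matrix.SpecialLinearGroup.mem_center_iff]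
  rcases Nat.eq_zero_or_pos n with hn | hn
  · subst hn; exact ⟨1, one_pow _, Matrix.ext fun i => i.elim0⟩
  · refine ⟨d ⟨0, hn⟩, ?_, ?_⟩
    · rw [← hd, Finset.prod_eq_pow_card (b := d ⟨0, hn⟩) fun i _ => (by rw [hdM, hdM]; exact hc _ _),
        Finset.card_univ]
    · show scalar (Fin n) _ = diagonal d
      rw [scalar_apply]
      congr 1
      funext i
      rw [hdM, hdM]; exact hc _ _

/-! ### `p`-elements -/

section Char

variable (p : ℕ) [Fact p.Prime] [CharP F p]

theorem eq_of_pow_eq {x y : F} {k : ℕ} (h : x ^ p ^ k = y ^ p ^ k) : x = y := by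
  have h1 : (x - y) ^ p ^ k = 0 := by rw [sub_pow_char_pow, h, sub_self]
  exact sub_eq_zero.mp (pow_eq_zero_iff (pow_ne_zero k (Fact.out : p.Prime).ne_zero) |>.mp h1)

theorem mem_uni_of_pow {M : SLn} (hM : M ∈ tri) {k : ℕ} (h : M ^ p ^ k = 1) : M ∈ uni := by
  refine ⟨hM, fun i => eq_of_pow_eq p (k := k) ?_⟩
  rw [← tri_pow_diag hM, h, one_pow]
  simp

theorem isPGroup_uni : IsPGroup p (uni : Subgroup SLn) := by
  obtain ⟨k, hk⟩ : ∃ k, n ≤ p ^ k := ⟨n, (Nat.lt_pow_self (Fact.out : p.Prime).one_lt).le⟩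
  rintro ⟨u, hu⟩
  refine ⟨k, Subtype.ext (Subtype.ext ?_)⟩
  show (u : Matrix (Fin n) (Fin n) F) ^ p ^ k = 1
  rcases Nat.eq_zero_or_pos n with hn | hn
  · subst hn; exact Matrix.ext fun i => i.elim0
  set M : Matrix (Fin n) (Fin n) F := (u : Matrix (Fin n) (Fin n) F) with hMdef
  have hcp : M.charpoly = (Polynomial.X - 1) ^ n := by
    have hM1 : ∀ i, M i i = 1 := hu.2
    have hM0 : ∀ i j, j < i → M i j = 0 := hu.1
    have htri : M.charmatrix.IsUpperTriangular := fun i j h => by
      have h' : j < i := h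
      rw [charmatrix_apply_ne _ _ _ h'.ne', hM0 i j h']; simp
    rw [Matrix.charpoly, Matrix.det_of_isUpperTriangular htri,
      Finset.prod_eq_pow_card (b := Polynomial.X - 1) fun i _ => by
        rw [charmatrix_apply_eq, hM1 i, map_one], Finset.card_univ, Fintype.card_fin]
  have h0 : (M - 1) ^ n = 0 := by
    have := Matrix.aeval_self_charpoly M
    rw [hcp] at this
    simpa using this
  have : Nonempty (Fin n) := ⟨⟨0, hn⟩⟩
  have h1 : (M - 1) ^ p ^ k = 0 := pow_eq_zero_of_le hk h0
  rw [sub_pow_char_pow_of_commute _ _ (Commute.one_right M), one_pow, sub_eq_zero] at h1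
  exact h1

end Char

/-! ### normaliser of `U` -/

theorem tri_le_normalizer_uni : (tri : Subgroup SLn) ≤ Subgroup.normalizer ((uni : Subgroup SLn) : Set SLn) := by
  intro g hg
  refine Subgroup.mem_normalizer_iff_map_conj_eq.mpr (Subgroup.eq_of_le_of_card_ge ?_ ?_)
  · rintro _ ⟨u, hu, rfl⟩
    refine ⟨mul_mem (mul_mem hg hu.1) (inv_mem hg), fun i => ?_⟩
    have h := tri_mul_diag hg (inv_mem hg) i
    rw [mul_inv_cancel] at h
    show ((g * u * g⁻¹ : SLn) : Matrix (Fin n) (Fin n) F) i i = 1
    rw [tri_mul_diag (mul_mem hg hu.1) (inv_mem hg), tri_mul_diag hg hu.1, hu.2, mul_one, ← h]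
    simp
  · rw [Subgroup.card_map_of_injective (MulAut.conj g).injective]

theorem mem_tri_of_conj {x : SLn} (h : ∀ u ∈ (uni : Subgroup SLn), x * u * x⁻¹ ∈ uni) : x ∈ tri := by
  intro i a hai
  by_contra hne
  set X : Matrix (Fin n) (Fin n) F := (x : Matrix (Fin n) (Fin n) F) with hX
  set Y : Matrix (Fin n) (Fin n) F := ((x⁻¹ : SLn) : Matrix (Fin n) (Fin n) F) with hY
  have hXY : X * Y = 1 := by
    rw [hX, hY, ← Matrix.SpecialLinearGroup.coe_mul, mul_inv_cancel]; rfl
  have hYX : Y * X = 1 := by
    rw [hX, hY, ← Matrix.SpecialLinearGroup.coe_mul, inv_mul_cancel]; rfl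
  have hz : ∀ b j, a < b → j ≤ i → Y b j = 0 := by
    intro b j hab hji
    have hu := h _ (transvection_mem_uni hab (1 : F))
    have h1 : ((x * SpecialLinearGroup.transvection hab.ne (1 : F) * x⁻¹ : SLn) : Matrix (Fin n) (Fin n) F) i j =
        (if i = j then 1 else 0) + X i a * Y b j := by
      show (X * Matrix.transvection a b (1 : F) * Y) i j = _
      rw [Matrix.transvection, mul_add, add_mul, mul_one, hXY, Matrix.add_apply, one_apply]
      congr 1
      rw [mul_apply, Finset.sum_eq_single b
        (fun c _ hc => mul_eq_zero_of_left (Matrix.mul_single_apply_of_ne _ _ _ _ _ hc X) _) (by simp)]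
      simp
    rcases hji.lt_or_eq with hji' | hji'
    · rw [hu.1 i j hji', if_neg hji'.ne', zero_add] at h1
      exact (mul_eq_zero.mp h1.symm).resolve_left hne
    · subst hji'
      rw [hu.2 j, if_pos rfl] at h1
      exact (mul_eq_zero.mp (left_eq_add.mp h1)).resolve_left hne
  let Y' : Matrix {b : Fin n // a < b} {j : Fin n // i < j} F := Y.submatrix Subtype.val Subtype.val
  let X' : Matrix {j : Fin n // i < j} {b : Fin n // a < b} F := X.submatrix Subtype.val Subtype.val
  have hmul : Y' * X' = 1 := by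
    ext b c
    have h2 : (Y * X) b.1 c.1 = ∑ j : {j : Fin n // i < j}, Y b.1 j.1 * X j.1 c.1 := by
      rw [← Finset.sum_subtype (Finset.univ.filter (i < ·)) (fun x => by simp) (fun j => Y b.1 j * X j c.1),
        Finset.sum_filter, mul_apply]
      refine Finset.sum_congr rfl fun j _ => ?_
      by_cases hj : i < j
      · rw [if_pos hj]
      · rw [if_neg hj, hz b.1 j b.2 (not_lt.mp hj), zero_mul]
    rw [hYX] at h2
    rw [mul_apply]
    simp only [Y', X', submatrix_apply]
    refine Eq.trans h2.symm ?_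
    simp [one_apply, Subtype.ext_iff]
  have hrank := Matrix.rank_mul_le_left Y' X'
  rw [hmul, Matrix.rank_one] at hrank
  have hlt : Fintype.card {j : Fin n // i < j} < Fintype.card {b : Fin n // a < b} :=
    Fintype.card_lt_of_injective_of_notMem (fun j => ⟨j.1, lt_trans hai j.2⟩)
      (fun j j' hjj => Subtype.ext (Subtype.mk.inj hjj)) (b := ⟨i, hai⟩) (by
        rintro ⟨j, hj⟩
        exact (j.2).ne' (Subtype.mk.inj hj))
  exact absurd (hrank.trans (Y'.rank_le_card_width)) (not_le.mpr hlt)

/-! ### centralisers -/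

theorem comm_transvection {M : SLn} {i j : Fin n} (hij : i ≠ j)
    (h : M * SpecialLinearGroup.transvection hij (1 : F) = SpecialLinearGroup.transvection hij (1 : F) * M) :
    (∀ a, a ≠ i → (M : Matrix (Fin n) (Fin n) F) a i = 0) ∧
      (∀ b, b ≠ j → (M : Matrix (Fin n) (Fin n) F) j b = 0) ∧
      (M : Matrix (Fin n) (Fin n) F) i i = (M : Matrix (Fin n) (Fin n) F) j j := by
  set A : Matrix (Fin n) (Fin n) F := (M : Matrix (Fin n) (Fin n) F)
  have h' : A * Matrix.transvection i j (1 : F) = Matrix.transvection i j (1 : F) * A := congrArg Subtype.val h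
  refine ⟨fun a ha => ?_, fun b hb => ?_, ?_⟩
  · have := congrFun (congrFun h' a) j
    rw [mul_transvection_apply_same, transvection_mul_apply_of_ne _ _ _ _ ha] at this
    simpa using this
  · have := congrFun (congrFun h' i) b
    rw [mul_transvection_apply_of_ne _ _ _ _ hb, transvection_mul_apply_same] at this
    simpa using this.symm
  · have := congrFun (congrFun h' i) j
    rw [mul_transvection_apply_same, transvection_mul_apply_same] at this
    simpa using this

/-- The centraliser of `U` is central times the corner root subgroup. -/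
theorem centralizer_uni (hn : 3 ≤ n) {M : SLn} (h : ∀ (i j : Fin n) (hij : i < j),
      M * SpecialLinearGroup.transvection hij.ne (1 : F) = SpecialLinearGroup.transvection hij.ne (1 : F) * M) :
    ∃ z ∈ Subgroup.center SLn, ∃ c : F,
      M = z * SpecialLinearGroup.transvection (i := (⟨0, by omega⟩ : Fin n)) (j := ⟨n - 1, by omega⟩)
        (by simp [Fin.ext_iff]; omega) c := by
  set A : Matrix (Fin n) (Fin n) F := (M : Matrix (Fin n) (Fin n) F) with hA
  set o : Fin n := ⟨0, by omega⟩
  set l : Fin n := ⟨n - 1, by omega⟩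
  have hol : o < l := by simp [o, l, Fin.lt_def]; omega
  have hoff : ∀ a b, a ≠ b → ¬ (a = o ∧ b = l) → A a b = 0 := by
    intro a b hab hne
    by_cases hb : b = l
    · have ha : a ≠ o := fun h => hne ⟨h, hb⟩
      exact (comm_transvection (show o ≠ a from ha.symm) (h o a (by
        rw [Fin.lt_def]; have := Fin.val_ne_of_ne ha; simp [o] at this ⊢; omega))).2.1 b hab.symm
    · exact (comm_transvection (show b ≠ l from hb) (h b l (by
        rw [Fin.lt_def]; have := Fin.val_ne_of_ne hb; simp [l] at this ⊢; omega))).1 a hab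
  have hd : ∀ a, A a a = A o o := by
    intro a
    by_cases ha : a = o
    · rw [ha]
    · exact ((comm_transvection (show o ≠ a from Ne.symm ha) (h o a (by
        rw [Fin.lt_def]; have := Fin.val_ne_of_ne ha; simp [o] at this ⊢; omega))).2.2).symm
  have htri : M ∈ tri := fun a b hab => hoff a b hab.ne' (by rintro ⟨rfl, rfl⟩; exact lt_asymm hab hol)
  obtain ⟨z, hz, u, hu, hM⟩ := const_diag_decomp htri (fun a b => (hd a).trans (hd b).symm)
  obtain ⟨r, hr, hzr⟩ := Matrix.SpecialLinearGroup.mem_center_iff.mp hz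
  refine ⟨z, hz, (u : Matrix (Fin n) (Fin n) F) o l, ?_⟩
  rw [hM]
  congr 1
  refine Subtype.ext (Matrix.ext fun a b => ?_)
  rw [transvection_apply]
  by_cases hab : a = b
  · subst hab; rw [hu.2, if_pos rfl, if_neg, add_zero]
    rintro ⟨rfl, h⟩; exact hol.ne h.symm
  by_cases hc : o = a ∧ l = b
  · rw [if_neg hab, if_pos hc, zero_add, ← hc.1, ← hc.2]
  · rw [if_neg hab, if_neg hc, zero_add]
    have hr0 : r ≠ 0 := fun h0 => by rw [h0, zero_pow (by simp; omega)] at hr; exact zero_ne_one hr
    have h0 := hoff a b hab (fun h => hc ⟨h.1.symm, h.2.symm⟩)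
    have : A a b = r * (u : Matrix (Fin n) (Fin n) F) a b := by
      rw [hA, hM, Matrix.SpecialLinearGroup.coe_mul, ← hzr, scalar_apply, diagonal_mul]
    rw [this] at h0
    exact (mul_eq_zero.mp h0).resolve_left hr0

/-- The centraliser of a radical is central times part of the radical. -/
theorem centralizer_rad (hn : 3 ≤ n) {k k' : Fin n} (hk : (k' : ℕ) = (k : ℕ) + 1) {M : SLn}
    (h : ∀ r ∈ rad k k' hk, M * r = r * M) :
    ∃ z ∈ Subgroup.center SLn, ∃ u ∈ rad k k' hk, M = z * u := by
  set A : Matrix (Fin n) (Fin n) F := (M : Matrix (Fin n) (Fin n) F) with hA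
  set o : Fin n := ⟨0, by omega⟩ with ho
  set l : Fin n := ⟨n - 1, by omega⟩ with hl
  have hc : ∀ i j : Fin n, i < j → ¬ (i = k ∧ j = k') →
      (∀ a, a ≠ i → A a i = 0) ∧ (∀ b, b ≠ j → A j b = 0) ∧ A i i = A j j :=
    fun i j hij hne => comm_transvection hij.ne (h _ (transvection_mem_rad hij hne 1))
  have ok : ∀ (a b : Fin n), a < b → ((a : ℕ) ≠ (k : ℕ) ∨ (b : ℕ) ≠ (k' : ℕ)) → ¬ (a = k ∧ b = k') := by
    rintro a b - h1 ⟨rfl, rfl⟩; simp at h1
  have hd : ∀ a, A a a = A o o := by
    intro a
    by_cases ha : a = o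
    · rw [ha]
    by_cases hak : o = k ∧ a = k'
    · obtain ⟨h1, h2⟩ := hak
      have hk0 : (k : ℕ) = 0 := by rw [← h1]
      have h3 : a < l := by rw [Fin.lt_def, h2]; simp [l]; omega
      have h4 : o < l := by rw [Fin.lt_def]; simp [o, l]; omega
      rw [(hc a l h3 (ok a l h3 (Or.inl (by rw [h2]; omega)))).2.2,
        (hc o l h4 (ok o l h4 (Or.inr (by simp [l]; omega)))).2.2]
    · have h4 : o < a := by rw [Fin.lt_def]; have := Fin.val_ne_of_ne ha; simp [o] at this ⊢; omega
      exact ((hc o a h4 hak).2.2).symm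
  have hoff : ∀ a b : Fin n, a ≠ b → A a b ≠ 0 →
      ((b : ℕ) = n - 1 ∨ ((b : ℕ) = k ∧ (k' : ℕ) = n - 1)) ∧ ((a : ℕ) = 0 ∨ ((a : ℕ) = k' ∧ (k : ℕ) = 0)) := by
    intro a b hab hne
    constructor
    · by_contra hcon
      have h1 : b < l := by rw [Fin.lt_def]; have := b.2; simp [l]; omega
      exact hne ((hc b l h1 (ok b l h1 (by simp [l]; omega))).1 a hab)
    · by_contra hcon
      have h1 : o < a := by rw [Fin.lt_def]; simp [o]; omega
      exact hne ((hc o a h1 (ok o a h1 (by simp [o]; omega))).2.1 b hab.symm)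
  have htri : M ∈ tri := by
    intro a b hab
    by_contra hne
    have := hoff a b hab.ne' hne
    rw [Fin.lt_def] at hab
    have := a.2
    omega
  obtain ⟨z, hz, u, hu, hM⟩ := const_diag_decomp htri (fun a b => (hd a).trans (hd b).symm)
  refine ⟨z, hz, u, ⟨hu, ?_⟩, hM⟩
  by_contra hne
  obtain ⟨r, hr, hzr⟩ := Matrix.SpecialLinearGroup.mem_center_iff.mp hz
  have hr0 : r ≠ 0 := fun h0 => by rw [h0, zero_pow (by simp; omega)] at hr; exact zero_ne_one hr
  have h1 : A k k' ≠ 0 := by
    rw [hA, hM, Matrix.SpecialLinearGroup.coe_mul, ← hzr, scalar_apply, diagonal_mul]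
    exact mul_ne_zero hr0 hne
  have := hoff k k' (fun h => by rw [h] at hk; omega) h1
  omega

/-! ### generation of `U` by transvections -/

theorem uni_le_of_transvection_mem {H : Subgroup SLn}
    (hH : ∀ (i j : Fin n) (hij : i < j) (c : F), SpecialLinearGroup.transvection hij.ne c ∈ H) :
    (uni : Subgroup SLn) ≤ H := by
  suffices ∀ m : ℕ, ∀ u : SLn, u ∈ uni →
      (∀ a b : Fin n, m ≤ (a : ℕ) → a < b → (u : Matrix (Fin n) (Fin n) F) a b = 0) → u ∈ H from
    fun u hu => this n u hu fun a b ha => absurd a.2 (by omega)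
  intro m
  induction m with
  | zero =>
    intro u hu h
    have : u = 1 := Subtype.ext <| Matrix.ext fun a b => by
      rcases lt_trichotomy a b with hab | hab | hab
      · rw [h a b (Nat.zero_le _) hab]; simp [hab.ne]
      · subst hab; rw [hu.2]; simp
      · rw [hu.1 a b hab]; simp [hab.ne']
    rw [this]; exact H.one_mem
  | succ m ih =>
    intro u hu h
    by_cases hm : m < n
    swap
    · exact ih u hu fun a b ha => absurd a.2 (by omega)
    let k : Fin n := ⟨m, hm⟩
    suffices ∀ s : Finset (Fin n), (∀ j ∈ s, k < j) → ∀ u : SLn, u ∈ uni →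
        (∀ a b : Fin n, m + 1 ≤ (a : ℕ) → a < b → (u : Matrix (Fin n) (Fin n) F) a b = 0) →
        (∀ b, k < b → b ∉ s → (u : Matrix (Fin n) (Fin n) F) k b = 0) → u ∈ H from
      this (Finset.univ.filter (k < ·)) (fun j hj => (Finset.mem_filter.mp hj).2) u hu h
        (fun b hb hb' => absurd (Finset.mem_filter.mpr ⟨Finset.mem_univ b, hb⟩) hb')
    intro s
    induction s using Finset.induction with
    | empty =>
      intro _ u hu h hrow
      refine ih u hu fun a b ha hab => ?_
      rcases ha.eq_or_lt with ha' | ha'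
      · have : a = k := Fin.ext ha'.symm
        subst this
        exact hrow b hab (by simp)
      · exact h a b ha' hab
    | insert j s hjs ihs =>
      intro hs u hu h hrow
      have hkj : k < j := hs j (Finset.mem_insert_self _ _)
      set c := (u : Matrix (Fin n) (Fin n) F) k j
      have hkey : ∀ a b, ((u * SpecialLinearGroup.transvection hkj.ne (-c) : SLn) : Matrix (Fin n) (Fin n) F) a b =
          (u : Matrix (Fin n) (Fin n) F) a b + if b = j then -c * (u : Matrix (Fin n) (Fin n) F) a k else 0 := by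
        intro a b
        show ((u : Matrix (Fin n) (Fin n) F) * Matrix.transvection k j (-c)) a b = _
        by_cases hb : b = j
        · subst hb; rw [mul_transvection_apply_same, if_pos rfl]
        · rw [mul_transvection_apply_of_ne _ _ _ _ hb, if_neg hb, add_zero]
      have h1 := ihs (fun x hx => hs x (Finset.mem_insert_of_mem hx)) _ (mul_mem hu (transvection_mem_uni hkj (-c)))
        (fun a b ha hab => by
          rw [hkey, h a b ha hab, zero_add]
          split_ifs with hb
          · rw [hu.1 a k (by rw [Fin.lt_def]; simp [k]; omega), mul_zero]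
          · rfl)
        (fun b hb hb' => by
          rw [hkey]
          by_cases hbj : b = j
          · subst hbj; rw [if_pos rfl, hu.2]; simp [c]
          · rw [if_neg hbj, add_zero]; exact hrow b hb (by simp [hbj, hb']))
      have h2 := H.mul_mem h1 (hH k j hkj c)
      rwa [mul_assoc, ← SpecialLinearGroup.transvection_add, neg_add_cancel,
        SpecialLinearGroup.transvection_coeff_zero, mul_one] at h2

/-! ### transvections are conjugate -/

theorem exists_conj_transvection (hn : 3 ≤ n) {a b i j : Fin n} (hab : a ≠ b) (hij : i ≠ j) {x y : F}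
    (hx : x ≠ 0) (hy : y ≠ 0) :
    ∃ g : SLn, g * SpecialLinearGroup.transvection hab x * g⁻¹ = SpecialLinearGroup.transvection hij y := by
  obtain ⟨σ, hσa, hσb⟩ : ∃ σ : Equiv.Perm (Fin n), σ a = i ∧ σ b = j := by
    refine ⟨Equiv.swap ((Equiv.swap a i) b) j * Equiv.swap a i, ?_, ?_⟩
    · rw [Equiv.Perm.mul_apply, Equiv.swap_apply_left]
      refine Equiv.swap_apply_of_ne_of_ne ?_ hij
      intro h
      have := congrArg (Equiv.swap a i) h
      rw [Equiv.swap_apply_right, Equiv.swap_apply_self] at this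
      exact hab this
    · rw [Equiv.Perm.mul_apply, Equiv.swap_apply_left]
  obtain ⟨l, hli, hlj⟩ : ∃ l : Fin n, l ≠ i ∧ l ≠ j := by
    have : (({i, j} : Finset (Fin n))).card < Fintype.card (Fin n) := by
      rw [Fintype.card_fin]; exact lt_of_le_of_lt Finset.card_le_two (by omega)
    obtain ⟨l, hl⟩ := Finset.card_lt_iff_ne_univ _ |>.mp this |> fun h => by
      simpa [Finset.eq_univ_iff_forall] using h
    exact ⟨l, hl.1, hl.2⟩
  set P : Matrix (Fin n) (Fin n) F := (σ⁻¹).permMatrix F
  have hdetP : P.det ≠ 0 := by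
    rw [Matrix.det_permutation]
    exact (Units.isUnit _).map (Int.castRingHom F) |>.ne_zero
  set t := y / x
  let d : Fin n → F := fun m => if m = i then t else if m = l then (P.det * t)⁻¹ else 1
  have ht : t ≠ 0 := div_ne_zero hy hx
  have hdet : (diagonal d * P).det = 1 := by
    rw [det_mul, det_diagonal, Fintype.prod_eq_mul i l hli.symm (fun m hm => by simp [d, hm.1, hm.2])]
    simp only [d, if_neg hli, if_true]
    field_simp
  refine ⟨⟨diagonal d * P, hdet⟩, mul_inv_eq_iff_eq_mul.mpr (Subtype.ext ?_)⟩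
  show diagonal d * P * Matrix.transvection a b x = Matrix.transvection i j y * (diagonal d * P)
  have hPe : ∀ r c, P r c = if σ c = r then 1 else 0 := by
    intro r c
    simp [P, PEquiv.toMatrix_apply, Equiv.eq_symm_apply, eq_comm]
  have hde : ∀ r c, (diagonal d * P) r c = if σ c = r then d r else 0 := by
    intro r c; rw [diagonal_mul, hPe]; simp
  ext r c
  by_cases hr : r = i <;> by_cases hc : c = b
  · subst hr hc
    rw [mul_transvection_apply_same, transvection_mul_apply_same]
    simp only [hde, hσa, hσb, if_true, hij.symm, if_false]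
    simp [d, hij.symm, hlj.symm, t]
    field_simp
  · subst hr
    rw [mul_transvection_apply_of_ne _ _ _ _ hc, transvection_mul_apply_same, hde j c, if_neg, mul_zero,
      add_zero]
    rw [← hσb]; exact fun h => hc (σ.injective h)
  · subst hc
    rw [mul_transvection_apply_same, transvection_mul_apply_of_ne _ _ _ _ hr, hde r a, hσa,
      if_neg (Ne.symm hr), mul_zero, add_zero]
  · rw [mul_transvection_apply_of_ne _ _ _ _ hc, transvection_mul_apply_of_ne _ _ _ _ hr]

end Cfsg.Agent.Fusion.UniTri
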