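import Cfsg.Agent.Lib.Fusion.SympSL2

/-!
The normaliser of the unipotent subgroup of the symplectic group is inside the Borel subgroup.
-/

set_option autoImplicit false
set_option linter.unusedSectionVars false

namespace Cfsg.Agent.Fusion.SympBlocks

open Matrix Cfsg.Agent.Fusion.UniTri

/-- An element carrying a regular unipotent element into the unitriangular group is triangular. -/
theorem tri_of_intertwine {n : ℕ} {F : Type*} [Field F] {N N' y : Matrix (Fin n) (Fin n) F}
    (hN : ∀ i j, j ≤ i → N i j = 0) (hs : ∀ i j : Fin n, (j : ℕ) = (i : ℕ) + 1 → N i j ≠ 0)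
    (hN' : ∀ i j, j ≤ i → N' i j = 0) (h : N * y = y * N') : ∀ i j, j < i → y i j = 0 := by
  suffices ∀ c : ℕ, ∀ i j : Fin n, (j : ℕ) = c → j < i → y i j = 0 from fun i j => this j i j rfl
  intro c
  induction c using Nat.strong_induction_on with
  | _ c ih =>
    intro i j hj
    suffices ∀ d : ℕ, ∀ i : Fin n, n - (i : ℕ) = d → j < i → y i j = 0 from this _ i rfl
    intro d
    induction d using Nat.strong_induction_on with
    | _ d ihd =>
      intro i hd hji
      have hji' : (j : ℕ) < i := hji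
      let i' : Fin n := ⟨(i : ℕ) - 1, by omega⟩
      have hge : (j : ℕ) ≤ i' := by simp [i']; omega
      have hR : (y * N') i' j = 0 := by
        rw [Matrix.mul_apply]
        refine Finset.sum_eq_zero fun l _ => ?_
        by_cases hl : l < j
        · rw [ih l (hj ▸ hl) i' l rfl (lt_of_lt_of_le hl hge), zero_mul]
        · rw [hN' l j (not_lt.mp hl), mul_zero]
      rw [← h, Matrix.mul_apply, Finset.sum_eq_single i] at hR
      · exact (mul_eq_zero.mp hR).resolve_left (hs i' i (by simp [i']; omega))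
      · intro l _ hl
        by_cases hle : l ≤ i'
        · rw [hN i' l hle, zero_mul]
        · have hlt : (i : ℕ) < l := by
            have h1 : ((i' : Fin n) : ℕ) < l := Fin.lt_def.mp (not_le.mp hle)
            have h2 := Fin.val_ne_of_ne hl
            simp [i'] at h1
            omega
          rw [ihd (n - l) (by omega) l rfl (lt_trans hji (Fin.lt_def.mpr hlt)), mul_zero]
      · simp

variable {m : ℕ} {F : Type*} [Field F]

local notation "Mm" => Matrix (Fin m) (Fin m) F
local notation "M2" => Matrix (Fin m ⊕ Fin m) (Fin m ⊕ Fin m) F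
local notation "Sp" => Matrix.symplecticGroup (Fin m) F

/-- The flag order `e₁, …, eₘ, fₘ, …, f₁`. -/
def flag : Fin m ⊕ Fin m ≃ Fin (m + m) :=
  (Equiv.sumCongr (Equiv.refl _) Fin.revPerm).trans finSumFinEquiv

theorem flag_inl (i : Fin m) : ((flag (Sum.inl i) : Fin (m + m)) : ℕ) = i := by simp [flag]

theorem flag_inr (i : Fin m) : ((flag (Sum.inr i) : Fin (m + m)) : ℕ) = m + (m - ((i : ℕ) + 1)) := by
  simp [flag, Fin.val_rev]
  omega

/-- An element in flag coordinates. -/
def flagMat (X : Sp) : Matrix (Fin (m + m)) (Fin (m + m)) F := (X : M2).submatrix flag.symm flag.symm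

theorem flagMat_apply (X : Sp) (a b : Fin m ⊕ Fin m) : flagMat X (flag a) (flag b) = (X : M2) a b := by
  simp [flagMat]

theorem flagMat_mul (X Y : Sp) : flagMat (X * Y) = flagMat X * flagMat Y := by
  rw [flagMat, flagMat, flagMat, Submonoid.coe_mul, Matrix.submatrix_mul_equiv]

theorem coe_apply_ll (X : Sp) (i j : Fin m) : (X : M2) (Sum.inl i) (Sum.inl j) = bA X i j := rfl
theorem coe_apply_lr (X : Sp) (i j : Fin m) : (X : M2) (Sum.inl i) (Sum.inr j) = bB X i j := rfl
theorem coe_apply_rl (X : Sp) (i j : Fin m) : (X : M2) (Sum.inr i) (Sum.inl j) = bC X i j := rfl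
theorem coe_apply_rr (X : Sp) (i j : Fin m) : (X : M2) (Sum.inr i) (Sum.inr j) = bD X i j := rfl

variable [Fintype F]

theorem flagMat_uni_sub_one {u : Sp} (hu : u ∈ spUni) :
    ∀ a b, b ≤ a → (flagMat u - 1) a b = 0 := by
  intro a b
  obtain ⟨a, rfl⟩ := (flag (m := m)).surjective a
  obtain ⟨b, rfl⟩ := (flag (m := m)).surjective b
  intro h
  rw [Matrix.sub_apply, flagMat_apply, Fin.le_def] at *
  rcases a with i | i <;> rcases b with j | j <;> simp only [flag_inl, flag_inr] at h
  · rw [coe_apply_ll]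
    rcases eq_or_lt_of_le (Fin.le_def.mpr h) with h' | h'
    · subst h'; simp [hu.2]
    · rw [hu.1.2 i j h']
      simp [h'.ne']
  · exact absurd h (by omega)
  · rw [coe_apply_rl, hu.1.1]
    simp
  · rw [coe_apply_rr, bD_eq hu.1, transpose_apply]
    have hle : i ≤ j := by
      rw [Fin.le_def]; omega
    rcases eq_or_lt_of_le hle with h' | h'
    · subst h'; simp [(inv_mem hu : u⁻¹ ∈ spUni).2]
    · rw [(inv_mem hu : u⁻¹ ∈ spUni).1.2 j i h']
      simp [h'.ne]

theorem exists_regular (hm : 0 < m) : ∃ u ∈ (spUni : Subgroup Sp), ∀ a b : Fin (m + m),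
    (b : ℕ) = (a : ℕ) + 1 → (flagMat u - 1) a b ≠ 0 := by
  set A : Mm := Matrix.of fun i j => if i = j ∨ (j : ℕ) = (i : ℕ) + 1 then 1 else 0 with hAdef
  have hA0 : ∀ i j, j < i → A i j = 0 := fun i j h => by
    have := Fin.lt_def.mp h
    simp [A, h.ne']
    omega
  have hdet : A.det = 1 := by
    rw [det_of_isUpperTriangular (M := A) hA0]
    simp [A]
  let g : Matrix.SpecialLinearGroup (Fin m) F := ⟨A, hdet⟩
  have hg : g ∈ uni := ⟨hA0, fun i => by simp [g, A]⟩
  let l : Fin m := ⟨m - 1, by omega⟩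
  set u : Sp := levS g * sh (dE l) (dE_transpose l)
  have hu : u ∈ spUni := mul_mem (levS_mem_spUni hg) (sh_mem_spUni _)
  refine ⟨u, hu, fun a b => ?_⟩
  obtain ⟨a, rfl⟩ := (flag (m := m)).surjective a
  obtain ⟨b, rfl⟩ := (flag (m := m)).surjective b
  intro h
  have hne : flag a ≠ flag b := fun e => by rw [e] at h; omega
  rw [Matrix.sub_apply, one_apply_ne hne, sub_zero, flagMat_apply]
  have hA' : bA u = A := by
    simp only [u, bA_mul, sh, bA_ofBlocks, bC_ofBlocks, mul_zero, add_zero, mul_one, bA_levS]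
    rfl
  rcases a with i | i <;> rcases b with j | j <;> simp only [flag_inl, flag_inr] at h
  · rw [coe_apply_ll, hA']
    simp [A, h]
  · have hi : i = l := Fin.ext (by simp [l]; omega)
    have hj : j = l := Fin.ext (by simp [l]; omega)
    rw [coe_apply_lr, hi, hj]
    simp only [u, bB_mul, sh, bB_ofBlocks, bD_ofBlocks, bB_levS, zero_mul, add_zero, bA_levS]
    simp [g, dE, A]
  · exact absurd h (by omega)
  · have hij : (i : ℕ) = (j : ℕ) + 1 := by omega
    rw [coe_apply_rr]
    have hDu : bD u = bD (levS g) := by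
      simp only [u, bD_mul, sh, bB_ofBlocks, bD_ofBlocks, mul_one, show bC (levS g) = 0 from bC_lev _, zero_mul, zero_add]
    have hgi : bD (levS g) i j = ((g⁻¹ : Matrix.SpecialLinearGroup (Fin m) F) : Mm) j i := by
      show bD (lev _) i j = _
      rw [bD_lev, ← map_inv]
      rfl
    have h1 := mul_apply_succ hg (inv_mem hg) (k := j) (k' := i) hij
    rw [mul_inv_cancel] at h1
    simp only [Matrix.SpecialLinearGroup.coe_one, one_apply_ne (show j ≠ i from fun e => by
      rw [e] at hij; omega)] at h1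
    rw [hDu, hgi, eq_neg_of_add_eq_zero_right h1.symm]
    simp [g, A, hij]

theorem mem_bor_of_normalizer (hm : 0 < m) {x : Sp}
    (hx : x ∈ Subgroup.normalizer ((spUni : Subgroup Sp) : Set Sp)) : x ∈ bor := by
  obtain ⟨u, hu, hs⟩ := exists_regular (m := m) (F := F) hm
  have hu' : x⁻¹ * u * x ∈ spUni := by
    have := (Subgroup.mem_normalizer_iff.mp (inv_mem hx) u).mp hu
    rwa [inv_inv] at this
  have e : (flagMat u - 1) * flagMat x = flagMat x * (flagMat (x⁻¹ * u * x) - 1) := by
    rw [sub_mul, mul_sub, one_mul, mul_one, ← flagMat_mul, ← flagMat_mul, mul_assoc, mul_inv_cancel_left]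
  have hy := tri_of_intertwine (flagMat_uni_sub_one hu) hs (flagMat_uni_sub_one hu') e
  refine ⟨?_, fun i j h => ?_⟩
  · ext i j
    have := hy (flag (Sum.inr i)) (flag (Sum.inl j)) (by rw [Fin.lt_def, flag_inl, flag_inr]; omega)
    rwa [flagMat_apply, coe_apply_rl] at this
  · have := hy (flag (Sum.inl i)) (flag (Sum.inl j)) (by rw [Fin.lt_def, flag_inl, flag_inl]; exact h)
    rwa [flagMat_apply, coe_apply_ll] at this

theorem bor_le_normalizer : (bor : Subgroup Sp) ≤ Subgroup.normalizer ((spUni : Subgroup Sp) : Set Sp) := by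
  intro g hg
  refine Subgroup.mem_normalizer_iff_map_conj_eq.mpr (Subgroup.eq_of_le_of_card_ge ?_
    (Subgroup.card_map_of_injective (MulAut.conj g).injective).ge)
  rintro _ ⟨u, hu, rfl⟩
  refine ⟨mul_mem (mul_mem hg hu.1) (inv_mem hg), fun i => ?_⟩
  show bA (g * u * g⁻¹) i i = 1
  rw [bor_diag_mul (mul_mem hg hu.1) (inv_mem hg), bor_diag_mul hg hu.1, hu.2, mul_one, mul_comm,
    bA_diag_inv hg]

theorem spUni_isPGroup (p : ℕ) [Fact p.Prime] [CharP F p] : IsPGroup p (spUni : Subgroup Sp) := by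
  rintro ⟨X, hX⟩
  obtain ⟨k, hk⟩ := isPGroup_uni (n := m) (F := F) p ⟨toSL hX, toSL_mem hX⟩
  have hA : bA (X ^ p ^ k) = 1 := by
    have hpow : ∀ j : ℕ, bA (X ^ j) = bA X ^ j := fun j => by
      induction j with
      | zero => simp
      | succ j ih => rw [pow_succ, bA_mul_bor hX.1, ih, pow_succ]
    rw [hpow]
    exact congrArg (fun g : Matrix.SpecialLinearGroup (Fin m) F => (g : Mm)) (congrArg Subtype.val hk)
  obtain ⟨S, hS, he⟩ := exists_sh_of_mem_siegel
    (show X ^ p ^ k ∈ siegel from ⟨pow_mem hX _, hA⟩)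
  refine ⟨k + 1, Subtype.ext ?_⟩
  show X ^ p ^ (k + 1) = 1
  rw [pow_succ, pow_mul, he]
  have : ∀ j : ℕ, ∀ h, (sh S hS) ^ j = sh (j • S) h := fun j => by
    induction j with
    | zero => intro h; rw [pow_zero, sh_congr h transpose_zero (zero_smul ℕ S), sh_zero]
    | succ j ih =>
      intro h
      rw [pow_succ, ih (by rw [transpose_smul, hS]), sh_mul]
      exact sh_congr _ _ (succ_nsmul S j).symm
  rw [this p (by rw [transpose_smul, hS]), sh_congr _ transpose_zero, sh_zero]
  ext i j
  simp [CharP.cast_eq_zero F p]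

end Cfsg.Agent.Fusion.SympBlocks
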