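import Cfsg.Agent.Lib.Fusion.Alperin
import Cfsg.Agent.Lib.PGroup.Basic

/-!
An essential subgroup has no chain with factors of order `p` that is invariant under its automisers, and the
stabiliser of any invariant chain is a normal `p`-subgroup of the automiser, hence inner.
-/

set_option autoImplicit false

namespace Cfsg.Agent.Fusion.SmallEss

open Cfsg Cfsg.FusionSystem Cfsg.Agent.Fusion

section Group

variable {G : Type*} [Group G]

theorem aut_iter_fix {α : MulAut G} {x c : G} (hc : α c = c) (hx : α x = x * c) (m : ℕ) :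
    (α ^ m) x = x * c ^ m := by
  induction m with
  | zero => simp
  | succ m ih =>
    rw [pow_succ', MulAut.mul_apply, ih, map_mul, map_pow, hc, hx, pow_succ', mul_assoc]

/-- The stabiliser in `A` of a chain of `A`-invariant subgroups. -/
def chainStab (A : Subgroup (MulAut G)) (f : ℕ → Subgroup G) (n : ℕ)
    (hinv : ∀ i ≤ n, ∀ α ∈ A, ∀ x ∈ f i, α x ∈ f i) : Subgroup (MulAut G) where
  carrier := {α | α ∈ A ∧ ∀ i < n, ∀ x ∈ f (i + 1), x⁻¹ * α x ∈ f i}
  one_mem' := ⟨A.one_mem, fun i _ x _ => by simp⟩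
  mul_mem' := by
    rintro α β ⟨hα, hα'⟩ ⟨hβ, hβ'⟩
    refine ⟨A.mul_mem hα hβ, fun i hi x hx => ?_⟩
    have h := (f i).mul_mem (hα' i hi x hx) (hinv i hi.le α hα _ (hβ' i hi x hx))
    simpa [MulAut.mul_apply, mul_assoc] using h
  inv_mem' := by
    rintro α ⟨hα, hα'⟩
    refine ⟨A.inv_mem hα, fun i hi x hx => ?_⟩
    have h := hinv i hi.le α⁻¹ (A.inv_mem hα) _ ((f i).inv_mem (hα' i hi x hx))
    simpa [mul_inv_rev] using h

theorem mem_chainStab {A : Subgroup (MulAut G)} {f : ℕ → Subgroup G} {n : ℕ}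
    {hinv : ∀ i ≤ n, ∀ α ∈ A, ∀ x ∈ f i, α x ∈ f i} {α : MulAut G} :
    α ∈ chainStab A f n hinv ↔ α ∈ A ∧ ∀ i < n, ∀ x ∈ f (i + 1), x⁻¹ * α x ∈ f i := Iff.rfl

theorem chainStab_conj {A : Subgroup (MulAut G)} {f : ℕ → Subgroup G} {n : ℕ}
    (hinv : ∀ i ≤ n, ∀ α ∈ A, ∀ x ∈ f i, α x ∈ f i) {α a : MulAut G} (ha : a ∈ A)
    (hα : α ∈ chainStab A f n hinv) : a * α * a⁻¹ ∈ chainStab A f n hinv := by
  refine ⟨A.mul_mem (A.mul_mem ha hα.1) (A.inv_mem ha), fun i hi x hx => ?_⟩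
  have h1 : a⁻¹ x ∈ f (i + 1) := hinv (i + 1) hi a⁻¹ (A.inv_mem ha) x hx
  have h2 := hinv i hi.le a ha _ (hα.2 i hi _ h1)
  simpa [MulAut.mul_apply] using h2

/-- An automorphism of order prime to `|G|` stabilising a chain is trivial. -/
theorem eq_one_of_coprime [Finite G] {f : ℕ → Subgroup G} {n : ℕ} (h0 : f 0 = ⊥) (hn : f n = ⊤)
    {α : MulAut G} {m : ℕ} (hm : α ^ m = 1) (hco : Nat.Coprime m (Nat.card G))
    (hα : ∀ i < n, ∀ x ∈ f (i + 1), x⁻¹ * α x ∈ f i) : α = 1 := by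
  suffices ∀ i ≤ n, ∀ x ∈ f i, α x = x from
    MulEquiv.ext fun x => this n le_rfl x (hn ▸ trivial)
  intro i
  induction i with
  | zero =>
    intro _ x hx
    rw [h0, Subgroup.mem_bot] at hx
    simp [hx]
  | succ i ih =>
    intro hi x hx
    have hc := ih (by omega) _ (hα i (by omega) x hx)
    have h := aut_iter_fix hc (show α x = x * (x⁻¹ * α x) by group) m
    rw [hm, MulAut.one_apply] at h
    have h1 : (x⁻¹ * α x) ^ m = 1 := mul_eq_left.mp h.symm
    have h2 : (x⁻¹ * α x) ^ Nat.card G = 1 := pow_card_eq_one'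
    have h3 := pow_gcd_eq_one.mpr ⟨h1, h2⟩
    rw [hco, pow_one] at h3
    exact (inv_mul_eq_one.mp h3).symm

variable {p : ℕ} [Fact p.Prime]

/-- An element of `p`-power order acts trivially on a factor of order `p`. -/
theorem apply_inv_mul_mem [Finite G] {K L : Subgroup G} (hKL : K ≤ L)
    (hcard : Nat.card L ≤ p * Nat.card K) {α : MulAut G} {k : ℕ} (hα : α ^ p ^ k = 1)
    (hK : ∀ x ∈ K, α x ∈ K) (hL : ∀ x ∈ L, α x ∈ L) {x : G} (hx : x ∈ L) : x⁻¹ * α x ∈ K := by
  set K' := K.subgroupOf L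
  let σ : L → L := fun y => ⟨α y, hL y y.2⟩
  have hσ : ∀ a b : L, QuotientGroup.leftRel K' a b → QuotientGroup.leftRel K' (σ a) (σ b) := by
    intro a b hab
    rw [QuotientGroup.leftRel_apply] at hab ⊢
    have := hK _ hab
    show (α (a : G))⁻¹ * α (b : G) ∈ K
    simpa using this
  let τ : L ⧸ K' → L ⧸ K' := Quotient.map' σ hσ
  have hτk : ∀ j : ℕ, ∀ a : L, ∃ b : L, τ^[j] (QuotientGroup.mk a) = QuotientGroup.mk b ∧
      (b : G) = (α ^ j) (a : G) := by
    intro j
    induction j with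
    | zero => exact fun a => ⟨a, rfl, rfl⟩
    | succ j ih =>
      intro a
      obtain ⟨b, hb, hb'⟩ := ih a
      refine ⟨σ b, ?_, ?_⟩
      · rw [Function.iterate_succ', Function.comp_apply, hb]; rfl
      · show α (b : G) = _
        rw [hb', pow_succ', MulAut.mul_apply]
  have hid : τ^[p ^ k] = id := by
    funext q
    obtain ⟨a, rfl⟩ := QuotientGroup.mk_surjective q
    obtain ⟨b, hb, hb'⟩ := hτk (p ^ k) a
    rw [hb, id, show b = a from Subtype.ext (by rw [hb', hα, MulAut.one_apply])]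
  have hpos : 0 < p ^ k := pow_pos (Fact.out : p.Prime).pos k
  have hsucc : p ^ k - 1 + 1 = p ^ k := Nat.sub_add_cancel hpos
  let e : Equiv.Perm (L ⧸ K') :=
    { toFun := τ
      invFun := τ^[p ^ k - 1]
      left_inv := fun q => (Function.iterate_succ_apply τ (p ^ k - 1) q).symm.trans (by
        rw [Nat.succ_eq_add_one, hsucc, hid, id])
      right_inv := fun q => (Function.iterate_succ_apply' τ (p ^ k - 1) q).symm.trans (by
        rw [Nat.succ_eq_add_one, hsucc, hid, id]) }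
  have he : e ^ p ^ k = 1 := Equiv.ext fun q => by
    rw [Equiv.Perm.coe_pow]
    exact congrFun hid q
  have hindex : Nat.card (L ⧸ K') ≤ p := by
    have h1 := K'.card_mul_index
    rw [Nat.card_congr (Subgroup.subgroupOfEquivOfLe hKL).toEquiv] at h1
    have h2 : Nat.card K * K'.index ≤ Nat.card K * p := by rw [h1, mul_comm _ p]; exact hcard
    exact Nat.le_of_mul_le_mul_left h2 Nat.card_pos
  suffices hall : e = 1 by
    have h1 : τ (QuotientGroup.mk ⟨x, hx⟩) = QuotientGroup.mk ⟨x, hx⟩ :=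
      Equiv.ext_iff.mp hall (QuotientGroup.mk ⟨x, hx⟩)
    have h3 := QuotientGroup.eq.mp h1.symm
    exact h3
  have hfix : e (QuotientGroup.mk (1 : L)) = QuotientGroup.mk (1 : L) :=
    congrArg QuotientGroup.mk (Subtype.ext (map_one α))
  by_contra hne
  obtain ⟨j, -, hj⟩ := (Nat.dvd_prime_pow Fact.out).mp (orderOf_dvd_of_pow_eq_one he)
  have hj0 : j ≠ 0 := fun h => hne (orderOf_eq_one_iff.mp (by rw [hj, h, pow_zero]))
  have hpe : p ∣ orderOf e := hj ▸ dvd_pow_self p hj0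
  let H := MulAction.stabilizer (Equiv.Perm (L ⧸ K')) (QuotientGroup.mk (1 : L) : L ⧸ K')
  have hord : orderOf e ∣ Nat.card H := Subgroup.orderOf_dvd_natCard H hfix
  classical
  have := Fintype.ofFinite (L ⧸ K')
  have horb : MulAction.orbit (Equiv.Perm (L ⧸ K')) (QuotientGroup.mk (1 : L) : L ⧸ K') = Set.univ :=
    Set.eq_univ_iff_forall.mpr fun q => ⟨Equiv.swap (QuotientGroup.mk 1) q, Equiv.swap_apply_left _ _⟩
  have hH : Nat.card H * Nat.card (L ⧸ K') = (Nat.card (L ⧸ K')).factorial := by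
    have := H.card_mul_index
    rwa [show H.index = Nat.card (L ⧸ K') by
      rw [MulAction.index_stabilizer, horb, Set.ncard_univ], Nat.card_perm] at this
  have hp1 := (Fact.out : p.Prime).one_lt
  have hHf : Nat.card H = (Nat.card (L ⧸ K') - 1).factorial := by
    have h0 : 0 < Nat.card (L ⧸ K') := Nat.card_pos
    rw [← Nat.mul_factorial_pred h0.ne', mul_comm] at hH
    exact Nat.eq_of_mul_eq_mul_left h0 hH
  rw [hHf] at hord
  have := (Fact.out : p.Prime).dvd_factorial.mp (hpe.trans hord)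
  omega

end Group

section Essential

variable {Ω : Type*} [Group Ω] {S : Subgroup Ω} [Finite S] {p : ℕ} [Fact p.Prime]
  {F : FusionSystem S} {H : Subgroup Ω}

theorem pGroup_le_inn (hH : F.IsEssential p H) {N : Subgroup (MulAut H)}
    (hNA : N ≤ F.autGroup H) (hN : ∀ α ∈ N, ∀ a ∈ F.autGroup H, a * α * a⁻¹ ∈ N) (hNp : IsPGroup p N) :
    N ≤ Inn H := by
  obtain ⟨-, hn, hI, E, -, hEtop, P, hP⟩ := hH
  have := finite_autGroup (F := F) hn.1
  set A := F.autGroup H
  set π := QuotientGroup.mk' ((Inn H).subgroupOf A)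
  have hN' : (N.subgroupOf A).Normal := ⟨fun α hα a => hN _ hα _ a.2⟩
  set Q := (N.subgroupOf A).map π
  have hQn : Q.Normal := hN'.map π (QuotientGroup.mk'_surjective _)
  have hQp : IsPGroup p Q := (hNp.of_equiv (Subgroup.subgroupOfEquivOfLe hNA).symm).map π
  by_contra hcon
  obtain ⟨α, hα, hαI⟩ := SetLike.not_le_iff_exists.mp hcon
  have hQne : Q ≠ ⊥ := by
    intro h
    refine hαI ?_
    have h1 : π ⟨α, hNA hα⟩ = 1 :=
      Subgroup.mem_bot.mp (h ▸ Subgroup.mem_map_of_mem π (show (⟨α, hNA hα⟩ : A) ∈ N.subgroupOf A from hα))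
    exact (QuotientGroup.eq_one_iff (N := (Inn H).subgroupOf A) (⟨α, hNA hα⟩ : A)).mp h1
  have hQP : Q ≤ (P : Subgroup _) := by
    rw [← P.is_maximal' (hQp.to_sup_of_normal_left P.2) le_sup_right]
    exact le_sup_left
  exact hEtop (top_le_iff.mp ((Subgroup.normalizer_eq_top_iff.mpr hQn).ge.trans
    ((normalizer_le_kGeneratedCore P.2 hQP hQne).trans hP)))

theorem exists_pElement_not_inn (hH : F.IsEssential p H) :
    ∃ α ∈ F.autGroup H, (∃ k : ℕ, α ^ p ^ k = 1) ∧ α ∉ Inn H := by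
  obtain ⟨-, hn, hI, E, hdvd, -⟩ := hH
  have := finite_autGroup (F := F) hn.1
  obtain ⟨x, hx⟩ := exists_prime_orderOf_dvd_card' p hdvd
  obtain ⟨a, rfl⟩ := QuotientGroup.mk_surjective x
  obtain ⟨k, m, hm, hk⟩ := Nat.exists_eq_pow_mul_and_not_dvd (orderOf_pos a).ne' p (Fact.out : p.Prime).ne_one
  refine ⟨(a : MulAut H) ^ m, Subgroup.pow_mem _ a.2 m, ⟨k, ?_⟩, fun h => ?_⟩
  · rw [← pow_mul, mul_comm, ← hk, ← Subgroup.orderOf_coe, pow_orderOf_eq_one]
  · have h1 : (QuotientGroup.mk a : F.autGroup H ⧸ (Inn H).subgroupOf (F.autGroup H)) ^ m = 1 := by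
      rw [← QuotientGroup.mk_pow, QuotientGroup.eq_one_iff]
      exact h
    exact hm (hx ▸ orderOf_dvd_of_pow_eq_one h1)

/-- The chain stabiliser in the automiser of an essential subgroup is inner. -/
theorem chainStab_le_inn (hS : IsPGroup p S) (hH : F.IsEssential p H) {f : ℕ → Subgroup H} {n : ℕ}
    (h0 : f 0 = ⊥) (hn : f n = ⊤)
    (hinv : ∀ i ≤ n, ∀ α ∈ F.autGroup H, ∀ x ∈ f i, α x ∈ f i) :
    chainStab (F.autGroup H) f n hinv ≤ Inn H := by
  have hHS := hH.2.1.1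
  have := finite_of_le (Ω := Ω) hHS
  have := finite_mulAut (Ω := Ω) hHS
  refine pGroup_le_inn hH (fun _ h => h.1) (fun α hα a ha => chainStab_conj hinv ha hα) ?_
  rintro ⟨α, hα⟩
  obtain ⟨k, m, hm, hk⟩ := Nat.exists_eq_pow_mul_and_not_dvd (orderOf_pos α).ne' p (Fact.out : p.Prime).ne_one
  refine ⟨k, Subtype.ext ?_⟩
  obtain ⟨r, hr⟩ := IsPGroup.iff_card.mp (hS.to_le hHS)
  refine eq_one_of_coprime h0 hn (m := m) ?_ ?_ (Subgroup.pow_mem _ hα (p ^ k)).2
  · show (α ^ p ^ k) ^ m = 1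
    rw [← pow_mul, ← hk, pow_orderOf_eq_one]
  · rw [hr]
    exact (Nat.coprime_comm.mp ((Fact.out : p.Prime).coprime_iff_not_dvd.mpr hm)).pow_right r

/-- An essential subgroup has no invariant chain with steps of order at most `p`. -/
theorem false_of_chain (hS : IsPGroup p S) (hH : F.IsEssential p H) (f : ℕ → Subgroup H) (n : ℕ)
    (h0 : f 0 = ⊥) (hn : f n = ⊤) (hmono : ∀ i < n, f i ≤ f (i + 1))
    (hcard : ∀ i < n, Nat.card (f (i + 1)) ≤ p * Nat.card (f i))
    (hinv : ∀ i ≤ n, ∀ α ∈ F.autGroup H, ∀ x ∈ f i, α x ∈ f i) : False := by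
  have := finite_of_le (Ω := Ω) hH.2.1.1
  obtain ⟨α, hα, ⟨k, hk⟩, hαI⟩ := exists_pElement_not_inn hH
  exact hαI (chainStab_le_inn hS hH h0 hn hinv ⟨hα, fun i hi x hx =>
    apply_inv_mul_mem (hmono i hi) (hcard i hi) hk (hinv i hi.le α hα) (hinv (i + 1) hi α hα) hx⟩)

theorem inn_eq_bot (hab : IsMulCommutative H) : Inn H = ⊥ := by
  rw [eq_bot_iff]
  rintro _ ⟨g, rfl⟩
  refine Subgroup.mem_bot.mpr (MulEquiv.ext fun x => ?_)
  rw [MulAut.conj_apply, MulAut.one_apply, hab.is_comm.comm g x, mul_inv_cancel_right]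

/-- An abelian essential subgroup has a nontrivial automorphism of `p`-power order. -/
theorem exists_pElement_ne_one (hH : F.IsEssential p H) (hab : IsMulCommutative H) :
    ∃ α ∈ F.autGroup H, (∃ k : ℕ, α ^ p ^ k = 1) ∧ α ≠ 1 := by
  obtain ⟨α, hα, hk, hαI⟩ := exists_pElement_not_inn hH
  rw [inn_eq_bot hab] at hαI
  exact ⟨α, hα, hk, fun h => hαI (Subgroup.mem_bot.mpr h)⟩

/-- An essential subgroup of order `p²` has no invariant subgroup of order `p`. -/
theorem false_of_line (hS : IsPGroup p S) (hH : F.IsEssential p H) (hcard : Nat.card H = p ^ 2)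
    (R : Subgroup H) (hR : Nat.card R = p) (hinv : ∀ α ∈ F.autGroup H, ∀ x ∈ R, α x ∈ R) : False := by
  refine false_of_chain hS hH (fun i => match i with | 0 => ⊥ | 1 => R | _ => ⊤) 2 rfl rfl ?_ ?_ ?_
  · intro i hi
    interval_cases i
    · exact bot_le
    · exact le_top
  · intro i hi
    interval_cases i
    · show Nat.card R ≤ p * Nat.card (⊥ : Subgroup H)
      simp [hR]
    · show Nat.card (⊤ : Subgroup H) ≤ p * Nat.card R
      rw [Subgroup.card_top, hcard, hR, pow_two]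
  · intro i hi α hα x hx
    interval_cases i
    · simp_all
    · exact hinv α hα x hx
    · trivial

end Essential

/-- Power kernels of an abelian group are invariant. -/
theorem map_pow_ker_mem {G : Type*} [CommGroup G] {m : ℕ} (α : MulAut G) {x : G}
    (hx : x ∈ (powMonoidHom m : G →* G).ker) : α x ∈ (powMonoidHom m : G →* G).ker := by
  rw [MonoidHom.mem_ker, powMonoidHom_apply] at hx ⊢
  rw [← map_pow, hx, map_one]

/-- Power images of an abelian group are invariant. -/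
theorem map_pow_range_mem {G : Type*} [CommGroup G] {m : ℕ} (α : MulAut G) {x : G}
    (hx : x ∈ (powMonoidHom m : G →* G).range) : α x ∈ (powMonoidHom m : G →* G).range := by
  obtain ⟨y, rfl⟩ := hx
  exact ⟨α y, by simp⟩

end Cfsg.Agent.Fusion.SmallEss
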