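import Cfsg.Agent.Lib.Fusion.CriterionAux

/-!
The saturation criterion of Broto, Castellana, Grodal, Levi and Oliver: a system generated by, and
saturated on, a family `ℋ` closed under conjugacy is saturated when every centric subgroup outside
`ℋ` has a conjugate `Q` with `Aut_S(Q) ∩ O_p(Aut_F(Q))` not inside `Inn(Q)`.
-/

set_option autoImplicit false
set_option linter.unusedSectionVars false

namespace Cfsg.Agent.Fusion.Criterion

open Cfsg Cfsg.FusionSystem Cfsg.Agent.Fusion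
open scoped Pointwise

variable {Ω : Type*} [Group Ω] {S : Subgroup Ω} {F : FusionSystem S} {p : ℕ}

/-! ### Images of subgroups under maps -/

theorem map_comp_eq {X Y Q Q' Q'' : Subgroup Ω} {φ : X →* Ω} {ψ : Y →* Ω}
    (h : ∀ x : X, φ x ∈ Y) (h1 : (Q.subgroupOf X).map φ = Q')
    (h2 : (Q'.subgroupOf Y).map ψ = Q'') :
    (Q.subgroupOf X).map (ψ.comp (φ.codRestrict Y h)) = Q'' := by
  ext z
  constructor
  · rintro ⟨x, hx, rfl⟩
    exact h2.le ⟨_, h1.le ⟨x, hx, rfl⟩, rfl⟩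
  · intro hz
    obtain ⟨⟨y, hy⟩, hyQ, rfl⟩ := h2.ge hz
    obtain ⟨x, hx, rfl⟩ := h1.ge hyQ
    exact ⟨x, hx, rfl⟩

theorem map_restrict_eq {X Y Q : Subgroup Ω} {φ : Y →* Ω} (hXY : X ≤ Y) (hQX : Q ≤ X) :
    (Q.subgroupOf X).map (φ.comp (Subgroup.inclusion hXY)) = (Q.subgroupOf Y).map φ := by
  ext z
  constructor
  · rintro ⟨x, hx, rfl⟩
    exact ⟨Subgroup.inclusion hXY x, hx, rfl⟩
  · rintro ⟨⟨y, hy⟩, hyQ, rfl⟩
    exact ⟨⟨y, hQX hyQ⟩, hyQ, rfl⟩

theorem isConj_of_map {X Q Q' : Subgroup Ω} {φ : X →* Ω} (hφ : φ ∈ F.Hom X) (hQX : Q ≤ X)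
    (h : (Q.subgroupOf X).map φ = Q') : F.IsConj Q Q' :=
  ⟨_, restrict_mem hφ hQX, by
    rw [← h]
    ext z
    exact ⟨fun ⟨x, hx⟩ => ⟨Subgroup.inclusion hQX x, x.2, hx⟩,
      fun ⟨x, hx, he⟩ => ⟨⟨x, hx⟩, he⟩⟩⟩

/-- Images of elements normalizing `Q` normalize the image. -/
theorem mem_normalizerIn_of_map [Finite S] {X Q Q' : Subgroup Ω} {φ : X →* Ω}
    (hφ : φ ∈ F.Hom X) (hX : X ≤ Subgroup.normalizer (Q : Set Ω))
    (h : (Q.subgroupOf X).map φ = Q') (x : X) : φ x ∈ normalizerIn S Q' := by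
  have hQ'S : Q' ≤ S := by
    rw [← h]
    rintro _ ⟨y, -, rfl⟩
    exact apply_mem hφ y
  have := finite_of_le (Ω := Ω) hQ'S
  refine ⟨apply_mem hφ x, mem_normalizer_of_forall fun y hy => ?_⟩
  obtain ⟨z, hz, rfl⟩ := h.ge hy
  rw [← map_inv, ← map_mul, ← map_mul, ← h]
  exact ⟨_, (Subgroup.mem_normalizer_iff.1 (hX x.2) z).1 hz, rfl⟩

/-- Inverse with the image of a subgroup. -/
theorem exists_inverse_map {X Q Q' : Subgroup Ω} {φ : X →* Ω} (hφ : φ ∈ F.Hom X) (hQX : Q ≤ X)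
    (h : (Q.subgroupOf X).map φ = Q') :
    ∃ η ∈ F.Hom φ.range, (∀ (x : X), η ⟨φ x, x, rfl⟩ = (x : Ω)) ∧
      (Q'.subgroupOf φ.range).map η = Q := by
  obtain ⟨η, hη, -, hi, -⟩ := exists_inverse hφ rfl
  refine ⟨η, hη, fun x => hi x _, ?_⟩
  ext z
  constructor
  · rintro ⟨⟨w, hw⟩, hwQ, rfl⟩
    obtain ⟨x, hx, rfl⟩ := h.ge hwQ
    rw [hi x]
    exact hx
  · intro hz
    exact ⟨⟨φ ⟨z, hQX hz⟩, _, rfl⟩, h.le ⟨⟨z, hQX hz⟩, hz, rfl⟩, hi _ _⟩

/-! ### The hypotheses -/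

/-- `T` has a conjugate that is fully automized and receptive. -/
def Good (F : FusionSystem S) (p : ℕ) (T : Subgroup Ω) : Prop :=
  ∃ U, F.IsConj T U ∧ F.IsFullyAutomized p U ∧ F.IsReceptive U

/-- `Q` is carried onto `P` by a map on `N_S(Q)`. -/
def Reaches (F : FusionSystem S) (P Q : Subgroup Ω) : Prop :=
  ∃ χ ∈ F.Hom (normalizerIn S Q), (Q.subgroupOf (normalizerIn S Q)).map χ = P

theorem exists_target [Finite S] [Fact p.Prime] {T U Q : Subgroup Ω}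
    (hU : F.IsFullyAutomized p U) (hTU : F.IsConj T U) :
    ∃ θ ∈ F.Hom T, θ.range = U ∧
      SylowInside p (stabAut F U ((Q.subgroupOf T).map θ)) (autInducedBy S U) := by
  obtain ⟨θ₀, hθ₀, hr₀⟩ := hTU
  obtain ⟨hUS, Y, hY⟩ := hU
  have := finite_mulAut (Ω := Ω) hUS
  set Q₀ := (Q.subgroupOf T).map θ₀ with hQ₀
  obtain ⟨β, hβ, hSyl⟩ := exists_conj_sylowInside (stabAut_le (F := F) U Q₀) Y
    (T := autInducedBy S U) (by rintro _ ⟨y, hy, rfl⟩; rw [hY] at hy; exact hy)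
  rw [map_stabAut hβ] at hSyl
  let θ : T →* Ω := (U.subtype.comp β.toMonoidHom).comp (homEquiv hθ₀ hr₀).toMonoidHom
  have hθv : ∀ x : T, θ x = ((β (homEquiv hθ₀ hr₀ x) : U) : Ω) := fun x => rfl
  refine ⟨θ, aut_comp_mem hθ₀ hr₀ hβ hθv, range_eq_of_aut hθ₀ hr₀ _ hθv, ?_⟩
  suffices h : autImage β Q₀ = (Q.subgroupOf T).map θ by rwa [h] at hSyl
  ext z
  constructor
  · rintro ⟨u, hu, rfl⟩
    obtain ⟨x, hx, hxu⟩ := hu
    refine ⟨x, hx, ?_⟩
    rw [hθv, show homEquiv hθ₀ hr₀ x = u from Subtype.ext hxu]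
    rfl
  · rintro ⟨x, hx, rfl⟩
    exact ⟨homEquiv hθ₀ hr₀ x, ⟨x, hx, rfl⟩, rfl⟩

/-- Extending an isomorphism, twisted inside a stabilizer, to elements normalizing both groups. -/
theorem exists_push [Finite S] [Fact p.Prime] (hS : IsPGroup p S) {T U Q Q' D : Subgroup Ω}
    {θ : T →* Ω} (hUr : F.IsReceptive U) (hθ : θ ∈ F.Hom T) (hr : θ.range = U)
    (hQT : Q ≤ T) (hQ : (Q.subgroupOf T).map θ = Q')
    (hSyl : SylowInside p (stabAut F U Q') (autInducedBy S U))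
    (hDS : D ≤ S) (hDT : D ≤ Subgroup.normalizer (T : Set Ω))
    (hDQ : D ≤ Subgroup.normalizer (Q : Set Ω)) :
    ∃ ψ ∈ F.Hom (T ⊔ D), (Q.subgroupOf (T ⊔ D)).map ψ = Q' ∧
      (T.subgroupOf (T ⊔ D)).map ψ = U := by
  obtain ⟨k, hk, ψ, hψ, he⟩ := exists_twist_in hS hUr hθ hr (stabAut F U Q') (stabAut_le U Q')
    hSyl D hDS hDT fun g hg => congr_conjAut_mem_stab hθ hr hQ (hDS hg) (hDT hg) (hDQ hg)
  refine ⟨ψ, hψ, ?_, ?_⟩
  · ext z
    constructor
    · rintro ⟨⟨y, hy⟩, hyQ, rfl⟩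
      rw [show (⟨y, hy⟩ : ↥(T ⊔ D)) = Subgroup.inclusion le_sup_left ⟨y, hQT hyQ⟩ from rfl, he]
      exact (hk.2 _).1 (hQ.le ⟨⟨y, hQT hyQ⟩, hyQ, rfl⟩)
    · intro hz
      have hzU : z ∈ U := by
        obtain ⟨x, -, rfl⟩ := hQ.ge hz
        exact hr.le ⟨x, rfl⟩
      obtain ⟨x, hx⟩ := ((homEquiv hθ hr).trans k).surjective ⟨z, hzU⟩
      have hxQ' : ((homEquiv hθ hr x : U) : Ω) ∈ Q' :=
        (hk.2 _).2 (by rw [show k (homEquiv hθ hr x) = ⟨z, hzU⟩ from hx]; exact hz)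
      obtain ⟨w, hw, hwe⟩ := hQ.ge hxQ'
      obtain rfl : w = x := F.injective_of_mem hθ hwe
      exact ⟨Subgroup.inclusion le_sup_left w, hw, (he w).trans (congrArg Subtype.val hx)⟩
  · ext z
    constructor
    · rintro ⟨⟨y, hy⟩, hyT, rfl⟩
      rw [show (⟨y, hy⟩ : ↥(T ⊔ D)) = Subgroup.inclusion le_sup_left ⟨y, hyT⟩ from rfl, he]
      exact Subtype.property _
    · intro hz
      obtain ⟨x, hx⟩ := ((homEquiv hθ hr).trans k).surjective ⟨z, hz⟩
      exact ⟨Subgroup.inclusion le_sup_left x, x.2, (he x).trans (congrArg Subtype.val hx)⟩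

variable {P : Subgroup Ω}

/-! ### Reaching `P` -/

theorem lt_sup_normalizer [Finite S] [Fact p.Prime] (hS : IsPGroup p S) {R N : Subgroup Ω}
    (hN : N ≤ S) (hlt : R < N) :
    Nat.card R < Nat.card ↥(R ⊔ normalizerIn N R) := by
  have := finite_of_le (Ω := Ω) hN
  refine card_lt_of_lt (sup_le (hlt.le.trans hN) ((normalizerIn_le N R).trans hN))
    ((lt_normalizerIn (hS.to_le hN) hlt).trans_le le_sup_right)

/-- A map with source strictly above `Q`, normalizing it and carrying it onto `P`, can be replaced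
by one on `N_S(Q)`. -/
theorem reaches_of_map [Finite S] [Fact p.Prime] (hS : IsPGroup p S) (hPn : F.IsFullyNormalized P)
    (hbig : ∀ T ≤ S, Nat.card P < Nat.card T → Good F p T) :
    ∀ (n : ℕ) (Q R : Subgroup Ω), Nat.card S ≤ Nat.card R + n → Q ≤ R → Nat.card P < Nat.card R →
      R ≤ normalizerIn S Q → ∀ φ ∈ F.Hom R, (Q.subgroupOf R).map φ = P → Reaches F P Q := by
  intro n
  induction n with
  | zero =>
    intro Q R hn hQR _ hRN φ hφ hφQ
    have hRS := hRN.trans (normalizerIn_le S Q)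
    obtain rfl : R = normalizerIn S Q :=
      eq_of_le_of_card_le (normalizerIn_le S Q) hRN
        ((card_le_of_le le_rfl (normalizerIn_le S Q)).trans (by omega))
    exact ⟨φ, hφ, hφQ⟩
  | succ n ih =>
    intro Q R hn hQR hPR hRN φ hφ hφQ
    rcases eq_or_lt_of_le hRN with rfl | hlt
    · exact ⟨φ, hφ, hφQ⟩
    have hNS := normalizerIn_le S Q
    have hRQ : R ≤ Subgroup.normalizer (Q : Set Ω) := hRN.trans inf_le_right
    have hR'N : φ.range ≤ normalizerIn S P := by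
      rintro _ ⟨x, rfl⟩
      exact mem_normalizerIn_of_map hφ hRQ hφQ x
    have hR'lt : φ.range < normalizerIn S P := by
      refine lt_of_le_of_ne hR'N fun he => ?_
      have h1 := hPn.2 Q (isConj_symm (isConj_of_map hφ hQR hφQ))
      rw [← he, card_range hφ] at h1
      exact absurd (card_lt_of_lt hNS hlt) (not_lt.2 h1)
    obtain ⟨U, hRU, hUa, hUr⟩ := hbig R (hRN.trans hNS) hPR
    obtain ⟨θ, hθ, hθr, hSyl⟩ := exists_target (Q := Q) hUa hRU
    set Q₃ := (Q.subgroupOf R).map θ with hQ₃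
    obtain ⟨η, hη, hηi, hηQ⟩ := exists_inverse_map hφ hQR hφQ
    have hηR : ∀ y, η y ∈ R := by
      rintro ⟨_, x, rfl⟩
      rw [hηi]
      exact x.2
    have hθ' := F.comp_mem hη hθ hηR
    have hθ'r : (θ.comp (η.codRestrict R hηR)).range = U := by
      rw [← hθr]
      ext z
      constructor
      · rintro ⟨y, rfl⟩
        exact ⟨_, rfl⟩
      · rintro ⟨x, rfl⟩
        exact ⟨⟨φ x, x, rfl⟩, congrArg θ (Subtype.ext (hηi x))⟩
    have hθ'P : (P.subgroupOf φ.range).map (θ.comp (η.codRestrict R hηR)) = Q₃ :=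
      map_comp_eq hηR hηQ hQ₃.symm
    have hPR' : P ≤ φ.range := fun z hz => by
      obtain ⟨x, -, hx⟩ := hφQ.ge hz
      exact ⟨x, hx⟩
    set D := normalizerIn (normalizerIn S Q) R with hD
    set D' := normalizerIn (normalizerIn S P) φ.range with hD'
    obtain ⟨ψ, hψ, hψQ, -⟩ := exists_push hS hUr hθ hθr hQR hQ₃.symm hSyl
      ((normalizerIn_le _ R).trans hNS) inf_le_right ((normalizerIn_le _ R).trans inf_le_right)
    obtain ⟨ψ', hψ', hψ'P, -⟩ := exists_push hS hUr hθ' hθ'r hPR' hθ'P hSyl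
      ((normalizerIn_le _ φ.range).trans (normalizerIn_le S P)) inf_le_right
      ((normalizerIn_le _ φ.range).trans inf_le_right)
    have hE : Nat.card R < Nat.card ↥(R ⊔ D) := lt_sup_normalizer hS hNS hlt
    have hE' : Nat.card R < Nat.card ↥(φ.range ⊔ D') := by
      have h1 := lt_sup_normalizer hS (normalizerIn_le S P) hR'lt
      rwa [card_range hφ] at h1
    have hEQ : R ⊔ D ≤ Subgroup.normalizer (Q : Set Ω) :=
      sup_le hRQ ((normalizerIn_le _ R).trans inf_le_right)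
    have hEP : φ.range ⊔ D' ≤ Subgroup.normalizer (P : Set Ω) :=
      sup_le (hR'N.trans inf_le_right) ((normalizerIn_le _ φ.range).trans inf_le_right)
    -- the inverse of `ψ'` reaches `P` from `Q₃`
    obtain ⟨η', hη', -, hη'P⟩ := exists_inverse_map hψ' (hPR'.trans le_sup_left) hψ'P
    have hQ₃r : Q₃ ≤ ψ'.range := by
      rw [← hψ'P]
      rintro _ ⟨x, -, rfl⟩
      exact ⟨x, rfl⟩
    have h3N : ψ'.range ≤ normalizerIn S Q₃ := by
      rintro _ ⟨x, rfl⟩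
      exact mem_normalizerIn_of_map hψ' hEP hψ'P x
    have hE'' : Nat.card R < Nat.card ψ'.range := by rw [card_range hψ']; exact hE'
    obtain ⟨χ, hχ, hχQ⟩ := ih Q₃ ψ'.range (by omega) hQ₃r (by omega) h3N η' hη' hη'P
    have hmem : ∀ x, ψ x ∈ normalizerIn S Q₃ := mem_normalizerIn_of_map hψ hEQ hψQ
    exact ih Q (R ⊔ D) (by omega) (hQR.trans le_sup_left) (hPR.trans hE)
      (sup_le hRN (normalizerIn_le _ R)) _ (F.comp_mem hψ hχ hmem) (map_comp_eq hmem hψQ hχQ)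

theorem reaches_of_map' [Finite S] [Fact p.Prime] (hS : IsPGroup p S) (hPn : F.IsFullyNormalized P)
    (hbig : ∀ T ≤ S, Nat.card P < Nat.card T → Good F p T) {Q R : Subgroup Ω} (hQR : Q ≤ R)
    (hPR : Nat.card P < Nat.card R) (hRN : R ≤ normalizerIn S Q) {φ : R →* Ω} (hφ : φ ∈ F.Hom R)
    (h : (Q.subgroupOf R).map φ = P) : Reaches F P Q :=
  reaches_of_map hS hPn hbig (Nat.card S) Q R (by omega) hQR hPR hRN φ hφ h

/-- The step along one map whose source is larger than the conjugate of `P`. -/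
theorem reaches_iff_of_map [Finite S] [Fact p.Prime] (hS : IsPGroup p S)
    (hPn : F.IsFullyNormalized P) (hbig : ∀ T ≤ S, Nat.card P < Nat.card T → Good F p T)
    {T Q : Subgroup Ω} {φ : T →* Ω} (hφ : φ ∈ F.Hom T) (hQT : Q ≤ T) (hc : F.IsConj P Q)
    (hPT : Nat.card P < Nat.card T) :
    Reaches F P Q ↔ Reaches F P (φ.comp (Subgroup.inclusion hQT)).range := by
  have hTS := dom_le hφ
  have := finite_of_le (Ω := Ω) hTS
  have hQc : Nat.card Q = Nat.card P := isConj_card hc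
  have hne : Q < T := lt_of_le_of_ne hQT fun he => by rw [he] at hQc; omega
  set R := normalizerIn T Q with hRdef
  have hQR : Q < R := lt_normalizerIn (hS.to_le hTS) hne
  have hPR : Nat.card P < Nat.card R := by
    have : Nat.card Q < Nat.card R := card_lt_of_lt ((normalizerIn_le T Q).trans hTS) hQR
    omega
  have hRN : R ≤ normalizerIn S Q := inf_le_inf_right _ hTS
  have hφR := restrict_mem hφ (normalizerIn_le T Q)
  set φR := φ.comp (Subgroup.inclusion (normalizerIn_le T Q : R ≤ T)) with hφRdef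
  set Q' := (φ.comp (Subgroup.inclusion hQT)).range with hQ'
  have himg : (Q.subgroupOf R).map φR = Q' := by
    rw [hφRdef, map_restrict_eq _ hQR.le]
    ext z
    exact ⟨fun ⟨x, hx, he⟩ => ⟨⟨x, hx⟩, he⟩, fun ⟨x, hx⟩ => ⟨_, x.2, hx⟩⟩
  have hR'N : φR.range ≤ normalizerIn S Q' := by
    rintro _ ⟨x, rfl⟩
    exact mem_normalizerIn_of_map hφR inf_le_right himg x
  constructor
  · rintro ⟨χ, hχ, hχQ⟩
    obtain ⟨η, hη, hηi, hηQ⟩ := exists_inverse_map hφR hQR.le himg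
    have hmem : ∀ y, η y ∈ normalizerIn S Q := by
      rintro ⟨_, x, rfl⟩
      rw [hηi]
      exact hRN x.2
    have hQ'r : Q' ≤ φR.range := fun z hz => by
      obtain ⟨x, -, hx⟩ := himg.ge hz
      exact ⟨x, hx⟩
    exact reaches_of_map' hS hPn hbig hQ'r (by rw [card_range hφR]; exact hPR) hR'N
      (F.comp_mem hη hχ hmem) (map_comp_eq hmem hηQ hχQ)
  · rintro ⟨χ, hχ, hχQ⟩
    have hmem : ∀ x, φR x ∈ normalizerIn S Q' := fun x => hR'N ⟨x, rfl⟩
    exact reaches_of_map' hS hPn hbig hQR.le hPR hRN (F.comp_mem hφR hχ hmem)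
      (map_comp_eq hmem himg hχQ)

/-- Every conjugate of `P` reaches `P`. -/
theorem reaches_of_isConj [Finite S] [Fact p.Prime] (hS : IsPGroup p S)
    (hPn : F.IsFullyNormalized P) (hbig : ∀ T ≤ S, Nat.card P < Nat.card T → Good F p T)
    (hPS : Nat.card P < Nat.card S) {ℋ : Set (Subgroup Ω)}
    (hgen : ∀ E : FusionSystem S, (∀ P ∈ ℋ, F.Hom P ⊆ E.Hom P) → F ≤ E)
    (hnot : ∀ Q, F.IsConj P Q → Q ∉ ℋ) {Q : Subgroup Ω} (hQ : F.IsConj P Q) : Reaches F P Q := by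
  let C : ∀ X : Subgroup Ω, (X →* Ω) → Prop := fun X φ =>
    ∀ (Q : Subgroup Ω) (h : Q ≤ X), F.IsConj P Q →
      (Reaches F P Q ↔ Reaches F P (φ.comp (Subgroup.inclusion h)).range)
  have hconj : ∀ (X : Subgroup Ω) (g : Ω), X ≤ S → g ∈ S → C X (conjHom X g) :=
    fun X g hX hg Q h hc =>
      reaches_iff_of_map hS hPn hbig (F.conj_mem (le_refl S) hg) (h.trans hX) hc hPS
  have hcomp : ∀ (X Y : Subgroup Ω) (φ : X →* Ω) (ψ : Y →* Ω), φ ∈ F.Hom X → ψ ∈ F.Hom Y →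
      C X φ → C Y ψ → ∀ h : ∀ x : X, φ x ∈ Y, C X (ψ.comp (φ.codRestrict Y h)) := by
    intro X Y φ ψ hφ hψ hCφ hCψ h Q hQ hc
    set Q' := (φ.comp (Subgroup.inclusion hQ)).range with hQ'
    have hQ'Y : Q' ≤ Y := by
      rintro _ ⟨x, rfl⟩
      exact h _
    have he : ((ψ.comp (φ.codRestrict Y h)).comp (Subgroup.inclusion hQ)).range =
        (ψ.comp (Subgroup.inclusion hQ'Y)).range := by
      ext z
      constructor
      · rintro ⟨x, rfl⟩
        exact ⟨⟨_, x, rfl⟩, rfl⟩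
      · rintro ⟨⟨_, x, rfl⟩, rfl⟩
        exact ⟨x, rfl⟩
    rw [he]
    exact (hCφ Q hQ hc).trans
      (hCψ Q' hQ'Y (isConj_trans hc ⟨_, restrict_mem hφ hQ, rfl⟩))
  have hinv : ∀ (X : Subgroup Ω) (φ : X →* Ω) (ψ : φ.range →* Ω), φ ∈ F.Hom X → C X φ →
      ψ ∈ F.Hom φ.range → (∀ x : X, ψ ⟨φ x, ⟨x, rfl⟩⟩ = (x : Ω)) → C φ.range ψ := by
    intro X φ ψ hφ hCφ hψ hi Q hQ hc
    set Q₀ := (ψ.comp (Subgroup.inclusion hQ)).range with hQ₀
    have hQ₀X : Q₀ ≤ X := by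
      rintro _ ⟨⟨y, hy⟩, rfl⟩
      obtain ⟨x, hx⟩ := hQ hy
      show ψ ⟨y, _⟩ ∈ X
      rw [show (⟨y, hQ hy⟩ : φ.range) = ⟨φ x, x, rfl⟩ from Subtype.ext hx.symm, hi]
      exact x.2
    have he : (φ.comp (Subgroup.inclusion hQ₀X)).range = Q := by
      ext z
      constructor
      · rintro ⟨⟨_, ⟨y, hy⟩, rfl⟩, rfl⟩
        obtain ⟨x, hx⟩ := hQ hy
        refine (congrArg (· ∈ Q) ((congrArg φ (Subtype.ext ?_)).trans hx)).mpr hy
        show ψ ⟨y, _⟩ = x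
        rw [show (⟨y, hQ hy⟩ : φ.range) = ⟨φ x, x, rfl⟩ from Subtype.ext hx.symm, hi]
      · intro hz
        obtain ⟨x, hx⟩ := hQ hz
        refine ⟨⟨_, ⟨z, hz⟩, rfl⟩, (congrArg φ (Subtype.ext ?_)).trans hx⟩
        show ψ ⟨z, _⟩ = x
        rw [show (⟨z, hQ hz⟩ : φ.range) = ⟨φ x, x, rfl⟩ from Subtype.ext hx.symm, hi]
    have h1 := hCφ Q₀ hQ₀X (isConj_trans hc ⟨_, restrict_mem hψ hQ, rfl⟩)
    rw [he] at h1
    exact h1.symm
  have hall : F ≤ subsystemOf F C hconj hcomp hinv := hgen _ fun T hT φ hφ =>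
    ⟨hφ, fun Q hQT hc => reaches_iff_of_map hS hPn hbig hφ hQT hc (by
      have := finite_of_le (Ω := Ω) (dom_le hφ)
      rw [← isConj_card hc]
      exact card_lt_of_lt (dom_le hφ) (lt_of_le_of_ne hQT fun he => hnot Q hc (he ▸ hT)))⟩
  obtain ⟨φ, hφ, hr⟩ := hQ
  have hP : F.IsConj P P := isConj_refl F (dom_le hφ)
  have h1 := (hall P hφ).2 P le_rfl hP
  have he : (φ.comp (Subgroup.inclusion (le_refl P))).range = Q := by
    rw [← hr]
    ext z
    exact ⟨fun ⟨x, hx⟩ => ⟨x, hx⟩, fun ⟨x, hx⟩ => ⟨x, hx⟩⟩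
  rw [he] at h1
  refine h1.1 ⟨(normalizerIn S P).subtype, subtype_mem F (normalizerIn_le S P), ?_⟩
  rw [Subgroup.subgroupOf_map_subtype, inf_eq_left]
  exact le_normalizerIn (dom_le hφ)

/-! ### Extending automorphisms of `P` -/

/-- The elements of `N_S(P)` inducing members of `K`. -/
def inducing (S P : Subgroup Ω) (K : Subgroup (MulAut P)) : Subgroup Ω :=
  ((K.comap P.normalizerMonoidHom).map (Subgroup.normalizer (P : Set Ω)).subtype) ⊓ S

theorem mem_inducing {S P : Subgroup Ω} {K : Subgroup (MulAut P)} {g : Ω} :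
    g ∈ inducing S P K ↔ g ∈ S ∧ ∃ hg : g ∈ Subgroup.normalizer (P : Set Ω), conjAut hg ∈ K := by
  constructor
  · rintro ⟨⟨⟨h, hh⟩, hK, rfl⟩, hS⟩
    exact ⟨hS, hh, hK⟩
  · rintro ⟨hS, hg, hK⟩
    exact ⟨⟨⟨g, hg⟩, hK, rfl⟩, hS⟩

/-- `α` extends to `P ⊔ inducing`. -/
def ExtW (F : FusionSystem S) (P : Subgroup Ω) (K : Subgroup (MulAut P)) (α : MulAut P) : Prop :=
  ∃ ψ ∈ F.Hom (P ⊔ inducing S P K),
    ∀ x : P, ψ (Subgroup.inclusion le_sup_left x) = ((α x : P) : Ω)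

/-- The standing data for extending automorphisms of `P`. -/
structure Setup (F : FusionSystem S) (p : ℕ) (P : Subgroup Ω) (K : Subgroup (MulAut P)) : Prop where
  fn : F.IsFullyNormalized P
  big : ∀ T ≤ S, Nat.card P < Nat.card T → Good F p T
  lt : Nat.card P < Nat.card S
  reach : ∀ Q, F.IsConj P Q → Reaches F P Q
  le : K ≤ F.autGroup P
  normal : ∀ a ∈ F.autGroup P, ∀ k ∈ K, a * k * a⁻¹ ∈ K
  clean : K = ⊥ ∨ (IsPGroup p K ∧ ∀ Q, F.IsConj P Q → centralizerIn S Q ≤ Q)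

variable {K : Subgroup (MulAut P)}

theorem Setup.le_S (h : Setup F p P K) : P ≤ S := h.fn.1

theorem Setup.inducing_le (h : Setup F p P K) : P ⊔ inducing S P K ≤ S :=
  sup_le h.le_S inf_le_right

theorem Setup.inducing_le_normalizer (h : Setup F p P K) :
    P ⊔ inducing S P K ≤ Subgroup.normalizer (P : Set Ω) :=
  sup_le Subgroup.le_normalizer fun _ hg => (mem_inducing.1 hg).2.1

/-- Maps extending automorphisms respect `inducing`. -/
theorem Setup.apply_mem_inducing [Finite S] (h : Setup F p P K) {X : Subgroup Ω} {ψ : X →* Ω}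
    (hψ : ψ ∈ F.Hom X) (hXN : X ≤ Subgroup.normalizer (P : Set Ω)) (hPX : P ≤ X) {α : MulAut P}
    (hα : α ∈ F.autGroup P) (he : ∀ x : P, ψ (Subgroup.inclusion hPX x) = ((α x : P) : Ω))
    (g : X) : (g : Ω) ∈ inducing S P K ↔ ψ g ∈ inducing S P K := by
  have hgN := hXN g.2
  have himg : (P.subgroupOf X).map ψ = P := by
    ext z
    constructor
    · rintro ⟨y, hy, rfl⟩
      rw [show y = Subgroup.inclusion hPX ⟨(y : Ω), hy⟩ from rfl, he]
      exact Subtype.property _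
    · intro hz
      exact ⟨Subgroup.inclusion hPX (α.symm ⟨z, hz⟩), (α.symm ⟨z, hz⟩).2, by
        rw [he, MulEquiv.apply_symm_apply]⟩
  have hψN := (mem_normalizerIn_of_map hψ hXN himg g).2
  have hc : conjAut hψN = α * conjAut hgN * α⁻¹ := by
    refine MulEquiv.ext fun y => Subtype.ext ?_
    obtain ⟨x, rfl⟩ := α.surjective y
    show ψ g * ((α x : P) : Ω) * (ψ g)⁻¹ = ((α (conjAut hgN (α⁻¹ (α x))) : P) : Ω)
    rw [MulAut.inv_apply_self, ← he, ← he, ← map_inv, ← map_mul, ← map_mul]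
    rfl
  constructor
  · intro hg
    obtain ⟨-, _, hK⟩ := mem_inducing.1 hg
    exact mem_inducing.2 ⟨apply_mem hψ g, hψN, hc ▸ h.normal α hα _ hK⟩
  · intro hg
    obtain ⟨-, _, hK⟩ := mem_inducing.1 hg
    refine mem_inducing.2 ⟨(F.le_of_mem hψ).1 g.2, hgN, ?_⟩
    have h1 := h.normal α⁻¹ (inv_mem hα) _ (show α * conjAut hgN * α⁻¹ ∈ K from hc ▸ hK)
    have e : α⁻¹ * (α * conjAut hgN * α⁻¹) * α⁻¹⁻¹ = conjAut hgN := by group
    rwa [e] at h1

theorem ExtW.mem_autGroup (h : Setup F p P K) {α : MulAut P} (hα : ExtW F P K α) :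
    α ∈ F.autGroup P := by
  obtain ⟨ψ, hψ, he⟩ := hα
  exact (mem_autGroup_iff h.le_S).2 (mem_of_le hψ le_sup_left fun x => (he x).symm)

theorem ExtW.range_eq [Finite S] (h : Setup F p P K) {α : MulAut P} {ψ : ↥(P ⊔ inducing S P K) →* Ω}
    (hψ : ψ ∈ F.Hom (P ⊔ inducing S P K))
    (he : ∀ x : P, ψ (Subgroup.inclusion le_sup_left x) = ((α x : P) : Ω)) :
    ψ.range = P ⊔ inducing S P K := by
  have hα : α ∈ F.autGroup P := ExtW.mem_autGroup h ⟨ψ, hψ, he⟩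
  refine range_eq_of_le hψ h.inducing_le (forall_sup_mem ψ (fun x => ?_) fun x => ?_) le_rfl
  · rw [he]
    exact Subgroup.mem_sup_left (α x).2
  · exact Subgroup.mem_sup_right
      ((h.apply_mem_inducing hψ h.inducing_le_normalizer le_sup_left hα he _).1 x.2)

theorem ExtW.mul [Finite S] (h : Setup F p P K) {a b : MulAut P} (ha : ExtW F P K a)
    (hb : ExtW F P K b) : ExtW F P K (a * b) := by
  obtain ⟨ψ, hψ, he⟩ := ha
  obtain ⟨χ, hχ, he'⟩ := hb
  have hmem : ∀ z, χ z ∈ P ⊔ inducing S P K := fun z => (ExtW.range_eq h hχ he').le ⟨z, rfl⟩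
  refine ⟨_, F.comp_mem hχ hψ hmem, fun x => ?_⟩
  show ψ ⟨χ _, _⟩ = _
  rw [show (⟨χ (Subgroup.inclusion le_sup_left x), hmem _⟩ : ↥(P ⊔ inducing S P K)) =
    Subgroup.inclusion le_sup_left (b x) from Subtype.ext (he' x), he]
  rfl

theorem ExtW.inv [Finite S] (h : Setup F p P K) {a : MulAut P} (ha : ExtW F P K a) :
    ExtW F P K a⁻¹ := by
  obtain ⟨ψ, hψ, he⟩ := ha
  obtain ⟨χ, hχ, -, hi, -⟩ := exists_inverse hψ (ExtW.range_eq h hψ he)
  refine ⟨χ, hχ, fun x => ?_⟩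
  have h1 := hi (Subgroup.inclusion le_sup_left (a⁻¹ x))
    ((he (a⁻¹ x)).symm ▸ Subgroup.mem_sup_left (a (a⁻¹ x)).2)
  refine Eq.trans (congrArg χ (Subtype.ext ?_)) h1
  exact ((he (a⁻¹ x)).trans (congrArg Subtype.val (MulAut.apply_inv_self P a x))).symm

/-- Extending an isomorphism by elements inducing members of `K`, without changing it on `P`. -/
theorem Setup.exists_push_kernel [Finite S] [Fact p.Prime] (h : Setup F p P K) (hS : IsPGroup p S)
    {U Q₃ : Subgroup Ω} (hQ₃U : Q₃ ≤ U) (hUr : F.IsReceptive U)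
    (hUN : U ≤ Subgroup.normalizer (Q₃ : Set Ω))
    (hSyl : SylowInside p (stabAut F U Q₃) (autInducedBy S U))
    (hc : F.IsConj P Q₃) {K₃ : Subgroup (MulAut Q₃)}
    (hK₃ : ∀ b ∈ stabAut F U Q₃, ∀ κ ∈ K₃, ∀ hb : b ∈ stabAut F U Q₃,
      restrictStab F hQ₃U ⟨b, hb⟩ * κ * (restrictStab F hQ₃U ⟨b, hb⟩)⁻¹ ∈ K₃)
    (hK₃p : K₃ = ⊥ ∨ (IsPGroup p K₃ ∧ centralizerIn S Q₃ ≤ Q₃))
    {R : Subgroup Ω} {θ : R →* Ω} (hθ : θ ∈ F.Hom R) (hr : θ.range = U) (hPR : P ≤ R)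
    (hP : (P.subgroupOf R).map θ = Q₃) {e : P ≃* Q₃}
    (he : ∀ x : P, ((e x : Q₃) : Ω) = θ (Subgroup.inclusion hPR x))
    (hKK : ∀ κ ∈ K, MulAut.congr e κ ∈ K₃) (D : Subgroup Ω) (hDI : D ≤ inducing S P K)
    (hDR : D ≤ Subgroup.normalizer (R : Set Ω)) :
    ∃ ψ ∈ F.Hom (R ⊔ D), ∀ x : P,
      ψ (Subgroup.inclusion (hPR.trans le_sup_left) x) = θ (Subgroup.inclusion hPR x) := by
  have hDS : D ≤ S := hDI.trans inf_le_right
  have hUS := hUr.1
  have := finite_of_le (Ω := Ω) hUS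
  have := finite_mulAut (Ω := Ω) hUS
  set Kt : Subgroup (MulAut U) := (K₃.comap (restrictStab F hQ₃U)).map
    (stabAut F U Q₃).subtype with hKt
  have hKtB : Kt ≤ stabAut F U Q₃ := Subgroup.map_subtype_le _
  have hKtn : (Kt.subgroupOf (stabAut F U Q₃)).Normal := by
    refine ⟨fun k hk b => ?_⟩
    obtain ⟨k', hk', hkk⟩ := hk
    obtain rfl : k' = k := Subtype.ext hkk
    refine ⟨b * k' * b⁻¹, ?_, rfl⟩
    show restrictStab F hQ₃U (b * k' * b⁻¹) ∈ K₃
    rw [map_mul, map_mul, map_inv]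
    exact hK₃ b b.2 _ hk' b.2
  have hDKt : ∀ g (hg : g ∈ D), MulAut.congr (homEquiv hθ hr) (conjAut (hDR hg)) ∈ Kt := by
    intro g hg
    obtain ⟨-, hgP, hgK⟩ := mem_inducing.1 (hDI hg)
    refine ⟨⟨_, congr_conjAut_mem_stab hθ hr hP (hDS hg) (hDR hg) hgP⟩, ?_, rfl⟩
    show restrictStab F hQ₃U _ ∈ K₃
    convert hKK _ hgK using 1
    refine MulEquiv.ext fun y => Subtype.ext ?_
    obtain ⟨x, rfl⟩ := e.surjective y
    rw [congr_apply, he, coe_restrictStab]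
    show ((MulAut.congr (homEquiv hθ hr) (conjAut (hDR hg)) _ : U) : Ω) = _
    rw [show Subgroup.inclusion hQ₃U (e x) = homEquiv hθ hr (Subgroup.inclusion hPR x) from
      Subtype.ext (he x), congr_apply, coe_homEquiv]
    rfl
  rcases hK₃p with hbot | ⟨hpK, hcen⟩
  · obtain ⟨k, hk, ψ, hψ, hψe⟩ := exists_twist_in hS hUr hθ hr Kt (hKtB.trans (stabAut_le U Q₃))
      (hSyl.of_normal hKtB hKtn) D hDS hDR hDKt
    refine ⟨ψ, hψ, fun x => ?_⟩
    obtain ⟨k', hk', rfl⟩ := hk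
    have h1 : restrictStab F hQ₃U k' = 1 := Subgroup.mem_bot.1 (hbot ▸ hk')
    rw [show Subgroup.inclusion (hPR.trans le_sup_left : P ≤ R ⊔ D) x =
      Subgroup.inclusion le_sup_left (Subgroup.inclusion hPR x) from rfl, hψe]
    have h2 := congrArg (fun a : MulAut Q₃ => ((a (e x) : Q₃) : Ω)) h1
    simp only [coe_restrictStab, MulAut.one_apply] at h2
    rw [he] at h2
    refine Eq.trans ?_ h2
    exact congrArg (fun u : U => (((k' : MulAut U) u : U) : Ω)) (Subtype.ext (he x).symm)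
  · have hKtp : IsPGroup p Kt := by
      obtain ⟨n, hn⟩ := IsPGroup.iff_card.1 (hS.to_le hUS)
      rintro ⟨_, b, hb, rfl⟩
      obtain ⟨m, hm⟩ := hpK ⟨restrictStab F hQ₃U b, hb⟩
      have hγ : restrictStab F hQ₃U (b ^ p ^ m) = 1 := by
        rw [map_pow]
        exact congrArg Subtype.val hm
      set γ : MulAut U := ((b ^ p ^ m : stabAut F U Q₃) : MulAut U) with hγdef
      have hfix : ∀ q : U, (q : Ω) ∈ Q₃ → γ q = q := fun q hq => Subtype.ext (by
        have h2 := congrArg (fun a : MulAut Q₃ => ((a ⟨q, hq⟩ : Q₃) : Ω)) hγ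
        exact h2)
      have hz : ∀ x : U, ((x⁻¹ * γ x : U) : Ω) ∈ Q₃ := by
        intro x
        refine hcen (mem_centralizerIn.2 ⟨hUS (Subtype.property _), fun q hq => ?_⟩)
        have hx1 := (Subgroup.mem_normalizer_iff.1 (hUN x.2) q).1 hq
        have h1 : γ (x * ⟨q, hQ₃U hq⟩ * x⁻¹) = x * ⟨q, hQ₃U hq⟩ * x⁻¹ := hfix _ hx1
        rw [map_mul, map_mul, map_inv, hfix ⟨q, hQ₃U hq⟩ hq] at h1
        have h2 : (γ x : U) * ⟨q, hQ₃U hq⟩ * (γ x)⁻¹ = x * ⟨q, hQ₃U hq⟩ * x⁻¹ := h1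
        have h3 : (⟨q, hQ₃U hq⟩ : U) * (x⁻¹ * γ x) = x⁻¹ * γ x * ⟨q, hQ₃U hq⟩ := by
          calc (⟨q, hQ₃U hq⟩ : U) * (x⁻¹ * γ x)
              = x⁻¹ * (x * ⟨q, hQ₃U hq⟩ * x⁻¹) * γ x := by group
            _ = x⁻¹ * (γ x * ⟨q, hQ₃U hq⟩ * (γ x)⁻¹) * γ x := by rw [h2]
            _ = _ := by group
        exact congrArg Subtype.val h3
      refine ⟨m + n, Subtype.ext ?_⟩
      show (b : MulAut U) ^ p ^ (m + n) = 1
      rw [pow_add, pow_mul, ← SubmonoidClass.coe_pow, ← hγdef]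
      refine MulEquiv.ext fun x => ?_
      rw [aut_pow_apply_of_fixed γ (x := x) (z := x⁻¹ * γ x) (by rw [mul_inv_cancel_left])
        (hfix _ (hz x)), ← hn, pow_card_eq_one', mul_one]
      rfl
    have hKtT : Kt ≤ autInducedBy S U := hSyl.le_of_normal_pGroup hKtB hKtn hKtp
    have hle : R ⊔ D ≤ extender S R θ :=
      sup_le (le_extender (dom_le hθ) fun x => apply_mem hθ x) fun g hg =>
        (mem_extender_iff_congr hθ hr).2 ⟨hDS hg, hDR hg, hKtT (hDKt g hg)⟩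
    obtain ⟨ψ, hψ, hψe⟩ := exists_extension hUr hθ hr hle
    exact ⟨ψ, hψ, fun x => hψe x (hPR x.2) _⟩

/-- An automorphism extending to some `R > P` extends to `P ⊔ inducing`. -/
theorem Setup.extW_of_extends [Finite S] [Fact p.Prime] (h : Setup F p P K) (hS : IsPGroup p S) :
    ∀ (n : ℕ) (R : Subgroup Ω), Nat.card S ≤ Nat.card R + n → ∀ (hPR : P ≤ R),
      R ≤ normalizerIn S P → Nat.card P < Nat.card R → ∀ φ ∈ F.Hom R, ∀ α ∈ F.autGroup P,
      (∀ x : P, φ (Subgroup.inclusion hPR x) = ((α x : P) : Ω)) → ExtW F P K α := by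
  intro n
  induction n with
  | zero =>
    intro R hn hPR hRN _ φ hφ α _ he
    have hW : P ⊔ inducing S P K ≤ R := by
      have hRS : R = S := eq_of_le_of_card_le le_rfl (hRN.trans (normalizerIn_le S P)) (by omega)
      rw [hRS]
      exact h.inducing_le
    exact ⟨_, restrict_mem hφ hW, fun x => he x⟩
  | succ n ih =>
    intro R hn hPR hRN hlt φ hφ α hα he
    by_cases hIR : inducing S P K ≤ R
    · exact ⟨_, restrict_mem hφ (sup_le hPR hIR), fun x => he x⟩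
    have hRS := hRN.trans (normalizerIn_le S P)
    have hRP : R ≤ Subgroup.normalizer (P : Set Ω) := hRN.trans inf_le_right
    have hφP : (P.subgroupOf R).map φ = P := by
      ext z
      constructor
      · rintro ⟨y, hy, rfl⟩
        rw [show y = Subgroup.inclusion hPR ⟨(y : Ω), hy⟩ from rfl, he]
        exact Subtype.property _
      · intro hz
        exact ⟨Subgroup.inclusion hPR (α.symm ⟨z, hz⟩), (α.symm ⟨z, hz⟩).2, by
          rw [he, MulEquiv.apply_symm_apply]⟩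
    have hR'N : φ.range ≤ normalizerIn S P := by
      rintro _ ⟨x, rfl⟩
      exact mem_normalizerIn_of_map hφ hRP hφP x
    have hPR' : P ≤ φ.range := fun z hz => by
      obtain ⟨x, -, hx⟩ := hφP.ge hz
      exact ⟨x, hx⟩
    have hIR' : ¬ inducing S P K ≤ φ.range := by
      intro hle
      refine hIR ?_
      have hIS : inducing S P K ≤ S := inf_le_right
      have := finite_of_le (Ω := Ω) hIS
      let f : ↥(inducing S P K) → ↥(inducing S P K ⊓ R) := fun g =>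
        ⟨((hle g.2).choose : R), (h.apply_mem_inducing hφ hRP hPR hα he _).2
          (by rw [(hle g.2).choose_spec]; exact g.2), ((hle g.2).choose).2⟩
      have hf : Function.Injective f := fun a b hab => Subtype.ext (by
        have h1 : (hle a.2).choose = (hle b.2).choose :=
          Subtype.ext (congrArg (fun z : ↥(inducing S P K ⊓ R) => (z : Ω)) hab)
        rw [← (hle a.2).choose_spec, h1, (hle b.2).choose_spec])
      have := finite_of_le (Ω := Ω) ((inf_le_left : inducing S P K ⊓ R ≤ _).trans hIS)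
      have h2 := eq_of_le_of_card_le hIS (inf_le_left : inducing S P K ⊓ R ≤ _)
        (Nat.card_le_card_of_injective f hf)
      exact h2.ge.trans inf_le_right
    obtain ⟨U, hRU, hUa, hUr⟩ := h.big R hRS hlt
    obtain ⟨θ, hθ, hθr, hSyl⟩ := exists_target (Q := P) hUa hRU
    set Q₃ := (P.subgroupOf R).map θ with hQ₃
    obtain ⟨η, hη, hηi, hηP⟩ := exists_inverse_map hφ hPR hφP
    have hηR : ∀ y, η y ∈ R := by
      rintro ⟨_, x, rfl⟩
      rw [hηi]
      exact x.2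
    have hθ' := F.comp_mem hη hθ hηR
    set θ' := θ.comp (η.codRestrict R hηR) with hθ'def
    have hθ'r : θ'.range = U := by
      rw [← hθr]
      ext z
      constructor
      · rintro ⟨y, rfl⟩
        exact ⟨_, rfl⟩
      · rintro ⟨x, rfl⟩
        exact ⟨⟨φ x, x, rfl⟩, congrArg θ (Subtype.ext (hηi x))⟩
    have hθ'P : (P.subgroupOf φ.range).map θ' = Q₃ := map_comp_eq hηR hηP hQ₃.symm
    have hQ₃U : Q₃ ≤ U := by
      rw [hQ₃, ← hθr]
      rintro _ ⟨x, -, rfl⟩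
      exact ⟨x, rfl⟩
    have hUN : U ≤ Subgroup.normalizer (Q₃ : Set Ω) := by
      rw [← hθr]
      rintro _ ⟨x, rfl⟩
      exact (mem_normalizerIn_of_map hθ hRP hQ₃.symm x).2
    have hcP : F.IsConj P Q₃ := isConj_of_map hθ hPR hQ₃.symm
    have hθP := restrict_mem hθ hPR
    have hθPr : (θ.comp (Subgroup.inclusion hPR)).range = Q₃ := by
      rw [hQ₃]
      ext z
      exact ⟨fun ⟨x, hx⟩ => ⟨Subgroup.inclusion hPR x, x.2, hx⟩,
        fun ⟨x, hx, he⟩ => ⟨⟨x, hx⟩, he⟩⟩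
    set e : P ≃* Q₃ := homEquiv hθP hθPr with hedef
    have he3 : ∀ x : P, ((e x : Q₃) : Ω) = θ (Subgroup.inclusion hPR x) :=
      coe_homEquiv hθP hθPr
    set K₃ := K.map (MulAut.congr e).toMonoidHom with hK₃
    have hK₃n : ∀ b ∈ stabAut F U Q₃, ∀ κ ∈ K₃, ∀ hb : b ∈ stabAut F U Q₃,
        restrictStab F hQ₃U ⟨b, hb⟩ * κ * (restrictStab F hQ₃U ⟨b, hb⟩)⁻¹ ∈ K₃ := by
      rintro b - _ ⟨k, hk, rfl⟩ hb
      have h1 : restrictStab F hQ₃U ⟨b, hb⟩ ∈ F.autGroup Q₃ := restrictStab_mem hUr.1 hQ₃U _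
      obtain ⟨a, ha, hae⟩ := (map_autGroup hθP hθPr).ge h1
      rw [← hae]
      refine ⟨a * k * a⁻¹, h.normal a ha k hk, ?_⟩
      rw [map_mul, map_mul, map_inv]
    have hK₃p : K₃ = ⊥ ∨ (IsPGroup p K₃ ∧ centralizerIn S Q₃ ≤ Q₃) := by
      rcases h.clean with hb | ⟨hp, hcen⟩
      · left
        rw [hK₃, hb, Subgroup.map_bot]
      · exact Or.inr ⟨hp.map _, hcen Q₃ hcP⟩
    -- the second isomorphism restricted to `P`
    let e' : P ≃* Q₃ := (α⁻¹ : MulAut P).trans e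
    have he' : ∀ y : P, ((e' y : Q₃) : Ω) = θ' (Subgroup.inclusion hPR' y) := by
      intro y
      show ((e (α⁻¹ y) : Q₃) : Ω) = θ ⟨η _, _⟩
      rw [he3]
      refine congrArg θ (Subtype.ext ?_)
      show ((α⁻¹ y : P) : Ω) = η _
      refine Eq.trans (hηi (Subgroup.inclusion hPR (α⁻¹ y))).symm (congrArg η (Subtype.ext ?_))
      show φ _ = (y : Ω)
      rw [he, MulAut.apply_inv_self]
    have hKK' : ∀ κ ∈ K, MulAut.congr e' κ ∈ K₃ := by
      intro κ hκ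
      refine ⟨α⁻¹ * κ * α⁻¹⁻¹, h.normal _ (inv_mem hα) κ hκ, ?_⟩
      exact MulEquiv.ext fun y => rfl
    set D := normalizerIn (inducing S P K) R with hD
    set D' := normalizerIn (inducing S P K) φ.range with hD'
    obtain ⟨ψ, hψ, hψe⟩ := h.exists_push_kernel hS hQ₃U hUr hUN hSyl hcP hK₃n hK₃p hθ hθr hPR
      hQ₃.symm he3 (fun κ hκ => ⟨κ, hκ, rfl⟩) D (normalizerIn_le _ R) inf_le_right
    obtain ⟨ψ', hψ', hψ'e⟩ := h.exists_push_kernel hS hQ₃U hUr hUN hSyl hcP hK₃n hK₃p hθ' hθ'r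
      hPR' hθ'P he' hKK' D' (normalizerIn_le _ φ.range) inf_le_right
    obtain ⟨χ, hχ, hχQ⟩ := h.reach Q₃ hcP
    -- from an extension to a bigger group, an extendable automorphism
    have key : ∀ (R₁ : Subgroup Ω) (hPR₁ : P ≤ R₁) (ψ₁ : ↥(R₁ ⊔ normalizerIn (inducing S P K) R₁) →* Ω),
        ψ₁ ∈ F.Hom (R₁ ⊔ normalizerIn (inducing S P K) R₁) → R₁ ≤ normalizerIn S P →
        ¬ inducing S P K ≤ R₁ → Nat.card R₁ = Nat.card R → ∀ (e₁ : P ≃* Q₃),
        (∀ x : P, ψ₁ (Subgroup.inclusion (hPR₁.trans le_sup_left) x) = ((e₁ x : Q₃) : Ω)) →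
        ∃ a, ExtW F P K a ∧ ∀ (x : P) (hm : ((e₁ x : Q₃) : Ω) ∈ normalizerIn S Q₃),
          ((a x : P) : Ω) = χ ⟨((e₁ x : Q₃) : Ω), hm⟩ := by
      intro R₁ hPR₁ ψ₁ hψ₁ hR₁N hI₁ hcard e₁ he₁
      let X := R₁ ⊔ normalizerIn (inducing S P K) R₁
      have hXN : X ≤ normalizerIn S P := sup_le hR₁N fun g hg =>
        ⟨(mem_inducing.1 hg.1).1, (mem_inducing.1 hg.1).2.1⟩
      have hPX : P ≤ X := hPR₁.trans le_sup_left
      have himg : (P.subgroupOf X).map ψ₁ = Q₃ := by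
        ext z
        constructor
        · rintro ⟨y, hy, rfl⟩
          rw [show y = Subgroup.inclusion hPX ⟨(y : Ω), hy⟩ from rfl, he₁]
          exact Subtype.property _
        · intro hz
          exact ⟨Subgroup.inclusion hPX (e₁.symm ⟨z, hz⟩), (e₁.symm ⟨z, hz⟩).2, by
            rw [he₁, MulEquiv.apply_symm_apply]⟩
      have hmem : ∀ x, ψ₁ x ∈ normalizerIn S Q₃ :=
        mem_normalizerIn_of_map hψ₁ (hXN.trans inf_le_right) himg
      have hc1 := F.comp_mem hψ₁ hχ hmem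
      have hc2 : (P.subgroupOf X).map (χ.comp (ψ₁.codRestrict _ hmem)) = P :=
        map_comp_eq hmem himg hχQ
      have hres := restrict_mem hc1 hPX
      have hr : ((χ.comp (ψ₁.codRestrict _ hmem)).comp (Subgroup.inclusion hPX)).range = P := by
        refine Eq.trans ?_ hc2
        ext z
        exact ⟨fun ⟨x, hx⟩ => ⟨Subgroup.inclusion hPX x, x.2, hx⟩,
          fun ⟨x, hx, he⟩ => ⟨⟨x, hx⟩, he⟩⟩
      have hbigger : Nat.card R < Nat.card X := by
        rw [← hcard]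
        have hR₁S := hR₁N.trans (normalizerIn_le S P)
        have hIS : inducing S P K ≤ S := inf_le_right
        have hnorm : R₁ ≤ Subgroup.normalizer (inducing S P K : Set Ω) := by
          intro r hr'
          have := finite_of_le (Ω := Ω) hIS
          refine mem_normalizer_of_forall fun g hg => ?_
          obtain ⟨hgS, hgN, hgK⟩ := mem_inducing.1 hg
          have hrN := (hR₁N hr').2
          refine mem_inducing.2 ⟨S.mul_mem (S.mul_mem (hR₁S hr') hgS) (S.inv_mem (hR₁S hr')),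
            mul_mem (mul_mem hrN hgN) (inv_mem hrN), ?_⟩
          have h1 := h.normal _ (autInducedBy_le_autGroup F h.le_S
            (conjAut_mem_autInducedBy (hR₁S hr') hrN)) _ hgK
          convert h1 using 1
          refine MulEquiv.ext fun y => Subtype.ext ?_
          obtain ⟨z, rfl⟩ := (conjAut hrN).surjective y
          show r * g * r⁻¹ * (r * (z : Ω) * r⁻¹) * (r * g * r⁻¹)⁻¹ =
            ((conjAut hrN (conjAut hgN ((conjAut hrN)⁻¹ (conjAut hrN z))) : P) : Ω)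
          rw [MulAut.inv_apply_self]
          show _ = r * (g * (z : Ω) * g⁻¹) * r⁻¹
          group
        have hsup : R₁ ⊔ inducing S P K ≤ S := sup_le hR₁S hIS
        have hlt₁ : R₁ < R₁ ⊔ inducing S P K :=
          lt_of_le_of_ne le_sup_left fun he' => hI₁ (le_sup_right.trans he'.ge)
        have := finite_of_le (Ω := Ω) hsup
        obtain ⟨g, ⟨hgm, hgN⟩, hgR⟩ :=
          SetLike.exists_of_lt (lt_normalizerIn (hS.to_le hsup) hlt₁)
        have hgm' : g ∈ ((R₁ ⊔ inducing S P K : Subgroup Ω) : Set Ω) := hgm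
        rw [Subgroup.coe_mul_of_left_le_normalizer_right R₁ _ hnorm] at hgm'
        obtain ⟨x, hx, q, hq, rfl⟩ := hgm'
        have hqN : q ∈ Subgroup.normalizer (R₁ : Set Ω) := by
          have h1 := Subgroup.mul_mem _ (Subgroup.inv_mem _ (Subgroup.le_normalizer hx)) hgN
          simpa using h1
        refine card_lt_of_lt (sup_le hR₁S ((normalizerIn_le _ R₁).trans hIS))
          (lt_of_le_of_ne le_sup_left fun he' => hgR (R₁.mul_mem hx (he'.ge ?_)))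
        exact Subgroup.mem_sup_right ⟨hq, hqN⟩
      refine ⟨toAut hres hr, ih X (by omega) hPX hXN (hlt.trans hbigger) _ hc1 _
        (toAut_mem hres hr) (fun x => rfl), fun x hm => ?_⟩
      rw [coe_toAut]
      exact congrArg χ (Subtype.ext (he₁ x))
    obtain ⟨a₁, ha₁, ha₁e⟩ := key R hPR ψ hψ hRN hIR rfl e (fun x => (hψe x).trans (he3 x).symm)
    obtain ⟨a₂, ha₂, ha₂e⟩ := key φ.range hPR' ψ' hψ' hR'N hIR' (card_range hφ) e'
      (fun x => (hψ'e x).trans (he' x).symm)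
    have heq : α = a₂⁻¹ * a₁ := by
      refine MulEquiv.ext fun x => ?_
      rw [MulAut.mul_apply]
      have hm : ((e x : Q₃) : Ω) ∈ normalizerIn S Q₃ :=
        ⟨hUr.1 (hQ₃U (e x).2), Subgroup.le_normalizer (e x).2⟩
      have h2 : a₂ (α x) = a₁ x := by
        refine Subtype.ext ?_
        have e2 : e' (α x) = e x := by
          show e (α⁻¹ (α x)) = e x
          rw [MulAut.inv_apply_self]
        rw [ha₁e x hm, ha₂e (α x) (by rw [e2]; exact hm)]
        exact congrArg χ (Subtype.ext (congrArg (fun t : Q₃ => (t : Ω)) e2))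
      rw [← h2, MulAut.inv_apply_self]
    rw [heq]
    exact (ha₂.inv h).mul h ha₁

/-- Every automorphism of `P` in the system extends to `P ⊔ inducing`. -/
theorem Setup.extW_of_mem [Finite S] [Fact p.Prime] (h : Setup F p P K) (hS : IsPGroup p S)
    {ℋ : Set (Subgroup Ω)} (hgen : ∀ E : FusionSystem S, (∀ P ∈ ℋ, F.Hom P ⊆ E.Hom P) → F ≤ E)
    (hnot : ∀ Q, F.IsConj P Q → Q ∉ ℋ) {α : MulAut P} (hα : α ∈ F.autGroup P) :
    ExtW F P K α := by
  let C : ∀ X : Subgroup Ω, (X →* Ω) → Prop := fun X φ =>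
    ∀ (Q : Subgroup Ω) (hQ : Q ≤ X) (Q' : Subgroup Ω), F.IsConj P Q →
      (φ.comp (Subgroup.inclusion hQ)).range = Q' →
      ∀ χ ∈ F.Hom (normalizerIn S Q), (Q.subgroupOf (normalizerIn S Q)).map χ = P →
      ∀ χ' ∈ F.Hom (normalizerIn S Q'), (Q'.subgroupOf (normalizerIn S Q')).map χ' = P →
      ∀ a : MulAut P, (∀ (x : Q) (h1 : (x : Ω) ∈ normalizerIn S Q)
        (h2 : φ (Subgroup.inclusion hQ x) ∈ normalizerIn S Q') (h3 : χ ⟨x, h1⟩ ∈ P),
        ((a ⟨χ ⟨x, h1⟩, h3⟩ : P) : Ω) = χ' ⟨φ (Subgroup.inclusion hQ x), h2⟩) → ExtW F P K a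
  have hbase : ∀ (T : Subgroup Ω) (φ : T →* Ω), φ ∈ F.Hom T →
      (∀ Q, F.IsConj P Q → Q ≤ T → Nat.card P < Nat.card T) → C T φ := by
    intro T φ hφ hT Q hQT Q' hc hQ' χ hχ hχQ χ' hχ' hχ'Q a ha
    have hTS := dom_le hφ
    have := finite_of_le (Ω := Ω) hTS
    have hQc : Nat.card Q = Nat.card P := isConj_card hc
    have hQlt : Q < T := lt_of_le_of_ne hQT fun he => by
      have := hT Q hc hQT
      rw [he] at hQc
      omega
    set R := normalizerIn T Q with hR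
    have hQR : Q < R := lt_normalizerIn (hS.to_le hTS) hQlt
    have hRN : R ≤ normalizerIn S Q := inf_le_inf_right _ hTS
    have hφR := restrict_mem hφ (normalizerIn_le T Q)
    have himg : (Q.subgroupOf R).map (φ.comp (Subgroup.inclusion (normalizerIn_le T Q : R ≤ T))) =
        Q' := by
      rw [map_restrict_eq _ hQR.le, ← hQ']
      ext z
      exact ⟨fun ⟨x, hx, he⟩ => ⟨⟨x, hx⟩, he⟩, fun ⟨x, hx⟩ => ⟨_, x.2, hx⟩⟩
    have hχR := restrict_mem hχ hRN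
    have hχRQ : (Q.subgroupOf R).map (χ.comp (Subgroup.inclusion hRN)) = P := by
      rw [map_restrict_eq _ hQR.le, hχQ]
    set R₀ := (χ.comp (Subgroup.inclusion hRN)).range with hR₀
    obtain ⟨η, hη, hηi, hηP⟩ : ∃ η ∈ F.Hom R₀, (∀ x, η ⟨_, x, rfl⟩ = (x : Ω)) ∧
      (P.subgroupOf R₀).map η = Q := exists_inverse_map hχR hQR.le hχRQ
    have hηR : ∀ y, η y ∈ R := by
      rintro ⟨_, x, rfl⟩
      rw [hηi]
      exact x.2
    have hmem : ∀ x : R, φ.comp (Subgroup.inclusion (normalizerIn_le T Q : R ≤ T)) x ∈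
        normalizerIn S Q' := mem_normalizerIn_of_map hφR inf_le_right himg
    have hψ := F.comp_mem (F.comp_mem hη hφR hηR) hχ' (fun y => hmem _)
    have hPR₀ : P ≤ R₀ := fun z hz => by
      obtain ⟨x, -, hx⟩ := hχRQ.ge hz
      exact ⟨x, hx⟩
    have hR₀N : R₀ ≤ normalizerIn S P := by
      rintro _ ⟨x, rfl⟩
      exact mem_normalizerIn_of_map hχR inf_le_right hχRQ x
    have hval : ∀ y : P, (χ'.comp (((φ.comp (Subgroup.inclusion (normalizerIn_le T Q : R ≤ T))).comp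
        (η.codRestrict R hηR)).codRestrict _ fun y => hmem _)) (Subgroup.inclusion hPR₀ y) =
          ((a y : P) : Ω) := by
      rintro ⟨y, hy⟩
      obtain ⟨x, hx, hxy⟩ := hχRQ.ge hy
      have h3 : χ ⟨x, hRN x.2⟩ ∈ P := (show χ ⟨x, hRN x.2⟩ = y from hxy) ▸ hy
      have h4 := ha ⟨x, hx⟩ (hRN x.2) (hmem x) h3
      rw [show (⟨y, hy⟩ : P) = ⟨χ ⟨x, hRN x.2⟩, h3⟩ from Subtype.ext hxy.symm, h4]
      refine congrArg χ' (Subtype.ext (congrArg φ (Subtype.ext ?_)))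
      exact hηi x
    have hPlt : Nat.card P < Nat.card R₀ := by
      rw [hR₀, card_range hχR]
      have : Nat.card Q < Nat.card R := card_lt_of_lt ((normalizerIn_le T Q).trans hTS) hQR
      omega
    exact h.extW_of_extends hS (Nat.card S) R₀ (by omega) hPR₀ hR₀N hPlt _ hψ a
      ((mem_autGroup_iff h.le_S).2 (mem_of_le hψ hPR₀ fun y => (hval y).symm)) hval
  have hcomp : ∀ (X Y : Subgroup Ω) (φ : X →* Ω) (ψ : Y →* Ω), φ ∈ F.Hom X → ψ ∈ F.Hom Y →
      C X φ → C Y ψ → ∀ h : ∀ x : X, φ x ∈ Y, C X (ψ.comp (φ.codRestrict Y h)) := by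
    intro X Y φ ψ hφ hψ hCφ hCψ hm Q hQ Q' hc hQ' χ hχ hχQ χ' hχ' hχ'Q a ha
    have hφQ := restrict_mem hφ hQ
    set Q'' := (φ.comp (Subgroup.inclusion hQ)).range with hQ''
    have hQ''Y : Q'' ≤ Y := by
      rintro _ ⟨x, rfl⟩
      exact hm _
    have hc'' : F.IsConj P Q'' := isConj_trans hc ⟨_, hφQ, rfl⟩
    obtain ⟨χ'', hχ'', hχ''Q⟩ := h.reach Q'' hc''
    have hQN : Q ≤ normalizerIn S Q := le_normalizerIn (hQ.trans (dom_le hφ))
    have hQ''N : Q'' ≤ normalizerIn S Q'' := le_normalizerIn (hQ''Y.trans (dom_le hψ))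
    obtain ⟨η, hη, hηi, hηP⟩ :=
      exists_inverse_map (restrict_mem hχ hQN) (le_refl Q) (by rw [map_restrict_eq _ le_rfl, hχQ])
    have hPr : P ≤ (χ.comp (Subgroup.inclusion hQN)).range := fun z hz => by
      obtain ⟨x, hx, he⟩ := hχQ.ge hz
      exact ⟨⟨x, hx⟩, he⟩
    have hη' := restrict_mem hη hPr
    have hηQ : ∀ y, η (Subgroup.inclusion hPr y) ∈ Q := fun y => hηP.le ⟨_, y.2, rfl⟩
    have hb := F.comp_mem (F.comp_mem hη' hφQ hηQ) hχ'' (fun y => hQ''N ⟨_, rfl⟩)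
    set b := χ''.comp (((φ.comp (Subgroup.inclusion hQ)).comp
      ((η.comp (Subgroup.inclusion hPr)).codRestrict Q hηQ)).codRestrict (normalizerIn S Q'')
        fun y => hQ''N ⟨_, rfl⟩) with hbdef
    have hbP : ∀ y, b y ∈ P := fun y => hχ''Q.le ⟨⟨_, hQ''N ⟨_, rfl⟩⟩, ⟨_, rfl⟩, rfl⟩
    have hbr : b.range = P := range_eq_of_le hb h.le_S hbP le_rfl
    set a₁ := toAut hb hbr with ha₁
    have hrel : ∀ (x : Q) (h1 : (x : Ω) ∈ normalizerIn S Q)
        (h2 : φ (Subgroup.inclusion hQ x) ∈ normalizerIn S Q'') (h3 : χ ⟨x, h1⟩ ∈ P),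
        ((a₁ ⟨χ ⟨x, h1⟩, h3⟩ : P) : Ω) = χ'' ⟨φ (Subgroup.inclusion hQ x), h2⟩ := by
      intro x h1 h2 h3
      rw [ha₁, coe_toAut]
      refine congrArg χ'' (Subtype.ext (congrArg φ (Subtype.ext ?_)))
      exact hηi x
    have h1 : ExtW F P K a₁ := hCφ Q hQ Q'' hc rfl χ hχ hχQ χ'' hχ'' hχ''Q a₁ hrel
    have h2 : ExtW F P K (a * a₁⁻¹) := by
      refine hCψ Q'' hQ''Y Q' hc'' ?_ χ'' hχ'' hχ''Q χ' hχ' hχ'Q (a * a₁⁻¹) ?_
      · rw [← hQ']
        ext z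
        constructor
        · rintro ⟨⟨_, x, rfl⟩, rfl⟩
          exact ⟨x, rfl⟩
        · rintro ⟨x, rfl⟩
          exact ⟨⟨_, x, rfl⟩, rfl⟩
      rintro ⟨_, x, rfl⟩ g1 g2 g3
      have hx1 : (x : Ω) ∈ normalizerIn S Q := hQN x.2
      have hx3 : χ ⟨x, hx1⟩ ∈ P := hχQ.le ⟨_, x.2, rfl⟩
      have h4 : (⟨_, g3⟩ : P) = a₁ ⟨_, hx3⟩ := Subtype.ext (hrel x hx1 g1 hx3).symm
      rw [h4, MulAut.mul_apply, MulAut.inv_apply_self]
      exact ha x hx1 g2 hx3
    have h3 := h2.mul h h1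
    rwa [inv_mul_cancel_right] at h3
  have hinv : ∀ (X : Subgroup Ω) (φ : X →* Ω) (ψ : φ.range →* Ω), φ ∈ F.Hom X → C X φ →
      ψ ∈ F.Hom φ.range → (∀ x : X, ψ ⟨φ x, ⟨x, rfl⟩⟩ = (x : Ω)) → C φ.range ψ := by
    intro X φ ψ hφ hCφ hψ hi Q hQ Q₀ hc hQ₀ χ hχ hχQ χ' hχ' hχ'Q a ha
    have hback : ∀ (y : Q), ∃ x : X, φ x = (y : Ω) ∧ ψ (Subgroup.inclusion hQ y) = (x : Ω) := by
      rintro ⟨y, hy⟩
      obtain ⟨x, hx⟩ := hQ hy
      refine ⟨x, hx, ?_⟩
      rw [← hi x]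
      exact congrArg ψ (Subtype.ext hx.symm)
    have hQ₀X : Q₀ ≤ X := by
      rw [← hQ₀]
      rintro _ ⟨y, rfl⟩
      obtain ⟨x, -, hx⟩ := hback y
      show ψ _ ∈ X
      rw [hx]
      exact x.2
    have himg : (φ.comp (Subgroup.inclusion hQ₀X)).range = Q := by
      ext z
      constructor
      · rintro ⟨⟨w, hw⟩, rfl⟩
        obtain ⟨y, rfl⟩ := hQ₀.ge hw
        obtain ⟨x, hx, hxe⟩ := hback y
        have he : Subgroup.inclusion hQ₀X ⟨_, hw⟩ = x := Subtype.ext hxe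
        show φ _ ∈ Q
        rw [he, hx]
        exact y.2
      · intro hz
        obtain ⟨x, hx, hxe⟩ := hback ⟨z, hz⟩
        refine ⟨⟨x, hQ₀.le ⟨⟨z, hz⟩, hxe⟩⟩, ?_⟩
        exact hx
    have h1 : ExtW F P K a⁻¹ := by
      refine hCφ Q₀ hQ₀X Q (isConj_trans hc ⟨_, restrict_mem hψ hQ, hQ₀⟩) himg χ' hχ' hχ'Q χ hχ hχQ
        a⁻¹ ?_
      rintro ⟨w, hw⟩ g1 g2 g3
      obtain ⟨y, rfl⟩ := hQ₀.ge hw
      obtain ⟨x, hx, hxe⟩ := hback y
      have hy1 : (y : Ω) ∈ normalizerIn S Q := le_normalizerIn (hQ.trans (dom_le hψ)) y.2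
      have hy3 : χ ⟨y, hy1⟩ ∈ P := hχQ.le ⟨_, y.2, rfl⟩
      have h4 : (⟨_, g3⟩ : P) = a ⟨_, hy3⟩ := Subtype.ext (ha y hy1 g1 hy3).symm
      rw [h4, MulAut.inv_apply_self]
      refine congrArg χ (Subtype.ext ?_)
      show (y : Ω) = φ _
      rw [← hx]
      exact congrArg φ (Subtype.ext hxe.symm)
    have h2 := h1.inv h
    rwa [inv_inv] at h2
  have hconj : ∀ (X : Subgroup Ω) (g : Ω), X ≤ S → g ∈ S → C X (conjHom X g) :=
    fun X g hX hg Q hQ Q' hc hQ' =>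
      hbase S (conjHom S g) (F.conj_mem (le_refl S) hg) (fun _ _ _ => h.lt) Q (hQ.trans hX) Q' hc hQ'
  have hall : F ≤ subsystemOf F C hconj hcomp hinv := hgen _ fun T hT φ hφ =>
    ⟨hφ, hbase T φ hφ fun Q hc hQT => by
      have := finite_of_le (Ω := Ω) (dom_le hφ)
      rw [← isConj_card hc]
      exact card_lt_of_lt (dom_le hφ) (lt_of_le_of_ne hQT fun he => hnot Q hc (he ▸ hT))⟩
  obtain ⟨hαF, hαr⟩ := hom_of_mem_autGroup h.le_S hα
  have hPN := le_normalizerIn (P := P) (S := S) h.le_S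
  have hsub : (P.subgroupOf (normalizerIn S P)).map (normalizerIn S P).subtype = P := by
    rw [Subgroup.subgroupOf_map_subtype, inf_eq_left]
    exact hPN
  refine (hall P hαF).2 P le_rfl P (isConj_refl F h.le_S) ?_ _
    (subtype_mem F (normalizerIn_le S P)) hsub _ (subtype_mem F (normalizerIn_le S P)) hsub α
    fun x h1 h2 h3 => rfl
  refine Eq.trans ?_ hαr
  ext z
  exact ⟨fun ⟨x, hx⟩ => ⟨x, hx⟩, fun ⟨x, hx⟩ => ⟨x, hx⟩⟩

/-- `P` is fully automized and receptive. -/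
theorem Setup.automized_receptive [Finite S] [Fact p.Prime] (h : Setup F p P K) (hS : IsPGroup p S)
    (hext : ∀ α ∈ F.autGroup P, ExtW F P K α) (hI : ¬ inducing S P K ≤ P) :
    F.IsFullyAutomized p P ∧ F.IsReceptive P := by
  have hPS := h.le_S
  set W := P ⊔ inducing S P K with hWdef
  have hWS : W ≤ S := h.inducing_le
  have hWP : W ≤ Subgroup.normalizer (P : Set Ω) := h.inducing_le_normalizer
  have hPW : P ≤ W := le_sup_left
  have hlt : Nat.card P < Nat.card W :=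
    card_lt_of_lt hWS (lt_of_le_of_ne hPW fun he => hI (le_sup_right.trans he.ge))
  have hWn : normalizerIn S P ≤ Subgroup.normalizer (W : Set Ω) := by
    intro r hr
    have := finite_of_le (Ω := Ω) hWS
    refine mem_normalizer_of_forall fun w hw => ?_
    have hmem : conjHom W r ⟨w, hw⟩ ∈ W := by
      refine forall_sup_mem (conjHom (P ⊔ inducing S P K) r)
        (fun x => Subgroup.mem_sup_left ((Subgroup.mem_normalizer_iff.1 hr.2 x).1 x.2))
        (fun x => Subgroup.mem_sup_right ?_) ⟨w, hw⟩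
      exact (h.apply_mem_inducing (F.conj_mem hWS hr.1) hWP hPW
        (autInducedBy_le_autGroup F hPS (conjAut_mem_autInducedBy hr.1 hr.2)) (fun y => rfl)
        (Subgroup.inclusion le_sup_right x)).1 x.2
    exact hmem
  obtain ⟨U, hWU, hUa, hUr⟩ := h.big W hWS hlt
  obtain ⟨θ₀, hθ₀, hθ₀r, hSyl⟩ := exists_target (Q := P) hUa hWU
  set Q₃ := (P.subgroupOf W).map θ₀ with hQ₃
  set N := normalizerIn S P with hN
  obtain ⟨Ψ₀, hΨ₀, hΨ₀P, hΨ₀W⟩ := exists_push hS hUr hθ₀ hθ₀r hPW hQ₃.symm hSyl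
    (normalizerIn_le S P) hWn inf_le_right
  have hPN : P ≤ N := le_normalizerIn hPS
  have hWN : W ≤ N := le_inf hWS hWP
  have hΨ := restrict_mem hΨ₀ (le_sup_right : N ≤ W ⊔ N)
  set Ψ := Ψ₀.comp (Subgroup.inclusion (le_sup_right : N ≤ W ⊔ N)) with hΨdef
  have hΨP : (P.subgroupOf N).map Ψ = Q₃ := by rw [hΨdef, map_restrict_eq _ hPN, hΨ₀P]
  have hΨW : (W.subgroupOf N).map Ψ = U := by rw [hΨdef, map_restrict_eq _ hWN, hΨ₀W]
  have hcP : F.IsConj P Q₃ := isConj_of_map hΨ hPN hΨP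
  have hΨN : ∀ g, Ψ g ∈ normalizerIn S Q₃ := mem_normalizerIn_of_map hΨ inf_le_right hΨP
  have hΨr : Ψ.range = normalizerIn S Q₃ :=
    range_eq_of_le hΨ (normalizerIn_le S Q₃) hΨN (h.fn.2 Q₃ hcP)
  set θ := Ψ.comp (Subgroup.inclusion hWN) with hθdef
  have hθ : θ ∈ F.Hom W := restrict_mem hΨ hWN
  have hθP : (P.subgroupOf W).map θ = Q₃ := by rw [hθdef, map_restrict_eq _ hPW, hΨP]
  have hθr : θ.range = U := by
    rw [← hΨW]
    ext z
    exact ⟨fun ⟨x, hx⟩ => ⟨Subgroup.inclusion hWN x, x.2, hx⟩,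
      fun ⟨x, hx, he⟩ => ⟨⟨x, hx⟩, he⟩⟩
  have hQ₃U : Q₃ ≤ U := by
    rw [← hθP, ← hθr]
    rintro _ ⟨x, -, rfl⟩
    exact ⟨x, rfl⟩
  have hθPm := restrict_mem hθ hPW
  have hθPr : (θ.comp (Subgroup.inclusion hPW)).range = Q₃ := by
    rw [← hθP]
    ext z
    exact ⟨fun ⟨x, hx⟩ => ⟨Subgroup.inclusion hPW x, x.2, hx⟩,
      fun ⟨x, hx, he⟩ => ⟨⟨x, hx⟩, he⟩⟩
  set e := homEquiv hθPm hθPr with hedef
  have he : ∀ x : P, ((e x : Q₃) : Ω) = θ (Subgroup.inclusion hPW x) := coe_homEquiv hθPm hθPr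
  have := finite_mulAut (Ω := Ω) hUr.1
  have := finite_mulAut (Ω := Ω) hPS
  let r : stabAut F U Q₃ →* MulAut P :=
    (MulAut.congr e).symm.toMonoidHom.comp (restrictStab F hQ₃U)
  have hr : ∀ (b : stabAut F U Q₃) (x : P),
      ((e (r b x) : Q₃) : Ω) = ((b : MulAut U) (Subgroup.inclusion hQ₃U (e x)) : U) := by
    intro b x
    rw [← congr_apply, show MulAut.congr e (r b) = restrictStab F hQ₃U b from
      MulEquiv.apply_symm_apply (MulAut.congr e) _, coe_restrictStab]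
  have hrA : ∀ b, r b ∈ F.autGroup P := fun b => by
    obtain ⟨a, ha, hae⟩ := (map_autGroup hθPm hθPr).ge (restrictStab_mem hUr.1 hQ₃U b)
    have hrb : r b = a := (MulAut.congr e).symm_apply_eq.2 hae.symm
    rw [hrb]
    exact ha
  let rA : stabAut F U Q₃ →* F.autGroup P := r.codRestrict _ hrA
  -- transport of extensions
  have hlift : ∀ (ψ : W →* Ω) (hψ : ψ ∈ F.Hom W) (hψr : ψ.range = W) (a : MulAut P),
      (∀ x : P, ψ (Subgroup.inclusion hPW x) = ((a x : P) : Ω)) →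
      ∀ hm : MulAut.congr (homEquiv hθ hθr) (toAut hψ hψr) ∈ stabAut F U Q₃,
        r ⟨_, hm⟩ = a := by
    intro ψ hψ hψr a ha hm
    refine MulEquiv.ext fun x => e.injective (Subtype.ext ?_)
    rw [hr, show Subgroup.inclusion hQ₃U (e x) = homEquiv hθ hθr (Subgroup.inclusion hPW x) from
      Subtype.ext (he x), he]
    show ((MulAut.congr (homEquiv hθ hθr) (toAut hψ hψr) _ : U) : Ω) = _
    rw [congr_apply, coe_homEquiv]
    exact congrArg θ (Subtype.ext (ha x))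
  have hstab : ∀ (ψ : W →* Ω) (hψ : ψ ∈ F.Hom W) (hψr : ψ.range = W) (a : MulAut P),
      (∀ x : P, ψ (Subgroup.inclusion hPW x) = ((a x : P) : Ω)) →
      MulAut.congr (homEquiv hθ hθr) (toAut hψ hψr) ∈ stabAut F U Q₃ := by
    intro ψ hψ hψr a ha
    refine ⟨congr_mem_autGroup hθ hθr (toAut_mem hψ hψr), fun y => ?_⟩
    obtain ⟨x, rfl⟩ := (homEquiv hθ hθr).surjective y
    rw [congr_apply, coe_homEquiv, coe_homEquiv]
    have key : ∀ z : W, θ z ∈ Q₃ ↔ (z : Ω) ∈ P := by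
      intro z
      constructor
      · intro hz
        obtain ⟨w, hw, he⟩ := hθP.ge hz
        rwa [← F.injective_of_mem hθ he]
      · exact fun hz => hθP.le ⟨z, hz, rfl⟩
    rw [key, key, coe_toAut]
    constructor
    · intro hx
      rw [show x = Subgroup.inclusion hPW ⟨(x : Ω), hx⟩ from rfl, ha]
      exact Subtype.property _
    · intro hx
      have h1 : ψ x = ψ (Subgroup.inclusion hPW (a⁻¹ ⟨ψ x, hx⟩)) := by
        rw [ha, MulAut.apply_inv_self]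
      rw [F.injective_of_mem hψ h1]
      exact (a⁻¹ ⟨ψ x, hx⟩).2
  have hrs : Function.Surjective rA := by
    rintro ⟨a, ha⟩
    obtain ⟨ψ, hψ, hψe⟩ := hext a ha
    have hψr := ExtW.range_eq h hψ hψe
    exact ⟨⟨_, hstab ψ hψ hψr a hψe⟩, Subtype.ext (hlift ψ hψ hψr a hψe _)⟩
  -- `Aut_S(P)` is Sylow
  obtain ⟨U₃, hU₃⟩ := hSyl
  have himage : ∀ b : stabAut F U Q₃, (b : MulAut U) ∈ autInducedBy S U →
      r b ∈ autInducedBy S P := by
    intro b hb
    obtain ⟨s, hs, hsx⟩ := mem_autInducedBy_iff.1 hb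
    have hsQ : s ∈ normalizerIn S Q₃ := by
      have := finite_of_le (Ω := Ω) (hQ₃U.trans hUr.1)
      refine ⟨hs, mem_normalizer_of_forall fun y hy => ?_⟩
      rw [← hsx ⟨y, hQ₃U hy⟩]
      exact (b.2.2 _).1 hy
    obtain ⟨g, hg⟩ := hΨr.ge hsQ
    refine mem_autInducedBy_iff.2 ⟨g, g.2.1, fun x => ?_⟩
    have h1 : ((e (r b x) : Q₃) : Ω) = s * ((e x : Q₃) : Ω) * s⁻¹ := by
      rw [hr, hsx]
      rfl
    rw [he, he, ← hg] at h1
    have h2 : Ψ (Subgroup.inclusion hWN (Subgroup.inclusion hPW (r b x))) =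
        Ψ (g * Subgroup.inclusion hWN (Subgroup.inclusion hPW x) * g⁻¹) := by
      rw [map_mul, map_mul, map_inv]
      exact h1
    exact congrArg Subtype.val (F.injective_of_mem hΨ h2)
  have hpA : IsPGroup p ((autInducedBy S P).subgroupOf (F.autGroup P)) :=
    (isPGroup_autInducedBy hS P).of_equiv
      (Subgroup.subgroupOfEquivOfLe (autInducedBy_le_autGroup F hPS)).symm
  have haut : F.IsFullyAutomized p P := by
    refine ⟨hPS, U₃.mapSurjective hrs, ?_⟩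
    refine ((U₃.mapSurjective hrs).is_maximal' hpA ?_).symm
    rintro _ ⟨b, hb, rfl⟩
    exact himage b (hU₃ ⟨b, hb, rfl⟩)
  refine ⟨haut, hPS, fun Q φ hφ hφr => ?_⟩
  -- reduction to automorphisms of `P`
  have hQS := dom_le hφ
  obtain ⟨χ, hχ, hχQ⟩ := h.reach Q (isConj_symm ⟨φ, hφ, hφr⟩)
  have hQN : Q ≤ normalizerIn S Q := le_normalizerIn hQS
  obtain ⟨η, hη, hηi, hηP⟩ :=
    exists_inverse_map (restrict_mem hχ hQN) (le_refl Q) (by rw [map_restrict_eq _ le_rfl, hχQ])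
  have hPr : P ≤ (χ.comp (Subgroup.inclusion hQN)).range := fun z hz => by
    obtain ⟨x, hx, hxe⟩ := hχQ.ge hz
    exact ⟨⟨x, hx⟩, hxe⟩
  have hη' := restrict_mem hη hPr
  have hηQ : ∀ y, η (Subgroup.inclusion hPr y) ∈ Q := fun y => hηP.le ⟨_, y.2, rfl⟩
  have hb := F.comp_mem hη' hφ hηQ
  set b := φ.comp ((η.comp (Subgroup.inclusion hPr)).codRestrict Q hηQ) with hbdef
  have hbr : b.range = P := range_eq_of_le hb hPS (fun y => hφr.le ⟨_, rfl⟩) le_rfl
  set α := toAut hb hbr with hαdef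
  have hα : α ∈ F.autGroup P := toAut_mem hb hbr
  have hαv : ∀ (x : Q) (h3 : χ (Subgroup.inclusion hQN x) ∈ P),
      ((α ⟨χ (Subgroup.inclusion hQN x), h3⟩ : P) : Ω) = φ x := by
    intro x h3
    rw [hαdef, coe_toAut]
    exact congrArg φ (Subtype.ext (hηi x))
  set N₁ := extender S P (P.subtype.comp α.toMonoidHom) with hN₁
  have hN₁N : N₁ ≤ N := extender_le S P _
  have hχN₁ : ∀ g : extender S Q φ, χ (Subgroup.inclusion (extender_le S Q φ) g) ∈ N₁ := by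
    intro g
    obtain ⟨hgS, hgN, s, hs, hsx⟩ := mem_extender_iff.1 g.2
    refine mem_extender_iff.2 ⟨apply_mem hχ _,
      (mem_normalizerIn_of_map hχ inf_le_right hχQ _).2, s, hs, fun y hy => ?_⟩
    obtain ⟨⟨x, hxN⟩, hx, hxy⟩ := hχQ.ge y.2
    have hxy' : χ ⟨x, hxN⟩ = (y : Ω) := hxy
    have hxQ : x ∈ Q := hx
    have hgx := (Subgroup.mem_normalizer_iff.1 hgN x).1 hxQ
    have h1 : χ (Subgroup.inclusion hQN ⟨_, hgx⟩) ∈ P := hχQ.le ⟨_, hgx, rfl⟩
    have h2 : χ (Subgroup.inclusion hQN ⟨x, hxQ⟩) ∈ P := hxy'.symm ▸ y.2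
    have e1 : (⟨χ (Subgroup.inclusion (extender_le S Q φ) g) * (y : Ω) *
        (χ (Subgroup.inclusion (extender_le S Q φ) g))⁻¹, hy⟩ : P) = ⟨_, h1⟩ := by
      refine Subtype.ext ?_
      show χ _ * (y : Ω) * (χ _)⁻¹ = χ _
      rw [← hxy', ← map_inv, ← map_mul, ← map_mul]
      rfl
    show ((α _ : P) : Ω) = s * ((α y : P) : Ω) * s⁻¹
    rw [e1, hαv ⟨_, hgx⟩ h1, show y = ⟨_, h2⟩ from Subtype.ext hxy'.symm, hαv ⟨x, hxQ⟩ h2]
    exact hsx ⟨x, hxQ⟩ hgx
  obtain ⟨ψW, hψW, hψWe⟩ := hext α hα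
  have hψWr := ExtW.range_eq h hψW hψWe
  -- twist inside the preimage of `Aut_S(P)`
  set L : Subgroup (MulAut U) := ((autInducedBy S P).comap r).map (stabAut F U Q₃).subtype with hL
  have hLsyl : SylowInside p L (autInducedBy S U) := by
    refine sylowInside_of_le U₃ hU₃ (Subgroup.map_subtype_le _) ?_
    rintro b hb
    exact ⟨b, himage b (hU₃ ⟨b, hb, rfl⟩), rfl⟩
  have hθα := F.comp_mem hψW hθ (fun x => hψWr.le ⟨x, rfl⟩)
  set θα := θ.comp (ψW.codRestrict W fun x => hψWr.le ⟨x, rfl⟩) with hθαdef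
  have hθαr : θα.range = U := by
    rw [← hθr]
    ext z
    constructor
    · rintro ⟨x, rfl⟩
      exact ⟨_, rfl⟩
    · rintro ⟨y, rfl⟩
      obtain ⟨x, hx⟩ := hψWr.ge y.2
      exact ⟨x, congrArg θ (Subtype.ext hx)⟩
  have hθαP : (P.subgroupOf W).map θα = Q₃ := by
    refine map_comp_eq _ ?_ hθP
    ext z
    constructor
    · rintro ⟨y, hy, rfl⟩
      rw [show y = Subgroup.inclusion hPW ⟨(y : Ω), hy⟩ from rfl, hψWe]
      exact Subtype.property _
    · intro hz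
      exact ⟨Subgroup.inclusion hPW (α.symm ⟨z, hz⟩), (α.symm ⟨z, hz⟩).2, by
        rw [hψWe, MulEquiv.apply_symm_apply]⟩
  have hN₁S : N₁ ≤ S := hN₁N.trans (normalizerIn_le S P)
  have hN₁W : N₁ ≤ Subgroup.normalizer (W : Set Ω) := hN₁N.trans hWn
  obtain ⟨k, hk, ψ₂, hψ₂, hψ₂e⟩ := exists_twist_in hS hUr hθα hθαr L
    ((Subgroup.map_subtype_le _).trans (stabAut_le U Q₃)) hLsyl N₁ hN₁S hN₁W fun g hg => by
      obtain ⟨-, hgP, s, hs, hsx⟩ := mem_extender_iff.1 hg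
      refine ⟨⟨_, congr_conjAut_mem_stab hθα hθαr hθαP (hN₁S hg) (hN₁W hg) hgP⟩, ?_, rfl⟩
      show r _ ∈ autInducedBy S P
      refine mem_autInducedBy_iff.2 ⟨s, hs, fun y => ?_⟩
      obtain ⟨x, rfl⟩ := α.surjective y
      have hgx := (Subgroup.mem_normalizer_iff.1 hgP x).1 x.2
      have h4 : ((α ⟨_, hgx⟩ : P) : Ω) = s * ((α x : P) : Ω) * s⁻¹ := hsx x hgx
      rw [← h4]
      refine congrArg Subtype.val (e.injective (Subtype.ext ?_))
      rw [hr, he, show Subgroup.inclusion hQ₃U (e (α x)) =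
        homEquiv hθα hθαr (Subgroup.inclusion hPW x) from
        Subtype.ext ((he _).trans (congrArg θ (Subtype.ext (hψWe x).symm)))]
      show ((MulAut.congr (homEquiv hθα hθαr) (conjAut (hN₁W hg)) _ : U) : Ω) = _
      rw [congr_apply, coe_homEquiv]
      exact congrArg θ (Subtype.ext (hψWe ⟨_, hgx⟩))
  obtain ⟨kb, hkb, rfl⟩ := hk
  obtain ⟨t, ht, htx⟩ := mem_autInducedBy_iff.1 (show r kb ∈ autInducedBy S P from hkb)
  have hψ₂P : (P.subgroupOf (W ⊔ N₁)).map ψ₂ = Q₃ := by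
    ext z
    constructor
    · rintro ⟨y, hy, rfl⟩
      rw [show y = Subgroup.inclusion le_sup_left (⟨y, hPW hy⟩ : W) from rfl, hψ₂e]
      exact (kb.2.2 _).1 (hθαP.le ⟨⟨y, hPW hy⟩, hy, rfl⟩)
    · intro hz
      obtain ⟨x, hx⟩ :=
        ((homEquiv hθα hθαr).trans (kb : MulAut U)).surjective ⟨z, hQ₃U hz⟩
      have hxQ : ((homEquiv hθα hθαr x : U) : Ω) ∈ Q₃ :=
        (kb.2.2 _).2 (by
          rw [show (kb : MulAut U) (homEquiv hθα hθαr x) = ⟨z, hQ₃U hz⟩ from hx]; exact hz)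
      obtain ⟨w, hw, hwe⟩ := hθαP.ge hxQ
      obtain rfl : w = x := F.injective_of_mem hθα hwe
      exact ⟨Subgroup.inclusion le_sup_left w, hw, (hψ₂e w).trans (congrArg Subtype.val hx)⟩
  have hψ₂N : ∀ z, ψ₂ z ∈ normalizerIn S Q₃ :=
    mem_normalizerIn_of_map hψ₂ (sup_le hWP (hN₁N.trans inf_le_right)) hψ₂P
  obtain ⟨Ψi, hΨi, -, hΨii, -⟩ := exists_inverse hΨ hΨr
  have hfin := F.comp_mem (F.comp_mem hψ₂ hΨi hψ₂N)
    (F.conj_mem (P := S) (le_refl S) (S.inv_mem ht)) (fun z => apply_mem hΨi _)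
  have hmem₃ : ∀ g : extender S Q φ,
      χ (Subgroup.inclusion (extender_le S Q φ) g) ∈ W ⊔ N₁ :=
    fun g => Subgroup.mem_sup_right (hχN₁ g)
  refine ⟨_, F.comp_mem (restrict_mem hχ (extender_le S Q φ)) hfin hmem₃, fun x hxQ hxN => ?_⟩
  have h3 : χ (Subgroup.inclusion hQN ⟨x, hxQ⟩) ∈ P := hχQ.le ⟨_, hxQ, rfl⟩
  set y : P := ⟨_, h3⟩ with hy
  rw [← hαv ⟨x, hxQ⟩ h3, ← hy]
  show t⁻¹ * Ψi ⟨ψ₂ ⟨χ _, _⟩, _⟩ * t⁻¹⁻¹ = ((α y : P) : Ω)
  have h5 : ψ₂ ⟨χ (Subgroup.inclusion (extender_le S Q φ) ⟨x, hxN⟩), hmem₃ _⟩ =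
      Ψ (Subgroup.inclusion hWN (Subgroup.inclusion hPW (r kb (α y)))) := by
    rw [show (⟨χ (Subgroup.inclusion (extender_le S Q φ) ⟨x, hxN⟩), hmem₃ _⟩ : ↥(W ⊔ N₁)) =
      Subgroup.inclusion le_sup_left (Subgroup.inclusion hPW y) from rfl, hψ₂e]
    rw [show Ψ (Subgroup.inclusion hWN (Subgroup.inclusion hPW (r kb (α y)))) =
      ((e (r kb (α y)) : Q₃) : Ω) from (he _).symm, hr]
    refine congrArg (fun u : U => (((kb : MulAut U) u : U) : Ω)) (Subtype.ext ?_)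
    rw [coe_homEquiv]
    exact (congrArg θ (Subtype.ext (hψWe y))).trans (he _).symm
  have h6 : Ψi ⟨ψ₂ ⟨χ (Subgroup.inclusion (extender_le S Q φ) ⟨x, hxN⟩), hmem₃ _⟩, hψ₂N _⟩ =
      ((r kb (α y) : P) : Ω) :=
    (congrArg Ψi (Subtype.ext h5)).trans
      (hΨii (Subgroup.inclusion hWN (Subgroup.inclusion hPW (r kb (α y)))) (hΨN _))
  rw [show Ψi _ = _ from h6, htx]
  group

set_option maxHeartbeats 1000000 in
/-- The criterion. -/
theorem isSaturated [Finite S] [Fact p.Prime] (hS : IsPGroup p S) (ℋ : Set (Subgroup Ω))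
    (hℋconj : ∀ P ∈ ℋ, ∀ Q, F.IsConj P Q → Q ∈ ℋ) (hsat : ∀ P ∈ ℋ, Good F p P)
    (hgen : ∀ E : FusionSystem S, (∀ P ∈ ℋ, F.Hom P ⊆ E.Hom P) → F ≤ E)
    (hstar : ∀ P : Subgroup Ω, F.IsCentric P → P ∉ ℋ → ∃ Q, F.IsConj P Q ∧
      ¬ (autInducedBy S Q ⊓ (pCore p ↥(F.autGroup Q)).map (F.autGroup Q).subtype ≤ Inn Q)) :
    F.IsSaturated p := by
  suffices H : ∀ n : ℕ, ∀ P ≤ S, Nat.card S ≤ Nat.card P + n → Good F p P from
    fun P hP => H (Nat.card S) P hP (by omega)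
  intro n
  induction n with
  | zero =>
    intro P hP hn
    obtain rfl : P = S := eq_of_le_of_card_le le_rfl hP (by omega)
    by_contra hgood
    obtain ⟨Q, hQ, hne⟩ := hstar P (isCentric_self F) fun hm => hgood (hsat P hm)
    obtain rfl := eq_of_isConj_self hQ
    exact hne (inf_le_left.trans (autInducedBy_self _).le)
  | succ n ih =>
    intro P₀ hP₀ hn
    by_cases hlast : Nat.card S ≤ Nat.card P₀ + n
    · exact ih P₀ hP₀ hlast
    by_cases hm : P₀ ∈ ℋ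
    · exact hsat P₀ hm
    obtain ⟨P, hPc, hPn⟩ := exists_fullyNormalized F hP₀
    have hcard : Nat.card P = Nat.card P₀ := isConj_card hPc
    have hnot : ∀ Q, F.IsConj P Q → Q ∉ ℋ := fun Q hQ hmem =>
      hm (hℋconj Q hmem P₀ (isConj_symm (isConj_trans hPc hQ)))
    have hbig : ∀ T ≤ S, Nat.card P < Nat.card T → Good F p T :=
      fun T hT hlt => ih T hT (by omega)
    have hPS : Nat.card P < Nat.card S := by omega
    have hreach : ∀ Q, F.IsConj P Q → Reaches F P Q :=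
      fun Q hQ => reaches_of_isConj hS hPn hbig hPS hgen hnot hQ
    suffices hgoal : F.IsFullyAutomized p P ∧ F.IsReceptive P from ⟨P, hPc, hgoal⟩
    by_cases hcen : centralizerIn S P ≤ P
    · have hPcen : ∀ Q, F.IsConj P Q → centralizerIn S Q ≤ Q := by
        intro Q hQ c hc
        obtain ⟨χ, hχ, hχQ⟩ := hreach Q hQ
        have h1 := hcen (apply_mem_centralizerIn hχ hχQ
          (g := ⟨c, centralizerIn_le_normalizerIn S Q hc⟩) hc)
        obtain ⟨x, hx, hxe⟩ := hχQ.ge h1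
        have h2 := F.injective_of_mem hχ hxe
        rw [h2] at hx
        exact hx
      obtain ⟨Q, hQ, hne⟩ := hstar P ⟨hPn.1, hPcen⟩ (hnot P (isConj_refl F hPn.1))
      obtain ⟨χ, hχ, hχQ⟩ := hreach Q hQ
      have hQS := (isConj_le hQ).2
      have hQN : Q ≤ normalizerIn S Q := le_normalizerIn hQS
      have hχ' := restrict_mem hχ hQN
      have hχr : (χ.comp (Subgroup.inclusion hQN)).range = P := by
        rw [← hχQ]
        ext z
        exact ⟨fun ⟨x, hx⟩ => ⟨Subgroup.inclusion hQN x, x.2, hx⟩,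
          fun ⟨x, hx, he⟩ => ⟨⟨x, hx⟩, he⟩⟩
      set e := homEquiv hχ' hχr with hedef
      set O := (pCore p ↥(F.autGroup Q)).map (F.autGroup Q).subtype with hO
      have hOle : O ≤ F.autGroup Q := Subgroup.map_subtype_le _
      have := finite_autGroup (F := F) hQS
      set K := O.map (MulAut.congr e).toMonoidHom with hK
      have hset : Setup F p P K := by
        refine ⟨hPn, hbig, hPS, hreach, ?_, ?_, Or.inr ⟨?_, hPcen⟩⟩
        · exact (Subgroup.map_mono hOle).trans_eq (map_autGroup hχ' hχr)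
        · rintro a ha _ ⟨o, ho, rfl⟩
          obtain ⟨a', ha', rfl⟩ := (map_autGroup hχ' hχr).ge ha
          obtain ⟨o', ho', rfl⟩ := ho
          have hn : (pCore p ↥(F.autGroup Q)).Normal := PCore.pCore_normal
          have h1 := hn.conj_mem o' ho' ⟨a', ha'⟩
          refine ⟨a' * (o' : MulAut Q) * a'⁻¹, ⟨_, h1, rfl⟩, ?_⟩
          rw [map_mul, map_mul, map_inv]
          rfl
        · have h1 : IsPGroup p (pCore p ↥(F.autGroup Q)) := PCore.isPGroup_pCore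
          exact (h1.map _).map _
      refine hset.automized_receptive hS (fun α hα => hset.extW_of_mem hS hgen hnot hα) fun hle => ?_
      refine hne fun β hβ => ?_
      obtain ⟨g, hgS, hgx⟩ := mem_autInducedBy_iff.1 hβ.1
      have hgN : g ∈ normalizerIn S Q := ⟨hgS, mem_normalizer_of_aut hgx⟩
      have hm := mem_normalizerIn_of_map hχ inf_le_right hχQ ⟨g, hgN⟩
      have hmem : χ ⟨g, hgN⟩ ∈ inducing S P K := by
        refine mem_inducing.2 ⟨hm.1, hm.2, β, hβ.2, ?_⟩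
        refine MulEquiv.ext fun y => Subtype.ext ?_
        obtain ⟨x, rfl⟩ := e.surjective y
        show ((MulAut.congr e β (e x) : P) : Ω) = χ ⟨g, hgN⟩ * ((e x : P) : Ω) * (χ ⟨g, hgN⟩)⁻¹
        rw [congr_apply, hedef, coe_homEquiv, coe_homEquiv]
        show χ _ = χ ⟨g, hgN⟩ * χ _ * (χ ⟨g, hgN⟩)⁻¹
        rw [← map_inv, ← map_mul, ← map_mul]
        exact congrArg χ (Subtype.ext (hgx x))
      obtain ⟨x, hx, hxe⟩ := hχQ.ge (hle hmem)
      have hgQ : g ∈ Q := by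
        have h2 := F.injective_of_mem hχ hxe
        rw [h2] at hx
        exact hx
      exact ⟨⟨g, hgQ⟩, MulEquiv.ext fun z => Subtype.ext (hgx z).symm⟩
    · have hset : Setup F p P ⊥ :=
        ⟨hPn, hbig, hPS, hreach, bot_le, fun a _ k hk => by
          rw [Subgroup.mem_bot] at hk ⊢
          rw [hk, mul_one, mul_inv_cancel], Or.inl rfl⟩
      refine hset.automized_receptive hS (fun α hα => hset.extW_of_mem hS hgen hnot hα) fun hle => ?_
      refine hcen fun c hc => hle (mem_inducing.2 ⟨hc.1,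
        Subgroup.centralizer_le_normalizer _ hc.2, ?_⟩)
      refine Subgroup.mem_bot.2 (MulEquiv.ext fun x => Subtype.ext ?_)
      show c * (x : Ω) * c⁻¹ = x
      rw [← Subgroup.mem_centralizer_iff.1 hc.2 x x.2, mul_inv_cancel_right]

end Cfsg.Agent.Fusion.Criterion
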