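import Cfsg.Agent.Lib.Fusion.Basic
import Cfsg.Agent.Lib.SylowCount.Basic

/-!
The fusion system of a finite group on a Sylow subgroup: fully normalized / centralized subgroups
are those with Sylow normalizer / centralizer in `S`, and the system is saturated.
-/

set_option autoImplicit false
set_option linter.unusedSectionVars false

namespace Cfsg.Agent.Fusion

open Cfsg Cfsg.FusionSystem
open scoped Pointwise

variable {G : Type*} [Group G] {p : ℕ}

/-- `K` is (the trace of) a Sylow `p`-subgroup of `H`. -/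
def IsSylowIn (p : ℕ) (K H : Subgroup G) : Prop :=
  ∃ R : Sylow p H, (R : Subgroup H) = K.subgroupOf H

theorem card_le_of_isPGroup [Finite G] [Fact p.Prime] {K H : Subgroup G} (hK : IsPGroup p K)
    (hKH : K ≤ H) : Nat.card K ≤ p ^ (Nat.card H).factorization p := by
  obtain ⟨R, hR⟩ := (hK.comap_subtype (K := H)).exists_le_sylow
  rw [← R.card_eq_multiplicity, ← Nat.card_congr (Subgroup.subgroupOfEquivOfLe hKH).toEquiv]
  exact Nat.le_of_dvd Nat.card_pos (Subgroup.card_dvd_of_le hR)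

theorem isSylowIn_iff_card [Finite G] [Fact p.Prime] {K H : Subgroup G} (hKH : K ≤ H) :
    IsSylowIn p K H ↔ Nat.card K = p ^ (Nat.card H).factorization p := by
  constructor
  · rintro ⟨R, hR⟩
    rw [← R.card_eq_multiplicity, hR, Nat.card_congr (Subgroup.subgroupOfEquivOfLe hKH).toEquiv]
  · intro h
    rw [← Nat.card_congr (Subgroup.subgroupOfEquivOfLe hKH).toEquiv] at h
    exact ⟨Sylow.ofCard _ h, Sylow.coe_ofCard _ h⟩

theorem IsSylowIn.eq_of_le [Finite G] [Fact p.Prime] {K H L : Subgroup G}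
    (h : IsSylowIn p K H) (hKH : K ≤ H) (hKL : K ≤ L) (hL : IsPGroup p L) (hLH : L ≤ H) :
    K = L :=
  Subgroup.eq_of_le_of_card_ge hKL (by
    rw [(isSylowIn_iff_card hKH).1 h]; exact card_le_of_isPGroup hL hLH)

theorem exists_isSylowIn [Fact p.Prime] (H : Subgroup G) :
    ∃ K : Subgroup G, K ≤ H ∧ IsPGroup p K ∧ IsSylowIn p K H := by
  obtain ⟨R⟩ : Nonempty (Sylow p H) := Sylow.nonempty
  refine ⟨(R : Subgroup H).map H.subtype, Subgroup.map_subtype_le _, R.2.map _, R, ?_⟩
  rw [Subgroup.subgroupOf, Subgroup.comap_map_eq_self_of_injective H.subtype_injective]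

@[simp] theorem conj_apply' (g x : G) : (MulAut.conj g).toMonoidHom x = g * x * g⁻¹ := rfl

theorem mem_map_conj {H : Subgroup G} {g x : G} :
    x ∈ H.map (MulAut.conj g).toMonoidHom ↔ g⁻¹ * x * g ∈ H := by
  constructor
  · rintro ⟨y, hy, rfl⟩
    simpa [mul_assoc] using hy
  · intro h
    exact ⟨_, h, by simp [mul_assoc]⟩

theorem card_map_conj (H : Subgroup G) (g : G) :
    Nat.card (H.map (MulAut.conj g).toMonoidHom) = Nat.card H :=
  Subgroup.card_map_of_injective (MulAut.conj g).injective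

theorem map_conj_map_conj (H : Subgroup G) (g h : G) :
    (H.map (MulAut.conj g).toMonoidHom).map (MulAut.conj h).toMonoidHom =
      H.map (MulAut.conj (h * g)).toMonoidHom := by
  ext x
  simp only [mem_map_conj, mul_inv_rev]
  simp [mul_assoc]

theorem map_conj_centralizer (H : Subgroup G) (g : G) :
    (Subgroup.centralizer (H : Set G)).map (MulAut.conj g).toMonoidHom =
      Subgroup.centralizer ((H.map (MulAut.conj g).toMonoidHom : Subgroup G) : Set G) := by
  ext x
  rw [mem_map_conj, Subgroup.mem_centralizer_iff, Subgroup.mem_centralizer_iff]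
  constructor
  · intro h y hy
    have h1 := h _ (mem_map_conj.1 hy)
    have h2 : g * (g⁻¹ * y * g * (g⁻¹ * x * g)) * g⁻¹ = g * (g⁻¹ * x * g * (g⁻¹ * y * g)) * g⁻¹ :=
      by rw [h1]
    simpa [mul_assoc] using h2
  · intro h y hy
    have h1 := h (g * y * g⁻¹) ⟨y, hy, rfl⟩
    have h2 : g⁻¹ * (g * y * g⁻¹ * x) * g = g⁻¹ * (x * (g * y * g⁻¹)) * g := by rw [h1]
    simpa [mul_assoc] using h2

theorem map_conj_normalizer (H : Subgroup G) (g : G) :
    (Subgroup.normalizer (H : Set G)).map (MulAut.conj g).toMonoidHom =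
      Subgroup.normalizer ((H.map (MulAut.conj g).toMonoidHom : Subgroup G) : Set G) :=
  Subgroup.map_normalizer_eq_of_bijective H (f := (MulAut.conj g).toMonoidHom) (MulAut.conj g).bijective

/-- Every `p`-subgroup is conjugate into a given Sylow subgroup. -/
theorem exists_conj_le [Finite G] [Fact p.Prime] (S : Sylow p G) {K : Subgroup G}
    (hK : IsPGroup p K) :
    ∃ g : G, K.map (MulAut.conj g).toMonoidHom ≤ (S : Subgroup G) := by
  obtain ⟨T, hT⟩ := hK.exists_le_sylow
  obtain ⟨g, rfl⟩ := MulAction.exists_smul_eq G T S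
  refine ⟨g, ?_⟩
  rw [Sylow.coe_subgroup_smul]
  exact Subgroup.map_mono hT

theorem isPGroup_of_le_sylow (S : Sylow p G) {K : Subgroup G} (h : K ≤ (S : Subgroup G)) :
    IsPGroup p K :=
  S.2.to_le h

/-! ### The system of a group -/

variable {S₀ : Subgroup G}

theorem mem_groupHom {P : Subgroup G} {φ : P →* G} :
    φ ∈ (groupFusionSystem S₀).Hom P ↔
      P ≤ S₀ ∧ (∀ x : P, φ x ∈ S₀) ∧ ∃ g : G, ∀ x : P, φ x = g * (x : G) * g⁻¹ := Iff.rfl

theorem conjHom_mem_groupHom {P : Subgroup G} {g : G} (hP : P ≤ S₀)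
    (hg : P.map (MulAut.conj g).toMonoidHom ≤ S₀) :
    conjHom P g ∈ (groupFusionSystem S₀).Hom P :=
  ⟨hP, fun x => hg ⟨x, x.2, rfl⟩, g, fun _ => rfl⟩

theorem normalizerIn_le_normalizer (S P : Subgroup G) :
    normalizerIn S P ≤ Subgroup.normalizer (P : Set G) := inf_le_right

theorem centralizerIn_le_centralizer (S P : Subgroup G) :
    centralizerIn S P ≤ Subgroup.centralizer (P : Set G) := inf_le_right

theorem range_conjHom (P : Subgroup G) (g : G) :
    (conjHom P g).range = P.map (MulAut.conj g).toMonoidHom := by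
  rw [conjHom, MonoidHom.range_comp, Subgroup.range_subtype]

theorem group_isConj_iff {P Q : Subgroup G} :
    (groupFusionSystem S₀).IsConj P Q ↔
      P ≤ S₀ ∧ Q ≤ S₀ ∧ ∃ g : G, P.map (MulAut.conj g).toMonoidHom = Q := by
  constructor
  · rintro ⟨φ, hφ, rfl⟩
    obtain ⟨hP, -, g, hg⟩ := mem_groupHom.1 hφ
    refine ⟨hP, range_le hφ, g, ?_⟩
    rw [← range_conjHom, show φ = conjHom P g from MonoidHom.ext hg]
  · rintro ⟨hP, hQ, g, rfl⟩
    exact ⟨conjHom P g, conjHom_mem_groupHom hP hQ, range_conjHom P g⟩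

theorem group_autGroup {P : Subgroup G} (hP : P ≤ S₀) :
    (groupFusionSystem S₀).autGroup P = autInducedBy ⊤ P := by
  ext α
  rw [mem_autGroup_iff hP, mem_autInducedBy_iff, mem_groupHom]
  exact ⟨fun ⟨_, _, g, hg⟩ => ⟨g, trivial, hg⟩,
    fun ⟨g, _, hg⟩ => ⟨hP, fun x => hP (α x).2, g, hg⟩⟩

theorem autInducedBy_eq_map (K P : Subgroup G) :
    autInducedBy K P =
      (K.subgroupOf (Subgroup.normalizer (P : Set G))).map P.normalizerMonoidHom := by
  ext α
  rw [mem_autInducedBy_iff]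
  constructor
  · rintro ⟨g, hg, h⟩
    exact ⟨⟨g, mem_normalizer_of_aut h⟩, hg, MulEquiv.ext fun x => Subtype.ext (h x).symm⟩
  · rintro ⟨⟨g, hgN⟩, hg, rfl⟩
    exact ⟨g, hg, fun x => rfl⟩

variable [Finite G] [Fact p.Prime] (S : Sylow p G)

theorem normalizerIn_isPGroup (P : Subgroup G) : IsPGroup p (normalizerIn (S : Subgroup G) P) :=
  isPGroup_of_le_sylow S inf_le_left

theorem centralizerIn_isPGroup (P : Subgroup G) :
    IsPGroup p (centralizerIn (S : Subgroup G) P) :=
  isPGroup_of_le_sylow S inf_le_left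

/-- Every subgroup of `S` has a conjugate in `S` whose normalizer in `S` is a Sylow subgroup of its
normalizer. -/
theorem exists_conj_normalizer_sylow {P : Subgroup G} (hP : P ≤ (S : Subgroup G)) :
    ∃ g : G, P.map (MulAut.conj g).toMonoidHom ≤ (S : Subgroup G) ∧
      IsSylowIn p (normalizerIn (S : Subgroup G) (P.map (MulAut.conj g).toMonoidHom))
        (Subgroup.normalizer ((P.map (MulAut.conj g).toMonoidHom : Subgroup G) : Set G)) := by
  obtain ⟨R, hRN, hRp, hR⟩ := exists_isSylowIn (p := p) (Subgroup.normalizer (P : Set G))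
  have hPR : P ≤ R := by
    have hsup : IsPGroup p ↥(R ⊔ P) :=
      hRp.to_sup_of_normal_right' (isPGroup_of_le_sylow S hP) hRN
    rw [hR.eq_of_le hRN le_sup_left hsup (sup_le hRN Subgroup.le_normalizer)]
    exact le_sup_right
  obtain ⟨g, hg⟩ := exists_conj_le S hRp
  refine ⟨g, (Subgroup.map_mono hPR).trans hg, (isSylowIn_iff_card (normalizerIn_le_normalizer _ _)).2 ?_⟩
  refine le_antisymm (card_le_of_isPGroup (normalizerIn_isPGroup S _) (normalizerIn_le_normalizer _ _)) ?_
  rw [← map_conj_normalizer, card_map_conj, ← (isSylowIn_iff_card hRN).1 hR, ← card_map_conj R g]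
  refine Subgroup.card_le_of_le ?_
  exact le_inf hg ((Subgroup.map_mono hRN).trans (map_conj_normalizer P g).le)

/-- Every subgroup of `S` has a conjugate in `S` whose centralizer in `S` is a Sylow subgroup of its
centralizer. -/
theorem exists_conj_centralizer_sylow {P : Subgroup G} (hP : P ≤ (S : Subgroup G)) :
    ∃ g : G, P.map (MulAut.conj g).toMonoidHom ≤ (S : Subgroup G) ∧
      IsSylowIn p (centralizerIn (S : Subgroup G) (P.map (MulAut.conj g).toMonoidHom))
        (Subgroup.centralizer ((P.map (MulAut.conj g).toMonoidHom : Subgroup G) : Set G)) := by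
  obtain ⟨R, hRC, hRp, hR⟩ := exists_isSylowIn (p := p) (Subgroup.centralizer (P : Set G))
  have hsup : IsPGroup p ↥(R ⊔ P) :=
    hRp.to_sup_of_normal_right' (isPGroup_of_le_sylow S hP)
      (hRC.trans (Subgroup.centralizer_le_normalizer _))
  obtain ⟨g, hg⟩ := exists_conj_le S hsup
  refine ⟨g, (Subgroup.map_mono le_sup_right).trans hg, (isSylowIn_iff_card (centralizerIn_le_centralizer _ _)).2 ?_⟩
  refine le_antisymm (card_le_of_isPGroup (centralizerIn_isPGroup S _) (centralizerIn_le_centralizer _ _)) ?_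
  rw [← map_conj_centralizer, card_map_conj, ← (isSylowIn_iff_card hRC).1 hR, ← card_map_conj R g]
  refine Subgroup.card_le_of_le ?_
  exact le_inf ((Subgroup.map_mono le_sup_left).trans hg)
    ((Subgroup.map_mono hRC).trans (map_conj_centralizer P g).le)

theorem group_isFullyNormalized_iff {P : Subgroup G} (hP : P ≤ (S : Subgroup G)) :
    (groupFusionSystem (S : Subgroup G)).IsFullyNormalized P ↔
      IsSylowIn p (normalizerIn (S : Subgroup G) P) (Subgroup.normalizer (P : Set G)) := by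
  constructor
  · intro h
    obtain ⟨g, hgS, hg⟩ := exists_conj_normalizer_sylow S hP
    have hle := h.2 _ (group_isConj_iff.2 ⟨hP, hgS, g, rfl⟩)
    rw [(isSylowIn_iff_card (normalizerIn_le_normalizer _ _)).1 hg, ← map_conj_normalizer, card_map_conj] at hle
    exact (isSylowIn_iff_card (normalizerIn_le_normalizer _ _)).2
      (le_antisymm (card_le_of_isPGroup (normalizerIn_isPGroup S _) (normalizerIn_le_normalizer _ _)) hle)
  · intro h
    refine ⟨hP, fun Q hQ => ?_⟩
    obtain ⟨-, -, g, rfl⟩ := group_isConj_iff.1 hQ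
    refine (card_le_of_isPGroup (normalizerIn_isPGroup S _) (normalizerIn_le_normalizer _ _)).trans_eq ?_
    rw [(isSylowIn_iff_card (normalizerIn_le_normalizer _ _)).1 h, ← map_conj_normalizer, card_map_conj]

theorem group_isFullyCentralized_iff {P : Subgroup G} (hP : P ≤ (S : Subgroup G)) :
    (groupFusionSystem (S : Subgroup G)).IsFullyCentralized P ↔
      IsSylowIn p (centralizerIn (S : Subgroup G) P) (Subgroup.centralizer (P : Set G)) := by
  constructor
  · intro h
    obtain ⟨g, hgS, hg⟩ := exists_conj_centralizer_sylow S hP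
    have hle := h.2 _ (group_isConj_iff.2 ⟨hP, hgS, g, rfl⟩)
    rw [(isSylowIn_iff_card (centralizerIn_le_centralizer _ _)).1 hg, ← map_conj_centralizer, card_map_conj] at hle
    exact (isSylowIn_iff_card (centralizerIn_le_centralizer _ _)).2
      (le_antisymm (card_le_of_isPGroup (centralizerIn_isPGroup S _) (centralizerIn_le_centralizer _ _)) hle)
  · intro h
    refine ⟨hP, fun Q hQ => ?_⟩
    obtain ⟨-, -, g, rfl⟩ := group_isConj_iff.1 hQ
    refine (card_le_of_isPGroup (centralizerIn_isPGroup S _) (centralizerIn_le_centralizer _ _)).trans_eq ?_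
    rw [(isSylowIn_iff_card (centralizerIn_le_centralizer _ _)).1 h, ← map_conj_centralizer, card_map_conj]

/-- If `N_S(Q)` is Sylow in `N_G(Q)` then `C_S(Q)` is Sylow in `C_G(Q)`. -/
theorem centralizer_sylow_of_normalizer_sylow {Q : Subgroup G}
    (h : IsSylowIn p (normalizerIn (S : Subgroup G) Q) (Subgroup.normalizer (Q : Set G))) :
    IsSylowIn p (centralizerIn (S : Subgroup G) Q) (Subgroup.centralizer (Q : Set G)) := by
  set N := Subgroup.normalizer (Q : Set G)
  set C := Subgroup.centralizer (Q : Set G)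
  obtain ⟨R, hR⟩ := h
  have : (C.subgroupOf N).Normal := by
    rw [← Subgroup.normalizerMonoidHom_ker]
    infer_instance
  obtain ⟨T, hT⟩ := Cfsg.Agent.SylowCount.exists_sylow_inf R (C.subgroupOf N)
  have hCN : C ≤ N := Subgroup.centralizer_le_normalizer _
  refine (isSylowIn_iff_card (centralizerIn_le_centralizer _ _)).2 ?_
  have h1 := T.card_eq_multiplicity
  rw [hT, hR] at h1
  rw [Nat.card_congr (Subgroup.subgroupOfEquivOfLe hCN).toEquiv] at h1
  rw [← h1]
  have e : (centralizerIn (S : Subgroup G) Q).subgroupOf C =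
      (((normalizerIn (S : Subgroup G) Q).subgroupOf N).subgroupOf (C.subgroupOf N)).map
        (Subgroup.subgroupOfEquivOfLe hCN).toMonoidHom := by
    ext x
    constructor
    · intro hx
      exact ⟨⟨⟨x, hCN x.2⟩, x.2⟩, ⟨hx.1, hCN x.2⟩, rfl⟩
    · rintro ⟨y, hy, rfl⟩
      exact ⟨hy.1, y.2⟩
  rw [← Nat.card_congr (Subgroup.subgroupOfEquivOfLe (centralizerIn_le_centralizer (S : Subgroup G) Q :
    centralizerIn (S : Subgroup G) Q ≤ C)).toEquiv, e,
    Subgroup.card_map_of_injective (Subgroup.subgroupOfEquivOfLe hCN).injective]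

/-- If `N_S(Q)` is Sylow in `N_G(Q)` then `Aut_S(Q)` is Sylow in `Aut_G(Q)`. -/
theorem aut_sylow_of_normalizer_sylow {Q : Subgroup G}
    (h : IsSylowIn p (normalizerIn (S : Subgroup G) Q) (Subgroup.normalizer (Q : Set G))) :
    ∃ R : Sylow p ↥(autInducedBy ⊤ Q), (R : Subgroup ↥(autInducedBy ⊤ Q)) =
      (autInducedBy (S : Subgroup G) Q).subgroupOf (autInducedBy ⊤ Q) := by
  obtain ⟨R, hR⟩ := h
  let f : ↥(Subgroup.normalizer (Q : Set G)) →* ↥(autInducedBy ⊤ Q) :=
    Q.normalizerMonoidHom.codRestrict _ fun n =>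
      mem_autInducedBy_iff.2 ⟨n, trivial, fun x => rfl⟩
  have hf : Function.Surjective f := by
    rintro ⟨α, hα⟩
    rw [autInducedBy_eq_map] at hα
    obtain ⟨n, -, rfl⟩ := hα
    exact ⟨n, rfl⟩
  refine ⟨R.mapSurjective hf, ?_⟩
  rw [Sylow.coe_mapSurjective, hR]
  ext ⟨α, hα⟩
  rw [Subgroup.mem_subgroupOf, autInducedBy_eq_map (S : Subgroup G)]
  constructor
  · rintro ⟨n, hn, he⟩
    exact ⟨n, hn.1, congrArg Subtype.val he⟩
  · rintro ⟨n, hn, he⟩
    exact ⟨n, ⟨hn, n.2⟩, Subtype.ext he⟩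

/-- The extension lemma for Sylow normalizers. -/
theorem exists_centralizing_conj {P Q : Subgroup G} {g : G}
    (hg : P.map (MulAut.conj g).toMonoidHom = Q)
    (hN : IsSylowIn p (normalizerIn (S : Subgroup G) Q) (Subgroup.normalizer (Q : Set G))) :
    ∃ h ∈ Subgroup.centralizer (Q : Set G), ∀ x ∈ normalizerIn (S : Subgroup G) P,
      g * x * g⁻¹ ∈ normalizerIn (S : Subgroup G) Q ⊔ Subgroup.centralizer (Q : Set G) →
      (h * g) * x * (h * g)⁻¹ ∈ normalizerIn (S : Subgroup G) Q := by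
  set N := normalizerIn (S : Subgroup G) Q
  set C := Subgroup.centralizer (Q : Set G)
  set K := N ⊔ C
  set L := (normalizerIn (S : Subgroup G) P).map (MulAut.conj g).toMonoidHom ⊓ K
  have hKN : K ≤ Subgroup.normalizer (Q : Set G) :=
    sup_le inf_le_right (Subgroup.centralizer_le_normalizer _)
  have hNC : N ≤ Subgroup.normalizer (C : Set G) :=
    inf_le_right.trans (fun n hn => by
      rw [Subgroup.mem_normalizer_iff_map_conj_eq]
      have h1 := map_conj_centralizer Q n
      have h0 : Q.map (MulAut.conj n).toMonoidHom = Q := Subgroup.mem_normalizer_iff_map_conj_eq.1 hn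
      rw [h0] at h1
      exact h1)
  have hLp : IsPGroup p L := ((normalizerIn_isPGroup S P).map _).to_le inf_le_left
  have hNp : IsPGroup p N := normalizerIn_isPGroup S Q
  -- `N` is a Sylow subgroup of `K`
  obtain ⟨T, hT⟩ := (hNp.comap_subtype (K := K)).exists_le_sylow
  have hTN : (T : Subgroup K) = N.subgroupOf K := by
    refine le_antisymm ?_ hT
    intro x hx
    have hle : N ≤ (T : Subgroup K).map K.subtype := fun y hy =>
      ⟨⟨y, (le_sup_left : N ≤ K) hy⟩, hT hy, rfl⟩
    rw [Subgroup.mem_subgroupOf]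
    rw [hN.eq_of_le (normalizerIn_le_normalizer _ _) hle (T.2.map _) ((Subgroup.map_subtype_le _).trans hKN)]
    exact ⟨x, hx, rfl⟩
  obtain ⟨T', hT'⟩ := (hLp.comap_subtype (K := K)).exists_le_sylow
  obtain ⟨⟨k, hk⟩, hkT⟩ := MulAction.exists_smul_eq K T' T
  obtain ⟨s, hs, c, hc, rfl⟩ : ∃ s ∈ N, ∃ c ∈ C, s * c = k := by
    have hk' : k ∈ ((N : Set G) * (C : Set G)) := by
      rw [← Subgroup.coe_mul_of_left_le_normalizer_right N C hNC]
      exact hk
    obtain ⟨s, hs, c, hc, rfl⟩ := hk'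
    exact ⟨s, hs, c, hc, rfl⟩
  refine ⟨c, hc, fun x hx hxK => ?_⟩
  have hxL : g * x * g⁻¹ ∈ L := ⟨⟨x, hx, rfl⟩, hxK⟩
  have h1 : (⟨s * c, hk⟩ : K) * ⟨g * x * g⁻¹, hxK⟩ * (⟨s * c, hk⟩ : K)⁻¹ ∈ (T : Subgroup K) := by
    rw [← hkT, Sylow.coe_subgroup_smul]
    exact ⟨⟨g * x * g⁻¹, hxK⟩, hT' hxL, rfl⟩
  rw [hTN, Subgroup.mem_subgroupOf] at h1
  have h2 := N.mul_mem (N.mul_mem (N.inv_mem hs) h1) hs
  simpa [mul_assoc] using h2

/-- If `N_S(Q)` is Sylow in `N_G(Q)` then `Q` is receptive in `F_S(G)`. -/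
theorem group_isReceptive {Q : Subgroup G} (hQ : Q ≤ (S : Subgroup G))
    (hN : IsSylowIn p (normalizerIn (S : Subgroup G) Q) (Subgroup.normalizer (Q : Set G))) :
    (groupFusionSystem (S : Subgroup G)).IsReceptive Q := by
  refine ⟨hQ, fun P φ hφ hr => ?_⟩
  obtain ⟨hP, -, g, hg⟩ := mem_groupHom.1 hφ
  have hgPQ : P.map (MulAut.conj g).toMonoidHom = Q := by
    rw [← hr, ← range_conjHom, show φ = conjHom P g from MonoidHom.ext hg]
  obtain ⟨h, hh, hext⟩ := exists_centralizing_conj S hgPQ hN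
  have hmem : ∀ x ∈ extender (S : Subgroup G) P φ,
      (h * g) * x * (h * g)⁻¹ ∈ (S : Subgroup G) := by
    intro x hx
    obtain ⟨hxS, hxN, s, hsS, hs⟩ := mem_extender_iff.1 hx
    refine (hext x ⟨hxS, hxN⟩ ?_).1
    -- `g x g⁻¹` agrees with `s` on `Q`
    have hsc : s⁻¹ * (g * x * g⁻¹) ∈ Subgroup.centralizer (Q : Set G) := by
      rw [Subgroup.mem_centralizer_iff]
      intro y hy
      rw [← hgPQ] at hy
      obtain ⟨z, hz, rfl⟩ := hy
      have hxz : x * z * x⁻¹ ∈ P := (Subgroup.mem_normalizer_iff.1 hxN z).1 hz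
      have h1 := hs ⟨z, hz⟩ hxz
      rw [hg, hg] at h1
      change g * (x * z * x⁻¹) * g⁻¹ = s * (g * z * g⁻¹) * s⁻¹ at h1
      show g * z * g⁻¹ * (s⁻¹ * (g * x * g⁻¹)) = s⁻¹ * (g * x * g⁻¹) * (g * z * g⁻¹)
      calc g * z * g⁻¹ * (s⁻¹ * (g * x * g⁻¹))
          = s⁻¹ * (s * (g * z * g⁻¹) * s⁻¹) * (g * x * g⁻¹) := by group
        _ = s⁻¹ * (g * (x * z * x⁻¹) * g⁻¹) * (g * x * g⁻¹) := by rw [h1]
        _ = _ := by group
    have hxNQ : g * x * g⁻¹ ∈ Subgroup.normalizer (Q : Set G) := by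
      rw [← hgPQ, ← map_conj_normalizer]
      exact ⟨x, hxN, rfl⟩
    have hsN : s ∈ Subgroup.normalizer (Q : Set G) := by
      have h2 := mul_mem hxNQ (inv_mem (Subgroup.centralizer_le_normalizer _ hsc))
      simpa [mul_assoc] using h2
    have h3 := Subgroup.mul_mem_sup (show s ∈ normalizerIn (S : Subgroup G) Q from ⟨hsS, hsN⟩) hsc
    simpa using h3
  refine ⟨conjHom _ (h * g), ⟨fun x hx => (mem_extender_iff.1 hx).1, fun x => hmem x x.2,
    h * g, fun _ => rfl⟩, fun x hxP hxN => ?_⟩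
  show h * g * x * (h * g)⁻¹ = φ ⟨x, hxP⟩
  rw [hg]
  have hcomm : g * x * g⁻¹ * h = h * (g * x * g⁻¹) :=
    Subgroup.mem_centralizer_iff.1 hh _ (hgPQ ▸ ⟨x, hxP, rfl⟩)
  calc h * g * x * (h * g)⁻¹ = h * (g * x * g⁻¹) * h⁻¹ := by group
    _ = g * x * g⁻¹ := by rw [← hcomm]; group

theorem group_isFullyAutomized {Q : Subgroup G} (hQ : Q ≤ (S : Subgroup G))
    (hN : IsSylowIn p (normalizerIn (S : Subgroup G) Q) (Subgroup.normalizer (Q : Set G))) :
    (groupFusionSystem (S : Subgroup G)).IsFullyAutomized p Q := by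
  refine ⟨hQ, ?_⟩
  rw [group_autGroup hQ]
  exact aut_sylow_of_normalizer_sylow S hN

/-- The fusion system of a finite group on a Sylow subgroup is saturated. -/
theorem groupFusionSystem_saturated : (groupFusionSystem (S : Subgroup G)).IsSaturated p := by
  intro P hP
  obtain ⟨g, hgS, hg⟩ := exists_conj_normalizer_sylow S hP
  exact ⟨_, group_isConj_iff.2 ⟨hP, hgS, g, rfl⟩, group_isFullyAutomized S hgS hg,
    group_isReceptive S hgS hg⟩

end Cfsg.Agent.Fusion
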