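import Cfsg.Agent.Lib.Fusion.Basic

/-!
Simplicity of a saturated fusion system from `Aut_F(S) = Inn(S)` and the absence of proper
nontrivial strongly closed subgroups.
-/

set_option autoImplicit false

namespace Cfsg.Agent.Fusion

open Cfsg Cfsg.FusionSystem

variable {Ω : Type*} [Group Ω] {S : Subgroup Ω} {F : FusionSystem S}

/-- Strongly closed subgroups, elementwise: it is enough to test cyclic sources. -/
theorem stronglyClosed_iff {T : Subgroup Ω} :
    F.StronglyClosed T ↔ T ≤ S ∧ ∀ (P : Subgroup Ω), ∀ φ ∈ F.Hom P, ∀ x : P, (x : Ω) ∈ T → φ x ∈ T := by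
  constructor
  · rintro ⟨hT, h⟩
    refine ⟨hT, fun P φ hφ x hx => ?_⟩
    exact h (P ⊓ T) inf_le_right (φ.comp (Subgroup.inclusion inf_le_left))
      (restrict_mem hφ inf_le_left) ⟨x, x.2, hx⟩
  · rintro ⟨hT, h⟩
    exact ⟨hT, fun R hR φ hφ x => h R φ hφ x (hR x.2)⟩

/-- An invariant subsystem over `S` of a system with `Aut_F(S) = Inn(S)` is the whole system. -/
theorem invariantIn_eq_of_autGroup_eq_inn {E : FusionSystem S} (hE : E.IsInvariantIn F)
    (htop : F.autGroup S = Inn ↥S) (P : Subgroup Ω) : E.Hom P = F.Hom P := by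
  refine Set.Subset.antisymm (hE.1 P) fun φ hφ => ?_
  obtain ⟨α, hα, φ₀, hφ₀, h⟩ := hE.2.2.2 P (dom_le hφ) φ hφ
  rw [htop] at hα
  obtain ⟨g, rfl⟩ := hα
  exact comp_mem' hφ₀ (E.conj_mem le_rfl g.2) (fun x => apply_mem hφ₀ x)
    fun x => h x (apply_mem hφ₀ x)

/-- Saturated, `Aut_F(S) = Inn(S)` and no strongly closed subgroup other than `⊥`, `S`: simple. -/
theorem isSimple_of_autGroup_eq_inn {p : ℕ} (hF : F.IsSaturated p) (hS1 : S ≠ ⊥)
    (htop : F.autGroup S = Inn ↥S)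
    (hsc : ∀ T : Subgroup Ω, F.StronglyClosed T → T = ⊥ ∨ T = S) : F.IsSimple p := by
  refine ⟨hF, hS1, fun T E hE => ?_⟩
  rcases hsc T hE.1.2.2.2.1 with rfl | rfl
  · exact Or.inl rfl
  · exact Or.inr ⟨rfl, invariantIn_eq_of_autGroup_eq_inn hE.1.2.2 htop⟩

end Cfsg.Agent.Fusion
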