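import Cfsg.Agent.Lib.Fusion.Group
import Cfsg.Agent.Lib.Fusion.Nilpotent
import Cfsg.Agent.Lib.Fusion.SimpleCriterion

/-!
A Sylow 2-subgroup `S = ⟨x⟩⟨t⟩` dihedral of order at least 8: `Aut_F(S) = Inn(S)`, and if all
involutions of the group are conjugate the fusion system on `S` is simple.
-/

set_option autoImplicit false

namespace Cfsg.Agent.Fusion.Dihedral

open Cfsg Cfsg.FusionSystem

variable {G : Type*} [Group G]

/-- `S` is generated by `x` of order `2^k` and an involution `t` inverting it. -/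
structure DihedralGen (S : Subgroup G) (x t : G) (k : ℕ) : Prop where
  two_le : 2 ≤ k
  order : orderOf x = 2 ^ k
  ht : t * t = 1
  inv : t * x * t⁻¹ = x⁻¹
  gen : S = Subgroup.zpowers x ⊔ Subgroup.zpowers t

variable {S : Subgroup G} {x t : G} {k : ℕ}

theorem DihedralGen.x_mem (h : DihedralGen S x t k) : x ∈ S :=
  h.gen ▸ Subgroup.mem_sup_left (Subgroup.mem_zpowers x)

theorem DihedralGen.t_mem (h : DihedralGen S x t k) : t ∈ S :=
  h.gen ▸ Subgroup.mem_sup_right (Subgroup.mem_zpowers t)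

theorem DihedralGen.conj_zpow (h : DihedralGen S x t k) (i : ℤ) :
    t * x ^ i * t⁻¹ = x ^ (-i) := by
  have h' : MulAut.conj t x = x⁻¹ := h.inv
  have := map_zpow (MulAut.conj t) x i
  rw [h', inv_zpow', MulAut.conj_apply] at this
  exact this

theorem DihedralGen.cases (h : DihedralGen S x t k) {s : G} (hs : s ∈ S) :
    (∃ i : ℤ, s = x ^ i) ∨ ∃ i : ℤ, s = x ^ i * t := by
  have hn : Subgroup.zpowers t ≤ Subgroup.normalizer (Subgroup.zpowers x : Set G) := by
    rw [Subgroup.zpowers_le, Subgroup.mem_normalizer_iff]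
    intro y
    constructor
    · intro hy
      obtain ⟨i, rfl⟩ := Subgroup.mem_zpowers_iff.1 hy
      exact Subgroup.mem_zpowers_iff.2 ⟨-i, (h.conj_zpow i).symm⟩
    · intro hy
      obtain ⟨i, hi⟩ := Subgroup.mem_zpowers_iff.1 hy
      refine Subgroup.mem_zpowers_iff.2 ⟨-i, ?_⟩
      have : y = t⁻¹ * x ^ i * t := by rw [hi]; group
      rw [this, inv_eq_of_mul_eq_one_right h.ht, ← h.conj_zpow, inv_eq_of_mul_eq_one_right h.ht]
  rw [h.gen, ← SetLike.mem_coe,
    Subgroup.coe_mul_of_right_le_normalizer_left _ _ hn] at hs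
  obtain ⟨a, ha, b, hb, rfl⟩ := hs
  obtain ⟨i, rfl⟩ := Subgroup.mem_zpowers_iff.1 ha
  obtain ⟨j, rfl⟩ := Subgroup.mem_zpowers_iff.1 hb
  have ht2 : t ^ (2 : ℕ) = 1 := by rw [sq]; exact h.ht
  rcases Int.even_or_odd' j with ⟨m, rfl | rfl⟩
  · exact Or.inl ⟨i, by simp [zpow_mul, ht2]⟩
  · exact Or.inr ⟨i, by simp [zpow_add, zpow_mul, ht2]⟩

theorem DihedralGen.sq_eq_one (h : DihedralGen S x t k) (i : ℤ) :
    x ^ i * t * (x ^ i * t) = 1 := by
  have h2 := h.ht
  have := h.conj_zpow i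
  calc x ^ i * t * (x ^ i * t) = x ^ i * (t * x ^ i * t⁻¹) * (t * t) := by group
    _ = 1 := by rw [this, h2]; group

theorem DihedralGen.zpow_ne (h : DihedralGen S x t k) : x * x ≠ 1 := by
  intro h1
  have h2 : orderOf x ∣ 2 := orderOf_dvd_of_pow_eq_one (by rw [sq]; exact h1)
  rw [h.order] at h2
  have := Nat.le_of_dvd two_pos h2
  have h4 : 2 ^ 2 ≤ 2 ^ k := Nat.pow_le_pow_right two_pos h.two_le
  omega

theorem DihedralGen.t_not_mem (h : DihedralGen S x t k) : t ∉ Subgroup.zpowers x := by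
  intro ht
  obtain ⟨i, rfl⟩ := Subgroup.mem_zpowers_iff.1 ht
  have := h.inv
  rw [show x ^ i * x * (x ^ i)⁻¹ = x by group] at this
  exact h.zpow_ne (mul_eq_one_iff_eq_inv.2 this)

/-- An element normalizing `S`, an odd power of which centralizes `S`, centralizes `S`. -/
theorem DihedralGen.centralizes_of_odd (h : DihedralGen S x t k) {g : G}
    (hg : ∀ s ∈ S, g * s * g⁻¹ ∈ S) {n : ℕ} (hn : Odd n)
    (hgn : ∀ s ∈ S, g ^ n * s * (g ^ n)⁻¹ = s) : ∀ s ∈ S, g * s * g⁻¹ = s := by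
  obtain ⟨a, ha⟩ : ∃ a : ℤ, g * x * g⁻¹ = x ^ a := by
    rcases h.cases (hg x h.x_mem) with ⟨a, ha⟩ | ⟨a, ha⟩
    · exact ⟨a, ha⟩
    · refine absurd ?_ h.zpow_ne
      have := h.sq_eq_one a
      rw [← ha] at this
      have h1 : g * (x * x) * g⁻¹ = 1 := by rw [← this]; group
      exact conj_eq_one_iff.1 h1
  have hpow : ∀ m : ℕ, g ^ m * x * (g ^ m)⁻¹ = x ^ (a ^ m) := by
    intro m
    induction m with
    | zero => simp
    | succ m ih =>
      calc g ^ (m + 1) * x * (g ^ (m + 1))⁻¹ = MulAut.conj g (g ^ m * x * (g ^ m)⁻¹) := by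
            rw [pow_succ', MulAut.conj_apply]; group
        _ = x ^ a ^ (m + 1) := by rw [ih, map_zpow, MulAut.conj_apply, ha, ← zpow_mul, pow_succ']
  have ha1 : g * x * g⁻¹ = x := by
    have h1 : x ^ (a ^ n) = x ^ (1 : ℤ) := by rw [← hpow, hgn x h.x_mem, zpow_one]
    have hcast : ∀ b c : ℤ, x ^ b = x ^ c ↔ ((b : ZMod (2 ^ k)) = c) := fun b c => by
      rw [ZMod.intCast_eq_intCast_iff', ← h.order]
      exact zpow_eq_zpow_iff_modEq
    rw [hcast] at h1
    push_cast at h1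
    have h3 := (hcast a 1).2 (by
      push_cast
      let u : (ZMod (2 ^ k))ˣ := Units.ofPowEqOne (a : ZMod (2 ^ k)) n h1 hn.pos.ne'
      have hu : u ^ n = 1 := Units.ext (by simpa [u] using h1)
      haveI : NeZero (2 ^ k) := ⟨by positivity⟩
      have h4 : orderOf u ∣ Fintype.card (ZMod (2 ^ k))ˣ := orderOf_dvd_card
      rw [ZMod.card_units_eq_totient,
        Nat.totient_prime_pow Nat.prime_two (by have := h.two_le; omega)] at h4
      simp at h4
      have h5 : orderOf u = 1 := Nat.eq_one_of_dvd_coprimes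
        ((Nat.coprime_two_right.2 hn).pow_right (k - 1)) (orderOf_dvd_of_pow_eq_one hu) h4
      have := congrArg Units.val (orderOf_eq_one_iff.1 h5)
      simpa [u] using this)
    rw [ha, h3, zpow_one]
  have hxc : ∀ i : ℤ, g * x ^ i * g⁻¹ = x ^ i := fun i => by
    rw [← MulAut.conj_apply, map_zpow, MulAut.conj_apply, ha1]
  obtain ⟨b, hb⟩ : ∃ b : ℤ, g * t * g⁻¹ = x ^ b * t := by
    rcases h.cases (hg t h.t_mem) with ⟨b, hb⟩ | ⟨b, hb⟩
    · refine absurd (Subgroup.mem_zpowers_iff.2 ⟨b, ?_⟩) h.t_not_mem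
      have h1 := hxc b
      rw [← hb] at h1 ⊢
      exact mul_left_cancel (mul_right_cancel h1)
    · exact ⟨b, hb⟩
  have hpowt : ∀ m : ℕ, g ^ m * t * (g ^ m)⁻¹ = x ^ ((m : ℤ) * b) * t := by
    intro m
    induction m with
    | zero => simp
    | succ m ih =>
      calc g ^ (m + 1) * t * (g ^ (m + 1))⁻¹ = MulAut.conj g (g ^ m * t * (g ^ m)⁻¹) := by
            rw [pow_succ', MulAut.conj_apply]; group
        _ = x ^ (((m + 1 : ℕ) : ℤ) * b) * t := by
          rw [ih, map_mul, MulAut.conj_apply, MulAut.conj_apply, hxc, hb, ← mul_assoc, ← zpow_add]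
          congr 2
          push_cast
          ring
  have hb1 : x ^ b = 1 := by
    have h1 : (x ^ b) ^ n = 1 := by
      rw [← zpow_natCast, ← zpow_mul, mul_comm]
      exact mul_right_cancel ((hpowt n).symm.trans ((hgn t h.t_mem).trans (one_mul t).symm))
    have h2 : (x ^ b) ^ (2 ^ k) = 1 := by
      rw [← zpow_natCast, ← zpow_mul, mul_comm, zpow_mul, zpow_natCast, ← h.order,
        pow_orderOf_eq_one, one_zpow]
    have h3 := (pow_gcd_eq_one (a := x ^ b) (m := n) (n := 2 ^ k)).2 ⟨h1, h2⟩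
    rwa [((Nat.coprime_two_right.2 hn).pow_right k), pow_one] at h3
  intro s hs
  rcases h.cases hs with ⟨i, rfl⟩ | ⟨i, rfl⟩
  · exact hxc i
  · calc g * (x ^ i * t) * g⁻¹ = (g * x ^ i * g⁻¹) * (g * t * g⁻¹) := by group
      _ = x ^ i * t := by rw [hxc, hb, hb1, one_mul]

/-- `Aut_F(S) = Inn(S)` for a dihedral Sylow 2-subgroup of order at least 8. -/
theorem autGroup_eq_inn [Finite G] (T : Sylow 2 G) (h : DihedralGen (T : Subgroup G) x t k) :
    (groupFusionSystem (T : Subgroup G)).autGroup (T : Subgroup G) =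
      Inn ↥(T : Subgroup G) := by
  set F := groupFusionSystem (T : Subgroup G)
  have hp : IsPGroup 2 (F.autGroup (T : Subgroup G)) := by
    refine isPGroup_of_coprime_orderOf_eq_one fun α hα => ?_
    have hα' : (α : MulAut ↥(T : Subgroup G)) ∈ autInducedBy ⊤ (T : Subgroup G) :=
      group_autGroup (S₀ := (T : Subgroup G)) le_rfl ▸ α.2
    obtain ⟨g, -, hg⟩ := mem_autInducedBy_iff.1 hα'
    have hpow : ∀ (m : ℕ) (y : ↥(T : Subgroup G)),
        ((((α : MulAut ↥(T : Subgroup G)) ^ m) y : ↥(T : Subgroup G)) : G) =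
          g ^ m * y * (g ^ m)⁻¹ := by
      intro m
      induction m with
      | zero => intro y; simp
      | succ m ih =>
        intro y
        rw [pow_succ', MulAut.mul_apply, hg, ih, pow_succ']
        group
    have hn : (α : MulAut ↥(T : Subgroup G)) ^ orderOf α = 1 := by
      rw [← Subgroup.orderOf_coe]; exact pow_orderOf_eq_one _
    have hc := h.centralizes_of_odd (g := g)
      (fun s hs => (hg ⟨s, hs⟩).symm ▸ ((α : MulAut ↥(T : Subgroup G)) ⟨s, hs⟩).2)
      (n := orderOf α) (Nat.coprime_two_right.1 hα)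
      (fun s hs => by rw [← hpow _ ⟨s, hs⟩, hn]; rfl)
    apply Subtype.ext
    apply MulEquiv.ext
    intro y
    apply Subtype.ext
    rw [hg, hc y y.2]
    rfl
  obtain ⟨Q, hQ, hQa, -⟩ := groupFusionSystem_saturated T (T : Subgroup G) le_rfl
  obtain rfl : Q = (T : Subgroup G) := Subgroup.eq_of_le_of_card_ge hQa.1 (isConj_card hQ).ge
  refine le_antisymm (fun α hα => ?_) (inn_le_autGroup F le_rfl)
  obtain ⟨g, hg, hα'⟩ := mem_autInducedBy_iff.1 (autGroup_eq_of_isPGroup hQa hp hα)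
  exact ⟨⟨g, hg⟩, MulEquiv.ext fun y => Subtype.ext (hα' y).symm⟩

/-- The 2-fusion system on a dihedral Sylow subgroup of order at least 8 of a group with one class
of involutions is simple. -/
theorem isSimple [Finite G] (T : Sylow 2 G) (h : DihedralGen (T : Subgroup G) x t k)
    (hone : ∀ a b : G, orderOf a = 2 → orderOf b = 2 → ∃ g : G, g * a * g⁻¹ = b) :
    (groupFusionSystem (T : Subgroup G)).IsSimple 2 := by
  have ht1 : t ≠ 1 := fun ht => h.t_not_mem (ht ▸ one_mem _)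
  refine isSimple_of_autGroup_eq_inn (groupFusionSystem_saturated T) ?_ (autGroup_eq_inn T h) ?_
  · intro hb
    exact ht1 (Subgroup.mem_bot.1 (hb ▸ h.t_mem))
  intro W hW
  refine (eq_or_ne W ⊥).imp id fun hne => le_antisymm hW.1 ?_
  obtain ⟨n, hn⟩ := (T.2.to_le hW.1).exists_card_eq
  have h2 : 2 ∣ Nat.card W := by
    rcases n with _ | n
    · exact absurd (Subgroup.eq_bot_of_card_eq W (by simpa using hn)) hne
    · exact hn ▸ dvd_pow_self 2 n.succ_ne_zero
  obtain ⟨w, hw⟩ := exists_prime_orderOf_dvd_card' 2 h2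
  have hw2 : orderOf (w : G) = 2 := by rw [Subgroup.orderOf_coe]; exact hw
  have hall : ∀ u ∈ (T : Subgroup G), u * u = 1 → u ∈ W := by
    intro u hu huu
    by_cases hu1 : u = 1
    · exact hu1 ▸ one_mem W
    have huo : orderOf u = 2 := orderOf_eq_prime (by rw [sq]; exact huu) hu1
    obtain ⟨g, hg⟩ := hone w u hw2 huo
    have hle : Subgroup.zpowers (w : G) ≤ W := Subgroup.zpowers_le.2 w.2
    have hmap : conjHom (Subgroup.zpowers (w : G)) g ∈
        (groupFusionSystem (T : Subgroup G)).Hom (Subgroup.zpowers (w : G)) := by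
      refine conjHom_mem_groupHom (hle.trans hW.1) ?_
      rw [MonoidHom.map_zpowers, Subgroup.zpowers_le]
      show g * w * g⁻¹ ∈ _
      rw [hg]; exact hu
    have := hW.2 _ hle _ hmap ⟨w, Subgroup.mem_zpowers _⟩
    rwa [conjHom_apply, hg] at this
  have ht := hall t h.t_mem h.ht
  have hxt : x ^ (1 : ℤ) * t ∈ W := hall _ (Subgroup.mul_mem _ (Subgroup.zpow_mem _ h.x_mem 1) h.t_mem) (h.sq_eq_one 1)
  have hx : x ∈ W := by
    simpa [mul_assoc, h.ht] using W.mul_mem hxt ht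
  intro s hs
  rcases h.cases hs with ⟨i, rfl⟩ | ⟨i, rfl⟩
  · exact W.zpow_mem hx i
  · exact W.mul_mem (W.zpow_mem hx i) ht

end Cfsg.Agent.Fusion.Dihedral
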