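import Mathlib

/-!
Burnside's theorem on marks: two finite sets with actions of a finite group are isomorphic as soon
as every subgroup has the same number of fixed points on both. Also: the product of a function over
a permutation is computed cycle by cycle.
-/

set_option autoImplicit false

namespace Cfsg.Agent.Fusion.Marks

open MulAction

variable {G X Y : Type*} [Group G] [MulAction G X] [MulAction G Y]

/-- The points of `A` fixed by `H`. -/
def fixIn (H : Subgroup G) (A : Set X) : Set X := {x ∈ A | ∀ g ∈ H, g • x = x}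

/-- `A` is invariant under the group. -/
def Invariant (G : Type*) [Group G] {X : Type*} [MulAction G X] (A : Set X) : Prop :=
  ∀ (g : G), ∀ x ∈ A, g • x ∈ A

theorem invariant_univ : Invariant G (Set.univ : Set X) := fun _ _ _ => trivial

theorem invariant_orbit (x : X) : Invariant G (orbit G x) := fun g y hy => by
  obtain ⟨k, rfl⟩ := hy
  exact ⟨g * k, mul_smul g k x⟩

theorem invariant_diff {A B : Set X} (hA : Invariant G A) (hB : Invariant G B) :
    Invariant G (A \ B) := fun g x hx =>
  ⟨hA g x hx.1, fun h => hx.2 (by simpa using hB g⁻¹ _ h)⟩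

theorem fixIn_univ (H : Subgroup G) : fixIn H (Set.univ : Set X) = fixedPoints H X := by
  ext x
  exact ⟨fun h g => h.2 g g.2, fun h => ⟨trivial, fun g hg => h ⟨g, hg⟩⟩⟩

theorem ncard_fixIn_diff [Finite X] (H : Subgroup G) {A B : Set X} (h : B ⊆ A) :
    (fixIn H (A \ B)).ncard + (fixIn H B).ncard = (fixIn H A).ncard := by
  rw [← Set.ncard_union_eq ?_ (Set.toFinite _) (Set.toFinite _)]
  · congr 1
    ext x
    constructor
    · rintro (⟨hx, hf⟩ | ⟨hx, hf⟩)
      · exact ⟨hx.1, hf⟩
      · exact ⟨h hx, hf⟩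
    · rintro ⟨hx, hf⟩
      by_cases hB : x ∈ B
      · exact Or.inr ⟨hB, hf⟩
      · exact Or.inl ⟨⟨hx, hB⟩, hf⟩
  · exact Set.disjoint_left.2 fun x hx hx' => hx.1.2 hx'.1

/-- Two orbits with the same stabilizer are matched by an equivariant bijection. -/
theorem exists_orbit_map {x : X} {y : Y} (h : stabilizer G x = stabilizer G y) :
    ∃ f : X → Y, Set.BijOn f (orbit G x) (orbit G y) ∧
      ∀ g : G, f (g • x) = g • y := by
  have hiff : ∀ a b : G, a • x = b • x ↔ a • y = b • y := by
    intro a b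
    have key : b⁻¹ * a ∈ stabilizer G x ↔ b⁻¹ * a ∈ stabilizer G y := by rw [h]
    rw [mem_stabilizer_iff, mem_stabilizer_iff, mul_smul, mul_smul, inv_smul_eq_iff,
      inv_smul_eq_iff] at key
    exact key
  have hval : ∀ z ∈ orbit G x, ∃ g : G, g • x = z := fun z hz => hz
  classical
  refine ⟨fun z => if hz : z ∈ orbit G x then (hval z hz).choose • y else y, ⟨?_, ?_, ?_⟩, ?_⟩
  · intro z hz
    simp only [dif_pos hz]
    exact mem_orbit y _
  · intro z hz z' hz' he
    simp only [dif_pos hz, dif_pos hz'] at he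
    rw [← (hval z hz).choose_spec, ← (hval z' hz').choose_spec]
    exact (hiff _ _).2 he
  · rintro _ ⟨g, rfl⟩
    have hg : g • x ∈ orbit G x := mem_orbit x g
    refine ⟨g • x, hg, ?_⟩
    simp only [dif_pos hg]
    exact (hiff _ _).1 (hval _ hg).choose_spec
  · intro g
    have hg : g • x ∈ orbit G x := mem_orbit x g
    simp only [dif_pos hg]
    exact (hiff _ _).1 (hval _ hg).choose_spec

theorem ncard_fixIn_congr {A : Set X} {B : Set Y} {f : X → Y} (hf : Set.BijOn f A B)
    (hA : Invariant G A) (he : ∀ g : G, ∀ x ∈ A, f (g • x) = g • f x) (H : Subgroup G) :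
    (fixIn H A).ncard = (fixIn H B).ncard := by
  refine Set.ncard_congr (fun x _ => f x) ?_ ?_ ?_
  · exact fun x hx => ⟨hf.mapsTo hx.1, fun g hg => by rw [← he g x hx.1, hx.2 g hg]⟩
  · exact fun a b ha hb hab => hf.injOn ha.1 hb.1 hab
  · intro y hy
    obtain ⟨x, hx, rfl⟩ := hf.surjOn hy.1
    refine ⟨x, ⟨hx, fun g hg => hf.injOn (hA g x hx) hx ?_⟩, rfl⟩
    rw [he g x hx, hy.2 g hg]

theorem exists_map_of_fixIn [Finite G] [Finite X] [Finite Y] [Nonempty Y] :
    ∀ (n : ℕ) (A : Set X) (B : Set Y), A.ncard ≤ n → Invariant G A → Invariant G B →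
      (∀ H : Subgroup G, (fixIn H A).ncard = (fixIn H B).ncard) →
      ∃ f : X → Y, Set.BijOn f A B ∧ ∀ g : G, ∀ x ∈ A, f (g • x) = g • f x := by
  intro n
  induction n with
  | zero =>
    intro A B hn hA hB h
    have hA0 : A = ∅ := by simpa [Set.ncard_eq_zero (Set.toFinite A)] using Nat.le_zero.1 hn
    subst hA0
    have hbot := h ⊥
    have h1 : fixIn (⊥ : Subgroup G) B = B := by
      ext y
      exact ⟨fun hy => hy.1, fun hy => ⟨hy, fun g hg => by simp [Subgroup.mem_bot.1 hg]⟩⟩
    have h2 : fixIn (⊥ : Subgroup G) (∅ : Set X) = ∅ := by ext x; simp [fixIn]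
    rw [h1, h2, Set.ncard_empty, eq_comm, Set.ncard_eq_zero (Set.toFinite B)] at hbot
    subst hbot
    exact ⟨fun _ => Classical.arbitrary Y, Set.bijOn_empty _, by simp⟩
  | succ n ih =>
    intro A B hn hA hB h
    by_cases hle : A.ncard ≤ n
    · exact ih A B hle hA hB h
    obtain ⟨x, hx, hmax⟩ := (Set.toFinite A).exists_maximalFor
      (fun x => Nat.card (stabilizer G x)) A
      (Set.nonempty_of_ncard_ne_zero (by omega : A.ncard ≠ 0))
    have hxfix : x ∈ fixIn (stabilizer G x) A := ⟨hx, fun g hg => hg⟩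
    have hBne : (fixIn (stabilizer G x) B).ncard ≠ 0 := by
      rw [← h]
      exact Set.ncard_ne_zero_of_mem hxfix (Set.toFinite _)
    obtain ⟨y, hy, hyfix⟩ := Set.nonempty_of_ncard_ne_zero hBne
    have hAne : (fixIn (stabilizer G y) A).ncard ≠ 0 := by
      rw [h]
      exact Set.ncard_ne_zero_of_mem (a := y) ⟨hy, fun g hg => hg⟩ (Set.toFinite _)
    obtain ⟨x', hx', hx'fix⟩ := Set.nonempty_of_ncard_ne_zero hAne
    have hxy : stabilizer G x ≤ stabilizer G y := hyfix
    have hyx : stabilizer G y ≤ stabilizer G x' := hx'fix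
    have hc : Nat.card (stabilizer G x') ≤ Nat.card (stabilizer G x) := by
      rcases le_total (Nat.card (stabilizer G x')) (Nat.card (stabilizer G x)) with h' | h'
      · exact h'
      · exact hmax hx' h'
    have heq : stabilizer G x = stabilizer G y :=
      le_antisymm hxy (le_of_eq (Subgroup.eq_of_le_of_card_ge hxy
        ((Subgroup.card_le_of_le hyx).trans hc)).symm)
    obtain ⟨f₁, hf₁, hf₁e⟩ := exists_orbit_map heq
    have hOA : orbit G x ⊆ A := by
      rintro _ ⟨g, rfl⟩; exact hA g x hx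
    have hOB : orbit G y ⊆ B := by
      rintro _ ⟨g, rfl⟩; exact hB g y hy
    have hf₁eq : ∀ g : G, ∀ z ∈ orbit G x, f₁ (g • z) = g • f₁ z := by
      rintro g _ ⟨k, rfl⟩
      show f₁ (g • k • x) = g • f₁ (k • x)
      rw [← mul_smul, hf₁e, hf₁e, mul_smul]
    have hlt : (A \ orbit G x).ncard ≤ n := by
      have h1 : (A \ orbit G x).ncard < A.ncard := Set.ncard_lt_ncard
        ⟨Set.sdiff_subset, fun h' => (h' hx).2 (mem_orbit_self x)⟩ (Set.toFinite _)
      omega
    obtain ⟨f₂, hf₂, hf₂e⟩ := ih (A \ orbit G x) (B \ orbit G y) hlt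
      (invariant_diff hA (invariant_orbit x)) (invariant_diff hB (invariant_orbit y)) fun H => by
        have h1 := ncard_fixIn_diff H hOA
        have h2 := ncard_fixIn_diff H hOB
        have h3 := ncard_fixIn_congr hf₁ (invariant_orbit x) hf₁eq H
        have h4 := h H
        omega
    classical
    refine ⟨fun z => if z ∈ orbit G x then f₁ z else f₂ z, ⟨?_, ?_, ?_⟩, ?_⟩
    · intro z hz
      by_cases hzO : z ∈ orbit G x
      · simp only [if_pos hzO]; exact hOB (hf₁.mapsTo hzO)
      · simp only [if_neg hzO]; exact (hf₂.mapsTo ⟨hz, hzO⟩).1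
    · intro a ha b hb hab
      by_cases haO : a ∈ orbit G x <;> by_cases hbO : b ∈ orbit G x <;>
        simp only [haO, hbO, if_true, if_false] at hab
      · exact hf₁.injOn haO hbO hab
      · exact absurd (hab ▸ hf₁.mapsTo haO) (hf₂.mapsTo ⟨hb, hbO⟩).2
      · exact absurd (hab ▸ hf₁.mapsTo hbO) (hf₂.mapsTo ⟨ha, haO⟩).2
      · exact hf₂.injOn ⟨ha, haO⟩ ⟨hb, hbO⟩ hab
    · intro z hz
      by_cases hzO : z ∈ orbit G y
      · obtain ⟨w, hw, rfl⟩ := hf₁.surjOn hzO
        exact ⟨w, hOA hw, by simp only [if_pos hw]⟩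
      · obtain ⟨w, hw, rfl⟩ := hf₂.surjOn ⟨hz, hzO⟩
        exact ⟨w, hw.1, by simp only [if_neg hw.2]⟩
    · intro g z hz
      by_cases hzO : z ∈ orbit G x
      · simp only [if_pos hzO, if_pos (invariant_orbit x g z hzO)]
        exact hf₁eq g z hzO
      · have hgz : g • z ∉ orbit G x := (invariant_diff hA (invariant_orbit x) g z ⟨hz, hzO⟩).2
        simp only [if_neg hzO, if_neg hgz]
        exact hf₂e g z ⟨hz, hzO⟩

/-- Burnside's theorem on marks. -/
theorem exists_equiv_of_card_fixedPoints [Finite G] [Finite X] [Finite Y]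
    (h : ∀ H : Subgroup G, Nat.card (fixedPoints H X) = Nat.card (fixedPoints H Y)) :
    ∃ e : X ≃ Y, ∀ (g : G) (x : X), e (g • x) = g • e x := by
  have hfix : ∀ H : Subgroup G, (fixIn H (Set.univ : Set X)).ncard =
      (fixIn H (Set.univ : Set Y)).ncard := by
    intro H
    rw [fixIn_univ, fixIn_univ, ← Nat.card_coe_set_eq, ← Nat.card_coe_set_eq]
    exact h H
  rcases isEmpty_or_nonempty Y with hY | hY
  · have h1 := hfix ⊥
    have hX : IsEmpty X := by
      have h2 : (fixIn (⊥ : Subgroup G) (Set.univ : Set Y)) = ∅ := Set.eq_empty_of_isEmpty _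
      rw [h2, Set.ncard_empty, Set.ncard_eq_zero (Set.toFinite _)] at h1
      exact ⟨fun x => Set.eq_empty_iff_forall_notMem.1 h1 x
        ⟨trivial, fun g hg => by rw [Subgroup.mem_bot.1 hg, one_smul]⟩⟩
    exact ⟨Equiv.equivOfIsEmpty X Y, fun g x => hX.elim x⟩
  · obtain ⟨f, hf, he⟩ := exists_map_of_fixIn (Nat.card X) (Set.univ : Set X) (Set.univ : Set Y)
      (by rw [Set.ncard_univ]) invariant_univ invariant_univ hfix
    have hb : Function.Bijective f :=
      ⟨fun a b hab => hf.injOn trivial trivial hab,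
        fun y => ⟨_, (hf.surjOn (Set.mem_univ y)).choose_spec.2⟩⟩
    exact ⟨Equiv.ofBijective f hb, fun g x => he g x trivial⟩

/-! ### Products along cycles -/

/-- If `c` has product one over every cycle of the permutation `π` then its product is one. -/
theorem prod_eq_one_of_cycles {Y A : Type*} [Fintype Y] [CommGroup A] (π : Equiv.Perm Y)
    (c : Y → A)
    (h : ∀ y, ∏ i ∈ Finset.range (Function.minimalPeriod π y), c ((π ^ i) y) = 1) :
    ∏ y, c y = 1 := by
  classical
  refine Finset.prod_cancels_of_partition_cancels (Equiv.Perm.SameCycle.setoid π) fun y _ => ?_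
  have hper : y ∈ Function.periodicPts π :=
    π.injective.mem_periodicPts y
  refine Eq.trans ?_ (h y)
  refine (Finset.prod_bij (fun i _ => (π ^ i) y) ?_ ?_ ?_ fun i _ => rfl).symm
  · intro i _
    simp only [Finset.mem_filter, Finset.mem_univ, true_and]
    exact (Equiv.Perm.sameCycle_pow_right.2 (Equiv.Perm.SameCycle.refl π y)).symm
  · intro i hi j hj hij
    simp only [Finset.mem_range] at hi hj
    rw [Equiv.Perm.coe_pow, Equiv.Perm.coe_pow] at hij
    exact Function.iterate_injOn_Iio_minimalPeriod hi hj hij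
  · intro z hz
    simp only [Finset.mem_filter, Finset.mem_univ, true_and] at hz
    obtain ⟨i, -, -, rfl⟩ := (Equiv.Perm.SameCycle.symm hz).exists_pow_eq π
    refine ⟨i % Function.minimalPeriod π y, Finset.mem_range.2
      (Nat.mod_lt _ (Function.minimalPeriod_pos_of_mem_periodicPts hper)), ?_⟩
    rw [Equiv.Perm.coe_pow, Equiv.Perm.coe_pow, Function.iterate_mod_minimalPeriod_eq]

/-- Comparison of products cycle by cycle. -/
theorem prod_eq_prod_of_cycles {Y A : Type*} [Fintype Y] [CommGroup A] (π : Equiv.Perm Y)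
    (c d : Y → A)
    (h : ∀ y, ∏ i ∈ Finset.range (Function.minimalPeriod π y), c ((π ^ i) y) =
      ∏ i ∈ Finset.range (Function.minimalPeriod π y), d ((π ^ i) y)) :
    ∏ y, c y = ∏ y, d y := by
  rw [← div_eq_one, ← Finset.prod_div_distrib]
  refine prod_eq_one_of_cycles π _ fun y => ?_
  rw [Finset.prod_div_distrib, h, div_self']

end Cfsg.Agent.Fusion.Marks
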