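import Cfsg.Agent.Lib.Fusion.CentricUnique
import Cfsg.Agent.Lib.Fusion.NormalCriteria

/-!
Invariant subsystems: `Aut_E(P)` is normal in `Aut_F(P)`, and two saturated invariant subsystems on
the same subgroup with a common normal centric subgroup are determined by the automorphisms of
that subgroup.
-/

set_option autoImplicit false

namespace Cfsg.Agent.Fusion

open Cfsg Cfsg.FusionSystem

variable {Ω : Type*} [Group Ω] {S T : Subgroup Ω} {F : FusionSystem S} {p : ℕ}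

theorem autGroup_le_of_subsystem {E : FusionSystem T} (hE : E.IsSubsystemOf F) {P : Subgroup Ω}
    (hP : P ≤ T) : E.autGroup P ≤ F.autGroup P := fun _ hα =>
  (mem_autGroup_iff (dom_le (hE P (subtype_mem E hP)))).2 (hE P ((mem_autGroup_iff hP).1 hα))

/-- For an invariant subsystem `E` on `T` and `P ≤ T`, `Aut_E(P)` is normal in `Aut_F(P)`. -/
theorem conj_mem_autGroup_of_invariant [Finite S] {E : FusionSystem T} (hE : E.IsInvariantIn F)
    {P : Subgroup Ω} (hPT : P ≤ T) {α x : MulAut P} (hα : α ∈ F.autGroup P)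
    (hx : x ∈ E.autGroup P) : α * x * α⁻¹ ∈ E.autGroup P := by
  obtain ⟨hsub, hTcl, hinv, hfrat⟩ := hE
  obtain ⟨hαF, hαr⟩ := hom_of_mem_autGroup (hPT.trans hTcl.1) hα
  obtain ⟨a, ha, φ₀, hφ₀, hdec⟩ := hfrat P hPT _ hαF
  have hdec' : ∀ v : P, ((α v : P) : Ω) = ((a ⟨φ₀ v, apply_mem hφ₀ v⟩ : T) : Ω) := fun v =>
    hdec v (apply_mem hφ₀ v)
  have hP₀ : φ₀.range ≤ T := range_le hφ₀
  obtain ⟨hx₀, -⟩ := hom_of_mem_autGroup hP₀ (congr_mem_autGroup hφ₀ rfl hx)
  obtain ⟨χ, hχ, hχe⟩ := hinv φ₀.range hP₀ _ hx₀ a ha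
  have hsrc : (φ₀.range.subgroupOf T).map (T.subtype.comp a.toMonoidHom) = P := by
    ext z
    constructor
    · rintro ⟨⟨w, hw⟩, ⟨v, hv⟩, rfl⟩
      have h1 : (⟨w, hw⟩ : T) = ⟨φ₀ v, apply_mem hφ₀ v⟩ := Subtype.ext hv.symm
      show ((a ⟨w, hw⟩ : T) : Ω) ∈ P
      rw [h1, ← hdec']
      exact (α v).2
    · intro hz
      refine ⟨⟨φ₀ (α⁻¹ ⟨z, hz⟩), apply_mem hφ₀ _⟩, ⟨_, rfl⟩, ?_⟩
      show ((a ⟨φ₀ (α⁻¹ ⟨z, hz⟩), apply_mem hφ₀ _⟩ : T) : Ω) = z
      rw [← hdec', MulAut.apply_inv_self]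
  refine (mem_autGroup_iff hPT).2 (mem_congr hχ hsrc.symm fun z hz => ?_)
  set v := α⁻¹ ⟨z, hz⟩ with hv
  have h0 : ((a ⟨φ₀ v, hP₀ ⟨v, rfl⟩⟩ : T) : Ω) = z := by
    rw [← hdec', hv, MulAut.apply_inv_self]
  have hmem : ((a ⟨φ₀ v, hP₀ ⟨v, rfl⟩⟩ : T) : Ω) ∈
      (φ₀.range.subgroupOf T).map (T.subtype.comp a.toMonoidHom) := by
    rw [h0]
    exact hsrc.ge hz
  have hxm : ∀ w : φ₀.range,
      (φ₀.range.subtype.comp (MulAut.congr (homEquiv hφ₀ rfl) x).toMonoidHom) w ∈ T := fun w =>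
    hP₀ (MulAut.congr (homEquiv hφ₀ rfl) x w).2
  have h1 := hχe ⟨φ₀ v, ⟨v, rfl⟩⟩ (hxm _) hmem
  have h2 : (MulAut.congr (homEquiv hφ₀ rfl) x) ⟨φ₀ v, ⟨v, rfl⟩⟩ = homEquiv hφ₀ rfl (x v) := by
    rw [show (⟨φ₀ v, ⟨v, rfl⟩⟩ : φ₀.range) = homEquiv hφ₀ rfl v from Subtype.ext rfl, congr_apply]
  show (((α * x * α⁻¹) ⟨z, hz⟩ : P) : Ω) = _
  rw [show (⟨z, hsrc.ge hz⟩ :
      ↥((φ₀.range.subgroupOf T).map (T.subtype.comp a.toMonoidHom))) = ⟨_, hmem⟩ from
    Subtype.ext h0.symm, h1]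
  show ((α (x v) : P) : Ω) = _
  rw [hdec']
  congr 2
  exact Subtype.ext (congrArg Subtype.val h2).symm

/-- For a subgroup `R ≤ P`, the automorphisms of the system fixing `R` elementwise and acting
trivially on `P` modulo `R`. -/
def fixingTranslations (F : FusionSystem S) (P R : Subgroup Ω) : Subgroup (MulAut P) where
  carrier := {β | β ∈ F.autGroup P ∧ (∀ g : P, (g : Ω) ∈ R → β g = g) ∧
    ∀ g : P, ((g⁻¹ * β g : P) : Ω) ∈ R}
  one_mem' := ⟨one_mem _, fun _ _ => rfl, fun g => by simp⟩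
  mul_mem' := by
    rintro a b ⟨ha, hfa, hta⟩ ⟨hb, hfb, htb⟩
    refine ⟨mul_mem ha hb, fun g hg => by rw [MulAut.mul_apply, hfb g hg, hfa g hg], fun g => ?_⟩
    have h : g⁻¹ * (a * b) g = (g⁻¹ * a g) * (g⁻¹ * b g) := by
      rw [MulAut.mul_apply]
      calc g⁻¹ * a (b g) = g⁻¹ * a (g * (g⁻¹ * b g)) := by rw [mul_inv_cancel_left]
        _ = g⁻¹ * (a g * a (g⁻¹ * b g)) := by rw [map_mul]
        _ = g⁻¹ * a g * (g⁻¹ * b g) := by rw [hfa _ (htb g), mul_assoc]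
    rw [h, Subgroup.coe_mul]
    exact R.mul_mem (hta g) (htb g)
  inv_mem' := by
    rintro a ⟨ha, hfa, hta⟩
    refine ⟨inv_mem ha, fun g hg => ?_, fun g => ?_⟩
    · conv_lhs => rw [← hfa g hg]
      exact MulAut.inv_apply_self _ _ _
    · set w := a⁻¹ g with hw
      have hg : g = a w := (MulAut.apply_inv_self _ _ _).symm
      have h : g⁻¹ * w = (w⁻¹ * a w)⁻¹ := by
        rw [hg]
        group
      rw [h, Subgroup.coe_inv]
      exact R.inv_mem (hta w)

theorem isPGroup_fixingTranslations [Finite S] [Fact p.Prime] (hS : IsPGroup p S)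
    {P R : Subgroup Ω} (hP : P ≤ S) : IsPGroup p (fixingTranslations F P R) := by
  have := finite_of_le hP
  obtain ⟨k, hk⟩ := IsPGroup.iff_card.1 (hS.to_le hP)
  rintro ⟨β, hβF, hfix, ht⟩
  refine ⟨k, Subtype.ext (MulEquiv.ext fun g => ?_)⟩
  show (β ^ p ^ k) g = g
  rw [aut_pow_apply_of_fixed β (mul_inv_cancel_left g (β g)).symm (hfix _ (ht g)), ← hk,
    pow_card_eq_one', mul_one]

theorem mem_fixingTranslations_conj {P R : Subgroup Ω} {y β : MulAut P} (hy : y ∈ F.autGroup P)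
    (hyR : ∀ g : P, (g : Ω) ∈ R → ((y g : P) : Ω) ∈ R)
    (hyR' : ∀ g : P, (g : Ω) ∈ R → ((y⁻¹ g : P) : Ω) ∈ R)
    (hβ : β ∈ fixingTranslations F P R) : y * β * y⁻¹ ∈ fixingTranslations F P R := by
  obtain ⟨hβF, hfix, ht⟩ := hβ
  refine ⟨mul_mem (mul_mem hy hβF) (inv_mem hy), fun g hg => ?_, fun g => ?_⟩
  · rw [MulAut.mul_apply, MulAut.mul_apply, hfix _ (hyR' g hg), MulAut.apply_inv_self]
  · have h : g⁻¹ * (y * β * y⁻¹) g = y ((y⁻¹ g)⁻¹ * β (y⁻¹ g)) := by
      rw [map_mul, map_inv, MulAut.apply_inv_self]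
      rfl
    rw [h]
    exact hyR _ (ht _)

/-- An element is in a subgroup containing the elements of `p`-power and of `p'` order. -/
theorem mem_of_pParts {X : Type*} [Group X] [Finite X] {p : ℕ} [hp : Fact p.Prime] (B : Subgroup X)
    (h₁ : ∀ x : X, (∃ k, x ^ p ^ k = 1) → x ∈ B) (h₂ : ∀ x : X, (orderOf x).Coprime p → x ∈ B)
    (x : X) : x ∈ B := by
  obtain ⟨e, m, hm, hord⟩ :=
    Nat.exists_eq_pow_mul_and_not_dvd (orderOf_pos x).ne' p hp.out.ne_one
  have hcop : m.Coprime (p ^ e) :=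
    Nat.Coprime.pow_right _ (hp.out.coprime_iff_not_dvd.2 hm).symm
  have hb := Nat.gcd_eq_gcd_ab m (p ^ e)
  rw [hcop] at hb
  have e1 : x = (x ^ m) ^ Nat.gcdA m (p ^ e) * (x ^ p ^ e) ^ Nat.gcdB m (p ^ e) := by
    rw [← zpow_natCast x m, ← zpow_natCast x (p ^ e), ← zpow_mul, ← zpow_mul, ← zpow_add, ← hb]
    simp
  rw [e1]
  refine B.mul_mem (B.zpow_mem (h₁ _ ⟨e, ?_⟩) _) (B.zpow_mem (h₂ _ ?_) _)
  · rw [← pow_mul, mul_comm, ← hord, pow_orderOf_eq_one]
  · have hd : orderOf (x ^ p ^ e) ∣ m :=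
      orderOf_dvd_of_pow_eq_one (by rw [← pow_mul, ← hord, pow_orderOf_eq_one])
    exact Nat.Coprime.coprime_dvd_left hd (hp.out.coprime_iff_not_dvd.2 hm).symm

/-- If two saturated subsystems on `T` share a normal centric subgroup `R`, induce the same
automorphisms of `R`, and have automorphism groups normal in those of `F`, then they have the same
automorphisms of each `P ⊇ R` that is fully automized in the first. -/
theorem autGroup_le_of_same [Finite S] [Fact p.Prime] (hS : IsPGroup p S) {E E' : FusionSystem T}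
    (hEF : E.IsSubsystemOf F) (hE'F : E'.IsSubsystemOf F) (hEs : E.IsSaturated p)
    (hE's : E'.IsSaturated p) {R : Subgroup Ω} (hRn : E.IsNormal R) (hRn' : E'.IsNormal R)
    (hRc : E.IsCentric R) (hRc' : E'.IsCentric R) (hAut : E.autGroup R = E'.autGroup R)
    {P : Subgroup Ω} (hRP : R ≤ P) (hP : E.IsFullyAutomized p P)
    (hn : ∀ α ∈ F.autGroup P, ∀ x ∈ E.autGroup P, α * x * α⁻¹ ∈ E.autGroup P)
    (hn' : ∀ α ∈ F.autGroup P, ∀ x ∈ E'.autGroup P, α * x * α⁻¹ ∈ E'.autGroup P) :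
    E.autGroup P ≤ E'.autGroup P := by
  have hPT : P ≤ T := hP.1
  have hTS : T ≤ S := dom_le (hEF T (subtype_mem E le_rfl))
  have hPS : P ≤ S := hPT.trans hTS
  have hT : IsPGroup p T := hS.to_le hTS
  have : Finite T := finite_of_le hTS
  have : Finite P := finite_of_le hPT
  set L := fixingTranslations F P R with hL
  have hLp : IsPGroup p L := isPGroup_fixingTranslations hS hPS
  have hEaut := autGroup_le_of_subsystem hEF hPT
  have hE'aut := autGroup_le_of_subsystem hE'F hPT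
  -- both systems preserve `R`
  have hpres : ∀ {D : FusionSystem T}, D.IsNormal R → ∀ x ∈ D.autGroup P, ∀ g : P,
      (g : Ω) ∈ R → ((x g : P) : Ω) ∈ R := fun hD x hx g hg =>
    apply_mem_of_stronglyClosed (stronglyClosed_of_isNormal hD) hPT hx hg
  -- the common part
  set B := E.autGroup P ⊓ E'.autGroup P with hB
  have hBn : ∀ α ∈ F.autGroup P, ∀ x ∈ B, α * x * α⁻¹ ∈ B := fun α hα x hx =>
    ⟨hn α hα x hx.1, hn' α hα x hx.2⟩
  have hLE : ∀ {D : FusionSystem T}, D.IsSaturated p → D.IsCentric R →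
      ∀ β ∈ L, β ∈ D.autGroup P → β ∈ B := by
    intro D hDs hDc β hβ hβD
    obtain ⟨k, hk⟩ := hLp ⟨β, hβ⟩
    obtain ⟨z, -, -, hz⟩ := aut_eq_conj_of_fixes hT hDs hPT hRP hDc hβD
      (k := k) (congrArg Subtype.val hk) hβ.2.1
    rw [show β = MulAut.conj z from MulEquiv.ext hz]
    exact ⟨inn_le_autGroup E hPT ⟨z, rfl⟩, inn_le_autGroup E' hPT ⟨z, rfl⟩⟩
  -- lifting from `E` to `E'`
  have hlift : ∀ x ∈ E.autGroup P, ∃ y ∈ E'.autGroup P, y⁻¹ * x ∈ L := by
    intro x hx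
    obtain ⟨hxh, -⟩ := hom_of_mem_autGroup hPT hx
    have hres : (P.subtype.comp x.toMonoidHom).comp (Subgroup.inclusion hRP) ∈ E.Hom R :=
      restrict_mem hxh hRP
    have hresr : ((P.subtype.comp x.toMonoidHom).comp (Subgroup.inclusion hRP)).range = R :=
      range_eq_of_le hres hRn.1 (fun r => hpres hRn x hx (Subgroup.inclusion hRP r) r.2) le_rfl
    have ha : toAut hres hresr ∈ E'.autGroup R := hAut ▸ toAut_mem hres hresr
    obtain ⟨hah, har⟩ := hom_of_mem_autGroup hRn.1 ha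
    have hext : P ≤ extender T R (R.subtype.comp (toAut hres hresr).toMonoidHom) := by
      intro g hg
      refine mem_extender_iff.2 ⟨hPT hg, le_normalizer_of_isNormal hRn (hPT hg),
        (x ⟨g, hg⟩ : P), hPT (x ⟨g, hg⟩).2, fun r hr => ?_⟩
      show ((x ⟨g * r * g⁻¹, hRP hr⟩ : P) : Ω) =
        (x ⟨g, hg⟩ : P) * ((x ⟨r, hRP r.2⟩ : P) : Ω) * ((x ⟨g, hg⟩ : P) : Ω)⁻¹
      rw [show (⟨g * r * g⁻¹, hRP hr⟩ : P) = ⟨g, hg⟩ * ⟨r, hRP r.2⟩ * ⟨g, hg⟩⁻¹ from Subtype.ext rfl,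
        map_mul, map_mul, map_inv]
      rfl
    obtain ⟨ψ, hψ, hψe⟩ :=
      exists_extension (isReceptive_of_centric hT hE's hRc') hah har hext
    have hψR : ∀ (r : Ω) (hr : r ∈ R), ψ ⟨r, hRP hr⟩ = (x ⟨r, hRP hr⟩ : P) := fun r hr =>
      hψe r hr (hRP hr)
    -- `ψ` agrees with `x` modulo `R`
    have hdiff : ∀ g : P, ((x g : P) : Ω)⁻¹ * ψ g ∈ R := by
      intro g
      refine hRc.2 R (isConj_refl E hRn.1) (mem_centralizerIn.2
        ⟨T.mul_mem (T.inv_mem (hPT (x g).2)) (apply_mem hψ g), fun r hr => ?_⟩)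
      -- write `r` as the image of an element of `R`
      obtain ⟨⟨r', hr'⟩, hre⟩ := hresr.ge hr
      have hre' : ((x ⟨r', hRP hr'⟩ : P) : Ω) = r := hre
      have hgr : (g : Ω) * r' * (g : Ω)⁻¹ ∈ R :=
        (Subgroup.mem_normalizer_iff.1 (le_normalizer_of_isNormal hRn (hPT g.2)) r').1 hr'
      have h1 : ψ (g * ⟨r', hRP hr'⟩ * g⁻¹) = ((x (g * ⟨r', hRP hr'⟩ * g⁻¹) : P) : Ω) :=
        hψR _ hgr
      rw [map_mul, map_mul, map_mul, map_mul, map_inv, map_inv, hψR r' hr'] at h1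
      simp only [Subgroup.coe_mul, Subgroup.coe_inv, hre'] at h1
      calc r * (((x g : P) : Ω)⁻¹ * ψ g)
          = ((x g : P) : Ω)⁻¹ * (((x g : P) : Ω) * r * ((x g : P) : Ω)⁻¹) * ψ g := by group
        _ = ((x g : P) : Ω)⁻¹ * ψ g * r := by rw [← h1]; group
    have hψP : ∀ g : P, ψ g ∈ P := fun g => by
      have h := P.mul_mem (x g).2 (hRP (hdiff g))
      rwa [mul_inv_cancel_left] at h
    have hψr : ψ.range = P := range_eq_of_le hψ hPT hψP le_rfl
    refine ⟨toAut hψ hψr, toAut_mem hψ hψr, ?_, fun g hg => ?_, fun g => ?_⟩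
    · exact mul_mem (inv_mem (hE'aut (toAut_mem hψ hψr))) (hEaut hx)
    · have h1 : toAut hψ hψr g = x g := Subtype.ext (hψR g hg)
      rw [MulAut.mul_apply, ← h1, MulAut.inv_apply_self]
    · set y := toAut hψ hψr with hy
      have h1 : g⁻¹ * (y⁻¹ * x) g = y⁻¹ ((y g)⁻¹ * x g) := by
        rw [map_mul, map_inv, MulAut.inv_apply_self]
        rfl
      rw [h1]
      refine hpres hRn' _ (inv_mem (toAut_mem hψ hψr)) _ ?_
      have h2 := R.inv_mem (hdiff g)
      rwa [mul_inv_rev, inv_inv] at h2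
  -- elements preserving `R`
  have hconjL : ∀ {D : FusionSystem T}, D.IsSubsystemOf F → D.IsNormal R → ∀ y ∈ D.autGroup P,
      ∀ β ∈ L, y * β * y⁻¹ ∈ L := fun hD hDn y hy β hβ =>
    mem_fixingTranslations_conj (autGroup_le_of_subsystem hD hPT hy) (hpres hDn y hy)
      (hpres hDn _ (inv_mem hy)) hβ
  have : Finite (MulAut P) := finite_mulAut (Ω := Ω) hPS
  intro x hx
  have key : (⟨x, hx⟩ : E.autGroup P) ∈ (E'.autGroup P).subgroupOf (E.autGroup P) := by
    refine mem_of_pParts (p := p) _ (fun x' hx' => ?_) (fun x' hx' => ?_) _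
    · -- `p`-elements
      obtain ⟨k, hk⟩ := hx'
      obtain ⟨-, Syl, hSyl⟩ := hP
      have hzp : IsPGroup p (Subgroup.zpowers x') := by
        rintro ⟨δ, hδ⟩
        obtain ⟨i, rfl⟩ := Subgroup.mem_zpowers_iff.1 hδ
        refine ⟨k, Subtype.ext ?_⟩
        show (x' ^ i) ^ p ^ k = 1
        rw [← zpow_natCast, ← zpow_mul, mul_comm, zpow_mul, zpow_natCast, hk, one_zpow]
      obtain ⟨Syl', hSyl'⟩ := hzp.exists_le_sylow
      obtain ⟨b, hb⟩ := MulAction.exists_smul_eq (E.autGroup P) Syl' Syl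
      have h1 : b * x' * b⁻¹ ∈ (Syl : Subgroup (E.autGroup P)) := by
        rw [← hb, Sylow.coe_subgroup_smul]
        exact Subgroup.smul_mem_pointwise_smul x' (MulAut.conj b) _
          (hSyl' (Subgroup.mem_zpowers x'))
      rw [hSyl, Subgroup.mem_subgroupOf] at h1
      set a : MulAut P := ((b⁻¹ : E.autGroup P) : MulAut P) with ha
      set c : MulAut P := ((b * x' * b⁻¹ : E.autGroup P) : MulAut P) with hc
      have hxac : (x' : MulAut P) = a * c * a⁻¹ := by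
        simp [ha, hc, mul_assoc]
      obtain ⟨y, hy, hyL⟩ := hlift a (b⁻¹).2
      set l := y⁻¹ * a with hl
      have hcE' : c ∈ E'.autGroup P := autInducedBy_le_autGroup E' hPT h1
      have hcE : c ∈ E.autGroup P := (b * x' * b⁻¹).2
      have hlc : l * c * l⁻¹ ∈ E.autGroup P := hn l hyL.1 c hcE
      have hu : l * c * l⁻¹ * c⁻¹ ∈ B := by
        refine hLE hEs hRc _ ?_ (mul_mem hlc (inv_mem hcE))
        have := hconjL hEF hRn c hcE l⁻¹ (inv_mem hyL)
        rw [show l * c * l⁻¹ * c⁻¹ = l * (c * l⁻¹ * c⁻¹) by group]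
        exact mul_mem hyL this
      have h3 : l * c * l⁻¹ ∈ E'.autGroup P := by
        have := mul_mem hu.2 hcE'
        simpa [mul_assoc] using this
      rw [Subgroup.mem_subgroupOf, hxac, show a = y * l by rw [hl, mul_inv_cancel_left]]
      rw [show y * l * c * (y * l)⁻¹ = y * (l * c * l⁻¹) * y⁻¹ by group]
      exact mul_mem (mul_mem hy h3) (inv_mem hy)
    · -- `p'`-elements
      obtain ⟨y, hy, hyL⟩ := hlift x' x'.2
      set l := y⁻¹ * (x' : MulAut P) with hl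
      have hxyl : (x' : MulAut P) = y * l := by rw [hl, mul_inv_cancel_left]
      have hyF := hE'aut hy
      -- `y` and `l` commute modulo `L ⊓ B`
      have hcomm : ∀ β ∈ L, (y⁻¹ * β * y) * β⁻¹ ∈ L ⊓ B := by
        intro β hβ
        have h1 : y⁻¹ * β * y ∈ L := by
          have := hconjL hE'F hRn' y⁻¹ (inv_mem hy) β hβ
          rwa [inv_inv] at this
        refine ⟨L.mul_mem h1 (L.inv_mem hβ), hLE hE's hRc' _ (L.mul_mem h1 (L.inv_mem hβ)) ?_⟩
        rw [show y⁻¹ * β * y * β⁻¹ = y⁻¹ * (β * y * β⁻¹) by group]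
        exact mul_mem (inv_mem hy) (hn' β hβ.1 y hy)
      have hpow : ∀ j : ℕ, (y ^ j * l ^ j)⁻¹ * (y * l) ^ j ∈ L ⊓ B := by
        intro j
        induction j with
        | zero => simp
        | succ j ih =>
          set b := (y ^ j * l ^ j)⁻¹ * (y * l) ^ j with hb
          have e : (y * l) ^ j = y ^ j * l ^ j * b := (mul_inv_cancel_left _ _).symm
          have hb' : y⁻¹ * b * y ∈ L ⊓ B := by
            refine ⟨?_, ?_⟩
            · have := hconjL hE'F hRn' y⁻¹ (inv_mem hy) b ih.1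
              rwa [inv_inv] at this
            · have := hBn y⁻¹ (inv_mem hyF) b ih.2
              rwa [inv_inv] at this
          have e2 : (y ^ (j + 1) * l ^ (j + 1))⁻¹ * (y * l) ^ (j + 1) =
              l⁻¹ * ((l ^ j)⁻¹ * ((y⁻¹ * l ^ j * y) * (l ^ j)⁻¹) * l ^ j * (y⁻¹ * b * y)) * l := by
            rw [pow_succ (y * l), e, pow_succ y j, pow_succ l j]
            group
          rw [e2]
          have hconjB : ∀ β ∈ L, ∀ w ∈ L ⊓ B, β⁻¹ * w * β ∈ L ⊓ B := fun β hβ w hw =>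
            ⟨L.mul_mem (L.mul_mem (L.inv_mem hβ) hw.1) hβ, by
              have := hBn β⁻¹ (inv_mem hβ.1) w hw.2
              rwa [inv_inv] at this⟩
          exact hconjB l hyL _
            (mul_mem (hconjB _ (pow_mem hyL j) _ (hcomm _ (pow_mem hyL j))) hb')
      set n := orderOf x' with hn0
      have hxn : (x' : MulAut P) ^ n = 1 := by
        rw [hn0, ← Subgroup.orderOf_coe]
        exact pow_orderOf_eq_one _
      have h1 := hpow n
      rw [← hxyl, hxn, mul_one] at h1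
      have hyl : y ^ n * l ^ n ∈ L ⊓ B := by simpa using inv_mem h1
      have hyn : y ^ n ∈ L ⊓ B := by
        have hL' : y ^ n ∈ L := by simpa using L.mul_mem hyl.1 (L.inv_mem (L.pow_mem hyL n))
        exact ⟨hL', hLE hE's hRc' _ hL' (pow_mem hy n)⟩
      have hln : l ^ n ∈ B := by simpa using B.mul_mem (B.inv_mem hyn.2) hyl.2
      have hlB : l ∈ B := by
        obtain ⟨e, he⟩ := hLp ⟨l, hyL⟩
        have he' : l ^ p ^ e = 1 := congrArg Subtype.val he
        have hco : n.Coprime (p ^ e) := Nat.Coprime.pow_right _ hx'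
        have hb := Nat.gcd_eq_gcd_ab n (p ^ e)
        rw [hco] at hb
        have hl1 : l = (l ^ n) ^ Nat.gcdA n (p ^ e) * (l ^ p ^ e) ^ Nat.gcdB n (p ^ e) := by
          rw [← zpow_natCast l n, ← zpow_natCast l (p ^ e), ← zpow_mul, ← zpow_mul, ← zpow_add,
            ← hb]
          simp
        rw [hl1, he', one_zpow, mul_one]
        exact zpow_mem hln _
      rw [Subgroup.mem_subgroupOf, hxyl]
      exact mul_mem hy hlB.2
  exact key

/-- Two saturated subsystems as in `autGroup_le_of_same`: the first is contained in the second. -/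
theorem subsystem_le_of_same [Finite S] [Fact p.Prime] (hS : IsPGroup p S) {E E' : FusionSystem T}
    (hEF : E.IsSubsystemOf F) (hE'F : E'.IsSubsystemOf F) (hEs : E.IsSaturated p)
    (hE's : E'.IsSaturated p) {R : Subgroup Ω} (hRn : E.IsNormal R) (hRn' : E'.IsNormal R)
    (hRc : E.IsCentric R) (hRc' : E'.IsCentric R) (hAut : E.autGroup R = E'.autGroup R)
    (hn : ∀ P ≤ T, ∀ α ∈ F.autGroup P, ∀ x ∈ E.autGroup P, α * x * α⁻¹ ∈ E.autGroup P)
    (hn' : ∀ P ≤ T, ∀ α ∈ F.autGroup P, ∀ x ∈ E'.autGroup P, α * x * α⁻¹ ∈ E'.autGroup P) :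
    E ≤ E' := by
  have hTS : T ≤ S := dom_le (hEF T (subtype_mem E le_rfl))
  have : Finite T := finite_of_le hTS
  have hT : IsPGroup p T := hS.to_le hTS
  exact alperin hT hEs E' fun P hPn hPc hPr =>
    autGroup_le_of_same hS hEF hE'F hEs hE's hRn hRn' hRc hRc' hAut
      (le_of_isNormal hT hRn hPc hPr) (isFullyAutomized_of_fullyNormalized hT hEs hPn)
      (hn P hPn.1) (hn' P hPn.1)

end Cfsg.Agent.Fusion
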