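import Cfsg.Agent.Lib.Fusion.Alperin
import Cfsg.Agent.Lib.Fusion.Nilpotent
import Cfsg.Agent.Lib.Fusion.NormalSubsystem
import Cfsg.Agent.Lib.Fusion.Constructions
import Cfsg.Agent.Lib.PComplement.SFour
import Cfsg.Agent.Lib.Replacement.Characteristic

/-!
Systems of inner type (all automorphism groups `p`-groups, i.e. `F = F_S(S)`), minimal saturated
subsystems that are not of inner type, and the witnesses for that property.
-/

set_option autoImplicit false

universe u v

namespace Cfsg.Agent.Fusion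

open Cfsg Cfsg.FusionSystem

variable {Ω : Type u} [Group Ω] {S : Subgroup Ω} {F : FusionSystem S} {p : ℕ}

/-- All automorphism groups of the system are `p`-groups. -/
def IsInnerType (F : FusionSystem S) (p : ℕ) : Prop :=
  ∀ P : Subgroup Ω, P ≤ S → IsPGroup p (F.autGroup P)

theorem isInnerType_iff [Finite S] [Fact p.Prime] (hS : IsPGroup p S) (hF : F.IsSaturated p) :
    IsInnerType F p ↔ ∀ P : Subgroup Ω, F.Hom P = (innerFusionSystem S).Hom P := by
  refine ⟨fun h => hom_eq_inner_of_isPGroup hS hF h, fun h P hP => ?_⟩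
  refine (isPGroup_autInducedBy hS P).to_le fun α hα => ?_
  have hm := (mem_autGroup_iff hP).1 hα
  rw [h P] at hm
  obtain ⟨-, g, hg, hx⟩ := hm
  exact mem_autInducedBy_iff.2 ⟨g, hg, hx⟩

/-- A system not of inner type has a nontrivial automorphism of order prime to `p`. -/
theorem exists_of_not_isInnerType [Finite S] [Fact p.Prime] (h : ¬ IsInnerType F p) :
    ∃ P : Subgroup Ω, P ≤ S ∧ ∃ a ∈ F.autGroup P, (orderOf a).Coprime p ∧ a ≠ 1 := by
  simp only [IsInnerType, not_forall] at h
  obtain ⟨P, hP, hP'⟩ := h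
  by_contra hne
  push Not at hne
  have := finite_autGroup (F := F) hP
  refine hP' (isPGroup_of_coprime_orderOf_eq_one fun a ha => Subtype.ext ?_)
  exact hne P hP a a.2 (by rwa [Subgroup.orderOf_coe])

theorem not_isInnerType_of_aut [Fact p.Prime] {P : Subgroup Ω} (hP : P ≤ S)
    {a : MulAut P} (ha : a ∈ F.autGroup P) (hco : (orderOf a).Coprime p) (hne : a ≠ 1) :
    ¬ IsInnerType F p := by
  intro h
  obtain ⟨j, hj⟩ := h P hP ⟨a, ha⟩
  have h1 : a ^ p ^ j = 1 := congrArg Subtype.val hj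
  exact hne (orderOf_eq_one_iff.1 (Nat.eq_one_of_dvd_coprimes (Nat.Coprime.pow_right j hco)
    dvd_rfl (orderOf_dvd_of_pow_eq_one h1)))

/-- A power of `a` by a power of `p` of order prime to `p`; it is nontrivial if `a` is not a
`p`-element. -/
theorem exists_pow_coprime {X : Type*} [Group X] [Finite X] [Fact p.Prime] (a : X) :
    ∃ k : ℕ, (orderOf (a ^ p ^ k)).Coprime p := by
  set n := orderOf a with hn
  refine ⟨n.factorization p, ?_⟩
  rw [orderOf_pow, ← hn, Nat.gcd_eq_right (Nat.ordProj_dvd n p)]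
  exact (Nat.coprime_ordCompl (Fact.out : p.Prime) (orderOf_pos a).ne').symm

/-- `p` is odd, or no automorphism group of the system involves the symmetric group of degree 3. -/
def IsTame (F : FusionSystem S) (p : ℕ) : Prop :=
  p ≠ 2 ∨ ∀ P : Subgroup Ω, P ≤ S → ¬ Involves (Equiv.Perm (Fin 3)) (F.autGroup P)

theorem involves_of_injective {H : Type*} [Group H] {X Y : Type*} [Group X] [Group Y]
    (f : X →* Y) (hf : Function.Injective f) (h : Involves H X) : Involves H Y := by
  obtain ⟨K, φ, hφ⟩ := PComplement.involves_iff.1 h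
  exact PComplement.involves_iff.2 ⟨K.map f,
    φ.comp (K.equivMapOfInjective f hf).symm.toMonoidHom, hφ.comp (MulEquiv.surjective _)⟩

theorem involves_of_surjective {H : Type*} [Group H] {X Y : Type*} [Group X] [Group Y]
    (f : X →* Y) (hf : Function.Surjective f) (h : Involves H Y) : Involves H X := by
  obtain ⟨K, φ, hφ⟩ := PComplement.involves_iff.1 h
  exact PComplement.involves_iff.2 ⟨K.comap f, φ.comp (f.subgroupComap K),
    hφ.comp (f.subgroupComap_surjective_of_surjective K hf)⟩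

theorem IsTame.mono {T : Subgroup Ω} (hTS : T ≤ S) {E : FusionSystem T} (hE : E.IsSubsystemOf F)
    (h : IsTame F p) : IsTame E p :=
  h.imp_right fun h P hP hinv => h P (hP.trans hTS)
    (involves_of_injective (Subgroup.inclusion (autGroup_le_of_subsystem hE hP))
      (Subgroup.inclusion_injective _) hinv)

/-- The normalizer system of a subgroup normal in `S`, as a system on `S`. -/
theorem exists_normalizerSystem_self [Finite S] (F : FusionSystem S) {Q : Subgroup Ω}
    (hQ : Q ≤ S) (hn : S ≤ Subgroup.normalizer (Q : Set Ω)) :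
    ∃ E : FusionSystem S, (∀ P, E.Hom P = F.normalizerHom Q P) ∧
      ∀ E' : FusionSystem (normalizerIn S Q), F.IsNormalizerSystem Q E' →
        E'.IsSaturated p → E.IsSaturated p := by
  have key : ∀ {T : Subgroup Ω}, T = S → ∀ N : FusionSystem T,
      (∀ P, N.Hom P = F.normalizerHom Q P) →
      ∃ E : FusionSystem S, (∀ P, E.Hom P = F.normalizerHom Q P) := by
    rintro T rfl N hN
    exact ⟨N, hN⟩
  have heq : normalizerIn S Q = S := le_antisymm inf_le_left (le_inf le_rfl hn)
  obtain ⟨E, hE⟩ := key heq _ (normalizerSystem_spec F Q hQ)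
  refine ⟨E, hE, fun E' hE' hs => ?_⟩
  have key2 : ∀ {T : Subgroup Ω}, T = S → ∀ N : FusionSystem T,
      (∀ P, N.Hom P = F.normalizerHom Q P) → N.IsSaturated p → E.IsSaturated p := by
    rintro T rfl N hN hNs
    have : N = E := by
      have h1 : N.Hom = E.Hom := funext fun P => (hN P).trans (hE P).symm
      cases N; cases E; cases h1; rfl
    exact this ▸ hNs
  exact key2 heq E' hE' hs

/-- Among the saturated subsystems on `S` not of inner type there is a minimal one. -/
theorem exists_minimal_not_isInnerType [Finite S] [Fact p.Prime] (hS : IsPGroup p S)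
    (hF : F.IsSaturated p) (h : ¬ IsInnerType F p) :
    ∃ E : FusionSystem S, E.IsSaturated p ∧ E ≤ F ∧ ¬ IsInnerType E p ∧
      ∀ E' : FusionSystem S, E'.IsSaturated p → E' ≤ E → ¬ IsInnerType E' p →
        ∀ P, E'.Hom P = E.Hom P := by
  classical
  let : Fintype (Subgroup S) := Fintype.ofFinite _
  let μ : FusionSystem S → ℕ := fun E =>
    ∑ K : Subgroup S, Nat.card (E.autGroup (K.map S.subtype))
  obtain ⟨E, ⟨hEs, hEF, hEn⟩, hmin⟩ := exists_minimalFor_of_wellFoundedLT
    (fun E : FusionSystem S => E.IsSaturated p ∧ E ≤ F ∧ ¬ IsInnerType E p) μ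
    ⟨F, hF, fun _ => Set.Subset.refl _, h⟩
  refine ⟨E, hEs, hEF, hEn, fun E' hE's hle hne P => ?_⟩
  have hle' : μ E ≤ μ E' := by
    by_contra hlt
    exact hlt (hmin ⟨hE's, fun P => (hle P).trans (hEF P), hne⟩ (le_of_lt (not_le.1 hlt)))
  have hK : ∀ K : Subgroup S, E'.autGroup (K.map S.subtype) ≤ E.autGroup (K.map S.subtype) :=
    fun K => autGroup_le_of_subsystem hle (Subgroup.map_subtype_le K)
  have hfin : ∀ K : Subgroup S, Finite (E.autGroup (K.map S.subtype)) :=
    fun K => finite_autGroup (Subgroup.map_subtype_le K)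
  have heq : ∀ K : Subgroup S, E'.autGroup (K.map S.subtype) = E.autGroup (K.map S.subtype) := by
    intro K
    have := hfin K
    have h1 := (Finset.sum_eq_sum_iff_of_le fun L _ => by
      have := hfin L
      exact Subgroup.card_le_of_le (hK L)).1
      (le_antisymm (Finset.sum_le_sum fun L _ => by
        have := hfin L
        exact Subgroup.card_le_of_le (hK L)) hle') K (Finset.mem_univ K)
    exact Subgroup.eq_of_le_of_card_ge (hK K) h1.ge
  refine Set.Subset.antisymm (hle P) (alperin hS hEs E' (fun R hn _ _ α hα => ?_) P)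
  have hR := heq (R.subgroupOf S)
  rw [Subgroup.map_subgroupOf_eq_of_le hn.1] at hR
  exact hR.ge hα

/-- `F` moves inside the normalizer of `W`: some nontrivial automorphism of order prime to `p` of a
subgroup containing `W` maps `W` into itself. -/
def Moves (F : FusionSystem S) (p : ℕ) (W : Subgroup Ω) : Prop :=
  ∃ P : Subgroup Ω, P ≤ S ∧ W ≤ P ∧ ∃ a ∈ F.autGroup P,
    (orderOf a).Coprime p ∧ a ≠ 1 ∧ ∀ x : P, (x : Ω) ∈ W → ((a x : P) : Ω) ∈ W

/-- `F` moves inside the centralizer of `W`. -/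
def MovesFixing (F : FusionSystem S) (p : ℕ) (W : Subgroup Ω) : Prop :=
  ∃ P : Subgroup Ω, P ≤ S ∧ W ≤ P ∧ ∃ a ∈ F.autGroup P,
    (orderOf a).Coprime p ∧ a ≠ 1 ∧ ∀ x : P, (x : Ω) ∈ W → ((a x : P) : Ω) = x

theorem MovesFixing.moves {W : Subgroup Ω} (h : MovesFixing F p W) : Moves F p W := by
  obtain ⟨P, hP, hW, a, ha, h1, h2, h3⟩ := h
  exact ⟨P, hP, hW, a, ha, h1, h2, fun x hx => (h3 x hx).symm ▸ hx⟩

theorem Moves.mono {E : FusionSystem S} (hE : E ≤ F) {W : Subgroup Ω} (h : Moves E p W) :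
    Moves F p W := by
  obtain ⟨P, hP, hW, a, ha, h'⟩ := h
  exact ⟨P, hP, hW, a, autGroup_le_of_subsystem hE hP ha, h'⟩

theorem MovesFixing.mono {E : FusionSystem S} (hE : E ≤ F) {W : Subgroup Ω}
    (h : MovesFixing E p W) : MovesFixing F p W := by
  obtain ⟨P, hP, hW, a, ha, h'⟩ := h
  exact ⟨P, hP, hW, a, autGroup_le_of_subsystem hE hP ha, h'⟩

/-- A normalizer system in which something moves is not of inner type. -/
theorem Moves.not_isInnerType [Finite S] [Fact p.Prime] {T W : Subgroup Ω} (h : Moves F p W)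
    (hn : S ≤ Subgroup.normalizer (W : Set Ω)) {N : FusionSystem T} (hT : T = normalizerIn S W)
    (hN : ∀ P, N.Hom P = F.normalizerHom W P) : ¬ IsInnerType N p := by
  obtain ⟨P, hP, hW, a, ha, hco, hne, hinv⟩ := h
  have hPN : P ≤ normalizerIn S W := le_inf hP (hP.trans hn)
  have hm := (mem_autGroup_iff hP).1 ha
  refine not_isInnerType_of_aut (P := P) (hT.symm ▸ hPN) ?_ hco hne
  refine (mem_autGroup_iff (hT.symm ▸ hPN)).2 ?_
  rw [hN]
  have hh := restrict_mem hm (sup_le le_rfl hW : P ⊔ W ≤ P)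
  exact ⟨hm, hPN, fun x => hPN (a x).2, _, hh, fun x => rfl,
    (map_subgroupOf_eq_iff hh le_sup_right).2 fun x hx => hinv ⟨x, hW hx⟩ hx⟩

/-- A centralizer system in which something moves is not of inner type. -/
theorem MovesFixing.not_isInnerType [Finite S] [Fact p.Prime] {T W : Subgroup Ω}
    (h : MovesFixing F p W) (hn : S ≤ Subgroup.centralizer (W : Set Ω)) {C : FusionSystem T}
    (hT : T = centralizerIn S W)
    (hC : ∀ P, C.Hom P = F.centralizerHom W P) : ¬ IsInnerType C p := by
  obtain ⟨P, hP, hW, a, ha, hco, hne, hinv⟩ := h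
  have hPN : P ≤ centralizerIn S W := le_inf hP (hP.trans hn)
  have hm := (mem_autGroup_iff hP).1 ha
  refine not_isInnerType_of_aut (P := P) (hT.symm ▸ hPN) ?_ hco hne
  refine (mem_autGroup_iff (hT.symm ▸ hPN)).2 ?_
  rw [hC]
  have hh := restrict_mem hm (sup_le le_rfl hW : P ⊔ W ≤ P)
  exact ⟨hm, hPN, fun x => hPN (a x).2, _, hh, fun x => rfl, fun x => hinv ⟨x, hW x.2⟩ x.2⟩

theorem le_normalizer_of_equivariant (W : Subgroup Ω → Subgroup Ω)
    (hW : ∀ (e : Ω ≃* Ω) (P : Subgroup Ω), W (P.map e.toMonoidHom) = (W P).map e.toMonoidHom)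
    (T : Subgroup Ω) : T ≤ Subgroup.normalizer (W T : Set Ω) := by
  intro g hg
  refine Subgroup.mem_normalizer_iff.2 fun y => ?_
  have hT : T.map (MulAut.conj g).toMonoidHom = T := by
    ext z
    refine ⟨?_, fun hz => ⟨g⁻¹ * z * g, T.mul_mem (T.mul_mem (T.inv_mem hg) hz) hg, ?_⟩⟩
    · rintro ⟨w, hw, rfl⟩
      exact T.mul_mem (T.mul_mem hg hw) (T.inv_mem hg)
    · simp [mul_assoc]
  have h := hW (MulAut.conj g) T
  rw [hT] at h
  conv_rhs => rw [h]
  refine ⟨fun hy => ⟨y, hy, rfl⟩, fun ⟨z, hz, hzy⟩ => ?_⟩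
  have h' : g * z * g⁻¹ = g * y * g⁻¹ := hzy
  exact (mul_left_cancel (mul_right_cancel h') : z = y) ▸ hz

theorem thompsonSubgroupAOf_le' (T : Subgroup Ω) : thompsonSubgroupAOf T ≤ T :=
  Subgroup.map_subtype_le _

theorem centerThompsonAOf_le (T : Subgroup Ω) : centerThompsonAOf T ≤ T :=
  inf_le_left.trans (thompsonSubgroupAOf_le' T)

theorem le_normalizer_thompsonSubgroupAOf (T : Subgroup Ω) :
    T ≤ Subgroup.normalizer (thompsonSubgroupAOf T : Set Ω) :=
  le_normalizer_of_equivariant _ (fun e P => (PGroup.thompsonSubgroupAOf_map_equiv e P).symm) T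

theorem le_normalizer_centerThompsonAOf (T : Subgroup Ω) :
    T ≤ Subgroup.normalizer (centerThompsonAOf T : Set Ω) :=
  le_normalizer_of_equivariant _ (fun e P => Replacement.centerThompsonAOf_map_equiv e P) T

theorem le_centralizer_center (T : Subgroup Ω) :
    T ≤ Subgroup.centralizer ((T ⊓ Subgroup.centralizer (T : Set Ω) : Subgroup Ω) : Set Ω) :=
  fun g hg => Subgroup.mem_centralizer_iff.2 fun z hz =>
    (Subgroup.mem_centralizer_iff.1 hz.2 g hg).symm

end Cfsg.Agent.Fusion
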