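import Cfsg.Agent.Lib.Fusion.StrongInduction
import Cfsg.Agent.Lib.Fusion.NormalCriteria
import Cfsg.Agent.Lib.Fusion.SmallEssential
import Cfsg.Agent.Lib.Fusion.Stabilizer
import Cfsg.Agent.Lib.Fusion.InnerType
import Cfsg.Agent.Lib.PGroup.Metacyclic
import Cfsg.Agent.Lib.PGroup.MetacyclicTwoAut

/-!
A strongly closed metacyclic subgroup of a saturated 2-fusion system that is not dihedral,
semidihedral or generalized quaternion is normal.
-/

set_option autoImplicit false

namespace Cfsg.Agent.Fusion.MetacyclicClosed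

open Cfsg Cfsg.FusionSystem Cfsg.Agent.Fusion Cfsg.Agent.Fusion.SmallEss
open Cfsg.Agent.PGroup Cfsg.Agent.PGroup.MetacyclicTwo

section Group

variable {G : Type*} [Group G]

/-- The restriction of an automorphism to a finite subgroup it maps into itself. -/
noncomputable def res (H : Subgroup G) [Finite H] (α : MulAut G) (h : ∀ x ∈ H, α x ∈ H) :
    MulAut H :=
  MulEquiv.ofBijective ((α.toMonoidHom.comp H.subtype).codRestrict H fun x => h x x.2)
    (Finite.injective_iff_bijective.1 fun a b hab =>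
      Subtype.ext (α.injective (congrArg Subtype.val hab)))

@[simp] theorem coe_res {H : Subgroup G} [Finite H] {α : MulAut G} (h : ∀ x ∈ H, α x ∈ H) (x : H) :
    ((res H α h x : H) : G) = α x := rfl

theorem res_pow {H : Subgroup G} [Finite H] {α : MulAut G} (h : ∀ x ∈ H, α x ∈ H) (n : ℕ) (x : H) :
    (((res H α h) ^ n) x : G) = (α ^ n) x := by
  induction n with
  | zero => rfl
  | succ n ih => rw [pow_succ', MulAut.mul_apply, coe_res, ih, pow_succ', MulAut.mul_apply]

theorem orderOf_res_dvd {H : Subgroup G} [Finite H] {α : MulAut G} (h : ∀ x ∈ H, α x ∈ H) :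
    orderOf (res H α h) ∣ orderOf α := by
  refine orderOf_dvd_of_pow_eq_one (MulEquiv.ext fun x => Subtype.ext ?_)
  rw [res_pow, pow_orderOf_eq_one]
  rfl

/-- The image of the Frattini subgroup of `H` is invariant under automorphisms preserving `H`. -/
theorem frattini_invariant (H : Subgroup G) [Finite H] (α : MulAut G) (h : ∀ x ∈ H, α x ∈ H)
    {x : G} (hx : x ∈ (frattini ↥H).map H.subtype) : α x ∈ (frattini ↥H).map H.subtype := by
  obtain ⟨y, hy, rfl⟩ := hx
  exact ⟨res H α h y,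
    frattini_le_comap_frattini_of_surjective (φ := (res H α h).toMonoidHom)
      (res H α h).surjective hy, rfl⟩

theorem isMetacyclic_of_injective {H : Type*} [Group H] (f : H →* G) (hf : Function.Injective f)
    (hm : Cfsg.IsMetacyclic G) : Cfsg.IsMetacyclic.{_} H := by
  obtain ⟨N, hN, hNc, hQc⟩ := hm
  refine ⟨N.comap f, inferInstance, isCyclic_of_injective (f.subgroupComap N) ?_,
    isCyclic_of_injective (QuotientGroup.map (N.comap f) N f le_rfl) ?_⟩
  · intro a b hab
    exact Subtype.ext (hf (congrArg Subtype.val hab))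
  · rw [← MonoidHom.ker_eq_bot_iff, Subgroup.eq_bot_iff_forall]
    intro q hq
    induction q using QuotientGroup.induction_on with
    | H a => exact (QuotientGroup.eq_one_iff a).2 ((QuotientGroup.eq_one_iff (f a)).1 hq)

/-- Two generators of an abelian group of order `N²` and exponent `N` split it. -/
theorem homocyclic_basis [Finite G] (hc : ∀ g h : G, g * h = h * g) {N : ℕ}
    (hcard : Nat.card G = N * N) (hexp : ∀ g : G, g ^ N = 1) {u v : G}
    (hgen : Subgroup.closure ({u, v} : Set G) = ⊤) :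
    orderOf u = N ∧ Subgroup.zpowers u ⊓ Subgroup.zpowers v = ⊥ ∧
      Nonempty (G ≃* Multiplicative (ZMod N) × Multiplicative (ZMod N)) := by
  have hN : NeZero N := ⟨fun h => Nat.card_pos.ne' (hcard.trans (by rw [h, mul_zero]))⟩
  have hval : ∀ (g : G) (i j : ZMod N), g ^ (i + j).val = g ^ i.val * g ^ j.val := by
    intro g i j
    rw [ZMod.val_add, ← pow_eq_pow_mod _ (hexp g), pow_add]
  let φ : Multiplicative (ZMod N) × Multiplicative (ZMod N) →* G :=
    MonoidHom.mk' (fun q => u ^ q.1.toAdd.val * v ^ q.2.toAdd.val) fun q q' => by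
      show u ^ (q.1.toAdd + q'.1.toAdd).val * v ^ (q.2.toAdd + q'.2.toAdd).val = _
      rw [hval, hval]
      simp only [mul_assoc]
      congr 1
      rw [← mul_assoc, ← mul_assoc, hc (u ^ q'.1.toAdd.val)]
  have hu : φ (Multiplicative.ofAdd 1, 1) = u := by
    show u ^ (1 : ZMod N).val * v ^ (0 : ZMod N).val = u
    rw [ZMod.val_zero, pow_zero, mul_one, ZMod.val_one_eq_one_mod, ← pow_eq_pow_mod 1 (hexp u),
      pow_one]
  have hv : φ (1, Multiplicative.ofAdd 1) = v := by
    show u ^ (0 : ZMod N).val * v ^ (1 : ZMod N).val = v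
    rw [ZMod.val_zero, pow_zero, one_mul, ZMod.val_one_eq_one_mod, ← pow_eq_pow_mod 1 (hexp v),
      pow_one]
  have hsurj : Function.Surjective φ := by
    rw [← MonoidHom.range_eq_top, eq_top_iff, ← hgen, Subgroup.closure_le]
    rintro e (rfl | rfl)
    exacts [⟨_, hu⟩, ⟨_, hv⟩]
  have hbij : Function.Bijective φ := (Nat.bijective_iff_surjective_and_card φ).2
    ⟨hsurj, by rw [Nat.card_prod, Nat.card_congr Multiplicative.toAdd, Nat.card_zmod, hcard]⟩
  refine ⟨?_, ?_, ⟨(MulEquiv.ofBijective φ hbij).symm⟩⟩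
  · rw [← hu, orderOf_injective φ hbij.1, Prod.orderOf_mk, orderOf_one, Nat.lcm_one_right,
      orderOf_ofAdd_eq_addOrderOf, ZMod.addOrderOf_one]
  · rw [eq_bot_iff, ← hu, ← hv, ← MonoidHom.map_zpowers, ← MonoidHom.map_zpowers,
      ← Subgroup.map_inf _ _ _ hbij.1]
    rintro _ ⟨q, ⟨hq1, hq2⟩, rfl⟩
    obtain ⟨i, hi⟩ := Subgroup.mem_zpowers_iff.1 hq1
    obtain ⟨j, hj⟩ := Subgroup.mem_zpowers_iff.1 hq2
    have h1 : q.2 = 1 := by rw [← hi]; simp
    have h2 : q.1 = 1 := by rw [← hj]; simp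
    have h3 : q = 1 := Prod.ext h2 h1
    rw [Subgroup.mem_bot, h3, map_one]

end Group

/-- Classes modulo the Frattini subgroup of a two-generated 2-group. -/
theorem closure_pair_eq_top {G : Type*} [Group G] [Finite G] (hG : IsPGroup 2 G)
    (hm : Cfsg.IsMetacyclic G) {u v : G} (hu : u ∉ frattini G) (hv : v ∉ frattini G)
    (huv : u⁻¹ * v ∉ frattini G) : Subgroup.closure ({u, v} : Set G) = ⊤ := by
  classical
  have : Fact (Nat.Prime 2) := ⟨Nat.prime_two⟩
  obtain ⟨a, b, hab⟩ := exists_metaGen hm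
  have hle : Nat.card G ≤ Nat.card ↥(frattini G) * 2 ^ 2 := by
    have h1 := card_closure_sup_frattini_le hG ({a, b} : Finset G)
    rw [Finset.coe_insert, Finset.coe_singleton, hab.closure_eq, top_sup_eq, Subgroup.card_top] at h1
    refine h1.trans (Nat.mul_le_mul_left _ (Nat.pow_le_pow_right two_pos ?_))
    exact Finset.card_le_two
  refine frattini_nongenerating (Subgroup.eq_top_of_card_eq _ (le_antisymm ?_ ?_))
  · exact Subgroup.card_le_card_group _
  · refine hle.trans ?_
    set H := frattini G ⊔ Subgroup.zpowers u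
    have h1 := card_sup_zpowers_frattini hG (le_refl (frattini G)) hu
    have hvH : v ∉ H := by
      intro h
      have h' : v ∈ ((frattini G ⊔ Subgroup.zpowers u : Subgroup G) : Set G) := h
      rw [Subgroup.normal_mul] at h'
      obtain ⟨φ, hφ, w, hw, he⟩ := h'
      obtain ⟨i, rfl⟩ := Subgroup.mem_zpowers_iff.1 hw
      have hu2 : u ^ (2 : ℤ) ∈ frattini G := by
        rw [zpow_two, ← sq]; exact pow_mem_frattini hG u
      simp only at he
      rcases Int.even_or_odd i with ⟨t, rfl⟩ | ⟨t, rfl⟩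
      · refine hv (he ▸ Subgroup.mul_mem _ hφ ?_)
        rw [← two_mul, zpow_mul]
        exact Subgroup.zpow_mem _ hu2 t
      · refine huv ?_
        rw [← he, zpow_add, zpow_one, zpow_mul,
          show u⁻¹ * (φ * ((u ^ (2 : ℤ)) ^ t * u)) = u⁻¹ * (φ * (u ^ (2 : ℤ)) ^ t) * u⁻¹⁻¹ by group]
        exact (inferInstance : (frattini G).Normal).conj_mem _
          (Subgroup.mul_mem _ hφ (Subgroup.zpow_mem _ hu2 t)) _
    have h2 := card_sup_zpowers_frattini hG (le_sup_left : frattini G ≤ H) hvH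
    rw [h1] at h2
    calc Nat.card ↥(frattini G) * 2 ^ 2 = Nat.card ↥(H ⊔ Subgroup.zpowers v) := by rw [h2]; ring
      _ ≤ _ := Subgroup.card_le_of_le (sup_le (sup_le le_sup_right
          ((Subgroup.zpowers_le.2 (Subgroup.subset_closure (by simp))).trans le_sup_left))
          ((Subgroup.zpowers_le.2 (Subgroup.subset_closure (by simp))).trans le_sup_left))

variable {Ω : Type*} [Group Ω] {S : Subgroup Ω} {F : FusionSystem S} [Finite S]

theorem exists_sq_mem {R P : Subgroup Ω} (n : ℕ) :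
    ∀ y : Ω, y ∈ P → y ∈ Subgroup.normalizer (R : Set Ω) → y ∉ R → y ^ 2 ^ n ∈ R →
      ∃ a, a ∈ P ∧ a ∈ Subgroup.normalizer (R : Set Ω) ∧ a ∉ R ∧ a ^ 2 ∈ R := by
  induction n with
  | zero => intro y _ _ hy h; exact absurd (by simpa using h) hy
  | succ n ih =>
    intro y hP hN hy h
    by_cases h2 : y ^ 2 ∈ R
    · exact ⟨y, hP, hN, hy, h2⟩
    · exact ih (y ^ 2) (P.pow_mem hP 2) (Subgroup.pow_mem _ hN 2) h2
        (by rwa [← pow_mul, ← pow_succ'])

/-- Strongly closed metacyclic, not exceptional, implies normal. -/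
theorem isNormal (hS : IsPGroup 2 S) (hF : F.IsSaturated 2) {P : Subgroup Ω}
    (hP : F.StronglyClosed P) (hm : Cfsg.IsMetacyclic ↥P) (hexc : ¬ Exceptional ↥P) :
    F.IsNormal P := by
  have : Fact (Nat.Prime 2) := ⟨Nat.prime_two⟩
  have hPn := le_normalizer_of_stronglyClosed hP
  refine isNormal_of_step hS hF hP.1 hPn fun R hn hc hr _ =>
    ⟨?_, fun α hα x hx => apply_mem_of_stronglyClosed hP hn.1 hα hx⟩
  by_contra hPR
  apply hexc
  have hRS := hn.1
  have := finite_of_le (Ω := Ω) hRS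
  have hPfin := finite_of_le (Ω := Ω) hP.1
  have := finite_mulAut (Ω := Ω) hRS
  have hPp : IsPGroup 2 P := hS.to_le hP.1
  have hRp : IsPGroup 2 R := hS.to_le hRS
  -- an element of `P` normalising `R`
  obtain ⟨y, hyP, hyN, hyR⟩ : ∃ y, y ∈ P ∧ y ∈ Subgroup.normalizer (R : Set Ω) ∧ y ∉ R := by
    set U := P ⊔ R
    have hUS : U ≤ S := sup_le hP.1 hRS
    have := finite_of_le (Ω := Ω) hUS
    have hlt : R.subgroupOf U ≠ ⊤ := fun h =>
      hPR (le_sup_left.trans (Subgroup.subgroupOf_eq_top.1 h))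
    obtain ⟨g, hg, hgR⟩ := SetLike.exists_of_lt (PGroup.lt_normalizer (hS.to_le hUS) hlt)
    have : (P.subgroupOf U).Normal :=
      Subgroup.normal_subgroupOf_of_le_normalizer (hUS.trans hPn)
    have htop : R.subgroupOf U ⊔ P.subgroupOf U = ⊤ := by
      rw [← Subgroup.subgroupOf_sup le_sup_right le_sup_left, sup_comm, Subgroup.subgroupOf_self]
    have hg' : g ∈ ((R.subgroupOf U ⊔ P.subgroupOf U : Subgroup U) : Set U) := by
      rw [htop]; trivial
    rw [Subgroup.mul_normal] at hg'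
    obtain ⟨r, hr', w, hw, rfl⟩ := hg'
    have hwR : w ∉ R.subgroupOf U := fun h => hgR (Subgroup.mul_mem _ hr' h)
    refine ⟨w, hw, ?_, hwR⟩
    have hN : w ∈ Subgroup.normalizer (R.subgroupOf U : Set U) := by
      rw [show w = r⁻¹ * (r * w) by group]
      exact Subgroup.mul_mem _ (Subgroup.inv_mem _ (Subgroup.le_normalizer hr')) hg
    refine Subgroup.mem_normalizer_iff.2 fun e => ⟨fun he => ?_, fun he => ?_⟩
    · exact (Subgroup.mem_normalizer_iff.1 hN ⟨e, le_sup_right (a := P) he⟩).1 he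
    · have heU : e ∈ U := by
        have h1 := U.mul_mem (U.mul_mem (U.inv_mem w.2) (le_sup_right (a := P) he)) w.2
        simpa [mul_assoc] using h1
      exact (Subgroup.mem_normalizer_iff.1 hN ⟨e, heU⟩).2 he
  obtain ⟨n, hn'⟩ := IsPGroup.iff_orderOf.1 hPp ⟨y, hyP⟩
  obtain ⟨a, haP, haN, haR, ha2⟩ := exists_sq_mem n y hyP hyN hyR (by
    have h1 : y ^ 2 ^ n = 1 := by
      rw [← hn', ← Subgroup.orderOf_coe]; exact pow_orderOf_eq_one y
    rw [h1]; exact R.one_mem)
  set QR := P.subgroupOf R with hQR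
  have hQinv : ∀ α ∈ F.autGroup R, ∀ x ∈ QR, α x ∈ QR := fun α hα x hx =>
    apply_mem_of_stronglyClosed hP hRS hα hx
  set ΦQ := (frattini ↥QR).map QR.subtype with hΦQ
  let f2 : ℕ → Subgroup R := fun i => match i with | 0 => ΦQ | 1 => QR | _ => ⊤
  let f1 : ℕ → Subgroup R := fun i => match i with | 0 => QR | _ => ⊤
  have hinv2 : ∀ i ≤ 2, ∀ α ∈ F.autGroup R, ∀ x ∈ f2 i, α x ∈ f2 i := by
    intro i hi α hα x hx
    interval_cases i
    · exact frattini_invariant QR α (hQinv α hα) hx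
    · exact hQinv α hα x hx
    · trivial
  have hinv1 : ∀ i ≤ 1, ∀ α ∈ F.autGroup R, ∀ x ∈ f1 i, α x ∈ f1 i := by
    intro i hi α hα x hx
    interval_cases i
    · exact hQinv α hα x hx
    · trivial
  set A1 := chainStab (F.autGroup R) f1 1 hinv1 with hA1
  set A2 := chainStab (F.autGroup R) f2 2 hinv2 with hA2
  have hinner : ∀ (K : Subgroup (MulAut R)), K ≤ F.autGroup R →
      (∀ α ∈ K, ∀ b ∈ F.autGroup R, b * α * b⁻¹ ∈ K) → IsPGroup 2 K → K ≤ Inn R := by
    intro K hK hKn hKp α hα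
    have : (K.subgroupOf (F.autGroup R)).Normal := ⟨fun u hu b => hKn _ hu _ b.2⟩
    exact hr.2.le ⟨⟨α, hK hα⟩, PCore.le_pCore
      (hKp.of_equiv (Subgroup.subgroupOfEquivOfLe hK).symm) (show (⟨α, hK hα⟩ : F.autGroup R) ∈ _ from hα),
      rfl⟩
  have htriv : ∀ α : MulAut R, ∀ hα : α ∈ F.autGroup R, (orderOf α).Coprime 2 →
      (∀ x, x⁻¹ * α x ∈ QR) → (∀ x ∈ QR, x⁻¹ * α x ∈ ΦQ) → α = 1 := by
    intro α hα hco h1 h2
    have hρ : res QR α (hQinv α hα) = 1 := by
      refine aut_trivial_of_frattini (hRp.to_subgroup QR)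
        (Nat.Coprime.coprime_dvd_left (orderOf_res_dvd _) hco) fun x => ?_
      obtain ⟨w, hw, hwe⟩ := h2 x x.2
      rwa [show x⁻¹ * res QR α (hQinv α hα) x = w from Subtype.ext hwe.symm]
    refine MulEquiv.ext fun x => eq_self_of_translate hRp hco ?_
    exact congrArg (fun β : MulAut QR => ((β ⟨_, h1 x⟩ : QR) : R)) hρ
  have hA2p : IsPGroup 2 A2 := by
    have : Finite A2 := inferInstance
    refine isPGroup_of_coprime_orderOf_eq_one fun α hα => Subtype.ext ?_
    exact htriv _ α.2.1 (by rwa [Subgroup.orderOf_coe]) (fun x => α.2.2 1 (by omega) x trivial)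
      (fun x hx => α.2.2 0 (by omega) x hx)
  have hcR := isCentric_centralizerIn_le hc
  have haS : a ∈ S := hP.1 haP
  have haA := autInducedBy_le_autGroup F hRS (conjAut_mem_autInducedBy haS haN)
  have haA1 : conjAut haN ∈ A1 := by
    refine ⟨haA, fun i hi x hx => ?_⟩
    interval_cases i
    show (x : Ω)⁻¹ * (a * x * a⁻¹) ∈ P
    have h1 := (Subgroup.mem_normalizer_iff.1 (hPn (S.inv_mem (hRS x.2))) a).1 haP
    simpa [mul_assoc] using P.mul_mem h1 (P.inv_mem haP)
  have haI : conjAut haN ∉ Inn R := conjAut_notMem_inn hcR hRS haS haN haR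
  obtain ⟨q, hqQ, hq⟩ : ∃ q ∈ QR, q⁻¹ * conjAut haN q ∉ ΦQ := by
    by_contra hcon
    push Not at hcon
    refine haI (hinner A2 (fun _ h => h.1) (fun α hα b hb => chainStab_conj hinv2 hb hα) hA2p
      ⟨haA, fun i hi x hx => ?_⟩)
    interval_cases i
    · exact hcon x hx
    · exact haA1.2 0 (by omega) x trivial
  obtain ⟨β, hβ, hβco, hβne⟩ : ∃ β ∈ A1, (orderOf β).Coprime 2 ∧ β ≠ 1 := by
    by_contra hcon
    push Not at hcon
    refine haI (hinner A1 (fun _ h => h.1) (fun α hα b hb => chainStab_conj hinv1 hb hα) ?_ haA1)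
    refine isPGroup_of_coprime_orderOf_eq_one fun α hα => Subtype.ext ?_
    exact hcon α α.2 (by rwa [Subgroup.orderOf_coe])
  set ρ := res QR β (hQinv β hβ.1) with hρdef
  have hρodd : Odd (orderOf ρ) :=
    Nat.coprime_two_right.1 (Nat.Coprime.coprime_dvd_left (orderOf_res_dvd _) hβco)
  have hρne : ρ ≠ 1 := fun h => hβne (MulEquiv.ext fun x => eq_self_of_translate hRp hβco
    (congrArg (fun γ : MulAut QR => ((γ ⟨_, hβ.2 0 (by omega) x trivial⟩ : QR) : R)) h))
  let j : QR →* P :=
    { toFun := fun x => ⟨((x : R) : Ω), x.2⟩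
      map_one' := rfl
      map_mul' := fun x y => rfl }
  have hj : Function.Injective j := fun x y h =>
    Subtype.ext (Subtype.ext (congrArg Subtype.val h : _))
  have hQm : Cfsg.IsMetacyclic ↥QR := isMetacyclic_of_injective j hj hm
  have hQp := hRp.to_subgroup QR
  rcases homocyclic_or_quaternion_of_odd_aut hQp hQm hρodd hρne with
    ⟨k, hk, hab, hcard, hexp⟩ | ⟨-, i, l, hi, hl, hli⟩
  swap
  · refine exceptional_of_quaternion hPp hm (i := j i) (j := j l) ?_ ?_ ?_
    · rw [orderOf_injective j hj, hi]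
    · rw [← map_pow, hl, map_pow]
    · rw [← map_inv, ← map_mul, ← map_mul, hli, map_inv]
  -- the generators `q` and its conjugate by `a`
  set u : QR := ⟨q, hqQ⟩
  set v : QR := res QR (conjAut haN) (hQinv _ haA) u with hv
  have huvΦ : u⁻¹ * v ∉ frattini ↥QR := fun h => hq ⟨_, h, rfl⟩
  have hu : u ∉ frattini ↥QR := fun h => huvΦ (Subgroup.mul_mem _ (Subgroup.inv_mem _ h)
    (frattini_le_comap_frattini_of_surjective
      (φ := (res QR (conjAut haN) (hQinv _ haA)).toMonoidHom) (MulEquiv.surjective _) h))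
  have hv' : v ∉ frattini ↥QR := fun h => hu (by
    have h1 := frattini_le_comap_frattini_of_surjective
      (φ := (res QR (conjAut haN) (hQinv _ haA)).symm.toMonoidHom) (MulEquiv.surjective _) h
    rw [Subgroup.mem_comap, MulEquiv.coe_toMonoidHom, hv, MulEquiv.symm_apply_apply] at h1
    exact h1)
  have hgen := closure_pair_eq_top hQp hQm hu hv' huvΦ
  obtain ⟨huo, hdis, -⟩ := homocyclic_basis hab (N := 2 ^ k) (by rw [hcard, ← pow_add, two_mul])
    hexp hgen
  have hvj : (j v : Ω) = a * (j u : Ω) * a⁻¹ := rfl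
  set aP : P := ⟨a, haP⟩
  have hvP : j v = aP * j u * aP⁻¹ := Subtype.ext hvj
  have ha2Q : (⟨⟨a ^ 2, ha2⟩, P.pow_mem haP 2⟩ : QR) = ⟨⟨a ^ 2, ha2⟩, P.pow_mem haP 2⟩ := rfl
  have hja : aP ^ 2 = j ⟨⟨a ^ 2, ha2⟩, P.pow_mem haP 2⟩ := Subtype.ext rfl
  rcases Nat.lt_or_ge 1 k with hk2 | hk1
  · refine (not_swap hPp hm j.range ?_ (a := aP) (u := j u) ⟨_, hja.symm⟩ ⟨u, rfl⟩
      (hvP ▸ ⟨v, rfl⟩) ?_ ?_ ?_).elim
    · rintro _ ⟨x, rfl⟩ _ ⟨w, rfl⟩
      rw [← map_mul, ← map_mul, hab]
    · intro h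
      rw [← orderOf_dvd_iff_pow_eq_one, orderOf_injective j hj, huo] at h
      have := (Nat.pow_dvd_pow_iff_le_right one_lt_two).1 (show 2 ^ k ∣ 2 ^ 1 by simpa using h)
      omega
    · rintro _ ⟨x, rfl⟩
      rw [orderOf_injective j hj, huo, ← map_pow, hexp, map_one]
    · rw [← hvP, ← MonoidHom.map_zpowers, ← MonoidHom.map_zpowers, ← Subgroup.map_inf _ _ _ hj,
        hdis, Subgroup.map_bot]
  -- the four-group
  obtain rfl : k = 1 := by omega
  rw [pow_one] at huo hexp
  have hune : u ≠ v := fun h => huvΦ (by rw [h, inv_mul_cancel]; exact Subgroup.one_mem _)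
  have hju : (j u) ^ 2 = 1 := by rw [← map_pow, hexp, map_one]
  have hneq : aP * j u ≠ j u * aP := fun h => hune (hj (by
    rw [hvP, h, mul_inv_cancel_right]))
  by_cases ha1 : aP ^ 2 = 1
  · exact exceptional_of_involutions hPp hm ha1 hju hneq
  set s : QR := ⟨⟨a ^ 2, ha2⟩, P.pow_mem haP 2⟩ with hs
  have hsfix : res QR (conjAut haN) (hQinv _ haA) s = s := Subtype.ext (Subtype.ext (by
    show a * a ^ 2 * a⁻¹ = a ^ 2
    rw [sq]; group))
  have hsuv : s = v * u := by
    have hsmem : s ∈ Subgroup.closure ({u, v} : Set QR) := hgen ▸ Subgroup.mem_top s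
    have hall : ∀ e ∈ Subgroup.closure ({u, v} : Set QR), e = 1 ∨ e = u ∨ e = v ∨ e = v * u := by
      intro e he
      have huu : u * u = 1 := by rw [← sq, hexp]
      have hvv : v * v = 1 := by rw [← sq, hexp]
      rw [← Subgroup.mem_toSubmonoid, Subgroup.closure_toSubmonoid_of_finite] at he
      induction he using Submonoid.closure_induction with
      | mem e he => rcases he with rfl | rfl <;> simp
      | one => simp
      | mul e e' _ _ he he' =>
        have h1 : ∀ w, u * (u * w) = w := fun w => by rw [← mul_assoc, huu, one_mul]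
        have h2 : ∀ w, v * (v * w) = w := fun w => by rw [← mul_assoc, hvv, one_mul]
        have h3 : ∀ w, u * (v * w) = v * (u * w) := fun w => by
          rw [← mul_assoc, hab u v, mul_assoc]
        rcases he with rfl | rfl | rfl | rfl <;> rcases he' with rfl | rfl | rfl | rfl <;>
          simp [huu, hvv, h1, h2, h3, hab u v, mul_assoc]
    rcases hall s hsmem with h | h | h | h
    · exact absurd (by rw [hja, h, map_one]) ha1
    · exact absurd ((h ▸ hsfix : _).symm) (fun h' => hune (h'.trans hv.symm))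
    · exfalso
      apply hune
      rw [h] at hsfix
      exact (MulEquiv.injective _ (hsfix.trans hv)).symm
    · exact h
  refine exceptional_of_involutions hPp hm (u := aP * j u) (w := j u) ?_ hju ?_
  · calc (aP * j u) ^ 2 = (aP * j u * aP⁻¹) * aP ^ 2 * j u := by rw [sq, sq]; group
      _ = j (v * (v * u) * u) := by rw [← hvP, hja, hsuv, map_mul, map_mul, map_mul, map_mul]
      _ = 1 := by
        rw [show v * (v * u) * u = (v * v) * (u * u) by group, ← sq, ← sq, hexp, hexp, one_mul,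
          map_one]
  · intro h
    refine hneq ?_
    rw [mul_assoc, ← sq, hju, mul_one] at h
    calc aP * j u = j u * (aP * j u) * j u := by rw [← h]
      _ = j u * aP := by rw [mul_assoc, mul_assoc, ← sq, hju, mul_one]

end Cfsg.Agent.Fusion.MetacyclicClosed
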