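import Cfsg.Agent.Lib.Fusion.StrongInduction
import Cfsg.Agent.Lib.Fusion.NormalCriteria
import Cfsg.Agent.Lib.Fusion.Constructions
import Cfsg.Agent.Lib.SylowCount.Basic

/-!
Factor systems modulo a strongly closed subgroup `S₀` (Puig): every map with source `P` agrees
modulo `S₀` with a map with source `P S₀`, and the factor system of a saturated system is saturated.
-/

set_option autoImplicit false
set_option linter.unusedSectionVars false

namespace Cfsg.Agent.Fusion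

open Cfsg Cfsg.FusionSystem
open scoped Pointwise

variable {Ω : Type*} [Group Ω] {S : Subgroup Ω} {F : FusionSystem S} {p : ℕ}

/-! ### Maps modulo a strongly closed subgroup -/

/-- `φ` agrees modulo `S₀` with a map whose source is `P ⊔ S₀`. -/
def ExtendsMod (F : FusionSystem S) (S₀ : Subgroup Ω) (P : Subgroup Ω) (φ : P →* Ω) : Prop :=
  ∃ ψ ∈ F.Hom (P ⊔ S₀), ∀ x : P, (φ x)⁻¹ * ψ (Subgroup.inclusion le_sup_left x) ∈ S₀

theorem apply_mem_closed {S₀ R : Subgroup Ω} (hS₀ : F.StronglyClosed S₀) {ψ : R →* Ω}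
    (hψ : ψ ∈ F.Hom R) (x : R) (hx : (x : Ω) ∈ S₀) : ψ x ∈ S₀ :=
  hS₀.2 (R ⊓ S₀) inf_le_right _ (restrict_mem hψ inf_le_left) ⟨x, x.2, hx⟩

theorem inv_mul_conj_mem {S₀ : Subgroup Ω} (hn : S ≤ Subgroup.normalizer (S₀ : Set Ω)) {g : Ω}
    (hg : g ∈ S) {y : Ω} (hy : y ∈ S₀) : g * y * g⁻¹ ∈ S₀ :=
  (Subgroup.mem_normalizer_iff.1 (hn hg) y).1 hy

/-- The automorphisms of `R` in the system acting trivially on `R` modulo `S₀`. -/
def modKernel (F : FusionSystem S) {S₀ : Subgroup Ω} (hS₀ : F.StronglyClosed S₀) {R : Subgroup Ω}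
    (hR : R ≤ S) : Subgroup (F.autGroup R) where
  carrier := {a | ∀ x : R, (x : Ω)⁻¹ * ((a : MulAut R) x : R) ∈ S₀}
  one_mem' x := by simp
  mul_mem' := by
    intro a b ha hb x
    have h1 := S₀.mul_mem (hb x) (ha ((b : MulAut R) x))
    simpa [mul_assoc] using h1
  inv_mem' := by
    intro a ha x
    have h1 := S₀.inv_mem (ha ((a : MulAut R)⁻¹ x))
    rw [MulAut.apply_inv_self] at h1
    simpa using h1

theorem mem_modKernel {S₀ : Subgroup Ω} {hS₀ : F.StronglyClosed S₀} {R : Subgroup Ω} {hR : R ≤ S}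
    {a : F.autGroup R} :
    a ∈ modKernel F hS₀ hR ↔ ∀ x : R, (x : Ω)⁻¹ * ((a : MulAut R) x : R) ∈ S₀ := Iff.rfl

theorem modKernel_normal {S₀ : Subgroup Ω} (hS₀ : F.StronglyClosed S₀) {R : Subgroup Ω}
    (hR : R ≤ S) : (modKernel F hS₀ hR).Normal := by
  refine ⟨fun k hk a x => ?_⟩
  obtain ⟨y, rfl⟩ := (a : MulAut R).surjective x
  show (((a : MulAut R) y : R) : Ω)⁻¹ *
    ((a : MulAut R) ((k : MulAut R) ((a : MulAut R)⁻¹ ((a : MulAut R) y))) : R) ∈ S₀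
  rw [MulAut.inv_apply_self]
  have h1 : ((y⁻¹ * (k : MulAut R) y : R) : Ω) ∈ S₀ := hk y
  have h2 := apply_mem_of_stronglyClosed hS₀ hR a.2 (x := y⁻¹ * (k : MulAut R) y) h1
  simpa using h2

theorem extendsMod_of_le {S₀ P : Subgroup Ω} (h : S₀ ≤ P) {φ : P →* Ω} (hφ : φ ∈ F.Hom P) :
    ExtendsMod F S₀ P φ :=
  ⟨φ.comp (Subgroup.inclusion (sup_le le_rfl h)), restrict_mem hφ _, fun x => by
    rw [show φ.comp (Subgroup.inclusion (sup_le le_rfl h)) (Subgroup.inclusion le_sup_left x) = φ x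
      from rfl, inv_mul_cancel]
    exact S₀.one_mem⟩

/-- Puig's lemma: in a saturated system every map agrees modulo a strongly closed subgroup `S₀`
with a map whose source is `P S₀`. -/
theorem exists_hom_mod [Finite S] [Fact p.Prime] (hS : IsPGroup p S) (hF : F.IsSaturated p)
    {S₀ : Subgroup Ω} (hS₀ : F.StronglyClosed S₀) {P : Subgroup Ω} {φ : P →* Ω}
    (hφ : φ ∈ F.Hom P) : ExtendsMod F S₀ P φ := by
  have hn := le_normalizer_of_stronglyClosed hS₀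
  refine alperin_strong_induction (C := ExtendsMod F S₀) hS hF ?_ ?_ ?_ ?_ hφ
  · intro P g hP hg
    refine ⟨conjHom _ g, F.conj_mem (sup_le hP hS₀.1) hg, fun x => ?_⟩
    rw [show conjHom (P ⊔ S₀) g (Subgroup.inclusion le_sup_left x) = conjHom P g x from rfl,
      inv_mul_cancel]
    exact S₀.one_mem
  · rintro P Q φ χ hφ hχ ⟨ψ, hψ, hψe⟩ ⟨ρ, hρ, hρe⟩ h
    have hmem : ∀ z, ψ z ∈ Q ⊔ S₀ := forall_sup_mem ψ
      (fun x => by
        have h1 := Subgroup.mul_mem (Q ⊔ S₀) (Subgroup.mem_sup_left (h x))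
          (Subgroup.mem_sup_right (hψe x))
        rwa [mul_inv_cancel_left] at h1)
      (fun x => Subgroup.mem_sup_right (apply_mem_closed hS₀ hψ _ x.2))
    refine ⟨_, F.comp_mem hψ hρ hmem, fun x => ?_⟩
    show (χ ⟨φ x, h x⟩)⁻¹ * ρ ⟨ψ (Subgroup.inclusion le_sup_left x), _⟩ ∈ S₀
    have hd : (φ x)⁻¹ * ψ (Subgroup.inclusion le_sup_left x) ∈ Q ⊔ S₀ :=
      Subgroup.mem_sup_right (hψe x)
    rw [show (⟨ψ (Subgroup.inclusion le_sup_left x), hmem _⟩ : ↥(Q ⊔ S₀)) =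
      Subgroup.inclusion le_sup_left (⟨φ x, h x⟩ : Q) * ⟨_, hd⟩ from
      Subtype.ext (mul_inv_cancel_left _ _).symm, map_mul, ← mul_assoc]
    exact S₀.mul_mem (hρe _) (apply_mem_closed hS₀ hρ _ (hψe x))
  · rintro P φ χ hφ ⟨ψ, hψ, hψe⟩ hχ hi
    have hmem : ∀ z, ψ z ∈ φ.range ⊔ S₀ := forall_sup_mem ψ
      (fun x => by
        have h1 := Subgroup.mul_mem (φ.range ⊔ S₀) (Subgroup.mem_sup_left ⟨x, rfl⟩)
          (Subgroup.mem_sup_right (hψe x))
        rwa [mul_inv_cancel_left] at h1)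
      (fun x => Subgroup.mem_sup_right (apply_mem_closed hS₀ hψ _ x.2))
    have hr : ψ.range = φ.range ⊔ S₀ := by
      have hS₀r : S₀ ≤ ψ.range := fun z hz => by
        obtain ⟨w, -, hw⟩ := (image_stronglyClosed hS₀ hψ le_sup_right).ge hz
        exact ⟨w, hw⟩
      refine le_antisymm ?_ (sup_le ?_ hS₀r)
      · rintro _ ⟨z, rfl⟩
        exact hmem z
      · rintro _ ⟨x, rfl⟩
        have h1 := ψ.range.mul_mem ⟨Subgroup.inclusion le_sup_left x, rfl⟩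
          (hS₀r (S₀.inv_mem (hψe x)))
        simpa using h1
    obtain ⟨ρ, hρ, -, hρi, -⟩ := exists_inverse hψ hr
    refine ⟨ρ, hρ, ?_⟩
    rintro ⟨_, x, rfl⟩
    rw [hi x]
    have hd : (φ x)⁻¹ * ψ (Subgroup.inclusion le_sup_left x) ∈ φ.range ⊔ S₀ :=
      Subgroup.mem_sup_right (hψe x)
    have h1 := hρi (Subgroup.inclusion le_sup_left x) (hmem _)
    rw [show (⟨ψ (Subgroup.inclusion le_sup_left x), hmem _⟩ : ↥(φ.range ⊔ S₀)) =
      Subgroup.inclusion le_sup_left (⟨φ x, x, rfl⟩ : φ.range) * ⟨_, hd⟩ from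
      Subtype.ext (mul_inv_cancel_left _ _).symm, map_mul] at h1
    have h2 : ρ ⟨_, hd⟩ ∈ S₀ := apply_mem_closed hS₀ hρ _ (hψe x)
    have h3 := S₀.inv_mem h2
    rw [show (ρ ⟨_, hd⟩)⁻¹ = (x : Ω)⁻¹ *
      ρ (Subgroup.inclusion le_sup_left (⟨φ x, x, rfl⟩ : φ.range)) from ?_] at h3
    · exact h3
    rw [show (x : Ω) = _ from h1.symm]
    group
  · intro R hRn hc hr hbig α hα
    have hRS := hRn.1
    by_cases hle : S₀ ≤ R
    · exact extendsMod_of_le hle ((mem_autGroup_iff hRS).1 hα)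
    set K := modKernel F hS₀ hRS with hKdef
    have := modKernel_normal hS₀ hRS
    have := finite_mulAut (Ω := Ω) hRS
    obtain ⟨-, T, hT⟩ := isFullyAutomized_of_fullyNormalized hS hF hRn
    obtain ⟨T', hT'⟩ := Cfsg.Agent.SylowCount.exists_sylow_inf T K
    have hfr := Sylow.normalizer_sup_eq_top T'
    rw [hT', Subgroup.subgroupOf_map_subtype] at hfr
    obtain ⟨m, hm, k, hk, hmk⟩ :=
      Subgroup.mem_sup_of_normal_right.1 (hfr ▸ Subgroup.mem_top (⟨α, hα⟩ : F.autGroup R))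
    set E := R ⊔ (normalizerIn S R ⊓ S₀) with hEdef
    obtain ⟨hmφ, hmr⟩ := hom_of_mem_autGroup hRS m.2
    set φm := R.subtype.comp (m : MulAut R).toMonoidHom with hφmdef
    have hEext : E ≤ extender S R φm := by
      refine sup_le (le_extender hRS fun x => apply_mem hmφ x) fun g hg => ?_
      obtain ⟨⟨hgS, hgN⟩, hg₀⟩ := hg
      have hc₁ := autInducedBy_le_autGroup F hRS (conjAut_mem_autInducedBy hgS hgN)
      have hcK : (⟨conjAut hgN, hc₁⟩ : F.autGroup R) ∈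
          (T : Subgroup (F.autGroup R)) ⊓ K := by
        refine ⟨?_, fun x => ?_⟩
        · rw [hT]
          exact conjAut_mem_autInducedBy hgS hgN
        · show (x : Ω)⁻¹ * (g * x * g⁻¹) ∈ S₀
          have h1 := S₀.mul_mem (inv_mul_conj_mem hn (S.inv_mem (hRS x.2)) hg₀) (S₀.inv_mem hg₀)
          simpa [mul_assoc] using h1
      have h2 := ((Subgroup.mem_normalizer_iff.1 hm _).1 hcK).1
      rw [hT] at h2
      obtain ⟨h, hhS, hh⟩ := mem_autInducedBy_iff.1 (Subgroup.mem_subgroupOf.1 h2)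
      refine mem_extender_iff.2 ⟨hgS, hgN, h, hhS, fun x hx => ?_⟩
      have h3 := hh ((m : MulAut R) x)
      rw [show ((m * ⟨conjAut hgN, hc₁⟩ * m⁻¹ : F.autGroup R) : MulAut R) ((m : MulAut R) x) =
        (m : MulAut R) (conjAut hgN ((m : MulAut R)⁻¹ ((m : MulAut R) x))) from rfl,
        MulAut.inv_apply_self] at h3
      exact h3
    obtain ⟨χ, hχ, hχe⟩ := exists_extension (isReceptive_of_fullyNormalized hS hF hRn) hmφ hmr hEext
    have hES : E ≤ S := dom_le hχ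
    have hRE : R < E := by
      refine lt_of_le_of_ne le_sup_left fun he => ?_
      have hsup : R ⊔ S₀ ≤ S := sup_le hRS hS₀.1
      have hlt : R < R ⊔ S₀ :=
        lt_of_le_of_ne le_sup_left fun he' => hle (le_sup_right.trans he'.ge)
      have := finite_of_le (Ω := Ω) hsup
      obtain ⟨g, ⟨hgm, hgN⟩, hgR⟩ := SetLike.exists_of_lt (lt_normalizerIn (hS.to_le hsup) hlt)
      have hgm' : g ∈ ((R ⊔ S₀ : Subgroup Ω) : Set Ω) := hgm
      rw [Subgroup.coe_mul_of_left_le_normalizer_right R S₀ (hRS.trans hn)] at hgm'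
      obtain ⟨x, hx, q, hq, rfl⟩ := hgm'
      have hqN : q ∈ Subgroup.normalizer (R : Set Ω) := by
        have h1 := Subgroup.mul_mem _ (Subgroup.inv_mem _ (Subgroup.le_normalizer hx)) hgN
        simpa using h1
      exact hgR (R.mul_mem hx
        (he.ge (Subgroup.mem_sup_right ⟨⟨hS₀.1 hq, hqN⟩, hq⟩)))
    obtain ⟨ρ, hρ, hρe⟩ := hbig E (card_lt_of_lt hES hRE) χ hχ
    have hsup' : R ⊔ S₀ ≤ E ⊔ S₀ := sup_le_sup_right le_sup_left _
    refine ⟨ρ.comp (Subgroup.inclusion hsup'), restrict_mem hρ hsup', fun x => ?_⟩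
    have hxE : (x : Ω) ∈ E := Subgroup.mem_sup_left x.2
    show ((α x : R) : Ω)⁻¹ * ρ (Subgroup.inclusion le_sup_left (⟨x, hxE⟩ : E)) ∈ S₀
    have h1 := hρe ⟨x, hxE⟩
    rw [hχe x x.2 hxE] at h1
    have hα' : α x = (m : MulAut R) ((k : MulAut R) x) := by
      have := congrArg (fun a : F.autGroup R => (a : MulAut R) x) hmk
      exact this.symm
    have h2 : ((x⁻¹ * (k : MulAut R) x : R) : Ω) ∈ S₀ := hk x
    have h3 := apply_mem_of_stronglyClosed hS₀ hRS m.2 (x := x⁻¹ * (k : MulAut R) x) h2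
    have h4 := S₀.mul_mem (S₀.inv_mem h3) h1
    rw [hα']
    simpa [φm, mul_assoc] using h4

/-- The product of two strongly closed subgroups is strongly closed. -/
theorem stronglyClosed_sup [Finite S] [Fact p.Prime] (hS : IsPGroup p S) (hF : F.IsSaturated p)
    {T₁ T₂ : Subgroup Ω} (h₁ : F.StronglyClosed T₁) (h₂ : F.StronglyClosed T₂) :
    F.StronglyClosed (T₁ ⊔ T₂) := by
  refine ⟨sup_le h₁.1 h₂.1, fun R hR φ hφ x => ?_⟩
  obtain ⟨ψ, hψ, hψe⟩ := exists_hom_mod hS hF h₁ hφ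
  have hcoe : ((T₁ ⊔ T₂ : Subgroup Ω) : Set Ω) = (T₁ : Set Ω) * (T₂ : Set Ω) :=
    Subgroup.coe_mul_of_left_le_normalizer_right T₁ T₂
      (h₁.1.trans (le_normalizer_of_stronglyClosed h₂))
  have hxm : (x : Ω) ∈ (T₁ : Set Ω) * (T₂ : Set Ω) := hcoe ▸ hR x.2
  obtain ⟨a, ha, b, hb, hab⟩ := hxm
  have hab' : a * b = (x : Ω) := hab
  have hbm : b ∈ R ⊔ T₁ := by
    have h1 := Subgroup.mul_mem (R ⊔ T₁) (Subgroup.inv_mem _ (Subgroup.mem_sup_right ha))
      (Subgroup.mem_sup_left x.2)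
    rwa [← hab', inv_mul_cancel_left] at h1
  have hψx : ψ (Subgroup.inclusion le_sup_left x) ∈ T₁ ⊔ T₂ := by
    rw [show Subgroup.inclusion le_sup_left x =
      (⟨a, Subgroup.mem_sup_right ha⟩ * ⟨b, hbm⟩ : ↥(R ⊔ T₁)) from Subtype.ext hab'.symm, map_mul]
    exact Subgroup.mul_mem_sup (apply_mem_closed h₁ hψ _ ha) (apply_mem_closed h₂ hψ _ hb)
  have h1 := Subgroup.mul_mem (T₁ ⊔ T₂) hψx
    (Subgroup.inv_mem _ (Subgroup.mem_sup_left (hψe x)))
  simpa using h1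

/-! ### Factor systems -/

variable {Ω' : Type*} [Group Ω'] {S' : Subgroup Ω'} {θ : S →* Ω'} {S₀ : Subgroup Ω}
  {E : FusionSystem S'}

theorem mem_imageAlong_iff {P : Subgroup Ω} {y : Ω'} :
    y ∈ imageAlong θ P ↔ ∃ x : S, (x : Ω) ∈ P ∧ θ x = y := by
  simp [imageAlong, Subgroup.mem_map, Subgroup.mem_subgroupOf]

/-- The projection of `P` onto its image. -/
def toImage (θ : S →* Ω') {P : Subgroup Ω} (hP : P ≤ S) : P →* imageAlong θ P :=
  (θ.comp (Subgroup.inclusion hP)).codRestrict _ fun x =>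
    mem_imageAlong_iff.2 ⟨Subgroup.inclusion hP x, x.2, rfl⟩

theorem toImage_surjective (θ : S →* Ω') {P : Subgroup Ω} (hP : P ≤ S) :
    Function.Surjective (toImage θ hP) := by
  rintro ⟨y, hy⟩
  obtain ⟨x, hx, rfl⟩ := mem_imageAlong_iff.1 hy
  exact ⟨⟨x, hx⟩, rfl⟩

theorem preimage_image (hker : ∀ s : S, θ s = 1 ↔ (s : Ω) ∈ S₀) (hS₀S : S₀ ≤ S) {P : Subgroup Ω}
    (hP : P ≤ S) : preimageAlong θ (imageAlong θ P) = P ⊔ S₀ := by
  refine le_antisymm ?_ (sup_le (fun x hx => ?_) fun x hx => ?_)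
  · intro z hz
    obtain ⟨hzS, hz'⟩ := mem_preimageAlong.1 hz
    obtain ⟨x, hx, hxz⟩ := mem_imageAlong_iff.1 hz'
    have h1 : (x : Ω)⁻¹ * z ∈ S₀ := (hker (x⁻¹ * ⟨z, hzS⟩)).1 (by
      rw [map_mul, map_inv, hxz, inv_mul_cancel])
    have h2 := Subgroup.mul_mem (P ⊔ S₀) (Subgroup.mem_sup_left hx) (Subgroup.mem_sup_right h1)
    rwa [mul_inv_cancel_left] at h2
  · exact mem_preimageAlong.2 ⟨hP hx, mem_imageAlong_iff.2 ⟨⟨x, hP hx⟩, hx, rfl⟩⟩
  · exact mem_preimageAlong.2 ⟨hS₀S hx, by rw [(hker ⟨x, hS₀S hx⟩).2 hx]; exact one_mem _⟩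

theorem ker_le_preimage (hker : ∀ s : S, θ s = 1 ↔ (s : Ω) ∈ S₀) (hS₀S : S₀ ≤ S)
    (P' : Subgroup Ω') : S₀ ≤ preimageAlong θ P' := fun z hz =>
  mem_preimageAlong.2 ⟨hS₀S hz, by rw [(hker ⟨z, hS₀S hz⟩).2 hz]; exact one_mem _⟩

theorem image_preimage (hr : θ.range = S') {P' : Subgroup Ω'} (hP' : P' ≤ S') :
    imageAlong θ (preimageAlong θ P') = P' := by
  ext y
  constructor
  · intro hy
    obtain ⟨x, hx, rfl⟩ := mem_imageAlong_iff.1 hy
    exact (mem_preimageAlong.1 hx).2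
  · intro hy
    obtain ⟨s, rfl⟩ := hr.ge (hP' hy)
    exact mem_imageAlong_iff.2 ⟨s, mem_preimageAlong.2 ⟨s.2, hy⟩, rfl⟩

/-- Every map of a saturated system induces a map of the factor system. -/
theorem exists_induced [Finite S] [Fact p.Prime] (hS : IsPGroup p S) (hF : F.IsSaturated p)
    (hS₀ : F.StronglyClosed S₀) (hE : F.IsFactorSystem S₀ θ E) {P : Subgroup Ω} {φ : P →* Ω}
    (hφ : φ ∈ F.Hom P) : ∃ φ' ∈ E.Hom (imageAlong θ P), InducedAlong θ φ φ' := by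
  obtain ⟨hS₀S, hker, hr, hHom⟩ := hE
  have hP := dom_le hφ
  obtain ⟨ψ, hψ, hψe⟩ := exists_hom_mod hS hF hS₀ hφ
  let f : P →* Ω' := θ.comp (φ.codRestrict S fun x => apply_mem hφ x)
  have hfg : (toImage θ hP).ker ≤ f.ker := fun x hx =>
    (hker _).2 (apply_mem_closed hS₀ hφ x ((hker _).1 (congrArg Subtype.val hx)))
  obtain ⟨φ', hφ'⟩ : ∃ φ' : imageAlong θ P →* Ω', ∀ x, φ' (toImage θ hP x) = f x :=
    ⟨(toImage θ hP).liftOfSurjective (toImage_surjective θ hP) ⟨f, hfg⟩,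
      fun x => MonoidHom.liftOfRightInverse_comp_apply _ _ _ _ x⟩
  refine ⟨φ', (hHom _ _).2 ⟨?_, ?_⟩, hP, fun x => apply_mem hφ x,
    fun x => mem_imageAlong_iff.2 ⟨Subgroup.inclusion hP x, x.2, rfl⟩, hφ'⟩
  · intro y hy
    obtain ⟨x, -, rfl⟩ := mem_imageAlong_iff.1 hy
    exact hr.le ⟨x, rfl⟩
  have heq := preimage_image hker hS₀S hP
  refine ⟨ψ.comp (Subgroup.inclusion heq.le), restrict_mem hψ _, preimageAlong_le θ _,
    fun x => apply_mem hψ _, fun x => (mem_preimageAlong.1 x.2).2, ?_⟩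
  rintro ⟨z, hz⟩
  obtain ⟨hzS, hz'⟩ := mem_preimageAlong.1 hz
  obtain ⟨x, hx, hxz⟩ := mem_imageAlong_iff.1 hz'
  have hd : (x : Ω)⁻¹ * z ∈ S₀ := (hker (x⁻¹ * ⟨z, hzS⟩)).1 (by
    rw [map_mul, map_inv, hxz, inv_mul_cancel])
  rw [show (⟨θ ⟨z, _⟩, _⟩ : imageAlong θ P) = toImage θ hP ⟨x, hx⟩ from Subtype.ext hxz.symm, hφ']
  show θ ⟨φ ⟨x, hx⟩, _⟩ = θ ⟨ψ ⟨z, _⟩, _⟩
  rw [← inv_mul_eq_one, ← map_inv, ← map_mul]
  refine (hker _).2 ?_
  show (φ ⟨x, hx⟩)⁻¹ * ψ ⟨z, heq.le hz⟩ ∈ S₀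
  rw [show (⟨z, heq.le hz⟩ : ↥(P ⊔ S₀)) = Subgroup.inclusion le_sup_left (⟨x, hx⟩ : P) *
    ⟨_, Subgroup.mem_sup_right hd⟩ from Subtype.ext (mul_inv_cancel_left _ _).symm, map_mul,
    ← mul_assoc]
  exact S₀.mul_mem (hψe _) (apply_mem_closed hS₀ hψ _ hd)

/-- The image of a map of the factor system. -/
theorem range_induced [Finite S] (hS₀ : F.StronglyClosed S₀) (hE : F.IsFactorSystem S₀ θ E)
    {P' : Subgroup Ω'} (hP' : P' ≤ S') {φ : preimageAlong θ P' →* Ω} (hφ : φ ∈ F.Hom _)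
    {φ' : P' →* Ω'} (h : InducedAlong θ φ φ') : φ.range = preimageAlong θ φ'.range := by
  obtain ⟨hS₀S, hker, hr, hHom⟩ := hE
  obtain ⟨hP, hφS, hP2, h⟩ := h
  have hS₀r : S₀ ≤ φ.range := fun z hz => by
    obtain ⟨w, -, hw⟩ := (image_stronglyClosed hS₀ hφ (ker_le_preimage hker hS₀S P')).ge hz
    exact ⟨w, hw⟩
  refine le_antisymm ?_ fun y hy => ?_
  · rintro _ ⟨x, rfl⟩
    exact mem_preimageAlong.2 ⟨hφS x, ⟨_, h x⟩⟩
  · obtain ⟨hyS, w, hw⟩ := mem_preimageAlong.1 hy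
    obtain ⟨⟨s, hs⟩, hsw⟩ := hr.ge (hP' w.2)
    have hx : s ∈ preimageAlong θ P' := mem_preimageAlong.2 ⟨hs, hsw ▸ w.2⟩
    have h1 := h ⟨s, hx⟩
    rw [show (⟨θ ⟨s, hP hx⟩, hP2 ⟨s, hx⟩⟩ : P') = w from Subtype.ext hsw, hw] at h1
    have hd : (φ ⟨s, hx⟩)⁻¹ * y ∈ S₀ :=
      (hker ((⟨φ ⟨s, hx⟩, hφS _⟩ : S)⁻¹ * ⟨y, hyS⟩)).1 (by
        rw [map_mul, map_inv, ← h1, inv_mul_cancel])
    have h2 := φ.range.mul_mem ⟨⟨s, hx⟩, rfl⟩ (hS₀r hd)
    rwa [mul_inv_cancel_left] at h2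

theorem conj_mem_preimage {P' : Subgroup Ω'} {g : Ω} (hg : g ∈ S)
    (hgN : θ ⟨g, hg⟩ ∈ Subgroup.normalizer (P' : Set Ω')) :
    g ∈ Subgroup.normalizer ((preimageAlong θ P' : Subgroup Ω) : Set Ω) := by
  rw [Subgroup.mem_normalizer_iff]
  intro y
  constructor
  · intro hy
    obtain ⟨hyS, hy'⟩ := mem_preimageAlong.1 hy
    refine mem_preimageAlong.2 ⟨S.mul_mem (S.mul_mem hg hyS) (S.inv_mem hg), ?_⟩
    have h1 := (Subgroup.mem_normalizer_iff.1 hgN _).1 hy'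
    rwa [← map_inv, ← map_mul, ← map_mul] at h1
  · intro hy
    obtain ⟨hyS, hy'⟩ := mem_preimageAlong.1 hy
    have hy₀ : y ∈ S := by
      have h1 := S.mul_mem (S.mul_mem (S.inv_mem hg) hyS) hg
      simpa [mul_assoc] using h1
    refine mem_preimageAlong.2 ⟨hy₀, (Subgroup.mem_normalizer_iff.1 hgN _).2 ?_⟩
    rw [← map_inv, ← map_mul, ← map_mul]
    exact hy'

theorem normalizer_of_preimage {P' : Subgroup Ω'} (hP'r : P' ≤ θ.range) {g : Ω} (hg : g ∈ S)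
    (hgN : g ∈ Subgroup.normalizer ((preimageAlong θ P' : Subgroup Ω) : Set Ω)) :
    θ ⟨g, hg⟩ ∈ Subgroup.normalizer (P' : Set Ω') := by
  have key : ∀ a : S, (a : Ω) ∈ Subgroup.normalizer ((preimageAlong θ P' : Subgroup Ω) : Set Ω) →
      ∀ y ∈ P', θ a * y * (θ a)⁻¹ ∈ P' := by
    intro a ha y hy
    obtain ⟨s, rfl⟩ := hP'r hy
    have h1 := (Subgroup.mem_normalizer_iff.1 ha s).1 (mem_preimageAlong.2 ⟨s.2, hy⟩)
    obtain ⟨h2, h3⟩ := mem_preimageAlong.1 h1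
    rw [← map_inv, ← map_mul, ← map_mul]
    exact h3
  refine Subgroup.mem_normalizer_iff.2 fun y => ⟨key _ hgN y, fun hy => ?_⟩
  have h1 := key (⟨g, hg⟩⁻¹ : S) (inv_mem hgN) _ hy
  simpa [map_inv, mul_assoc] using h1

/-- In a saturated system, a fully normalized preimage gives a fully automized receptive image. -/
theorem factor_automized_receptive [Finite S] [Fact p.Prime] (hS : IsPGroup p S)
    (hF : F.IsSaturated p) (hS₀ : F.StronglyClosed S₀) (hE : F.IsFactorSystem S₀ θ E)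
    {Q' : Subgroup Ω'} (hQ' : Q' ≤ S') (hQn : F.IsFullyNormalized (preimageAlong θ Q')) :
    E.IsFullyAutomized p Q' ∧ E.IsReceptive Q' := by
  obtain ⟨hS₀S, hker, hr, hHom⟩ := hE
  set Q := preimageAlong θ Q' with hQdef
  have hQS : Q ≤ S := preimageAlong_le θ Q'
  have := finite_mulAut (Ω := Ω) hQS
  have := finite_of_le (Ω := Ω) hQS
  have hS₀Q : S₀ ≤ Q := ker_le_preimage hker hS₀S Q'
  let π : Q →* Q' := (θ.comp (Subgroup.inclusion hQS)).codRestrict Q'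
    fun x => (mem_preimageAlong.1 x.2).2
  have hπs : Function.Surjective π := by
    rintro ⟨y, hy⟩
    obtain ⟨s, rfl⟩ := hr.ge (hQ' hy)
    exact ⟨⟨s, mem_preimageAlong.2 ⟨s.2, hy⟩⟩, rfl⟩
  have hπker : ∀ x : Q, π x = 1 ↔ (x : Ω) ∈ S₀ := fun x => by
    rw [← hker ⟨x, hQS x.2⟩]
    exact ⟨fun h => congrArg Subtype.val h, fun h => Subtype.ext h⟩
  have hlift : ∀ a : F.autGroup Q, π.ker ≤ (π.comp (a : MulAut Q).toMonoidHom).ker :=
    fun a x hx => (hπker _).2 (apply_mem_of_stronglyClosed hS₀ hQS a.2 ((hπker x).1 hx))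
  have hex : ∀ a : F.autGroup Q, ∃ f : Q' →* Q', ∀ x, f (π x) = π ((a : MulAut Q) x) :=
    fun a => ⟨π.liftOfSurjective hπs ⟨_, hlift a⟩,
      fun x => MonoidHom.liftOfRightInverse_comp_apply _ _ _ _ x⟩
  choose f hf using hex
  let toA : F.autGroup Q → MulAut Q' := fun a =>
    { f a with
      invFun := f a⁻¹
      left_inv := fun y => by
        obtain ⟨x, rfl⟩ := hπs y
        show f a⁻¹ (f a (π x)) = π x
        rw [hf, hf]
        exact congrArg π (MulAut.inv_apply_self Q (a : MulAut Q) x)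
      right_inv := fun y => by
        obtain ⟨x, rfl⟩ := hπs y
        show f a (f a⁻¹ (π x)) = π x
        rw [hf, hf]
        exact congrArg π (MulAut.apply_inv_self Q (a : MulAut Q) x) }
  have htoA : ∀ a x, toA a (π x) = π ((a : MulAut Q) x) := hf
  let r : F.autGroup Q →* MulAut Q' :=
    { toFun := toA
      map_one' := MulEquiv.ext fun y => by
        obtain ⟨x, rfl⟩ := hπs y
        rw [htoA]
        rfl
      map_mul' := fun a b => MulEquiv.ext fun y => by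
        obtain ⟨x, rfl⟩ := hπs y
        rw [MulAut.mul_apply, htoA, htoA, htoA]
        rfl }
  have hrange : r.range = E.autGroup Q' := by
    ext b
    rw [mem_autGroup_iff hQ', hHom]
    constructor
    · rintro ⟨a, rfl⟩
      refine ⟨hQ', _, (mem_autGroup_iff hQS).1 a.2, hQS, fun x => hQS ((a : MulAut Q) x).2,
        fun x => (mem_preimageAlong.1 x.2).2, fun x => ?_⟩
      exact congrArg Subtype.val (htoA a x)
    · rintro ⟨-, φ, hφ, hP, hφS, hP2, h⟩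
      have hle : φ.range ≤ Q := by
        rintro _ ⟨x, rfl⟩
        refine mem_preimageAlong.2 ⟨hφS x, ?_⟩
        rw [← h x]
        exact (b _).2
      have hφr : φ.range = Q := eq_of_le_of_card_le hQS hle (card_range hφ).ge
      refine ⟨⟨toAut hφ hφr, toAut_mem hφ hφr⟩, MulEquiv.ext fun y => ?_⟩
      obtain ⟨x, rfl⟩ := hπs y
      refine Subtype.ext ?_
      show ((toA _ (π x) : Q') : Ω') = _
      rw [htoA]
      exact (h x).symm
  obtain ⟨-, T, hT⟩ := isFullyAutomized_of_fullyNormalized hS hF hQn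
  have hrT : ∀ β, β ∈ (T : Subgroup (F.autGroup Q)).map r ↔ β ∈ autInducedBy S' Q' := by
    intro β
    constructor
    · rintro ⟨a, ha, rfl⟩
      rw [hT] at ha
      obtain ⟨g, hg, hgx⟩ := mem_autInducedBy_iff.1 (Subgroup.mem_subgroupOf.1 ha)
      refine mem_autInducedBy_iff.2 ⟨θ ⟨g, hg⟩, hr.le ⟨_, rfl⟩, fun y => ?_⟩
      obtain ⟨x, rfl⟩ := hπs y
      show ((toA a (π x) : Q') : Ω') = θ ⟨g, hg⟩ * θ ⟨x, hQS x.2⟩ * (θ ⟨g, hg⟩)⁻¹
      rw [htoA, ← map_inv, ← map_mul, ← map_mul]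
      exact congrArg θ (Subtype.ext (hgx x))
    · intro hβ
      obtain ⟨g', hg', hgx⟩ := mem_autInducedBy_iff.1 hβ
      have hgN' := mem_normalizer_of_aut hgx
      obtain ⟨⟨g, hg⟩, rfl⟩ := hr.ge hg'
      have hgN : g ∈ Subgroup.normalizer (Q : Set Ω) := conj_mem_preimage hg hgN'
      refine ⟨⟨conjAut hgN, autInducedBy_le_autGroup F hQS (conjAut_mem_autInducedBy hg hgN)⟩,
        ?_, MulEquiv.ext fun y => ?_⟩
      · rw [hT]
        exact conjAut_mem_autInducedBy hg hgN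
      · obtain ⟨x, rfl⟩ := hπs y
        refine Subtype.ext ?_
        show ((toA _ (π x) : Q') : Ω') = _
        rw [htoA, hgx]
        show θ _ = θ ⟨g, hg⟩ * θ ⟨x, hQS x.2⟩ * (θ ⟨g, hg⟩)⁻¹
        rw [← map_inv, ← map_mul, ← map_mul]
        rfl
  refine ⟨⟨hQ', ?_⟩, hQ', ?_⟩
  · let r' : F.autGroup Q →* E.autGroup Q' := r.codRestrict _ fun a => hrange.le ⟨a, rfl⟩
    have hr's : Function.Surjective r' := fun b => by
      obtain ⟨a, ha⟩ := hrange.ge b.2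
      exact ⟨a, Subtype.ext ha⟩
    refine ⟨T.mapSurjective hr's, ?_⟩
    ext b
    rw [Sylow.coe_mapSurjective, Subgroup.mem_subgroupOf, ← hrT]
    constructor
    · rintro ⟨a, ha, rfl⟩
      exact ⟨a, ha, rfl⟩
    · rintro ⟨a, ha, hab⟩
      exact ⟨a, ha, Subtype.ext hab⟩
  intro P' φ' hφ' hφ'r
  set P := preimageAlong θ P' with hPdef
  obtain ⟨hP', φ, hφ, hind⟩ := (hHom P' φ').1 hφ'
  have hφr : φ.range = Q := by
    rw [range_induced hS₀ ⟨hS₀S, hker, hr, hHom⟩ hP' hφ hind, hφ'r]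
  obtain ⟨hP, hφS, hP2, h⟩ := hind
  set N' := extender S' P' φ' with hN'def
  set M := preimageAlong θ N' with hMdef
  have hMN : M ≤ normalizerIn S P := fun g hg => by
    obtain ⟨hgS, hg'⟩ := mem_preimageAlong.1 hg
    exact ⟨hgS, conj_mem_preimage hgS (mem_extender_iff.1 hg').2.1⟩
  let e : P ≃* Q := homEquiv hφ hφr
  have he : ∀ x : P, ((e x : Q) : Ω) = φ x := coe_homEquiv hφ hφr
  let τ : M →* MulAut Q := (MulAut.congr e).toMonoidHom.comp
    ((normalizerAut S P).comp (Subgroup.inclusion hMN))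
  have hτA : ∀ g, τ g ∈ F.autGroup Q := fun g =>
    congr_mem_autGroup hφ hφr
      (autInducedBy_le_autGroup F hP ((range_normalizerAut S P).le ⟨_, rfl⟩))
  let τ' : M →* F.autGroup Q := τ.codRestrict _ hτA
  have hLmem : ∀ g, τ' g ∈ (T : Subgroup (F.autGroup Q)) ⊔ r.ker := by
    intro g
    have hg' := (mem_preimageAlong.1 g.2)
    obtain ⟨hgS, hgE⟩ := hg'
    obtain ⟨-, hgN', k', hk', hk'x⟩ := mem_extender_iff.1 hgE
    have hβ : r (τ' g) ∈ autInducedBy S' Q' := by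
      refine mem_autInducedBy_iff.2 ⟨k', hk', fun y => ?_⟩
      obtain ⟨z, rfl⟩ := hπs y
      obtain ⟨x, rfl⟩ := e.surjective z
      show ((toA _ (π (e x)) : Q') : Ω') = _
      rw [htoA]
      show θ ⟨(MulAut.congr e ((normalizerAut S P) (Subgroup.inclusion hMN g)) (e x) : Q), _⟩ =
        k' * θ ⟨φ x, hφS x⟩ * k'⁻¹
      have h1 : θ ⟨g, hgS⟩ * θ ⟨x, hP x.2⟩ * (θ ⟨g, hgS⟩)⁻¹ ∈ P' :=
        (Subgroup.mem_normalizer_iff.1 hgN' _).1 (hP2 x)
      have h2 := hk'x ⟨θ ⟨x, hP x.2⟩, hP2 x⟩ h1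
      rw [h x] at h2
      refine Eq.trans ?_ h2
      have hgx : (g : Ω) * (x : Ω) * (g : Ω)⁻¹ ∈ P :=
        (Subgroup.mem_normalizer_iff.1 (hMN g.2).2 x).1 x.2
      have h3 := h ⟨_, hgx⟩
      refine Eq.trans ?_ (Eq.trans h3.symm (congrArg φ' (Subtype.ext ?_)))
      · refine congrArg θ (Subtype.ext ?_)
        show ((MulAut.congr e _ (e x) : Q) : Ω) = φ _
        rw [congr_apply, he]
        rfl
      · show θ _ = θ ⟨g, hgS⟩ * θ ⟨x, hP x.2⟩ * (θ ⟨g, hgS⟩)⁻¹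
        rw [← map_inv, ← map_mul, ← map_mul]
        rfl
    obtain ⟨t, ht, htr⟩ := (hrT _).2 hβ
    have h4 : t⁻¹ * τ' g ∈ r.ker := by
      rw [MonoidHom.mem_ker, map_mul, map_inv, htr, inv_mul_cancel]
    have h5 := Subgroup.mul_mem_sup ht h4
    rwa [mul_inv_cancel_left] at h5
  set L := (T : Subgroup (F.autGroup Q)) ⊔ r.ker with hLdef
  let τL : M →* L := τ'.codRestrict L hLmem
  have hMp : IsPGroup p M := hS.to_le (hMN.trans inf_le_left)
  obtain ⟨U, hU⟩ :=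
    (IsPGroup.of_surjective hMp τL.rangeRestrict τL.rangeRestrict_surjective).exists_le_sylow
  obtain ⟨l, hl⟩ := MulAction.exists_smul_eq L U (T.subtype (le_sup_left : _ ≤ L))
  obtain ⟨t, ht, k, hk, htk⟩ : ∃ t ∈ (T : Subgroup (F.autGroup Q)), ∃ k ∈ r.ker,
      t * k = (l : F.autGroup Q) := by
    have h1 : (l : F.autGroup Q) ∈
        (((T : Subgroup (F.autGroup Q)) ⊔ r.ker : Subgroup (F.autGroup Q)) : Set _) := l.2
    rw [Subgroup.mul_normal] at h1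
    exact h1
  have hkM : ∀ g, k * τ' g * k⁻¹ ∈ (T : Subgroup (F.autGroup Q)) := by
    intro g
    have h1 : l * τL g * l⁻¹ ∈ ((T.subtype (le_sup_left : _ ≤ L) : Sylow p L) : Subgroup L) := by
      rw [← hl, Sylow.coe_subgroup_smul]
      exact Subgroup.smul_mem_pointwise_smul _ (MulAut.conj l) _ (hU ⟨g, rfl⟩)
    have h2 : (l : F.autGroup Q) * τ' g * (l : F.autGroup Q)⁻¹ ∈
        (T : Subgroup (F.autGroup Q)) := h1
    have h3 := Subgroup.mul_mem _ (Subgroup.mul_mem _ (Subgroup.inv_mem _ ht) h2) ht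
    rw [← htk] at h3
    have e3 : t⁻¹ * (t * k * τ' g * (t * k)⁻¹) * t = k * τ' g * k⁻¹ := by group
    rwa [e3] at h3
  set φk := (Q.subtype.comp (k : MulAut Q).toMonoidHom).comp e.toMonoidHom with hφkdef
  have hφk : φk ∈ F.Hom P :=
    comp_mem' hφ ((mem_autGroup_iff hQS).1 k.2) (fun x => (e x).2) fun _ => rfl
  have hφkr : φk.range = Q := by
    ext y
    constructor
    · rintro ⟨x, rfl⟩
      exact Subtype.property _
    · intro hy
      exact ⟨e.symm ((k : MulAut Q).symm ⟨y, hy⟩), by simp [φk]⟩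
  have hMext : M ≤ extender S P φk := by
    intro g hg
    have h1 := hkM ⟨g, hg⟩
    rw [hT] at h1
    obtain ⟨s, hs, hsx⟩ := mem_autInducedBy_iff.1 (Subgroup.mem_subgroupOf.1 h1)
    refine mem_extender_iff.2 ⟨(hMN hg).1, (hMN hg).2, s, hs, fun x hx => ?_⟩
    have h2 := hsx ((k : MulAut Q) (e x))
    rw [show ((k * τ' ⟨g, hg⟩ * k⁻¹ : F.autGroup Q) : MulAut Q) ((k : MulAut Q) (e x)) =
      (k : MulAut Q) (MulAut.congr e (normalizerAut S P (Subgroup.inclusion hMN ⟨g, hg⟩))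
        ((k : MulAut Q)⁻¹ ((k : MulAut Q) (e x)))) from rfl,
      MulAut.inv_apply_self, congr_apply] at h2
    exact h2
  obtain ⟨ψ, hψ, hψe⟩ := exists_extension (isReceptive_of_fullyNormalized hS hF hQn) hφk hφkr hMext
  obtain ⟨ψ', hψ', hψ'ind⟩ := exists_induced hS hF hS₀ ⟨hS₀S, hker, hr, hHom⟩ hψ
  obtain ⟨hMS, hψS, hM2, hψ'e⟩ := hψ'ind
  have hN'S : N' ≤ S' := fun y hy => (mem_extender_iff.1 hy).1
  have himg : imageAlong θ M = N' := image_preimage hr hN'S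
  refine ⟨ψ'.comp (Subgroup.inclusion himg.ge), restrict_mem hψ' _, fun y hy hyN => ?_⟩
  obtain ⟨⟨s, hs⟩, rfl⟩ := hr.ge (hP' hy)
  have hsP : s ∈ P := mem_preimageAlong.2 ⟨hs, hy⟩
  have hsM : s ∈ M := mem_preimageAlong.2 ⟨hs, hyN⟩
  refine Eq.trans (hψ'e ⟨s, hsM⟩) ?_
  refine Eq.trans ?_ (h ⟨s, hsP⟩).symm
  have hπe : π ((k : MulAut Q) (e ⟨s, hsP⟩)) = π (e ⟨s, hsP⟩) := by
    rw [← htoA]
    exact congrArg (fun a : MulAut Q' => a (π (e ⟨s, hsP⟩))) hk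
  refine Eq.trans ?_ (congrArg Subtype.val hπe)
  exact congrArg θ (Subtype.ext (hψe s hsP hsM))

/-- The factor system of a saturated system modulo a strongly closed subgroup is saturated. -/
theorem isSaturated_factorSystem [Finite S] [Fact p.Prime] (hS : IsPGroup p S)
    (hF : F.IsSaturated p) (hS₀ : F.StronglyClosed S₀) (hE : F.IsFactorSystem S₀ θ E) :
    E.IsSaturated p := by
  intro P' hP'
  obtain ⟨hS₀S, hker, hr, hHom⟩ := id hE
  set P := preimageAlong θ P' with hPdef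
  obtain ⟨Q, ⟨φ, hφ, hφr⟩, hQn⟩ := exists_fullyNormalized F (preimageAlong_le θ P')
  obtain ⟨φ', hφ', hind⟩ := exists_induced hS hF hS₀ hE hφ
  obtain ⟨ψ', hψ', hψe⟩ : ∃ ψ' ∈ E.Hom P', InducedAlong θ φ ψ' := by
    have h1 : ∃ ψ' ∈ E.Hom (imageAlong θ P), InducedAlong θ φ ψ' := ⟨φ', hφ', hind⟩
    rwa [image_preimage hr hP'] at h1
  have hQ : Q = preimageAlong θ ψ'.range := by
    rw [← hφr]
    exact range_induced hS₀ hE hP' hφ hψe
  have hQS' : ψ'.range ≤ S' := range_le hψ'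
  obtain ⟨ha, hre⟩ := factor_automized_receptive hS hF hS₀ hE hQS' (hQ ▸ hQn)
  exact ⟨_, ⟨ψ', hψ', rfl⟩, ha, hre⟩

end Cfsg.Agent.Fusion
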