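import Cfsg.Agent.Lib.Fusion.Alperin

/-!
Alperin's theorem as an induction in which, at each fully normalized centric radical subgroup `R`,
the property is already known for all maps with larger sources; applied to normal subgroups.
-/

set_option autoImplicit false

namespace Cfsg.Agent.Fusion

open Cfsg Cfsg.FusionSystem

variable {Ω : Type*} [Group Ω] {S : Subgroup Ω} {F : FusionSystem S} {p : ℕ}

/-- Alperin induction with an induction hypothesis for larger sources. -/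
theorem alperin_strong_induction [Finite S] [Fact p.Prime] (hS : IsPGroup p S)
    (hF : F.IsSaturated p) {C : ∀ P : Subgroup Ω, (P →* Ω) → Prop}
    (hconj : ∀ (P : Subgroup Ω) (g : Ω), P ≤ S → g ∈ S → C P (conjHom P g))
    (hcomp : ∀ (P Q : Subgroup Ω) (φ : P →* Ω) (ψ : Q →* Ω), φ ∈ F.Hom P → ψ ∈ F.Hom Q →
      C P φ → C Q ψ → ∀ h : ∀ x : P, φ x ∈ Q, C P (ψ.comp (φ.codRestrict Q h)))
    (hinv : ∀ (P : Subgroup Ω) (φ : P →* Ω) (ψ : φ.range →* Ω), φ ∈ F.Hom P → C P φ →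
      ψ ∈ F.Hom φ.range → (∀ x : P, ψ ⟨φ x, ⟨x, rfl⟩⟩ = (x : Ω)) → C φ.range ψ)
    (hgen : ∀ R : Subgroup Ω, F.IsFullyNormalized R → F.IsCentric R → F.IsRadical p R →
      (∀ Q : Subgroup Ω, Nat.card R < Nat.card Q → ∀ ψ ∈ F.Hom Q, C Q ψ) →
      ∀ α ∈ F.autGroup R, C R (R.subtype.comp α.toMonoidHom))
    {P : Subgroup Ω} {φ : P →* Ω} (hφ : φ ∈ F.Hom P) : C P φ := by
  suffices H : ∀ d n : ℕ, Nat.card S + 1 ≤ n + d → ∀ (Q : Subgroup Ω), ∀ ψ ∈ F.Hom Q,
      n ≤ Nat.card Q → C Q ψ from H (Nat.card S + 1) 0 (by omega) P φ hφ (Nat.zero_le _)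
  intro d
  induction d with
  | zero =>
    intro n hn Q ψ hψ hQ
    have := card_le_of_le le_rfl (dom_le hψ)
    omega
  | succ d ih =>
    intro n hn Q ψ hψ hQ
    refine alperin_induction (C := fun Q ψ => n ≤ Nat.card Q → C Q ψ) hS hF ?_ ?_ ?_ ?_ hψ hQ
    · exact fun P g hP hg _ => hconj P g hP hg
    · intro P Q φ ψ hφ hψ hCφ hCψ h hP
      refine hcomp P Q φ ψ hφ hψ (hCφ hP) (hCψ ?_) h
      refine hP.trans ?_
      rw [← card_range hφ]
      exact card_le_of_le (dom_le hψ) (by rintro _ ⟨x, rfl⟩; exact h x)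
    · intro P φ ψ hφ hCφ hψ hi hP
      exact hinv P φ ψ hφ (hCφ ((card_range hφ) ▸ hP)) hψ hi
    · intro R hn' hc hr α hα hR
      exact hgen R hn' hc hr (fun Q hQ χ hχ => ih (n + 1) (by omega) Q χ hχ (by omega)) α hα

/-- `φ` extends to `P ⊔ Q` with `Q` mapped onto `Q`. -/
def ExtendsTo (F : FusionSystem S) (Q : Subgroup Ω) (P : Subgroup Ω) (φ : P →* Ω) : Prop :=
  ∃ ψ ∈ F.Hom (P ⊔ Q), (∀ x : P, ψ (Subgroup.inclusion le_sup_left x) = φ x) ∧
    (Q.subgroupOf (P ⊔ Q)).map ψ = Q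

/-- A map extending to `Q` whose source contains `Q` maps `Q` into itself. -/
theorem ExtendsTo.apply_mem {Q P : Subgroup Ω} {φ : P →* Ω} (h : ExtendsTo F Q P φ)
    (x : P) (hx : (x : Ω) ∈ Q) : φ x ∈ Q := by
  obtain ⟨ψ, -, he, hm⟩ := h
  exact hm.le ⟨⟨x, Subgroup.mem_sup_left x.2⟩, hx, he x⟩

/-- A subgroup `Q`, normal in `S`, is normal in `F` if at every fully normalized centric radical
subgroup `R`, knowing it for maps with larger sources, one has `Q ≤ R` and `Aut_F(R)` maps `Q`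
into itself. -/
theorem isNormal_of_step [Finite S] [Fact p.Prime] (hS : IsPGroup p S) (hF : F.IsSaturated p)
    {Q : Subgroup Ω} (hQS : Q ≤ S) (hQn : ∀ g ∈ S, g ∈ Subgroup.normalizer (Q : Set Ω))
    (hstep : ∀ R : Subgroup Ω, F.IsFullyNormalized R → F.IsCentric R → F.IsRadical p R →
      (∀ P : Subgroup Ω, Nat.card R < Nat.card P → ∀ ψ ∈ F.Hom P, ExtendsTo F Q P ψ) →
      Q ≤ R ∧ ∀ α ∈ F.autGroup R, ∀ x : R, (x : Ω) ∈ Q → ((α x : R) : Ω) ∈ Q) :
    F.IsNormal Q := by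
  refine ⟨hQS, fun P φ hφ => alperin_strong_induction (C := ExtendsTo F Q) hS hF ?_ ?_ ?_ ?_ hφ⟩
  · intro P g hP hg
    refine ⟨conjHom _ g, F.conj_mem (sup_le hP hQS) hg, fun x => rfl, ?_⟩
    refine (map_subgroupOf_eq_iff (F.conj_mem (sup_le hP hQS) hg) le_sup_right).2 fun x hx => ?_
    exact (Subgroup.mem_normalizer_iff.1 (hQn g hg) x).1 hx
  · rintro P P' φ ψ hφ hψ ⟨φ', hφ', hφe, hφm⟩ ⟨ψ', hψ', hψe, hψm⟩ h
    have hmem : ∀ x : ↥(P ⊔ Q), φ' x ∈ P' ⊔ Q := by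
      intro x
      have hle : P ⊔ Q ≤ ((P' ⊔ Q).comap φ').map (P ⊔ Q).subtype := by
        refine sup_le (fun y hy => ?_) fun y hy => ?_
        · refine ⟨⟨y, Subgroup.mem_sup_left hy⟩, ?_, rfl⟩
          exact Subgroup.mem_sup_left ((hφe ⟨y, hy⟩).symm ▸ h ⟨y, hy⟩)
        · refine ⟨⟨y, Subgroup.mem_sup_right hy⟩, ?_, rfl⟩
          exact Subgroup.mem_sup_right (hφm.le ⟨⟨y, Subgroup.mem_sup_right hy⟩, hy, rfl⟩)
      obtain ⟨y, hy, he⟩ := hle x.2
      exact Subtype.ext he ▸ hy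
    have hc := F.comp_mem hφ' hψ' hmem
    refine ⟨_, hc, fun x => ?_, ?_⟩
    · show ψ' ⟨φ' _, _⟩ = ψ ⟨φ x, h x⟩
      rw [← hψe ⟨φ x, h x⟩]
      exact congrArg ψ' (Subtype.ext (hφe x))
    · refine (map_subgroupOf_eq_iff hc le_sup_right).2 fun x hx => ?_
      exact hψm.le ⟨⟨φ' ⟨x, le_sup_right (a := P) hx⟩, hmem _⟩,
        hφm.le ⟨⟨x, le_sup_right (a := P) hx⟩, hx, rfl⟩, rfl⟩
  · rintro P φ ψ hφ ⟨φ', hφ', hφe, hφm⟩ hψ hi
    have hr : φ'.range = φ.range ⊔ Q := by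
      refine le_antisymm ?_ (sup_le ?_ ?_)
      · rintro _ ⟨x, rfl⟩
        have hle : P ⊔ Q ≤ ((φ.range ⊔ Q).comap φ').map (P ⊔ Q).subtype := by
          refine sup_le (fun y hy => ?_) fun y hy => ?_
          · exact ⟨⟨y, Subgroup.mem_sup_left hy⟩, Subgroup.mem_sup_left ⟨⟨y, hy⟩, (hφe ⟨y, hy⟩).symm⟩, rfl⟩
          · exact ⟨⟨y, Subgroup.mem_sup_right hy⟩,
              Subgroup.mem_sup_right (hφm.le ⟨⟨y, Subgroup.mem_sup_right hy⟩, hy, rfl⟩), rfl⟩
        obtain ⟨y, hy, he⟩ := hle x.2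
        exact Subtype.ext he ▸ hy
      · rintro _ ⟨x, rfl⟩
        exact ⟨_, hφe x⟩
      · intro y hy
        obtain ⟨z, -, hz⟩ := hφm.ge hy
        exact ⟨z, hz⟩
    obtain ⟨χ, hχ, -, hχi, -⟩ := exists_inverse hφ' hr
    refine ⟨χ, hχ, ?_, (map_subgroupOf_eq_iff hχ le_sup_right).2 fun y hy => ?_⟩
    · rintro ⟨_, x, rfl⟩
      rw [hi x]
      refine Eq.trans (congrArg χ (Subtype.ext ?_)) (hχi (Subgroup.inclusion le_sup_left x) ?_)
      · exact (hφe x).symm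
      rw [hφe x]
      exact Subgroup.mem_sup_left ⟨x, rfl⟩
    · obtain ⟨z, hz, hzy⟩ := hφm.ge hy
      have h1 := hχi z (hr.le ⟨z, rfl⟩)
      rw [show (⟨y, le_sup_right (a := φ.range) hy⟩ : ↥(φ.range ⊔ Q)) = ⟨φ' z, hr.le ⟨z, rfl⟩⟩ from
        Subtype.ext hzy.symm, h1]
      exact hz
  · intro R hn hc hr hbig α hα
    obtain ⟨hQR, hinv⟩ := hstep R hn hc hr hbig
    have hsup : R ⊔ Q ≤ R := sup_le le_rfl hQR
    have hα' := restrict_mem ((mem_autGroup_iff hn.1).1 hα) hsup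
    exact ⟨_, hα', fun x => rfl,
      (map_subgroupOf_eq_iff hα' le_sup_right).2 fun x hx => hinv α hα ⟨x, hQR hx⟩ hx⟩

end Cfsg.Agent.Fusion

namespace Cfsg.Agent.Fusion

open Cfsg Cfsg.FusionSystem

variable {Ω : Type*} [Group Ω] {S : Subgroup Ω} {F : FusionSystem S} {p : ℕ}

/-- An automorphism of a receptive subgroup normalizing `Aut_S(R)` extends to `N_S(R)`. -/
theorem exists_extension_of_normalizes {R : Subgroup Ω} (hR : F.IsReceptive R) {α : MulAut R}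
    (hα : α ∈ F.autGroup R)
    (h : ∀ β ∈ autInducedBy S R, α * β * α⁻¹ ∈ autInducedBy S R) :
    ∃ ψ ∈ F.Hom (normalizerIn S R),
      ∀ (x : R) (hx : (x : Ω) ∈ normalizerIn S R), ψ ⟨x, hx⟩ = (α x : Ω) := by
  obtain ⟨hφ, hr⟩ := hom_of_mem_autGroup hR.1 hα
  have hle : normalizerIn S R ≤ extender S R (R.subtype.comp α.toMonoidHom) := by
    intro g hg
    obtain ⟨k, hk, hx⟩ := mem_autInducedBy_iff.1 (h _ (conjAut_mem_autInducedBy hg.1 hg.2))
    refine mem_extender_iff.2 ⟨hg.1, hg.2, k, hk, fun x hx' => ?_⟩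
    have h2 := hx (α x)
    rw [MulAut.mul_apply, MulAut.mul_apply, MulAut.inv_apply_self] at h2
    exact h2
  obtain ⟨ψ, hψ, he⟩ := exists_extension hR hφ hr hle
  exact ⟨ψ, hψ, fun x hx => he x x.2 hx⟩

/-- Frattini argument in `Aut_F(R)`: with `K` normal containing `Aut_S(R)`, every automorphism is
an element of `K` times one normalizing `Aut_S(R)`. -/
theorem exists_mul_normalizes [Finite S] [Fact p.Prime] {R : Subgroup Ω}
    (hR : F.IsFullyAutomized p R) (K : Subgroup (F.autGroup R)) [K.Normal]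
    (hK : ∀ a : F.autGroup R, (a : MulAut R) ∈ autInducedBy S R → a ∈ K) (a : F.autGroup R) :
    ∃ k ∈ K, ∃ m : F.autGroup R, a = k * m ∧
      ∀ β ∈ autInducedBy S R, (m : MulAut R) * β * (m : MulAut R)⁻¹ ∈ autInducedBy S R := by
  obtain ⟨hRS, T, hT⟩ := hR
  have := finite_mulAut (Ω := Ω) hRS
  have hTK : (T : Subgroup (F.autGroup R)) ≤ K := fun t ht => hK t (by rw [hT] at ht; exact ht)
  have hsup := Sylow.normalizer_sup_eq_top (T.subtype hTK)
  rw [show ((T.subtype hTK : Sylow p K) : Subgroup K) = (T : Subgroup (F.autGroup R)).subgroupOf K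
    from rfl, Subgroup.map_subgroupOf_eq_of_le hTK, sup_comm] at hsup
  have ha : a ∈ ((K ⊔ Subgroup.normalizer ((T : Subgroup (F.autGroup R)) : Set (F.autGroup R)) :
      Subgroup (F.autGroup R)) : Set (F.autGroup R)) := by rw [hsup]; trivial
  rw [Subgroup.normal_mul] at ha
  obtain ⟨k, hk, m, hm, rfl⟩ := Set.mem_mul.1 ha
  refine ⟨k, hk, m, rfl, fun β hβ => ?_⟩
  have hm' : m ∈ Subgroup.normalizer ((T : Subgroup (F.autGroup R)) : Set (F.autGroup R)) := hm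
  have h := (Subgroup.mem_normalizer_iff.1 hm'
    (⟨β, autInducedBy_le_autGroup F hRS hβ⟩ : F.autGroup R)).1 (by rw [hT]; exact hβ)
  rw [hT] at h
  exact h

/-- Two elements of an automorphism group agree with the same elements of a subgroup. -/
theorem comp_aut_apply {R : Subgroup Ω} (a b : F.autGroup R) (x : R) :
    ((a * b : F.autGroup R) : MulAut R) x = (a : MulAut R) ((b : MulAut R) x) := rfl

end Cfsg.Agent.Fusion
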