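import Mathlib

/-!
Two `p`-automorphisms of an elementary abelian group of order `p ^ 2` generating different subgroups
generate the inversion.
-/

set_option autoImplicit false

namespace Cfsg.Agent.Fusion

variable {U : Type*} [Group U] {p : ℕ}

/-- A nontrivial `p`-automorphism of `C_p × C_p`: its fixed line contains all `x⁻¹ σ x`. -/
theorem exists_fixed_line [Finite U] [hp : Fact p.Prime] (hcomm : ∀ a b : U, a * b = b * a)
    (hcard : Nat.card U = p ^ 2) {σ : MulAut U}
    (hσ : ∃ k, σ ^ p ^ k = 1) (hne : σ ≠ 1) :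
    ∃ u : U, u ≠ 1 ∧ σ u = u ∧ (∀ x, σ x = x → x ∈ Subgroup.zpowers u) ∧
      ∀ x, x⁻¹ * σ x ∈ Subgroup.zpowers u := by
  letI : CommGroup U := { (inferInstance : Group U) with mul_comm := hcomm }
  have hU : IsPGroup p U := IsPGroup.of_card (n := 2) hcard
  let f : U →* U := MonoidHom.mk' (fun x => x⁻¹ * σ x) (fun a b => by
    simp only [map_mul, mul_inv_rev]
    exact (by ac_rfl : b⁻¹ * a⁻¹ * (σ a * σ b) = a⁻¹ * σ a * (b⁻¹ * σ b)))
  have hfker : ∀ x, x ∈ f.ker ↔ σ x = x := fun x => by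
    rw [MonoidHom.mem_ker]
    show x⁻¹ * σ x = 1 ↔ _
    rw [inv_mul_eq_one, eq_comm]
  have hσp : IsPGroup p (Subgroup.zpowers σ) := by
    obtain ⟨k, hk⟩ := hσ
    obtain ⟨j, -, hj⟩ := (Nat.dvd_prime_pow hp.out).1 (orderOf_dvd_of_pow_eq_one hk)
    exact IsPGroup.of_card (n := j) (by rw [Nat.card_zpowers, hj])
  -- a nontrivial fixed point
  obtain ⟨u, hu, hu1⟩ : ∃ u : U, σ u = u ∧ u ≠ 1 := by
    have hdvd : p ∣ Nat.card U := hcard ▸ dvd_pow_self p two_ne_zero
    obtain ⟨b, hb, hne'⟩ := hσp.exists_fixed_point_of_prime_dvd_card_of_fixed_point U hdvd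
      (a := (1 : U)) (fun g => by
        show ((g : MulAut U)) 1 = 1
        exact map_one _)
    exact ⟨b, hb ⟨σ, Subgroup.mem_zpowers σ⟩, fun h => hne' h.symm⟩
  have hker : u ∈ f.ker := (hfker u).2 hu
  obtain ⟨i, hi, hi'⟩ := (Nat.dvd_prime_pow hp.out).1 (hcard ▸ Subgroup.card_subgroup_dvd_card f.ker)
  have hkne : f.ker ≠ ⊥ := fun h => hu1 (by rw [h, Subgroup.mem_bot] at hker; exact hker)
  have hkt : f.ker ≠ ⊤ := fun h => hne (MulEquiv.ext fun x => (hfker x).1 (h ▸ Subgroup.mem_top x))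
  have hkc : Nat.card f.ker = p := by
    interval_cases i
    · exact absurd (Subgroup.card_eq_one.1 (by simpa using hi')) hkne
    · simpa using hi'
    · exact absurd (Subgroup.eq_top_of_card_eq _ (by rw [hi', hcard])) hkt
  have heq : f.ker = Subgroup.zpowers u := by
    refine (Subgroup.eq_of_le_of_card_ge ((Subgroup.zpowers_le).2 hker) ?_).symm
    rw [hkc, Nat.card_zpowers]
    exact Nat.le_of_dvd (orderOf_pos u) (by
      obtain ⟨j, hj⟩ := hU u
      obtain ⟨j', -, hj'⟩ := (Nat.dvd_prime_pow hp.out).1 (orderOf_dvd_of_pow_eq_one hj)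
      rcases j' with - | j'
      · exact absurd (orderOf_eq_one_iff.1 (by simpa using hj')) hu1
      · exact hj' ▸ dvd_pow_self p j'.succ_ne_zero)
  have hrc : Nat.card f.range = p := by
    have h := Subgroup.card_mul_index f.ker
    rw [hkc, Subgroup.index_ker, hcard, sq] at h
    exact Nat.eq_of_mul_eq_mul_left hp.out.pos h
  -- the range is a `σ`-invariant line, so it is fixed
  have hinv : ∀ y ∈ f.range, σ y ∈ f.range := by
    rintro _ ⟨x, rfl⟩
    exact ⟨σ x, by show (σ x)⁻¹ * σ (σ x) = σ (x⁻¹ * σ x); rw [map_mul, map_inv]⟩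
  have hrfix : ∀ y ∈ f.range, σ y = y := by
    by_contra hcon
    obtain ⟨y, hy, hyne⟩ : ∃ y ∈ f.range, σ y ≠ y := by simpa using hcon
    -- if not fixed, the range meets the fixed line trivially
    have hdis : f.range ⊓ f.ker = ⊥ := by
      by_contra hd
      have h1 : f.range ⊓ f.ker = f.range := Subgroup.eq_of_le_of_card_ge inf_le_left (by
        have := Subgroup.card_dvd_of_le (inf_le_left : f.range ⊓ f.ker ≤ f.range)
        rw [hrc] at this ⊢
        rcases (Nat.dvd_prime hp.out).1 this with h | h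
        · exact absurd (Subgroup.card_eq_one.1 h) hd
        · exact h.ge)
      exact hyne ((hfker y).1 ((h1.ge hy).2))
    have hfix1 : ∀ z ∈ f.range, f z = 1 := by
      intro z hz
      have hmem : f z ∈ f.range := ⟨z, rfl⟩
      -- `f` maps the range into itself injectively; iterate to a nontrivial fixed point
      by_contra hz1
      obtain ⟨b, hb, hb1⟩ : ∃ b ∈ f.range, f b = 1 ∧ b ≠ 1 := by
        let X := {y : U // y ∈ f.range}
        letI : MulAction (Subgroup.zpowers σ) X :=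
          { smul := fun g y => ⟨(g : MulAut U) y.1, by
              obtain ⟨g, k, rfl⟩ := g
              have hzp : ∀ y ∈ f.range, (σ ^ k) y ∈ f.range := by
                obtain ⟨n, hn⟩ := (isOfFinOrder_of_finite σ).mem_powers_iff_mem_zpowers.2 (⟨k, rfl⟩ : σ ^ k ∈ Subgroup.zpowers σ)
                simp only at hn
                rw [← hn]
                clear hn
                induction n with
                | zero => simp
                | succ n ih => intro y hy; rw [pow_succ', MulAut.mul_apply]; exact hinv _ (ih y hy)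
              exact hzp y.1 y.2⟩
            one_smul := fun y => Subtype.ext rfl
            mul_smul := fun a b y => Subtype.ext rfl }
        have hdvd : p ∣ Nat.card X := hrc.symm.dvd
        obtain ⟨b, hb, hb'⟩ := hσp.exists_fixed_point_of_prime_dvd_card_of_fixed_point X hdvd
          (a := ⟨1, f.range.one_mem⟩) (fun g => Subtype.ext (map_one (g : MulAut U)))
        refine ⟨b.1, b.2, ?_, fun h => hb' (Subtype.ext h.symm)⟩
        exact MonoidHom.mem_ker.1 ((hfker _).2 (congrArg Subtype.val (hb ⟨σ, Subgroup.mem_zpowers σ⟩)))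
      exact hb1.2 (Subgroup.mem_bot.1 (hdis ▸ ⟨hb, MonoidHom.mem_ker.2 hb1.1⟩))
    exact hyne ((hfker y).1 (MonoidHom.mem_ker.2 (hfix1 y hy)))
  exact ⟨u, hu1, hu, fun x hx => heq ▸ (hfker x).2 hx,
    fun x => heq ▸ (hfker _).2 (hrfix _ ⟨x, rfl⟩)⟩

/-- Two `p`-automorphisms of `C_p × C_p` with distinct generated subgroups generate the inversion. -/
theorem exists_inversion_mem_closure [Finite U] [hp : Fact p.Prime]
    (hcomm : ∀ a b : U, a * b = b * a) (hcard : Nat.card U = p ^ 2)
    (hexp : ∀ x : U, x ^ p = 1) {σ τ : MulAut U}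
    (hσ : ∃ k, σ ^ p ^ k = 1) (hτ : ∃ k, τ ^ p ^ k = 1) (hσ1 : σ ≠ 1)
    (hτσ : τ ∉ Subgroup.zpowers σ) :
    ∃ m ∈ Subgroup.closure ({σ, τ} : Set (MulAut U)), ∀ x, m x = x⁻¹ := by
  letI : CommGroup U := { (inferInstance : Group U) with mul_comm := hcomm }
  have hτ1 : τ ≠ 1 := fun h => hτσ (h ▸ Subgroup.one_mem _)
  obtain ⟨a, ha1, haf, hak, har⟩ := exists_fixed_line hcomm hcard hσ hσ1
  obtain ⟨b, hb1, hbf, hbk, hbr⟩ := exists_fixed_line hcomm hcard hτ hτ1
  have horder : ∀ x : U, x ≠ 1 → orderOf x = p := fun x hx => orderOf_eq_prime (hexp x) hx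
  -- powers of `σ` translate along `a`
  have hpow : ∀ (ρ : MulAut U) (v x c : U), ρ v = v → x⁻¹ * ρ x = c → c ∈ Subgroup.zpowers v →
      ∀ m : ℕ, (ρ ^ m) x = x * c ^ m := by
    intro ρ v x c hv hc hcv m
    have hcfix : ρ c = c := by
      obtain ⟨i, rfl⟩ := Subgroup.mem_zpowers_iff.1 hcv
      rw [map_zpow, hv]
    induction m with
    | zero => simp
    | succ m ih =>
      rw [pow_succ', MulAut.mul_apply, ih, map_mul, map_pow, hcfix, pow_succ',
        show ρ x = x * c by rw [← hc, mul_inv_cancel_left], mul_assoc]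
  have hgen : ∀ (v w : U), v ≠ 1 → w ∉ Subgroup.zpowers v →
      Subgroup.zpowers v ⊔ Subgroup.zpowers w = ⊤ := by
    intro v w hv hw
    refine Subgroup.eq_top_of_card_eq _ ?_
    obtain ⟨i, hi, hi'⟩ := (Nat.dvd_prime_pow hp.out).1
      (hcard ▸ Subgroup.card_subgroup_dvd_card (Subgroup.zpowers v ⊔ Subgroup.zpowers w))
    have hlt : Subgroup.zpowers v < Subgroup.zpowers v ⊔ Subgroup.zpowers w :=
      lt_of_le_of_ne le_sup_left fun h => hw (h ▸ Subgroup.mem_sup_right (Subgroup.mem_zpowers w))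
    have h' : Nat.card (Subgroup.zpowers v) <
        Nat.card ↥(Subgroup.zpowers v ⊔ Subgroup.zpowers w) :=
      Set.Finite.card_lt_card (Set.toFinite _) (SetLike.coe_ssubset_coe.2 hlt)
    rw [Nat.card_zpowers, horder v hv, hi'] at h'
    have h2 : 2 ≤ i := by
      by_contra hlt2
      have : p ^ i ≤ p := by
        interval_cases i <;> simp [hp.out.one_lt.le]
      omega
    rw [hi', show i = 2 by omega, hcard]
  -- the two fixed lines are different
  have hab : b ∉ Subgroup.zpowers a := by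
    intro hmem
    have hbm : Subgroup.zpowers b ≤ Subgroup.zpowers a := (Subgroup.zpowers_le).2 hmem
    have heq : Subgroup.zpowers b = Subgroup.zpowers a := Subgroup.eq_of_le_of_card_ge hbm (by
      rw [Nat.card_zpowers, Nat.card_zpowers, horder a ha1, horder b hb1])
    obtain ⟨x, hx⟩ : ∃ x, x ∉ Subgroup.zpowers a := by
      by_contra hall
      push Not at hall
      have : Subgroup.zpowers a = ⊤ := eq_top_iff.2 fun x _ => hall x
      have h := congrArg (fun H : Subgroup U => Nat.card H) this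
      simp only [Nat.card_zpowers, horder a ha1, Subgroup.card_top, hcard] at h
      have := hp.out.one_lt
      nlinarith
    have hne : x⁻¹ * σ x ≠ 1 := fun h => hx (hak x (inv_mul_eq_one.1 h).symm)
    have hzp : Subgroup.zpowers (x⁻¹ * σ x) = Subgroup.zpowers a :=
      Subgroup.eq_of_le_of_card_ge ((Subgroup.zpowers_le).2 (har x)) (by
        rw [Nat.card_zpowers, Nat.card_zpowers, horder a ha1, horder _ hne])
    have hin : x⁻¹ * τ x ∈ Subgroup.zpowers (x⁻¹ * σ x) := hzp ▸ heq ▸ hbr x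
    obtain ⟨j, hj⟩ := (isOfFinOrder_of_finite _).mem_powers_iff_mem_zpowers.2 hin
    apply hτσ
    refine Subgroup.mem_zpowers_iff.2 ⟨(j : ℤ), ?_⟩
    rw [zpow_natCast]
    have h1 := hgen a x ha1 hx
    refine MulEquiv.ext fun y => ?_
    have hy : y ∈ Subgroup.zpowers a ⊔ Subgroup.zpowers x := h1 ▸ Subgroup.mem_top y
    have hle : Subgroup.zpowers a ⊔ Subgroup.zpowers x ≤
        MonoidHom.eqLocus (σ ^ j : MulAut U).toMonoidHom τ.toMonoidHom := by
      refine sup_le ((Subgroup.zpowers_le).2 ?_) ((Subgroup.zpowers_le).2 ?_)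
      · show (σ ^ j) a = τ a
        rw [hpow σ a a 1 haf (by rw [haf, inv_mul_cancel]) (Subgroup.one_mem _) j]
        have hτa : τ a = a := by
          obtain ⟨i, hi⟩ := Subgroup.mem_zpowers_iff.1 (heq.ge (Subgroup.mem_zpowers a))
          rw [← hi, map_zpow, hbf]
        simp [hτa]
      · show (σ ^ j) x = τ x
        rw [hpow σ a x _ haf rfl (har x) j, show (x⁻¹ * σ x) ^ j = x⁻¹ * τ x from hj,
          mul_inv_cancel_left]
    exact hle hy
  -- normalise: `s b = b a`, `t a = a b⁻¹`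
  have hs : ∃ s ∈ Subgroup.zpowers σ, s a = a ∧ s b = b * a := by
    have hne : b⁻¹ * σ b ≠ 1 := fun h => hab (hak b (inv_mul_eq_one.1 h).symm)
    have hzp : Subgroup.zpowers (b⁻¹ * σ b) = Subgroup.zpowers a :=
      Subgroup.eq_of_le_of_card_ge ((Subgroup.zpowers_le).2 (har b)) (by
        rw [Nat.card_zpowers, Nat.card_zpowers, horder a ha1, horder _ hne])
    obtain ⟨j, hj⟩ := (isOfFinOrder_of_finite _).mem_powers_iff_mem_zpowers.2
      (hzp.ge (Subgroup.mem_zpowers a))
    refine ⟨σ ^ j, Subgroup.pow_mem _ (Subgroup.mem_zpowers σ) j, ?_, ?_⟩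
    · rw [hpow σ a a 1 haf (by rw [haf, inv_mul_cancel]) (Subgroup.one_mem _) j]
      simp
    · rw [hpow σ a b _ haf rfl (har b) j]
      exact congrArg (b * ·) hj
  have ht : ∃ t ∈ Subgroup.zpowers τ, t b = b ∧ t a = a * b⁻¹ := by
    have hna : a ∉ Subgroup.zpowers b := by
      intro h
      apply hab
      have := Subgroup.eq_of_le_of_card_ge ((Subgroup.zpowers_le).2 h) (by
        rw [Nat.card_zpowers, Nat.card_zpowers, horder a ha1, horder b hb1])
      exact this.ge (Subgroup.mem_zpowers b)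
    have hne : a⁻¹ * τ a ≠ 1 := fun h => hna (hbk a (inv_mul_eq_one.1 h).symm)
    have hzp : Subgroup.zpowers (a⁻¹ * τ a) = Subgroup.zpowers b :=
      Subgroup.eq_of_le_of_card_ge ((Subgroup.zpowers_le).2 (hbr a)) (by
        rw [Nat.card_zpowers, Nat.card_zpowers, horder b hb1, horder _ hne])
    obtain ⟨j, hj⟩ := (isOfFinOrder_of_finite _).mem_powers_iff_mem_zpowers.2
      (hzp.ge (Subgroup.inv_mem _ (Subgroup.mem_zpowers b)))
    refine ⟨τ ^ j, Subgroup.pow_mem _ (Subgroup.mem_zpowers τ) j, ?_, ?_⟩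
    · rw [hpow τ b b 1 hbf (by rw [hbf, inv_mul_cancel]) (Subgroup.one_mem _) j]
      simp
    · rw [hpow τ b a _ hbf rfl (hbr a) j]
      exact congrArg (a * ·) hj
  obtain ⟨s, hsm, hsa, hsb⟩ := hs
  obtain ⟨t, htm, htb, hta⟩ := ht
  have hsC : s ∈ Subgroup.closure ({σ, τ} : Set (MulAut U)) :=
    (Subgroup.zpowers_le).2 (Subgroup.subset_closure (by simp)) hsm
  have htC : t ∈ Subgroup.closure ({σ, τ} : Set (MulAut U)) :=
    (Subgroup.zpowers_le).2 (Subgroup.subset_closure (by simp)) htm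
  refine ⟨(s * t * s) * (s * t * s),
    Subgroup.mul_mem _ (Subgroup.mul_mem _ (Subgroup.mul_mem _ hsC htC) hsC)
      (Subgroup.mul_mem _ (Subgroup.mul_mem _ hsC htC) hsC), ?_⟩
  have hwa : (s * t * s) a = b⁻¹ := by
    simp only [MulAut.mul_apply, hsa, hta, map_mul, map_inv, hsb, mul_inv_rev]
    rw [mul_inv_cancel_left]
  have hwb : (s * t * s) b = a := by
    simp only [MulAut.mul_apply, hsb, htb, hta, map_mul, map_inv, hsa]
    rw [mul_inv_rev, mul_inv_cancel_left, mul_comm b a, mul_inv_cancel_right]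
  intro y
  have hy : y ∈ Subgroup.zpowers a ⊔ Subgroup.zpowers b := (hgen a b ha1 hab) ▸ Subgroup.mem_top y
  have hle : Subgroup.zpowers a ⊔ Subgroup.zpowers b ≤
      MonoidHom.eqLocus ((s * t * s) * (s * t * s) : MulAut U).toMonoidHom
        (MulEquiv.inv U).toMonoidHom := by
    refine sup_le ((Subgroup.zpowers_le).2 ?_) ((Subgroup.zpowers_le).2 ?_)
    · show ((s * t * s) * (s * t * s)) a = a⁻¹
      rw [MulAut.mul_apply, hwa, map_inv, hwb]
    · show ((s * t * s) * (s * t * s)) b = b⁻¹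
      rw [MulAut.mul_apply, hwb, hwa]
  exact hle hy

end Cfsg.Agent.Fusion
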