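import Cfsg.Agent.Lib.Fusion.NormalCriteria
import Cfsg.Agent.Lib.Fusion.PairInversion
import Cfsg.Agent.Lib.PGroup.Basic

/-!
An automorphism group of a finite abelian `p`-group whose Sylow `p`-subgroups have order `p`,
generated by a transvection, and are not normal: the abelian group splits as `C_p × C_p` times a
fixed part, and the group contains the inversion of the first factor.
-/

set_option autoImplicit false

namespace Cfsg.Agent.Fusion

variable {A : Type*} [Group A] [Finite A] {p : ℕ} [hp : Fact p.Prime]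

theorem transvection_structure (hcomm : ∀ a b : A, a * b = b * a) (hA : IsPGroup p A)
    (G : Subgroup (MulAut A)) {t : MulAut A} (ht : t ∈ G) {z : A} (hz : z ^ p = 1)
    (htz : t z = z) (htc : ∀ a, a⁻¹ * t a ∈ Subgroup.zpowers z) (ht1 : t ≠ 1)
    (hsyl : ∀ B : Subgroup (MulAut A), B ≤ G → IsPGroup p B → Nat.card B ≤ p)
    (hnn : ∃ g ∈ G, g * t * g⁻¹ ∉ Subgroup.zpowers t) :
    ∃ D C : Subgroup A, D ⊓ C = ⊥ ∧ D ⊔ C = ⊤ ∧ Nat.card D = p ^ 2 ∧ (∀ d ∈ D, d ^ p = 1) ∧
      z ∈ D ∧ z ≠ 1 ∧ (∀ c ∈ C, t c = c) ∧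
      (∀ g ∈ G, (∀ d ∈ D, g d ∈ D) ∧ ∀ c ∈ C, g c ∈ C) ∧
      ∃ s ∈ G, s * t * s⁻¹ = t ∧ (∀ d ∈ D, s d = d⁻¹) ∧ ∀ c ∈ C, s c = c := by
  have : Finite (MulAut A) :=
    Finite.of_injective (fun b : MulAut A => (b : A → A)) DFunLike.coe_injective
  have hnorm : ∀ H : Subgroup A, H.Normal :=
    fun H => ⟨fun h hh g => by rw [hcomm g h, mul_inv_cancel_right]; exact hh⟩
  have hz1 : z ≠ 1 := by
    rintro rfl
    refine ht1 (MulEquiv.ext fun a => ?_)
    have := htc a
    rw [Subgroup.zpowers_one_eq_bot, Subgroup.mem_bot, inv_mul_eq_one] at this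
    exact this.symm
  have horder : ∀ v : A, v ^ p = 1 → v ≠ 1 → orderOf v = p := fun v h h' => orderOf_eq_prime h h'
  have hline : ∀ (v w : A), v ^ p = 1 → w ∈ Subgroup.zpowers v → w ≠ 1 →
      Subgroup.zpowers w = Subgroup.zpowers v := by
    intro v w hv hw hw1
    have hv1 : v ≠ 1 := fun h => hw1 (by simpa [h] using hw)
    have hwp : w ^ p = 1 := by
      obtain ⟨i, rfl⟩ := Subgroup.mem_zpowers_iff.1 hw
      rw [← zpow_natCast, ← zpow_mul, mul_comm, zpow_mul, zpow_natCast, hv, one_zpow]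
    exact Subgroup.eq_of_le_of_card_ge (Subgroup.zpowers_le.2 hw)
      (by rw [Nat.card_zpowers, Nat.card_zpowers, horder v hv hv1, horder w hwp hw1])
  have htrans : ∀ (u : MulAut A) (v a : A), u v = v → a⁻¹ * u a ∈ Subgroup.zpowers v →
      ∀ m : ℕ, (u ^ m) a = a * (a⁻¹ * u a) ^ m := by
    intro u v a huv hua m
    refine aut_pow_apply_of_fixed u (mul_inv_cancel_left a (u a)).symm ?_ m
    obtain ⟨i, hi⟩ := Subgroup.mem_zpowers_iff.1 hua
    rw [← hi, map_zpow, huv]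
  have hpow : ∀ (u : MulAut A) (v : A), v ^ p = 1 → u v = v →
      (∀ a, a⁻¹ * u a ∈ Subgroup.zpowers v) → u ^ p = 1 := by
    intro u v hv huv hua
    refine MulEquiv.ext fun a => ?_
    obtain ⟨i, hi⟩ := Subgroup.mem_zpowers_iff.1 (hua a)
    rw [htrans u v a huv (hua a), ← hi, ← zpow_natCast, ← zpow_mul, mul_comm, zpow_mul,
      zpow_natCast, hv, one_zpow, mul_one, MulAut.one_apply]
  -- two commuting-in-centre transvections of `G` generate the same subgroup
  have hpair : ∀ (u w : MulAut A) (v v' : A), u ∈ G → w ∈ G → u ≠ 1 → w ≠ 1 → v ^ p = 1 →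
      v' ^ p = 1 → u v = v → w v' = v' → (∀ a, a⁻¹ * u a ∈ Subgroup.zpowers v) →
      (∀ a, a⁻¹ * w a ∈ Subgroup.zpowers v') → w v = v →
      Subgroup.zpowers w = Subgroup.zpowers u := by
    intro u w v v' hu hw hu1 hw1 hv hv' huv hwv' hua hwa hwv
    set T2 := Subgroup.zpowers v ⊔ Subgroup.zpowers v' with hT2
    let B : Subgroup (MulAut A) := Subgroup.closure {u, w}
    have hfin : ∀ b ∈ B, b v = v ∧ (∀ a ∈ T2, b a ∈ T2) := by
      intro b hb
      rw [← Subgroup.mem_toSubmonoid, Subgroup.closure_toSubmonoid_of_finite] at hb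
      induction hb using Submonoid.closure_induction with
      | mem b hb =>
        rcases hb with rfl | rfl
        · refine ⟨huv, fun a ha => ?_⟩
          have h1 := T2.mul_mem ha (Subgroup.mem_sup_left (hua a) : a⁻¹ * b a ∈ T2)
          rwa [mul_inv_cancel_left] at h1
        · refine ⟨hwv, fun a ha => ?_⟩
          have h1 := T2.mul_mem ha (Subgroup.mem_sup_right (hwa a) : a⁻¹ * b a ∈ T2)
          rwa [mul_inv_cancel_left] at h1
      | one => exact ⟨rfl, fun a ha => ha⟩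
      | mul b b' _ _ hb hb' =>
        exact ⟨by rw [MulAut.mul_apply, hb'.1, hb.1], fun a ha => hb.2 _ (hb'.2 a ha)⟩
    let T : ℕ → Subgroup A := fun i =>
      if i = 0 then ⊥ else if i = 1 then Subgroup.zpowers v else if i = 2 then T2 else ⊤
    have hT : ∀ (b : B) (i : ℕ), ∀ a ∈ T i, (b : MulAut A) a ∈ T i := by
      intro b i a ha
      simp only [T] at ha ⊢
      split_ifs at ha ⊢
      · rw [Subgroup.mem_bot] at ha ⊢; rw [ha, map_one]
      · obtain ⟨j, rfl⟩ := Subgroup.mem_zpowers_iff.1 ha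
        rw [map_zpow, (hfin b b.2).1]
        exact Subgroup.zpow_mem _ (Subgroup.mem_zpowers v) j
      · exact (hfin b b.2).2 a ha
      · trivial
    have hstep : ∀ (b : MulAut A) (hb : b ∈ B), b v = v →
        (∀ a ∈ T2, a⁻¹ * b a ∈ Subgroup.zpowers v) → (∀ a, a⁻¹ * b a ∈ T2) →
        (⟨b, hb⟩ : B) ∈ seriesStabilizer B T hT := by
      intro b hb hbv h2 h3 i a ha
      rcases i with - | _ | _ | i
      · simp only [T] at ha ⊢
        simp only [Nat.zero_add, one_ne_zero, ↓reduceIte] at ha ⊢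
        obtain ⟨j, rfl⟩ := Subgroup.mem_zpowers_iff.1 ha
        show (v ^ j)⁻¹ * b (v ^ j) ∈ ⊥
        rw [map_zpow, hbv, inv_mul_cancel]
        exact Subgroup.one_mem _
      · simp [T] at ha ⊢
        exact h2 a ha
      · simp [T]
        exact h3 a
      · simp [T]
    have hum : u ∈ B := Subgroup.subset_closure (by simp)
    have hwm : w ∈ B := Subgroup.subset_closure (by simp)
    have hle : B ≤ (seriesStabilizer B T hT).map B.subtype := by
      refine (Subgroup.closure_le _).2 ?_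
      rintro b (rfl | rfl)
      · exact ⟨⟨_, hum⟩, hstep _ _ huv (fun a _ => hua a)
          (fun a => Subgroup.mem_sup_left (hua a)), rfl⟩
      · refine ⟨⟨_, hwm⟩, hstep _ _ hwv (fun a ha => ?_)
          (fun a => Subgroup.mem_sup_right (hwa a)), rfl⟩
        have hfix : T2 ≤ MonoidHom.eqLocus b.toMonoidHom (MonoidHom.id A) :=
          sup_le (Subgroup.zpowers_le.2 hwv) (Subgroup.zpowers_le.2 hwv')
        rw [show b a = a from hfix ha, inv_mul_cancel]
        exact Subgroup.one_mem _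
    have hBp : IsPGroup p B :=
      ((isPGroup_seriesStabilizer hA B T hT rfl (m := 3) (by simp [T])).map B.subtype).to_le hle
    have hBG : B ≤ G := (Subgroup.closure_le _).2 (by rintro b (rfl | rfl); exacts [hu, hw])
    have hou : Nat.card (Subgroup.zpowers u) = p := by
      rw [Nat.card_zpowers, orderOf_eq_prime (hpow u v hv huv hua) hu1]
    have how : Nat.card (Subgroup.zpowers w) = p := by
      rw [Nat.card_zpowers, orderOf_eq_prime (hpow w v' hv' hwv' hwa) hw1]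
    have hc := hsyl B hBG hBp
    rw [Subgroup.eq_of_le_of_card_ge (Subgroup.zpowers_le.2 hwm) (how ▸ hc),
      Subgroup.eq_of_le_of_card_ge (Subgroup.zpowers_le.2 hum) (hou ▸ hc)]
  -- the second transvection
  obtain ⟨g0, hg0, hg0t⟩ := hnn
  have hconj : ∀ g : MulAut A, (g * t * g⁻¹) (g z) = g z ∧
      (∀ a, a⁻¹ * (g * t * g⁻¹) a ∈ Subgroup.zpowers (g z)) ∧ (g z) ^ p = 1 ∧
      g * t * g⁻¹ ≠ 1 := by
    intro g
    refine ⟨?_, fun a => ?_, by rw [← map_pow, hz, map_one], fun h => ht1 ?_⟩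
    · rw [MulAut.mul_apply, MulAut.mul_apply, MulAut.inv_apply_self, htz]
    · obtain ⟨b, rfl⟩ := g.surjective a
      obtain ⟨i, hi⟩ := Subgroup.mem_zpowers_iff.1 (htc b)
      refine Subgroup.mem_zpowers_iff.2 ⟨i, ?_⟩
      rw [← map_zpow, hi, MulAut.mul_apply, MulAut.mul_apply, MulAut.inv_apply_self, map_mul, map_inv]
    · calc t = g⁻¹ * (g * t * g⁻¹) * g := by group
        _ = 1 := by rw [h]; group
  set t' := g0 * t * g0⁻¹ with ht'
  set z' := g0 z with hz'
  obtain ⟨ht'z', ht'c, hz'p, ht'1⟩ := hconj g0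
  rw [← ht', ← hz'] at ht'z' ht'c
  rw [← hz'] at hz'p
  rw [← ht'] at ht'1
  have ht'G : t' ∈ G := G.mul_mem (G.mul_mem hg0 ht) (G.inv_mem hg0)
  have hz'1 : z' ≠ 1 := fun h => hz1 (g0.injective (h.trans (map_one g0).symm))
  have htz' : t z' ≠ z' := fun h =>
    hg0t ((hpair t' t z' z ht'G ht ht'1 ht1 hz'p hz ht'z' htz ht'c htc h).ge
      (Subgroup.mem_zpowers t'))
  have ht'z : t' z ≠ z := fun h =>
    hg0t ((hpair t t' z z' ht ht'G ht1 ht'1 hz hz'p htz ht'z' htc ht'c h).le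
      (Subgroup.mem_zpowers t'))
  have hzz' : z' ∉ Subgroup.zpowers z := fun h => htz' (by
    obtain ⟨i, hi⟩ := Subgroup.mem_zpowers_iff.1 h
    rw [← hi, map_zpow, htz])
  set D : Subgroup A := Subgroup.zpowers z ⊔ Subgroup.zpowers z' with hD
  let C : Subgroup A :=
    { carrier := {a | t a = a ∧ t' a = a}
      one_mem' := ⟨map_one t, map_one t'⟩
      mul_mem' := fun {a b} ha hb => ⟨by rw [map_mul, ha.1, hb.1], by rw [map_mul, ha.2, hb.2]⟩
      inv_mem' := fun {a} ha => ⟨by rw [map_inv, ha.1], by rw [map_inv, ha.2]⟩ }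
  have hDz : z ∈ D := Subgroup.mem_sup_left (Subgroup.mem_zpowers z)
  have hDz' : z' ∈ D := Subgroup.mem_sup_right (Subgroup.mem_zpowers z')
  have hDp : ∀ d ∈ D, d ^ p = 1 := by
    intro d hd
    let P : Subgroup A :=
      { carrier := {a | a ^ p = 1}
        one_mem' := one_pow p
        mul_mem' := fun {a b} (ha : a ^ p = 1) (hb : b ^ p = 1) =>
          show (a * b) ^ p = 1 by rw [(show Commute a b from hcomm a b).mul_pow, ha, hb, mul_one]
        inv_mem' := fun {a} (ha : a ^ p = 1) => show a⁻¹ ^ p = 1 by rw [inv_pow, ha, inv_one] }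
    exact (sup_le (Subgroup.zpowers_le.2 hz) (Subgroup.zpowers_le.2 hz'p) : D ≤ P) hd
  have hDc : Nat.card D = p ^ 2 := by
    have := hnorm (Subgroup.zpowers z)
    rw [hD, PGroup.card_sup_zpowers _ hzz' (by rw [hz'p]; exact Subgroup.one_mem _), Nat.card_zpowers,
      horder z hz hz1, sq]
  have hDmem : ∀ d ∈ D, ∃ i j : ℤ, d = z ^ i * z' ^ j := by
    intro d hd
    have := hnorm (Subgroup.zpowers z)
    have hd' : d ∈ ((Subgroup.zpowers z ⊔ Subgroup.zpowers z' : Subgroup A) : Set A) := hd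
    rw [Subgroup.normal_mul] at hd'
    obtain ⟨a, ha, b, hb, rfl⟩ := hd'
    obtain ⟨i, rfl⟩ := Subgroup.mem_zpowers_iff.1 ha
    obtain ⟨j, rfl⟩ := Subgroup.mem_zpowers_iff.1 hb
    exact ⟨i, j, rfl⟩
  have hmov : ∀ (u : MulAut A) (v a : A), v ^ p = 1 → a ^ p = 1 → u a ≠ a → ∀ i : ℤ,
      u (a ^ i) = a ^ i → a ^ i = 1 := by
    intro u v a _ ha hua i hi
    by_contra h
    have hfix : Subgroup.zpowers (a ^ i) ≤ MonoidHom.eqLocus u.toMonoidHom (MonoidHom.id A) :=
      Subgroup.zpowers_le.2 hi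
    exact hua (hfix ((hline a _ ha ⟨i, rfl⟩ h).ge (Subgroup.mem_zpowers a)))
  have hdis : D ⊓ C = ⊥ := by
    rw [eq_bot_iff]
    rintro d ⟨hd, hdt, hdt'⟩
    obtain ⟨i, j, rfl⟩ := hDmem d hd
    rw [map_mul, map_zpow, htz, mul_right_inj] at hdt
    have hj : z' ^ j = 1 := hmov t z z' hz hz'p htz' j hdt
    rw [hj, mul_one] at hdt' ⊢
    exact Subgroup.mem_bot.2 (hmov t' z' z hz'p hz ht'z i hdt')
  have hspan : ∀ a : A, ∃ w ∈ D, ∃ d ∈ C, a = w * d := by
    intro a
    have hyne : z'⁻¹ * t z' ≠ 1 := fun h => htz' (inv_mul_eq_one.1 h).symm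
    obtain ⟨i, hi⟩ := Subgroup.mem_zpowers_iff.1 ((hline z _ hz (htc z') hyne).ge (htc a))
    set a1 := a * (z' ^ i)⁻¹ with ha1
    have h1 : t a1 = a1 := by
      have hc3 : t a = a * (z'⁻¹ * t z') ^ i := by rw [hi, mul_inv_cancel_left]
      rw [ha1, map_mul, map_inv, map_zpow, hc3]
      nth_rewrite 2 [(mul_inv_cancel_left z' (t z')).symm]
      rw [(show Commute z' (z'⁻¹ * t z') from hcomm _ _).mul_zpow, mul_inv_rev, ← mul_assoc,
        mul_inv_cancel_right]
    have hzne : z⁻¹ * t' z ≠ 1 := fun h => ht'z (inv_mul_eq_one.1 h).symm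
    obtain ⟨j, hj⟩ := Subgroup.mem_zpowers_iff.1 ((hline z' _ hz'p (ht'c z) hzne).ge (ht'c a1))
    refine ⟨z' ^ i * z ^ j, D.mul_mem (D.zpow_mem hDz' i) (D.zpow_mem hDz j),
      a1 * (z ^ j)⁻¹, ⟨?_, ?_⟩, ?_⟩
    · rw [map_mul, map_inv, map_zpow, htz, h1]
    · have hc3 : t' a1 = a1 * (z⁻¹ * t' z) ^ j := by rw [hj, mul_inv_cancel_left]
      rw [map_mul, map_inv, map_zpow, hc3]
      nth_rewrite 2 [(mul_inv_cancel_left z (t' z)).symm]
      rw [(show Commute z (z⁻¹ * t' z) from hcomm _ _).mul_zpow, mul_inv_rev, ← mul_assoc,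
        mul_inv_cancel_right]
    · rw [ha1, hcomm (a * (z' ^ i)⁻¹) (z ^ j)⁻¹, hcomm a (z' ^ i)⁻¹]
      group
  have hsup : D ⊔ C = ⊤ := eq_top_iff.2 fun a _ => by
    obtain ⟨w, hw, d, hd, rfl⟩ := hspan a
    exact Subgroup.mul_mem _ (Subgroup.mem_sup_left hw) (Subgroup.mem_sup_right hd)
  -- every line of `D` is the centre of a transvection fixing `C`
  have hlines : ∀ l ∈ D, l ≠ 1 → ∃ u ∈ G, u ≠ 1 ∧ u l = l ∧
      (∀ a, a⁻¹ * u a ∈ Subgroup.zpowers l) ∧ ∀ c ∈ C, u c = c := by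
    intro l hl hl1
    obtain ⟨i, j, rfl⟩ := hDmem l hl
    by_cases hi : z ^ i = 1
    · rw [hi, one_mul] at hl1 ⊢
      refine ⟨t', ht'G, ht'1, by rw [map_zpow, ht'z'], fun a => ?_, fun c hc => hc.2⟩
      rw [hline z' _ hz'p ⟨j, rfl⟩ hl1]
      exact ht'c a
    obtain ⟨m, hm⟩ := Subgroup.mem_zpowers_iff.1
      ((hline z _ hz ⟨i, rfl⟩ hi).ge (Subgroup.mem_zpowers z))
    have hlm : (z ^ i * z' ^ j) ^ m = z * z' ^ (j * m) := by
      rw [(show Commute (z ^ i) (z' ^ j) from hcomm _ _).mul_zpow, hm, ← zpow_mul]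
    have hzne : z⁻¹ * t' z ≠ 1 := fun h => ht'z (inv_mul_eq_one.1 h).symm
    obtain ⟨k, hk⟩ := (isOfFinOrder_of_finite _).mem_powers_iff_mem_zpowers.2
      ((hline z' _ hz'p (ht'c z) hzne).ge
        (Subgroup.zpow_mem _ (Subgroup.mem_zpowers z') (j * m)))
    simp only at hk
    obtain ⟨h1, h2, -, h4⟩ := hconj (t' ^ k)
    have hcentre : (t' ^ k) z = (z ^ i * z' ^ j) ^ m := by
      rw [htrans t' z' z ht'z' (ht'c z), hk, hlm]
    rw [hcentre] at h1 h2
    have hlm1 : (z ^ i * z' ^ j) ^ m ≠ 1 := by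
      rw [← hcentre]
      exact fun h => hz1 ((t' ^ k).injective (h.trans (map_one _).symm))
    have heq := hline (z ^ i * z' ^ j) _ (hDp _ hl) ⟨m, rfl⟩ hlm1
    refine ⟨_, G.mul_mem (G.mul_mem (G.pow_mem ht'G k) ht) (G.inv_mem (G.pow_mem ht'G k)), h4, ?_,
      fun a => heq ▸ h2 a, fun c hc => ?_⟩
    · have hfix : Subgroup.zpowers ((z ^ i * z' ^ j) ^ m) ≤
          MonoidHom.eqLocus (t' ^ k * t * (t' ^ k)⁻¹).toMonoidHom (MonoidHom.id A) :=
        Subgroup.zpowers_le.2 h1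
      exact hfix (heq.ge (Subgroup.mem_zpowers _))
    · have hk' : ∀ n : ℕ, (t' ^ n) c = c := fun n => by
        induction n with
        | zero => rfl
        | succ n ih => rw [pow_succ, MulAut.mul_apply, hc.2, ih]
      rw [MulAut.mul_apply, MulAut.mul_apply]
      have : (t' ^ k)⁻¹ c = c := by
        conv_lhs => rw [← hk' k]
        exact MulAut.inv_apply_self A (t' ^ k) c
      rw [this, hc.1, hk' k]
  -- every conjugate of `t` respects the decomposition
  have hall : ∀ g ∈ G, g z ∈ D ∧ ∀ c ∈ C, (g * t * g⁻¹) c = c := by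
    intro g hg
    obtain ⟨hvv, hvc, hvp, hv1⟩ := hconj g
    set w := g * t * g⁻¹ with hw
    have hwG : w ∈ G := G.mul_mem (G.mul_mem hg ht) (G.inv_mem hg)
    obtain ⟨l, hlD, hl1, hwl⟩ : ∃ l ∈ D, l ≠ 1 ∧ w l = l := by
      by_cases hwz : w z = z
      · exact ⟨z, hDz, hz1, hwz⟩
      have hne : z⁻¹ * w z ≠ 1 := fun h => hwz (inv_mul_eq_one.1 h).symm
      obtain ⟨b, hb⟩ := Subgroup.mem_zpowers_iff.1 ((hline _ _ hvp (hvc z) hne).ge (hvc z'))
      refine ⟨z' * (z ^ b)⁻¹, D.mul_mem hDz' (D.inv_mem (D.zpow_mem hDz b)), fun h => hzz' ?_, ?_⟩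
      · exact ⟨b, (mul_inv_eq_one.1 h).symm⟩
      · have hc3 : w z' = z' * (z⁻¹ * w z) ^ b := by rw [hb, mul_inv_cancel_left]
        rw [map_mul, map_inv, map_zpow, hc3]
        nth_rewrite 2 [(mul_inv_cancel_left z (w z)).symm]
        rw [(show Commute z (z⁻¹ * w z) from hcomm _ _).mul_zpow, mul_inv_rev, ← mul_assoc,
          mul_inv_cancel_right]
    obtain ⟨u, huG, hu1, hul, huc, huC⟩ := hlines l hlD hl1
    have heq := hpair u w l (g z) huG hwG hu1 hv1 (hDp l hlD) hvp hul hvv huc hvc hwl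
    obtain ⟨n, hn⟩ := (isOfFinOrder_of_finite u).mem_powers_iff_mem_zpowers.2
      (heq.le (Subgroup.mem_zpowers w))
    simp only at hn
    refine ⟨?_, fun c hc => ?_⟩
    · obtain ⟨a, ha⟩ : ∃ a, w a ≠ a := by
        by_contra h
        push Not at h
        exact hv1 (MulEquiv.ext h)
      have hne : a⁻¹ * w a ≠ 1 := fun h => ha (inv_mul_eq_one.1 h).symm
      have h1 : a⁻¹ * w a ∈ Subgroup.zpowers l := by
        rw [← hn, htrans u l a hul (huc a), inv_mul_cancel_left]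
        exact Subgroup.pow_mem _ (huc a) n
      have h2 : g z ∈ Subgroup.zpowers l := by
        have := (hline _ _ hvp (hvc a) hne).ge (Subgroup.mem_zpowers (g z))
        rw [hline _ _ (hDp l hlD) h1 hne] at this
        exact this
      exact (Subgroup.zpowers_le.2 hlD) h2
    · rw [← hn]
      clear hn
      induction n with
      | zero => rfl
      | succ n ih => rw [pow_succ, MulAut.mul_apply, huC c hc, ih]
  have hinv : ∀ g ∈ G, (∀ d ∈ D, g d ∈ D) ∧ ∀ c ∈ C, g c ∈ C := by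
    intro g hg
    refine ⟨fun d hd => ?_, fun c hc => ⟨?_, ?_⟩⟩
    · have hle : D ≤ D.comap g.toMonoidHom := sup_le (Subgroup.zpowers_le.2 (hall g hg).1)
        (Subgroup.zpowers_le.2 (show g (g0 z) ∈ D from (hall (g * g0) (G.mul_mem hg hg0)).1))
      exact hle hd
    · have h := (hall g⁻¹ (G.inv_mem hg)).2 c hc
      rw [inv_inv, MulAut.mul_apply, MulAut.mul_apply] at h
      have h2 := congrArg g h
      rwa [MulAut.apply_inv_self] at h2
    · have h := (hall (g⁻¹ * g0) (G.mul_mem (G.inv_mem hg) hg0)).2 c hc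
      rw [show g⁻¹ * g0 * t * (g⁻¹ * g0)⁻¹ = g⁻¹ * t' * g by rw [ht']; group, MulAut.mul_apply,
        MulAut.mul_apply] at h
      have h2 := congrArg g h
      rwa [MulAut.apply_inv_self] at h2
  -- the inversion
  let M : Subgroup (MulAut A) := Subgroup.closure {t, t'}
  have hMG : M ≤ G := (Subgroup.closure_le _).2 (by rintro b (rfl | rfl); exacts [ht, ht'G])
  have hMfix : ∀ b ∈ M, ∀ c ∈ C, b c = c := by
    intro b hb c hc
    induction hb using Subgroup.closure_induction with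
    | mem b hb => rcases hb with rfl | rfl; exacts [hc.1, hc.2]
    | one => rfl
    | mul b b' _ _ h h' => rw [MulAut.mul_apply, h', h]
    | inv b _ h =>
      conv_lhs => rw [← h]
      exact MulAut.inv_apply_self A b c
  let η : M →* MulAut D :=
    { toFun := fun b =>
        { toFun := fun a => ⟨(b : MulAut A) a, (hinv _ (hMG b.2)).1 a a.2⟩
          invFun := fun a => ⟨(b : MulAut A)⁻¹ a, (hinv _ (hMG (M.inv_mem b.2))).1 a a.2⟩
          left_inv := fun a => Subtype.ext (MulAut.inv_apply_self A (b : MulAut A) a)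
          right_inv := fun a => Subtype.ext (MulAut.apply_inv_self A (b : MulAut A) a)
          map_mul' := fun a a' => Subtype.ext (map_mul (b : MulAut A) (a : A) (a' : A)) }
      map_one' := MulEquiv.ext fun a => rfl
      map_mul' := fun b b' => MulEquiv.ext fun a => rfl }
  let tM : M := ⟨t, Subgroup.subset_closure (by simp)⟩
  let t'M : M := ⟨t', Subgroup.subset_closure (by simp)⟩
  have hτσ : η t'M ∉ Subgroup.zpowers (η tM) := by
    intro h
    have hle : Subgroup.zpowers (η tM) ≤ MulAction.stabilizer (MulAut D) (⟨z, hDz⟩ : D) :=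
      Subgroup.zpowers_le.2 (MulAction.mem_stabilizer_iff.2 (Subtype.ext htz))
    exact ht'z (congrArg Subtype.val (MulAction.mem_stabilizer_iff.1 (hle h)))
  have hσ1 : η tM ≠ 1 := fun h =>
    htz' (congrArg (fun f : MulAut D => ((f ⟨z', hDz'⟩ : D) : A)) h)
  obtain ⟨m, hm, hmv⟩ := exists_inversion_mem_closure (U := D)
    (fun a a' => Subtype.ext (hcomm _ _)) hDc (fun a => Subtype.ext (hDp _ a.2))
    ⟨1, by rw [pow_one, ← map_pow, show tM ^ p = 1 from Subtype.ext (hpow t z hz htz htc), map_one]⟩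
    ⟨1, by rw [pow_one, ← map_pow, show t'M ^ p = 1 from
      Subtype.ext (hpow t' z' hz'p ht'z' ht'c), map_one]⟩ hσ1 hτσ
  obtain ⟨s0, hs0⟩ : ∃ s0 : M, η s0 = m := by
    have : m ∈ η.range := (Subgroup.closure_le _).2 (by
      rintro _ (rfl | rfl)
      exacts [⟨tM, rfl⟩, ⟨t'M, rfl⟩]) hm
    exact this
  have hsD : ∀ d ∈ D, (s0 : MulAut A) d = d⁻¹ := fun d hd =>
    congrArg Subtype.val ((show η s0 ⟨d, hd⟩ = m ⟨d, hd⟩ by rw [hs0]).trans (hmv ⟨d, hd⟩))
  have hsC : ∀ c ∈ C, (s0 : MulAut A) c = c := fun c hc => hMfix _ s0.2 c hc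
  refine ⟨D, C, hdis, hsup, hDc, hDp, hDz, hz1, fun c hc => hc.1, hinv, (s0 : MulAut A),
    hMG s0.2, ?_, hsD, hsC⟩
  rw [mul_inv_eq_iff_eq_mul]
  refine MulEquiv.ext fun a => ?_
  obtain ⟨w, hw, d, hd, rfl⟩ := hspan a
  rw [MulAut.mul_apply, MulAut.mul_apply, map_mul t w d, hd.1, map_mul, map_mul (s0 : MulAut A) w d,
    map_mul, hsC d hd, hd.1, hsD w hw, hsD _ ((hinv t ht).1 w hw), map_inv]

end Cfsg.Agent.Fusion
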