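import Mathlib

/-!
Affine permutations of `β × ZMod p` preserving the blocks `{b} × ZMod p`, inside `Perm α` for
`α ≃ (β × ZMod p) ⊕ γ`.
-/

set_option autoImplicit false
set_option linter.unusedSectionVars false

namespace Cfsg.Agent.Fusion.AltBlocks

open Equiv Equiv.Perm

variable {p : ℕ} [Fact p.Prime] {β γ α : Type*} [Fintype β] [DecidableEq β] [Fintype γ] [DecidableEq γ]
  [Fintype α] [DecidableEq α]

/-- `(b, i) ↦ (π b, d b * i + t b)`. -/
def aff (π : Perm β) (d : β → (ZMod p)ˣ) (t : β → ZMod p) : Perm (β × ZMod p) where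
  toFun x := (π x.1, d x.1 * x.2 + t x.1)
  invFun x := (π⁻¹ x.1, ((d (π⁻¹ x.1))⁻¹ : (ZMod p)ˣ) * (x.2 - t (π⁻¹ x.1)))
  left_inv x := by
    have h : π⁻¹ (π x.1) = x.1 := π.symm_apply_apply _
    refine Prod.ext h ?_
    simp only [h, add_sub_cancel_right, Units.inv_mul_cancel_left]
  right_inv x := by
    refine Prod.ext (π.apply_symm_apply _) ?_
    simp only [Units.mul_inv_cancel_left, sub_add_cancel]

theorem aff_apply (π : Perm β) (d : β → (ZMod p)ˣ) (t : β → ZMod p) (b : β) (i : ZMod p) :
    aff π d t (b, i) = (π b, d b * i + t b) := rfl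

theorem aff_mul (π π' : Perm β) (d d' : β → (ZMod p)ˣ) (t t' : β → ZMod p) :
    aff π d t * aff π' d' t' =
      aff (π * π') (fun b => d (π' b) * d' b) (fun b => d (π' b) * t' b + t (π' b)) := by
  refine Equiv.ext ?_
  rintro ⟨b, i⟩
  simp only [Perm.mul_apply, aff_apply, Units.val_mul]
  refine Prod.ext rfl ?_
  ring

theorem aff_one : aff (1 : Perm β) (1 : β → (ZMod p)ˣ) 0 = 1 := by
  refine Equiv.ext ?_
  rintro ⟨b, i⟩
  simp [aff_apply]

theorem aff_inj {π π' : Perm β} {d d' : β → (ZMod p)ˣ} {t t' : β → ZMod p}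
    (h : aff π d t = aff π' d' t') : π = π' ∧ d = d' ∧ t = t' := by
  have h0 : ∀ b, π b = π' b ∧ t b = t' b := fun b => by
    have := Equiv.congr_fun h (b, 0)
    simpa [aff_apply] using this
  refine ⟨Equiv.ext fun b => (h0 b).1, funext fun b => Units.ext ?_, funext fun b => (h0 b).2⟩
  have := congrArg Prod.snd (Equiv.congr_fun h (b, 1))
  simp only [aff_apply, mul_one, (h0 b).2] at this
  exact add_right_cancel this

/-- Translations. -/
abbrev tr (t : β → ZMod p) : Perm (β × ZMod p) := aff 1 1 t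

theorem tr_apply (t : β → ZMod p) (b : β) (i : ZMod p) : tr t (b, i) = (b, i + t b) := by
  simp [aff_apply]

theorem tr_mul (s t : β → ZMod p) : tr s * tr t = tr (s + t) := by
  rw [aff_mul]
  refine Equiv.ext ?_
  rintro ⟨b, i⟩
  simp [aff_apply, add_comm]

theorem tr_pow (t : β → ZMod p) (k : ℕ) : tr t ^ k = tr (k • t) := by
  induction k with
  | zero => rw [pow_zero, zero_smul]; exact aff_one.symm
  | succ k ih => rw [pow_succ, ih, tr_mul, succ_nsmul]

theorem tr_pow_p (t : β → ZMod p) : tr t ^ p = 1 := by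
  rw [tr_pow, show p • t = 0 from funext fun b => by simp]
  exact aff_one

/-- Block permutations as a homomorphism. -/
def blk : Perm β →* Perm (β × ZMod p) where
  toFun π := aff π 1 0
  map_one' := aff_one
  map_mul' π π' := by rw [aff_mul]; simp; rfl

theorem sign_blk (π : Perm β) (hp : Odd p) : sign (blk (p := p) π) = sign π := by
  have : blk (p := p) π = prodCongrLeft (fun _ : ZMod p => π) := by
    refine Equiv.ext ?_
    rintro ⟨b, i⟩
    simp [blk, aff_apply]
  rw [this, sign_prodCongrLeft, Finset.prod_const, Finset.card_univ, ZMod.card]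
  obtain ⟨k, hk⟩ := hp
  rw [hk, pow_succ, pow_mul, Int.units_sq, one_pow, one_mul]

/-- Diagonal elements as a homomorphism. -/
def diag : (β → (ZMod p)ˣ) →* Perm (β × ZMod p) where
  toFun d := aff 1 d 0
  map_one' := aff_one
  map_mul' d d' := by rw [aff_mul]; simp; rfl

theorem aff_decompose (π : Perm β) (d : β → (ZMod p)ˣ) (t : β → ZMod p) :
    aff π d t = blk π * diag d * tr (fun b => (((d b)⁻¹ : (ZMod p)ˣ) : ZMod p) * t b) := by
  refine Equiv.ext ?_
  rintro ⟨b, i⟩
  simp only [blk, diag, MonoidHom.coe_mk, OneHom.coe_mk, Perm.mul_apply, aff_apply, Pi.one_apply, Pi.zero_apply,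
    Units.val_one, one_mul, add_zero, mul_add, Units.mul_inv_cancel_left, Perm.one_apply]

variable (e : α ≃ (β × ZMod p) ⊕ γ)

/-- Permutations of the blocks, as permutations of `α`. -/
def emb : Perm (β × ZMod p) →* Perm α :=
  (e.symm.permCongrHom.toMonoidHom).comp
    ((Perm.sumCongrHom (β × ZMod p) γ).comp (MonoidHom.inl _ _))

theorem emb_apply_inl (σ : Perm (β × ZMod p)) (x : β × ZMod p) :
    emb e σ (e.symm (.inl x)) = e.symm (.inl (σ x)) := by
  simp [emb]

theorem emb_apply_inr (σ : Perm (β × ZMod p)) (c : γ) :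
    emb e σ (e.symm (.inr c)) = e.symm (.inr c) := by
  simp [emb]

theorem emb_injective : Function.Injective (emb e) := fun σ τ h => Equiv.ext fun x => by
  have := Equiv.congr_fun h (e.symm (.inl x))
  simpa [emb_apply_inl] using this

theorem sign_emb (σ : Perm (β × ZMod p)) : sign (emb e σ) = sign σ := by
  rw [show emb e σ = e.symm.permCongr (Equiv.sumCongr σ 1) from rfl, sign_permCongr, sign_sumCongr,
    map_one, mul_one]

theorem card_support_emb (σ : Perm (β × ZMod p)) : (emb e σ).support.card = σ.support.card := by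
  rw [← Finset.card_map ⟨fun x => e.symm (Sum.inl x), e.symm.injective.comp Sum.inl_injective⟩
    (s := σ.support)]
  congr 1
  ext z
  obtain ⟨u, rfl⟩ := e.symm.surjective z
  rcases u with x | c <;> simp [emb_apply_inl, emb_apply_inr]

variable [Subsingleton γ]

/-- A permutation normalising some emb-image without fixed points among the blocks lies in the image. -/
theorem mem_range_of_fix {g : Perm α} (h : ∀ c, g (e.symm (.inr c)) = e.symm (.inr c)) :
    ∃ σ, g = emb e σ := by
  have key : ∀ (g : Perm α), (∀ c, g (e.symm (.inr c)) = e.symm (.inr c)) → ∀ x,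
      ∃ y, g (e.symm (.inl x)) = e.symm (.inl y) := by
    intro g h x
    obtain ⟨u, hu⟩ := e.symm.surjective (g (e.symm (.inl x)))
    rcases u with y | c
    · exact ⟨y, hu.symm⟩
    · rw [← h c] at hu
      exact absurd (e.symm.injective (g.injective hu.symm)) Sum.inl_ne_inr
  have h' : ∀ c, g⁻¹ (e.symm (.inr c)) = e.symm (.inr c) := fun c => by
    rw [Perm.inv_eq_iff_eq, h]
  choose f hf using key g h
  choose f' hf' using key g⁻¹ h'
  refine ⟨⟨f, f', fun x => ?_, fun x => ?_⟩, Equiv.ext fun z => ?_⟩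
  · have : e.symm (.inl (f' (f x))) = e.symm (.inl x) := by
      rw [← hf', ← hf]; exact g.symm_apply_apply _
    simpa using this
  · have : e.symm (.inl (f (f' x))) = e.symm (.inl x) := by
      rw [← hf, ← hf']; exact g.apply_symm_apply _
    simpa using this
  · obtain ⟨u, rfl⟩ := e.symm.surjective z
    rcases u with x | c
    · rw [emb_apply_inl, hf]; rfl
    · rw [emb_apply_inr, h]

/-- The group generated by the block cycles. -/
def elem : Subgroup (Perm α) where
  carrier := {g | ∃ t, g = emb e (tr t)}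
  one_mem' := ⟨0, by rw [show tr (0 : β → ZMod p) = 1 from aff_one, map_one]⟩
  mul_mem' := by
    rintro a b ⟨s, rfl⟩ ⟨t, rfl⟩
    exact ⟨s + t, by rw [← map_mul, tr_mul]⟩
  inv_mem' := by
    rintro a ⟨t, rfl⟩
    refine ⟨-t, inv_eq_of_mul_eq_one_right ?_⟩
    rw [← map_mul, tr_mul, add_neg_cancel, show tr (0 : β → ZMod p) = 1 from aff_one, map_one]

theorem tr_mem_elem (t : β → ZMod p) : emb e (tr t) ∈ elem e := ⟨t, rfl⟩

theorem tr_ne_fix (b : β) (i : ZMod p) :
    emb e (tr (Pi.single b 1)) (e.symm (.inl (b, i))) ≠ e.symm (.inl (b, i)) := by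
  simp [emb_apply_inl, tr_apply]

theorem fix_of_normalizes {H : Subgroup (Perm α)} (hH : ∀ h ∈ H, ∃ σ, h = emb e σ)
    (hmove : ∀ x : β × ZMod p, ∃ h ∈ H, h (e.symm (.inl x)) ≠ e.symm (.inl x))
    {g : Perm α} (hg : ∀ h ∈ H, g⁻¹ * h * g ∈ H) (c : γ) :
    g (e.symm (.inr c)) = e.symm (.inr c) := by
  obtain ⟨u, hu⟩ := e.symm.surjective (g (e.symm (.inr c)))
  rcases u with x | c'
  · exfalso
    obtain ⟨h, hh, hne⟩ := hmove x
    obtain ⟨σ, hσ⟩ := hH _ (hg h hh)
    have := emb_apply_inr e σ c
    rw [← hσ, Perm.mul_apply, Perm.mul_apply, ← hu, Perm.inv_eq_iff_eq] at this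
    exact hne (by rw [this, ← hu])
  · rw [← hu, Subsingleton.elim c' c]

/-- The normaliser of the block cycles consists of affine maps. -/
theorem exists_aff_of_normalizes {g : Perm α} (hg : g ∈ Subgroup.normalizer (elem e : Set (Perm α))) :
    ∃ π d t, g = emb e (aff π d t) := by
  obtain ⟨σ, rfl⟩ := mem_range_of_fix e (g := g) (fix_of_normalizes e
    (fun h hh => by obtain ⟨t, rfl⟩ := hh; exact ⟨_, rfl⟩)
    (fun x => ⟨_, tr_mem_elem e (Pi.single x.1 1), tr_ne_fix e x.1 x.2⟩)
    fun h hh => by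
      have := (Subgroup.mem_normalizer_iff.mp (inv_mem hg) h).mp hh
      simpa using this)
  have h1 : ∀ b, ∃ s : β → ZMod p, σ * tr (Pi.single b 1) * σ⁻¹ = tr s := by
    intro b
    obtain ⟨s, hs⟩ := (Subgroup.mem_normalizer_iff.mp hg _).mp (tr_mem_elem e (Pi.single b 1))
    exact ⟨s, emb_injective e (by rw [map_mul, map_mul, map_inv]; exact hs)⟩
  choose s hs using h1
  set f : β → β := fun b => (σ (b, 0)).1 with hf
  have hstep : ∀ b i, σ (b, i + 1) = tr (s b) (σ (b, i)) := by
    intro b i
    rw [← hs b, Perm.mul_apply, Perm.mul_apply, show σ⁻¹ (σ (b, i)) = (b, i) from σ.symm_apply_apply _,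
      tr_apply, Pi.single_eq_same]
  have hform : ∀ b (k : ℕ), σ (b, (k : ZMod p)) = (f b, s b (f b) * k + (σ (b, 0)).2) := by
    intro b k
    induction k with
    | zero => simp [hf]
    | succ k ih =>
      rw [Nat.cast_succ, hstep, ih, tr_apply]
      refine Prod.ext rfl ?_
      show _ = _
      ring
  have hform' : ∀ b i, σ (b, i) = (f b, s b (f b) * i + (σ (b, 0)).2) := fun b i => by
    have := hform b i.val
    rwa [ZMod.natCast_zmod_val] at this
  have hd : ∀ b, s b (f b) ≠ 0 := by
    intro b h0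
    have := σ.injective ((hform' b 0).trans ((by rw [h0, zero_mul, zero_mul] : _ = _).trans (hform' b 1).symm))
    simp at this
  have hinj : Function.Injective f := by
    intro b b' hbb
    have h2 : σ (b, ((s b (f b))⁻¹ * ((σ (b', 0)).2 - (σ (b, 0)).2))) = σ (b', 0) := by
      rw [hform', hform' b' 0, ← mul_assoc, mul_inv_cancel₀ (hd b), hbb]
      simp
    exact congrArg Prod.fst (σ.injective h2)
  refine ⟨Equiv.ofBijective f (Finite.injective_iff_bijective.mp hinj), fun b => Units.mk0 _ (hd b),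
    fun b => (σ (b, 0)).2, congrArg (emb e) (Equiv.ext ?_)⟩
  rintro ⟨b, i⟩
  rw [hform', aff_apply]
  rfl

/-- The block cycles contain their centraliser. -/
theorem mem_elem_of_centralizes {g : Perm α} (hg : g ∈ Subgroup.centralizer (elem e : Set (Perm α))) :
    g ∈ elem e := by
  obtain ⟨π, d, t, rfl⟩ := exists_aff_of_normalizes e (Subgroup.centralizer_le_normalizer _ hg)
  have h1 : ∀ b, tr (Pi.single b 1) * aff π d t = aff π d t * tr (Pi.single b 1) := fun b =>
    emb_injective e (by rw [map_mul, map_mul]; exact Subgroup.mem_centralizer_iff.mp hg _ (tr_mem_elem e _))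
  have h2 : ∀ b, π b = b ∧ d b = 1 := by
    intro b
    have := Equiv.congr_fun (h1 b) (b, 0)
    rw [Perm.mul_apply, Perm.mul_apply, tr_apply, aff_apply, tr_apply, Pi.single_eq_same,
      Prod.mk.injEq] at this
    have hb : π b = b := by
      by_contra hne
      rw [aff_apply, Pi.single_eq_of_ne hne] at this
      simp at this
    refine ⟨hb, Units.ext ?_⟩
    rw [aff_apply, hb, Pi.single_eq_same] at this
    simp only [Units.val_one, mul_zero, zero_add] at this ⊢
    have h3 : ((d b : ZMod p)) + t b = t b + 1 := by simpa [add_comm] using this.2.symm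
    exact add_right_cancel (h3.trans (add_comm _ _))
  refine ⟨t, congrArg (emb e) ?_⟩
  rw [show π = 1 from Equiv.ext fun b => (h2 b).1, show d = 1 from funext fun b => (h2 b).2]

/-- The affine maps normalise the block cycles. -/
theorem aff_normalizes (π : Perm β) (d : β → (ZMod p)ˣ) (t : β → ZMod p) :
    emb e (aff π d t) ∈ Subgroup.normalizer (elem e : Set (Perm α)) := by
  refine Subgroup.mem_normalizer_iff_map_conj_eq.mpr (Subgroup.eq_of_le_of_card_ge ?_ ?_)
  · rintro _ ⟨_, ⟨s, rfl⟩, rfl⟩
    refine ⟨fun b => d (π⁻¹ b) * s (π⁻¹ b), ?_⟩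
    show emb e _ * emb e _ * (emb e _)⁻¹ = _
    rw [mul_inv_eq_iff_eq_mul, ← map_mul, ← map_mul, aff_mul, aff_mul]
    refine congrArg (emb e) (Equiv.ext ?_)
    rintro ⟨b, i⟩
    simp [aff_apply]
    ring
  · exact (Subgroup.card_map_of_injective (MulAut.conj _).injective).ge

section Sylow

variable (S : Subgroup (Perm β))

/-- Translations and block permutations from `S`. -/
def sylSub : Subgroup (Perm α) where
  carrier := {g | ∃ π ∈ S, ∃ t, g = emb e (aff π 1 t)}
  one_mem' := ⟨1, S.one_mem, 0, by rw [aff_one, map_one]⟩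
  mul_mem' := by
    rintro a b ⟨π, hπ, t, rfl⟩ ⟨π', hπ', t', rfl⟩
    refine ⟨π * π', S.mul_mem hπ hπ', fun b => t' b + t (π' b), ?_⟩
    rw [← map_mul, aff_mul]
    simp
    rfl
  inv_mem' := by
    rintro a ⟨π, hπ, t, rfl⟩
    refine ⟨π⁻¹, S.inv_mem hπ, fun b => -t (π⁻¹ b), inv_eq_of_mul_eq_one_left ?_⟩
    rw [← map_mul, aff_mul, ← map_one (emb e), ← aff_one (β := β) (p := p)]
    congr 1
    refine Equiv.ext ?_
    rintro ⟨b, i⟩
    simp [aff_apply]

theorem card_sylSub : Nat.card (sylSub e S) = Nat.card S * p ^ Fintype.card β := by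
  have hb : Function.Bijective fun x : S × (β → ZMod p) =>
      (⟨emb e (aff x.1.1 1 x.2), x.1.1, x.1.2, x.2, rfl⟩ : sylSub e S) := by
    constructor
    · rintro ⟨⟨π, _⟩, t⟩ ⟨⟨π', _⟩, t'⟩ h
      obtain ⟨rfl, -, rfl⟩ := aff_inj (emb_injective e (congrArg Subtype.val h))
      rfl
    · rintro ⟨_, π, hπ, t, rfl⟩
      exact ⟨(⟨π, hπ⟩, t), rfl⟩
  rw [← Nat.card_eq_of_bijective _ hb, Nat.card_prod, Nat.card_fun, Nat.card_zmod, Nat.card_eq_fintype_card (α := β)]

/-- `p`-adic Legendre step. -/
theorem factorization_factorial (m r : ℕ) (hr : r ≤ 1) :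
    (p * m + r).factorial.factorization p = m.factorial.factorization p + m := by
  have h : (p * m).factorial.factorization p = m.factorial.factorization p + m := by
    rw [Nat.factorization_def _ Fact.out, Nat.factorization_def _ Fact.out, padicValNat_factorial_mul]
  interval_cases r
  · simpa using h
  · rw [Nat.factorial_succ, Nat.factorization_mul (by omega) (Nat.factorial_ne_zero _), Finsupp.add_apply, h,
      Nat.factorization_eq_zero_of_not_dvd, zero_add]
    intro hd
    exact (Fact.out : p.Prime).not_dvd_one ((Nat.dvd_add_right (dvd_mul_right p m)).mp hd)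

theorem card_sylSub_eq (S : Sylow p (Perm β)) (hγ : Fintype.card γ ≤ 1) :
    Nat.card (sylSub e (S : Subgroup (Perm β))) = p ^ (Fintype.card α).factorial.factorization p := by
  have hα : Fintype.card α = p * Fintype.card β + Fintype.card γ := by
    rw [Fintype.card_congr e, Fintype.card_sum, Fintype.card_prod, ZMod.card, mul_comm]
  rw [card_sylSub, S.card_eq_multiplicity, Nat.card_eq_fintype_card, Fintype.card_perm, ← pow_add, hα,
    factorization_factorial _ _ hγ]

end Sylow

end Cfsg.Agent.Fusion.AltBlocks
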