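import Cfsg.Agent.Lib.Fusion.AltCycle

/-!
A `p`-group of even permutations containing a conjugate of every `p`-group of even permutations has no proper
nontrivial subgroup that is closed under fusion by even permutations, when `p ^ 2 ≤ n` and `6 ≤ n`.
-/

set_option autoImplicit false
set_option linter.unusedSectionVars false

namespace Cfsg.Agent.Fusion.AltClosed

open Equiv Equiv.Perm

variable {α : Type*} [Fintype α] [DecidableEq α] {p : ℕ} [Fact p.Prime]

/-- A strongly closed subgroup `T` of a Sylow subgroup `P` of the alternating group. -/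
structure Closed (p : ℕ) (P T : Subgroup (Perm α)) : Prop where
  le : T ≤ P
  even : P ≤ alternatingGroup α
  pgroup : IsPGroup p P
  sylow : ∀ H : Subgroup (Perm α), IsPGroup p H → H ≤ alternatingGroup α →
    ∃ g ∈ alternatingGroup α, ∀ x ∈ H, g * x * g⁻¹ ∈ P
  closed : ∀ x ∈ T, ∀ g ∈ alternatingGroup α, g * x * g⁻¹ ∈ P → g * x * g⁻¹ ∈ T

variable {P T : Subgroup (Perm α)} (h : Closed p P T)

variable (P T) in
/-- Every even conjugate in `P` lies in `T`. -/
def Good (x : Perm α) : Prop := ∀ g ∈ alternatingGroup α, g * x * g⁻¹ ∈ P → g * x * g⁻¹ ∈ T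

theorem Good.conj {x g : Perm α} (hx : Good P T x) (hg : g ∈ alternatingGroup α) :
    Good P T (g * x * g⁻¹) := by
  intro k hk hkP
  have e : k * (g * x * g⁻¹) * k⁻¹ = (k * g) * x * (k * g)⁻¹ := by group
  rw [e] at hkP ⊢
  exact hx _ (mul_mem hk hg) hkP

include h

theorem good_of_mem {x : Perm α} (hx : x ∈ T) : Good P T x := h.closed x hx

/-- Products inside a `p`-group. -/
theorem good_mul {H : Subgroup (Perm α)} (hH : IsPGroup p H) {x y : Perm α} (hx : x ∈ H) (hy : y ∈ H)
    (hxe : x ∈ alternatingGroup α) (hye : y ∈ alternatingGroup α) (gx : Good P T x) (gy : Good P T y) :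
    Good P T (x * y) := by
  obtain ⟨g₀, hg₀, hc⟩ := h.sylow (H ⊓ alternatingGroup α) (hH.to_le inf_le_left) inf_le_right
  have h1 : g₀ * (x * y) * g₀⁻¹ ∈ T := by
    rw [show g₀ * (x * y) * g₀⁻¹ = (g₀ * x * g₀⁻¹) * (g₀ * y * g₀⁻¹) by group]
    exact mul_mem (gx _ hg₀ (hc _ ⟨hx, hxe⟩)) (gy _ hg₀ (hc _ ⟨hy, hye⟩))
  have h2 := (good_of_mem h h1).conj (inv_mem hg₀)
  convert h2 using 1
  group

theorem good_inv {x : Perm α} (hx : Good P T x) : Good P T x⁻¹ := by
  intro g hg hgP
  have e : g * x⁻¹ * g⁻¹ = (g * x * g⁻¹)⁻¹ := by group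
  rw [e] at hgP ⊢
  exact inv_mem (hx g hg (inv_mem_iff.mp hgP))

omit h in
theorem isPGroup_zpowers {x : Perm α} {k : ℕ} (hx : x ^ p ^ k = 1) : IsPGroup p (Subgroup.zpowers x) := by
  obtain ⟨j, -, hj⟩ := (Nat.dvd_prime_pow Fact.out).mp (orderOf_dvd_of_pow_eq_one hx)
  exact IsPGroup.of_card (n := j) (by rw [Nat.card_zpowers, hj])

theorem good_mul_comm {x y : Perm α} {k : ℕ} (hx : x ^ p ^ k = 1) (hy : y ^ p ^ k = 1) (hxy : Commute x y)
    (hxe : x ∈ alternatingGroup α) (hye : y ∈ alternatingGroup α) (gx : Good P T x) (gy : Good P T y) :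
    Good P T (x * y) := by
  have hn : Subgroup.zpowers y ≤ Subgroup.normalizer (Subgroup.zpowers x : Set (Perm α)) := by
    refine (Subgroup.zpowers_le.mpr ?_).trans (Subgroup.centralizer_le_normalizer _)
    refine Subgroup.mem_centralizer_iff.mpr ?_
    rintro _ ⟨m, rfl⟩
    exact (hxy.zpow_left m).eq
  exact good_mul h ((isPGroup_zpowers hy).to_sup_of_normal_right' (isPGroup_zpowers hx) hn)
    (Subgroup.mem_sup_right (Subgroup.mem_zpowers x)) (Subgroup.mem_sup_left (Subgroup.mem_zpowers y)) hxe hye
    gx gy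

omit h

/-- Permutations of prime order with supports of the same size have the same cycle type. -/
theorem cycleType_eq {x y : Perm α} (hx : x ^ p = 1) (hy : y ^ p = 1) (h : x.support.card = y.support.card) :
    x.cycleType = y.cycleType := by
  have key : ∀ z : Perm α, z ^ p = 1 →
      z.cycleType = Multiset.replicate z.cycleType.card p ∧ z.support.card = z.cycleType.card * p := by
    intro z hz
    have h1 : z.cycleType = Multiset.replicate z.cycleType.card p := by
      refine Multiset.eq_replicate_card.mpr fun b hb => ?_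
      have h2 := (dvd_of_mem_cycleType hb).trans (orderOf_dvd_of_pow_eq_one hz)
      rcases (Nat.dvd_prime Fact.out).mp h2 with h3 | h3
      · exact absurd (two_le_of_mem_cycleType hb) (by omega)
      · exact h3
    refine ⟨h1, ?_⟩
    rw [← sum_cycleType]
    conv_lhs => rw [h1]
    rw [Multiset.sum_replicate, smul_eq_mul]
  obtain ⟨hx1, hx2⟩ := key x hx
  obtain ⟨hy1, hy2⟩ := key y hy
  rw [h, hy2] at hx2
  rw [hx1, hy1, Nat.eq_of_mul_eq_mul_right (Fact.out : p.Prime).pos hx2]

theorem conj_even {x y : Perm α} (hxy : x.cycleType = y.cycleType)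
    (hodd : ¬ Subgroup.centralizer {x} ≤ alternatingGroup α) :
    ∃ g ∈ alternatingGroup α, g * x * g⁻¹ = y := by
  obtain ⟨g, hg⟩ := isConj_iff.mp (isConj_iff_cycleType_eq.mpr hxy)
  rcases Int.units_eq_one_or (sign g) with hs | hs
  · exact ⟨g, mem_alternatingGroup.mpr hs, hg⟩
  · obtain ⟨c, hc, hce⟩ := SetLike.not_le_iff_exists.mp hodd
    have hcs : sign c = -1 := (Int.units_eq_one_or (sign c)).resolve_left hce
    refine ⟨g * c, mem_alternatingGroup.mpr (by rw [map_mul, hs, hcs]; decide), ?_⟩
    have : c * x = x * c := (Subgroup.mem_centralizer_iff.mp hc x rfl).symm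
    rw [← hg]
    calc g * c * x * (g * c)⁻¹ = g * (c * x) * c⁻¹ * g⁻¹ := by group
      _ = _ := by rw [this]; group

theorem support_lt {x r : Perm α} (hsub : r.support ⊆ x.support) {a : α} (hax : x a ≠ a) (har : r a = a) :
    r.support.card < x.support.card :=
  Finset.card_lt_card ((Finset.ssubset_iff_of_subset hsub).mpr ⟨a, mem_support.mpr hax, by simpa using har⟩)

theorem mem_support_mono {x r : Perm α} (h : ∀ z, x z = z → r z = z) : r.support ⊆ x.support := fun z hz =>
  mem_support.mpr fun h' => mem_support.mp hz (h z h')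

theorem mem_alt_of_pow_odd {x : Perm α} {m : ℕ} (hm : Odd m) (hx : x ^ m = 1) : x ∈ alternatingGroup α := by
  refine mem_alternatingGroup.mpr ?_
  have := congrArg sign hx
  rcases Int.units_eq_one_or (sign x) with hs | hs
  · exact hs
  · rw [map_pow, hs, map_one, hm.neg_one_pow] at this
    exact absurd this (by decide)

section Two

/-- An involutive even permutation moves four points in two pairs. -/
theorem exists_two_swaps {t : Perm α} (ht : t * t = 1) (hte : t ∈ alternatingGroup α) (h1 : t ≠ 1) :
    ∃ a c, t a ≠ a ∧ t c ≠ c ∧ c ≠ a ∧ c ≠ t a := by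
  have htt : ∀ z, t (t z) = z := fun z => by rw [← Perm.mul_apply, ht, one_apply]
  obtain ⟨a, ha⟩ : ∃ a, t a ≠ a := by
    by_contra hc
    exact h1 (Perm.ext fun z => by simpa using not_exists.mp hc z)
  by_contra hc
  simp only [not_exists, not_and] at hc
  have : t = swap a (t a) := by
    refine Perm.ext fun z => ?_
    rcases eq_or_ne z a with rfl | hza
    · rw [swap_apply_left]
    rcases eq_or_ne z (t a) with rfl | hzb
    · rw [swap_apply_right, htt]
    rw [swap_apply_of_ne_of_ne hza hzb]
    by_contra hz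
    exact hc a z ha hz hza hzb
  have hs : sign t = -1 := this ▸ sign_swap ha.symm
  rw [mem_alternatingGroup.mp hte] at hs
  exact absurd hs (by decide)

theorem swaps_facts {a b c d : α} (hab : a ≠ b) (hcd : c ≠ d) (hac : c ≠ a) (hbc : c ≠ b) (had : d ≠ a)
    (hbd : d ≠ b) :
    Commute (swap a b) (swap c d) ∧ (swap a b * swap c d) * (swap a b * swap c d) = 1 ∧
      (swap a b * swap c d) ∈ alternatingGroup α ∧
      (swap a b * swap c d).cycleType = {2, 2} := by
  have hdis : (swap a b).Disjoint (swap c d) := by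
    intro z
    rcases eq_or_ne z a with rfl | hza
    · exact Or.inr (swap_apply_of_ne_of_ne hac.symm had.symm)
    rcases eq_or_ne z b with rfl | hzb
    · exact Or.inr (swap_apply_of_ne_of_ne hbc.symm hbd.symm)
    exact Or.inl (swap_apply_of_ne_of_ne hza hzb)
  refine ⟨hdis.commute, ?_, ?_, ?_⟩
  · rw [mul_assoc, ← mul_assoc (swap c d), ← hdis.commute.eq, mul_assoc (swap a b), swap_mul_self, mul_one,
      swap_mul_self]
  · rw [mem_alternatingGroup, map_mul, sign_swap hab, sign_swap hcd]; decide
  · rw [hdis.cycleType_mul, isThreeCycle_swap_cycleType hab, isThreeCycle_swap_cycleType hcd]; rfl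
where
  isThreeCycle_swap_cycleType {x y : α} (hxy : x ≠ y) : (swap x y).cycleType = {2} := by
    rw [(swap_isSwap_iff.mpr hxy).isCycle.cycleType, card_support_swap hxy]

theorem via_facts {β : Type*} [Fintype β] [DecidableEq β] (u : Perm β) (ι : β ↪ α) :
    sign (viaEmbeddingHom ι u) = sign u ∧ (viaEmbeddingHom ι u).support.card = u.support.card ∧
      (u.IsCycle → (viaEmbeddingHom ι u).IsCycle) := by
  classical
  rw [viaEmbeddingHom_apply, viaEmbedding]
  refine ⟨?_, ?_, fun h => ?_⟩
  · convert sign_extendDomain u (Equiv.ofInjective ι.1 ι.2)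
  · convert card_support_extend_domain (Equiv.ofInjective ι.1 ι.2) (g := u)
  · convert h.extendDomain (Equiv.ofInjective ι.1 ι.2)

end Two

include h

/-- The base case: some, hence every, cycle of order `p` (pair of transpositions for `p = 2`) is good. -/
theorem good_two (hp : p = 2) (hT : T ≠ ⊥) :
    ∀ a b c d : α, a ≠ b → c ≠ d → c ≠ a → c ≠ b → d ≠ a → d ≠ b → Good P T (swap a b * swap c d) := by
  obtain ⟨t₀, ht₀, ht₀1⟩ := (Subgroup.bot_or_exists_ne_one T).resolve_left hT
  obtain ⟨k, hk⟩ := h.pgroup ⟨t₀, h.le ht₀⟩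
  have hk' : t₀ ^ p ^ k = 1 := congrArg Subtype.val hk
  obtain ⟨j, -, hj⟩ := (Nat.dvd_prime_pow Fact.out).mp (orderOf_dvd_of_pow_eq_one hk')
  obtain ⟨i, rfl⟩ : ∃ i, j = i + 1 := Nat.exists_eq_succ_of_ne_zero fun h0 => ht₀1 (by
    rw [h0, pow_zero, orderOf_eq_one_iff] at hj; exact hj)
  set t := t₀ ^ p ^ i with ht
  have htT : t ∈ T := pow_mem ht₀ _
  have ht2 : t * t = 1 := by
    have h2 : t ^ p = 1 := by rw [ht, ← pow_mul, ← pow_succ, ← hj, pow_orderOf_eq_one]
    rw [← h2, hp, pow_two]
  have ht1 : t ≠ 1 := fun h1 => by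
    have h2 := Nat.le_of_dvd (pow_pos (Fact.out : p.Prime).pos _) (hj ▸ orderOf_dvd_of_pow_eq_one h1)
    exact absurd h2 (not_le.mpr (Nat.pow_lt_pow_right (Fact.out : p.Prime).one_lt i.lt_succ_self))
  have hte : t ∈ alternatingGroup α := h.even (h.le htT)
  obtain ⟨a, c, ha, hc, hca, hcb⟩ := exists_two_swaps ht2 hte ht1
  have htt : ∀ z, t (t z) = z := fun z => by rw [← Perm.mul_apply, ht2, one_apply]
  have hda : t c ≠ a := fun e => hcb (by rw [← e, htt])
  have hdb : t c ≠ t a := fun e => hca (t.injective e)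
  set g := swap (t a) c * swap a (t a) with hg
  have hge : g ∈ alternatingGroup α := by
    rw [mem_alternatingGroup, hg, map_mul, sign_swap hcb.symm, sign_swap ha.symm]; decide
  have hmove : ∀ x y, t * swap x y = swap (t x) (t y) * t := fun x y => mul_swap_eq_swap_mul t x y
  set e := swap (t a) c * swap a (t c) with he
  obtain ⟨-, -, hee, hect⟩ := swaps_facts hcb.symm hda.symm ha.symm hca.symm hdb hc
  have h1 : g * t * g⁻¹ = e * t := by
    have hcomm : swap a (t a) * t = t * swap a (t a) := by rw [hmove, htt, swap_comm]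
    rw [hg, mul_inv_rev, swap_inv, swap_inv]
    calc swap (t a) c * swap a (t a) * t * (swap a (t a) * swap (t a) c)
        = swap (t a) c * (swap a (t a) * t * swap a (t a)) * swap (t a) c := by group
      _ = swap (t a) c * (t * swap (t a) c) := by
          rw [hcomm, mul_assoc t, swap_mul_self, mul_one, mul_assoc]
      _ = _ := by rw [hmove, htt, he, mul_assoc]
  have het : Commute e t := by
    show e * t = t * e
    rw [he, ← mul_assoc t, hmove, mul_assoc _ t, hmove, htt, htt, ← mul_assoc]
    congr 1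
    exact (swaps_facts hcb.symm hda.symm ha.symm hca.symm hdb hc).1.eq
  have he2 : e ^ p ^ 1 = 1 := by
    rw [pow_one, hp, pow_two]; exact (swaps_facts hcb.symm hda.symm ha.symm hca.symm hdb hc).2.1
  have ht2' : t ^ p ^ 1 = 1 := by rw [pow_one, hp, pow_two, ht2]
  have gt := good_of_mem h htT
  have get : Good P T (e * t) := h1 ▸ gt.conj hge
  have ge : Good P T e := by
    have h3 := good_mul_comm h (x := e * t) (y := t) (k := 1)
      (by rw [het.mul_pow, he2, ht2', mul_one]) ht2' (het.mul_left (Commute.refl t))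
      (mul_mem hee hte) hte get gt
    rwa [mul_assoc, ht2, mul_one] at h3
  intro a' b' c' d' h1' h2' h3' h4' h5' h6'
  obtain ⟨g', hg', hgg⟩ := conj_even (hect.trans (swaps_facts h1' h2' h3' h4' h5' h6').2.2.2.symm) fun hle => by
    have := ((centralizer_le_alternating_iff (g := e)).mp hle).2.2 2
    rw [hect] at this
    simp at this
  rw [← hgg]
  exact ge.conj hg'

theorem good_odd (hp : Odd p) (hn : p ^ 2 ≤ Fintype.card α) (hT : T ≠ ⊥) :
    ∀ c : Perm α, c ^ p = 1 → c.support.card = p → Good P T c := by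
  obtain ⟨t₀, ht₀, ht₀1⟩ := (Subgroup.bot_or_exists_ne_one T).resolve_left hT
  obtain ⟨k, hk⟩ := h.pgroup ⟨t₀, h.le ht₀⟩
  have hk' : t₀ ^ p ^ k = 1 := congrArg Subtype.val hk
  obtain ⟨j, -, hj⟩ := (Nat.dvd_prime_pow Fact.out).mp (orderOf_dvd_of_pow_eq_one hk')
  obtain ⟨i, rfl⟩ : ∃ i, j = i + 1 := Nat.exists_eq_succ_of_ne_zero fun h0 => ht₀1 (by
    rw [h0, pow_zero, orderOf_eq_one_iff] at hj; exact hj)
  set t := t₀ ^ p ^ i with ht
  have htT : t ∈ T := pow_mem ht₀ _
  have htp : t ^ p = 1 := by rw [ht, ← pow_mul, ← pow_succ, ← hj, pow_orderOf_eq_one]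
  have ht1 : t ≠ 1 := fun h1 => by
    have h2 := Nat.le_of_dvd (pow_pos (Fact.out : p.Prime).pos _) (hj ▸ orderOf_dvd_of_pow_eq_one h1)
    exact absurd h2 (not_le.mpr (Nat.pow_lt_pow_right (Fact.out : p.Prime).one_lt i.lt_succ_self))
  have hp3 : 3 ≤ p := by
    obtain ⟨m, hm⟩ := hp
    have := (Fact.out : p.Prime).two_le
    omega
  obtain ⟨a, ha⟩ : ∃ a, t a ≠ a := by
    by_contra hc
    exact ht1 (Perm.ext fun z => by simpa using not_exists.mp hc z)
  set c := t.cycleOf a with hc
  have hcc : c.IsCycle := isCycle_cycleOf _ ha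
  have hcp : c ^ p = 1 := by
    refine orderOf_dvd_iff_pow_eq_one.mp ((orderOf_cycleOf_dvd_orderOf _ a).trans (orderOf_dvd_of_pow_eq_one htp))
  have hcomm : Commute c t := by
    have hmem := cycleOf_mem_cycleFactorsFinset_iff.mpr (mem_support.mpr ha)
    exact (self_mem_cycle_factors_commute hmem).symm.symm
  have hsupp : (c * t).support = t.support := by
    apply subset_antisymm
    · refine mem_support_mono fun z hz => ?_
      rw [Perm.mul_apply, hz, hc, cycleOf_apply]
      split_ifs with h' <;> [exact hz; rfl]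
    · refine mem_support_mono fun z hz => ?_
      by_contra hz'
      rw [Perm.mul_apply, hc, cycleOf_apply] at hz
      split_ifs at hz with h'
      · have h2 : (t ^ 2) z = z := by rw [pow_two, Perm.mul_apply, hz]
        have h3 : (t ^ Nat.gcd 2 p) z = z := by
          obtain ⟨m, hm⟩ := hp
          have : Nat.gcd 2 p = 1 := by rw [hm]; simp
          rw [this, pow_one]
          have h5 : (t ^ (2 * m)) z = z := by
            rw [pow_mul]; exact pow_apply_eq_self_of_apply_eq_self h2 m
          have h6 : (t ^ p) z = z := by rw [htp, one_apply]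
          rw [hm, pow_succ', Perm.mul_apply, h5] at h6
          exact h6
        exact hz' (by simpa [show Nat.gcd 2 p = 1 by obtain ⟨m, hm⟩ := hp; rw [hm]; simp] using h3)
      · exact hz' hz
  have hctp : (c * t) ^ p = 1 := by rw [hcomm.mul_pow, hcp, htp, mul_one]
  have hcard : p ≤ t.support.card := by
    rw [← sum_cycleType]
    have hmem : c.support.card ∈ t.cycleType := by
      rw [cycleType_def]
      exact Multiset.mem_map.mpr ⟨c, cycleOf_mem_cycleFactorsFinset_iff.mpr (mem_support.mpr ha), rfl⟩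
    have : c.support.card = p := by
      rw [← hcc.orderOf]
      exact orderOf_eq_prime hcp hcc.ne_one
    exact this ▸ Multiset.le_sum_of_mem hmem
  have hodd : ∀ x : Perm α, x ^ p = 1 → x ≠ 1 → ¬ Subgroup.centralizer {x} ≤ alternatingGroup α := by
    intro x hx hx1 hle
    obtain ⟨-, h2, h3⟩ := (centralizer_le_alternating_iff (g := x)).mp hle
    obtain ⟨m, hm⟩ := cycleType_prime_order (σ := x) (by
      rw [orderOf_eq_prime hx hx1]; exact Fact.out)
    rw [orderOf_eq_prime hx hx1] at hm
    rw [hm, Multiset.sum_replicate, smul_eq_mul] at h2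
    have h4 := h3 p
    rw [hm, Multiset.count_replicate_self] at h4
    obtain rfl : m = 0 := by omega
    nlinarith
  obtain ⟨g, hge, hg⟩ := conj_even (cycleType_eq htp hctp (by rw [hsupp])) (hodd t htp ht1)
  have gt := good_of_mem h htT
  have gc : Good P T c := by
    have hte := h.even (h.le htT)
    have hce : c ∈ alternatingGroup α := mem_alt_of_pow_odd hp hcp
    have h3 := good_mul_comm h (x := c * t) (y := t⁻¹) (k := 1) (by rwa [pow_one])
      (by rw [pow_one, inv_pow, htp, inv_one]) ((hcomm.mul_left (Commute.refl t)).inv_right)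
      (mul_mem hce hte) (inv_mem hte) (hg ▸ gt.conj hge) (good_inv h gt)
    rwa [mul_inv_cancel_right] at h3
  intro d hd hdc
  have hcs : c.support.card = p := by
    rw [← hcc.orderOf]
    exact orderOf_eq_prime hcp hcc.ne_one
  obtain ⟨g', hg', rfl⟩ := conj_even (cycleType_eq hcp hd (hcs.trans hdc.symm)) (hodd c hcp hcc.ne_one)
  exact gc.conj hg'

/-- Elements of order `p`. -/
theorem good_of_pow_eq_one (hn : p ^ 2 ≤ Fintype.card α) (hT : T ≠ ⊥) :
    ∀ (N : ℕ) (x : Perm α), x.support.card ≤ N → x ∈ alternatingGroup α → x ^ p = 1 → Good P T x := by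
  intro N
  induction N with
  | zero =>
    intro x hx _ _
    rw [Nat.le_zero, Finset.card_eq_zero, support_eq_empty_iff] at hx
    exact hx ▸ good_of_mem h (one_mem T)
  | succ N ih =>
    intro x hx hxe hxp
    rcases eq_or_ne x 1 with rfl | hx1
    · exact good_of_mem h (one_mem T)
    rcases (Fact.out : p.Prime).eq_two_or_odd' with hp | hp
    · have hxx : x * x = 1 := by rw [← hxp, hp, pow_two]
      have htt : ∀ z, x (x z) = z := fun z => by rw [← Perm.mul_apply, hxx, one_apply]
      obtain ⟨a, c, ha, hc, hca, hcb⟩ := exists_two_swaps hxx hxe hx1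
      have hda : x c ≠ a := fun e => hcb (by rw [← e, htt])
      have hdb : x c ≠ x a := fun e => hca (x.injective e)
      obtain ⟨hsc, he2, hee, -⟩ := swaps_facts ha.symm hc.symm hca hcb hda hdb
      set e := swap a (x a) * swap c (x c) with he
      have hex : Commute e x := by
        show e * x = x * e
        conv_rhs => rw [he, ← mul_assoc, mul_swap_eq_swap_mul x, mul_assoc, mul_swap_eq_swap_mul x, htt, htt,
          swap_comm (x a), swap_comm (x c), ← mul_assoc, ← he]
      have hlt : (e * x).support.card < x.support.card := by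
        refine support_lt (mem_support_mono fun z hz => ?_) ha ?_
        · have hne : ∀ u, x u ≠ u → z ≠ u := fun u hu e => hu (e ▸ hz)
          rw [Perm.mul_apply, hz, he, Perm.mul_apply,
            swap_apply_of_ne_of_ne (hne c hc) (hne (x c) (fun e => hc (x.injective e))),
            swap_apply_of_ne_of_ne (hne a ha) (hne (x a) (fun e => ha (x.injective e)))]
        · rw [Perm.mul_apply, he, Perm.mul_apply, swap_apply_of_ne_of_ne hcb.symm hdb.symm, swap_apply_right]
      have hep : e ^ p ^ 1 = 1 := by rw [pow_one, hp, pow_two, he2]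
      have hexp : (e * x) ^ p ^ 1 = 1 := by rw [hex.mul_pow, hep, pow_one, hxp, one_mul]
      have h3 := good_mul_comm h hep hexp ((Commute.refl e).mul_right hex) hee (mul_mem hee hxe)
        (good_two h hp hT _ _ _ _ ha.symm hc.symm hca hcb hda hdb)
        (ih _ (by omega) (mul_mem hee hxe) (by rw [← hexp, pow_one]))
      rwa [← mul_assoc, he2, one_mul] at h3
    · obtain ⟨a, ha⟩ : ∃ a, x a ≠ a := by
        by_contra hc
        exact hx1 (Perm.ext fun z => by simpa using not_exists.mp hc z)
      set c := x.cycleOf a with hc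
      have hcc : c.IsCycle := isCycle_cycleOf _ ha
      have hcp : c ^ p = 1 :=
        orderOf_dvd_iff_pow_eq_one.mp ((orderOf_cycleOf_dvd_orderOf _ a).trans (orderOf_dvd_of_pow_eq_one hxp))
      have hcomm : Commute c x :=
        (self_mem_cycle_factors_commute (cycleOf_mem_cycleFactorsFinset_iff.mpr (mem_support.mpr ha))).symm.symm
      have hlt : (c⁻¹ * x).support.card < x.support.card := by
        refine support_lt (mem_support_mono fun z hz => ?_) ha ?_
        · rw [Perm.mul_apply, hz, Perm.inv_eq_iff_eq, hc, cycleOf_apply]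
          split_ifs <;> simp [hz]
        · rw [Perm.mul_apply, Perm.inv_eq_iff_eq, hc, cycleOf_apply_self]
      have hcs : c.support.card = p := by rw [← hcc.orderOf]; exact orderOf_eq_prime hcp hcc.ne_one
      have hce : c ∈ alternatingGroup α := mem_alt_of_pow_odd hp hcp
      have hexp : (c⁻¹ * x) ^ p = 1 := by rw [hcomm.inv_left.mul_pow, inv_pow, hcp, hxp, inv_one, one_mul]
      have h3 := good_mul_comm h (x := c) (y := c⁻¹ * x) (k := 1) (by rwa [pow_one]) (by rwa [pow_one])
        ((Commute.refl c).inv_right.mul_right hcomm) hce (mul_mem (inv_mem hce) hxe)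
        (good_odd h hp hn hT c hcp hcs) (ih _ (by omega) (mul_mem (inv_mem hce) hxe) hexp)
      rwa [mul_inv_cancel_left] at h3

theorem good_all (hn : p ^ 2 ≤ Fintype.card α) (hT : T ≠ ⊥) :
    ∀ (N : ℕ) (x : Perm α), x.support.card ≤ N → x ∈ alternatingGroup α → (∃ k, x ^ p ^ k = 1) →
      Good P T x := by
  intro N
  induction N with
  | zero =>
    intro x hx _ _
    rw [Nat.le_zero, Finset.card_eq_zero, support_eq_empty_iff] at hx
    exact hx ▸ good_of_mem h (one_mem T)
  | succ N ih =>
    intro x hx hxe ⟨k, hk⟩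
    by_cases hxp : x ^ p = 1
    · exact good_of_pow_eq_one h hn hT _ x le_rfl hxe hxp
    obtain ⟨z, hz⟩ : ∃ z, (x ^ p) z ≠ z := by
      by_contra hc
      exact hxp (Perm.ext fun z => by simpa using not_exists.mp hc z)
    have hxz : x z ≠ z := fun e => hz (pow_apply_eq_self_of_apply_eq_self e p)
    set c := x.cycleOf z with hc
    have hcc : c.IsCycle := isCycle_cycleOf _ hxz
    obtain ⟨j, hjk, hj⟩ := (Nat.dvd_prime_pow Fact.out).mp
      ((orderOf_cycleOf_dvd_orderOf x z).trans (orderOf_dvd_of_pow_eq_one hk))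
    rw [← hc] at hj
    have hj2 : 2 ≤ j := by
      by_contra hlt
      apply hz
      rw [← cycleOf_pow_apply_self x z p, ← hc]
      have : c ^ p = 1 := orderOf_dvd_iff_pow_eq_one.mp (hj ▸ (pow_dvd_pow p (by omega : j ≤ 1)).trans (by rw [pow_one]))
      rw [this, one_apply]
    obtain ⟨a, rfl⟩ : ∃ a, j = a + 1 := ⟨j - 1, by omega⟩
    have : NeZero (p ^ (a + 1)) := ⟨pow_ne_zero _ (Fact.out : p.Prime).ne_zero⟩
    have hcard : c.support.card = p ^ (a + 1) := by rw [← hcc.orderOf, hj]
    obtain ⟨ι⟩ : Nonempty (ZMod (p ^ (a + 1)) ↪ α) := Function.Embedding.nonempty_of_card_le (by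
      rw [ZMod.card, ← hcard]; exact Finset.card_le_univ _)
    have hsh : (viaEmbeddingHom ι (AltCycle.shift p a)).IsCycle ∧
        (viaEmbeddingHom ι (AltCycle.shift p a)).support.card = p ^ (a + 1) := by
      refine ⟨(via_facts _ ι).2.2 (AltCycle.shift_isCycle p a), ?_⟩
      rw [(via_facts _ ι).2.1, Finset.eq_univ_of_forall fun y => mem_support.mpr (AltCycle.shift_ne p a y),
        Finset.card_univ, ZMod.card]
    obtain ⟨g, hg⟩ := isConj_iff.mp (hsh.1.isConj hcc (hsh.2.trans hcard.symm))
    let J : Perm (ZMod (p ^ (a + 1))) →* Perm α := (MulAut.conj g).toMonoidHom.comp (viaEmbeddingHom ι)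
    have hJ : J (AltCycle.shift p a) = c := hg
    have hJout : ∀ (u : Perm (ZMod (p ^ (a + 1)))) w, c w = w → J u w = w := by
      intro u w hw
      show g (viaEmbeddingHom ι u (g⁻¹ w)) = w
      rw [viaEmbeddingHom_apply, viaEmbedding_apply_of_notMem]
      · exact g.apply_symm_apply w
      · rintro ⟨y, hy⟩
        apply AltCycle.shift_ne p a y
        apply ι.injective
        rw [← hg] at hw
        have hw' : g (viaEmbeddingHom ι (AltCycle.shift p a) (g⁻¹ w)) = w := hw
        rw [viaEmbeddingHom_apply, ← hy, viaEmbedding_apply, ← eq_inv_iff_eq, ← hy] at hw'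
        exact hw'
    set r := c⁻¹ * x with hr
    have hrfix : ∀ w, c w ≠ w → r w = w := by
      intro w hw
      rw [hr, Perm.mul_apply, Perm.inv_eq_iff_eq]
      have hs : x.SameCycle z w := by
        by_contra hn'
        exact hw (cycleOf_apply_of_not_sameCycle hn')
      exact (hs.cycleOf_apply).symm
    have hrc : ∀ u, Commute (J u) r := by
      intro u
      refine Disjoint.commute fun w => ?_
      by_cases hw : c w = w
      · exact Or.inl (hJout u w hw)
      · exact Or.inr (hrfix w hw)
    have hcx : Commute c x :=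
      (self_mem_cycle_factors_commute (cycleOf_mem_cycleFactorsFinset_iff.mpr (mem_support.mpr hxz))).symm.symm
    have hrk : r ^ p ^ k = 1 := by
      have hck : c ^ p ^ k = 1 := orderOf_dvd_iff_pow_eq_one.mp (hj ▸ pow_dvd_pow p hjk)
      rw [hr, hcx.inv_left.mul_pow, inv_pow, hck, hk, inv_one, one_mul]
    set y := J (AltCycle.big p a) with hy
    set d := J (AltCycle.small p a) with hd
    have hxyd : x = y * (d * r) := by
      rw [← mul_assoc, hy, hd, ← map_mul, AltCycle.big_mul_small, hJ, hr, mul_inv_cancel_left]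
    have hyp : y ^ p = 1 := by rw [hy, ← map_pow, AltCycle.big_pow_p, map_one]
    have hye : y ∈ alternatingGroup α := by
      rcases (Fact.out : p.Prime).eq_two_or_odd' with hp | hp
      · have hsign : sign y = sign (AltCycle.big p a) := by
          show sign (g * viaEmbeddingHom ι (AltCycle.big p a) * g⁻¹) = _
          rw [map_mul, map_mul, map_inv, mul_right_comm, mul_inv_cancel, one_mul]
          exact (via_facts _ ι).1
        rw [mem_alternatingGroup, hsign, sign_of_cycleType']
        have hct : (AltCycle.big p a).cycleType = Multiset.replicate (p ^ a) 2 := by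
          have hall : ∀ b ∈ (AltCycle.big p a).cycleType, b = 2 := fun b hb => by
            have h1 := (dvd_of_mem_cycleType hb).trans (orderOf_dvd_of_pow_eq_one (AltCycle.big_pow_p p a))
            have h2 := two_le_of_mem_cycleType hb
            rw [hp] at h1
            exact le_antisymm (Nat.le_of_dvd (by omega) h1) h2
          have h1 := Multiset.eq_replicate_card.mpr hall
          have h2 : (AltCycle.big p a).cycleType.sum = p ^ (a + 1) := by
            rw [sum_cycleType, Finset.eq_univ_of_forall fun w => mem_support.mpr (AltCycle.big_ne p a w),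
              Finset.card_univ, ZMod.card]
          rw [h1, Multiset.sum_replicate, smul_eq_mul] at h2
          rw [h1, Nat.eq_of_mul_eq_mul_right two_pos (h2.trans ((pow_succ p a).trans (congrArg (p ^ a * ·) hp)))]
        rw [hct, Multiset.map_replicate, Multiset.prod_replicate]
        have hev : Even (p ^ a) := Nat.even_pow.mpr ⟨hp ▸ even_two, by omega⟩
        rw [show -(-1 : ℤˣ) ^ 2 = -1 by decide]
        exact hev.neg_one_pow
      · exact mem_alt_of_pow_odd hp hyp
    have hdre : d * r ∈ alternatingGroup α := by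
      have : d * r = y⁻¹ * x := by rw [hxyd, inv_mul_cancel_left]
      rw [this]; exact mul_mem (inv_mem hye) hxe
    set K := (AltCycle.grp p a).map J
    have hKp : IsPGroup p K := (AltCycle.isPGroup p a).map J
    have hn' : Subgroup.zpowers r ≤ Subgroup.normalizer (K : Set (Perm α)) := by
      refine (Subgroup.zpowers_le.mpr ?_).trans (Subgroup.centralizer_le_normalizer _)
      refine Subgroup.mem_centralizer_iff.mpr ?_
      rintro _ ⟨u, -, rfl⟩
      exact (hrc u).eq
    have hdr : d * r ∈ Subgroup.zpowers r ⊔ K :=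
      mul_mem (Subgroup.mem_sup_right ⟨_, AltCycle.small_mem p a, rfl⟩)
        (Subgroup.mem_sup_left (Subgroup.mem_zpowers r))
    have hH := (isPGroup_zpowers hrk).to_sup_of_normal_right' hKp hn'
    obtain ⟨w, hw⟩ : ∃ w, c w ≠ w ∧ (d * r) w = w := by
      refine ⟨g (ι 1), ?_, ?_⟩
      · rw [← hJ]
        show g (viaEmbeddingHom ι _ (g⁻¹ (g (ι 1)))) ≠ _
        rw [Perm.coe_inv, Equiv.symm_apply_apply, viaEmbeddingHom_apply, viaEmbedding_apply]
        exact fun e => AltCycle.shift_ne p a 1 (ι.injective (g.injective e))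
      · have hcw : c (g (ι 1)) ≠ g (ι 1) := by
          rw [← hJ]
          show g (viaEmbeddingHom ι _ (g⁻¹ (g (ι 1)))) ≠ _
          rw [Perm.coe_inv, Equiv.symm_apply_apply, viaEmbeddingHom_apply, viaEmbedding_apply]
          exact fun e => AltCycle.shift_ne p a 1 (ι.injective (g.injective e))
        rw [Perm.mul_apply, hrfix _ hcw]
        show g (viaEmbeddingHom ι _ (g⁻¹ (g (ι 1)))) = _
        rw [Perm.coe_inv, Equiv.symm_apply_apply, viaEmbeddingHom_apply, viaEmbedding_apply, AltCycle.small_one]
    have hlt : (d * r).support.card < x.support.card := by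
      refine support_lt (mem_support_mono fun u hu => ?_) (a := w) ?_ hw.2
      · have hcu : c u = u := by
          rw [hc, cycleOf_apply]
          split_ifs <;> simp [hu]
        rw [Perm.mul_apply, hr, Perm.mul_apply, hu, Perm.inv_eq_iff_eq.mpr hcu.symm]
        exact hJout _ u hcu
      · intro e
        apply hw.1
        rw [hc, cycleOf_apply]
        split_ifs <;> simp [e]
    rw [hxyd]
    refine good_mul h hH ?_ hdr hye hdre ?_ ?_
    · exact Subgroup.mem_sup_right ⟨_, AltCycle.big_mem p a, rfl⟩
    · exact good_of_pow_eq_one h hn hT _ y le_rfl hye hyp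
    · exact ih _ (by omega) hdre (by
        obtain ⟨l, hl⟩ := hH ⟨d * r, hdr⟩
        exact ⟨l, congrArg Subtype.val hl⟩)

/-- The conclusion. -/
theorem eq_of_ne_bot (hn : p ^ 2 ≤ Fintype.card α) (hT : T ≠ ⊥) : T = P := by
  refine le_antisymm h.le fun x hx => ?_
  obtain ⟨k, hk⟩ := h.pgroup ⟨x, hx⟩
  have := good_all h hn hT _ x le_rfl (h.even hx) ⟨k, congrArg Subtype.val hk⟩ 1 (one_mem _)
    (by simpa using hx)
  simpa using this

end Cfsg.Agent.Fusion.AltClosed
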