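import Mathlib

/-!
A cycle of length `p ^ (a + 1)` as a product, inside a `p`-group, of an element of order `p` and a cycle of
length `p ^ a`.
-/

set_option autoImplicit false

namespace Cfsg.Agent.Fusion.AltCycle

open Equiv

variable (p a : ℕ)

/-- Reduction modulo `p`. -/
def res : ZMod (p ^ (a + 1)) →+* ZMod p := ZMod.castHom (dvd_pow_self p a.succ_ne_zero) (ZMod p)

/-- The full cycle. -/
def shift : Perm (ZMod (p ^ (a + 1))) := Equiv.addRight 1

theorem shift_apply (z : ZMod (p ^ (a + 1))) : shift p a z = z + 1 := rfl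

/-- The translation by `p` on the multiples of `p`. -/
def small : Perm (ZMod (p ^ (a + 1))) where
  toFun z := if res p a z = 0 then z + p else z
  invFun z := if res p a z = 0 then z - p else z
  left_inv z := by
    by_cases h : res p a z = 0 <;> simp [h]
  right_inv z := by
    by_cases h : res p a z = 0 <;> simp [h]

theorem small_apply (z : ZMod (p ^ (a + 1))) : small p a z = if res p a z = 0 then z + p else z := rfl

/-- The element of order `p`. -/
def big : Perm (ZMod (p ^ (a + 1))) := shift p a * (small p a)⁻¹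

theorem big_apply (z : ZMod (p ^ (a + 1))) :
    big p a z = if res p a z = 0 then z - p + 1 else z + 1 := by
  rw [big, Perm.mul_apply, shift_apply, show (small p a)⁻¹ z = if res p a z = 0 then z - p else z from rfl]
  split_ifs <;> rfl

theorem big_mul_small : big p a * small p a = shift p a := inv_mul_cancel_right _ _

theorem res_big (z : ZMod (p ^ (a + 1))) : res p a (big p a z) = res p a z + 1 := by
  rw [big_apply]
  split_ifs <;> simp

/-- A `p`-group containing `big` and `small`. -/
def grp : Subgroup (Perm (ZMod (p ^ (a + 1)))) where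
  carrier := {g | (∀ z, g (z + p) = g z + p) ∧ ∃ k, ∀ z, res p a (g z) = res p a z + k}
  one_mem' := ⟨fun z => rfl, 0, fun z => by simp⟩
  mul_mem' := by
    rintro f g ⟨hf, k, hk⟩ ⟨hg, l, hl⟩
    refine ⟨fun z => by simp [hg, hf], l + k, fun z => ?_⟩
    rw [Perm.mul_apply, hk, hl, add_assoc]
  inv_mem' := by
    rintro f ⟨hf, k, hk⟩
    refine ⟨fun z => f.injective ?_, -k, fun z => ?_⟩
    · simp [hf]
    · have := hk (f⁻¹ z)
      simp only [Perm.coe_inv, Equiv.apply_symm_apply] at this ⊢
      rw [this, add_neg_cancel_right]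

theorem small_mem : small p a ∈ grp p a := by
  refine ⟨fun z => ?_, 0, fun z => ?_⟩
  · rw [small_apply, small_apply]
    have h : res p a (z + p) = res p a z := by simp
    rw [h]
    split_ifs <;> ring
  · rw [small_apply]
    split_ifs <;> simp

theorem shift_mem : shift p a ∈ grp p a :=
  ⟨fun z => by simp [shift_apply, add_right_comm], 1, fun z => by simp [shift_apply]⟩

theorem big_mem : big p a ∈ grp p a := mul_mem (shift_mem p a) (inv_mem (small_mem p a))

variable [Fact p.Prime]

theorem exists_eq_mul {z : ZMod (p ^ (a + 1))} (h : res p a z = 0) : ∃ j : ℕ, z = j * p := by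
  have : NeZero (p ^ (a + 1)) := ⟨pow_ne_zero _ (Fact.out : p.Prime).ne_zero⟩
  have h1 : (z.val : ZMod p) = 0 := by
    rw [← h, res, ZMod.castHom_apply, ZMod.natCast_val]
  obtain ⟨j, hj⟩ := (ZMod.natCast_eq_zero_iff _ _).mp h1
  refine ⟨j, ?_⟩
  rw [← ZMod.natCast_zmod_val z, hj, Nat.cast_mul, mul_comm]

theorem isPGroup : IsPGroup p (grp p a) := by
  rintro ⟨g, hg⟩
  refine ⟨a + 1, Subtype.ext (Equiv.ext fun z => ?_)⟩
  have hh : g ^ p ∈ grp p a := pow_mem hg p
  obtain ⟨hg1, k, hk⟩ := hg
  have hres : ∀ (m : ℕ) z, res p a ((g ^ m) z) = res p a z + m * k := by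
    intro m
    induction m with
    | zero => simp
    | succ m ih =>
      intro z
      rw [pow_succ' g, Perm.mul_apply, hk, ih, Nat.cast_succ, add_mul, one_mul, add_assoc]
  obtain ⟨hh1, -⟩ := hh
  have hper : ∀ (j : ℕ) z, (g ^ p) (z + j * p) = (g ^ p) z + j * p := by
    intro j
    induction j with
    | zero => simp
    | succ j ih =>
      intro z
      rw [Nat.cast_succ, add_mul, one_mul, ← add_assoc, hh1, ih, add_assoc]
  obtain ⟨q, hq⟩ := exists_eq_mul p a (z := (g ^ p) z - z) (by rw [map_sub, hres]; simp)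
  have hiter : ∀ m : ℕ, ((g ^ p) ^ m) z = z + (m * q : ℕ) * p := by
    intro m
    induction m with
    | zero => simp
    | succ m ih =>
      rw [pow_succ' (g ^ p), Perm.mul_apply, ih, hper, sub_eq_iff_eq_add.mp hq, add_mul m 1 q, one_mul,
        Nat.cast_add]
      ring
  show (g ^ p ^ (a + 1)) z = z
  rw [show g ^ p ^ (a + 1) = (g ^ p) ^ p ^ a by rw [← pow_mul]; exact congrArg (g ^ ·) (pow_succ' p a), hiter]
  rw [show ((p ^ a * q : ℕ) : ZMod (p ^ (a + 1))) * (p : ZMod (p ^ (a + 1))) = 0 by
    rw [← Nat.cast_mul, ZMod.natCast_eq_zero_iff]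
    exact ⟨q, by ring⟩, add_zero]

theorem big_pow_p : big p a ^ p = 1 := by
  have key : ∀ (k : ℕ) z, (∀ l, l < k → res p a z + (l : ℕ) ≠ 0) → (big p a ^ k) z = z + k := by
    intro k
    induction k with
    | zero => simp
    | succ k ih =>
      intro z hz
      rw [pow_succ' (big p a), Perm.mul_apply, ih z fun l hl => hz l (hl.trans k.lt_succ_self), big_apply, if_neg,
        Nat.cast_succ, add_assoc]
      simpa using hz k k.lt_succ_self
  refine Equiv.ext fun z => ?_
  set j := (-res p a z).val with hj
  have hjp : j < p := ZMod.val_lt _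
  have hne : ∀ l, l < p → l ≠ j → res p a z + (l : ℕ) ≠ 0 := by
    intro l hl hlj h
    apply hlj
    have : (l : ZMod p) = -res p a z := eq_neg_of_add_eq_zero_right h
    rw [hj, ← this, ZMod.val_cast_of_lt hl]
  have h1 : (big p a ^ j) z = z + j := key j z fun l hl => hne l (hl.trans hjp) hl.ne
  have h2 : res p a (z + j) = 0 := by
    rw [map_add, map_natCast, hj, ZMod.natCast_zmod_val, add_neg_cancel]
  have h3 : ∀ l, l < p - (j + 1) → res p a (z + j - p + 1) + (l : ℕ) ≠ 0 := by
    intro l hl h
    rw [map_add, map_sub, map_one, map_natCast, h2, ZMod.natCast_self, sub_zero, zero_add,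
      ← Nat.cast_one, ← Nat.cast_add, ZMod.natCast_eq_zero_iff] at h
    exact absurd (Nat.le_of_dvd (by omega) h) (by omega)
  show (big p a ^ p) z = z
  rw [show big p a ^ p = big p a ^ (p - (j + 1) + 1 + j) from congrArg (big p a ^ ·) (by omega)]
  rw [pow_add (big p a), pow_add (big p a), Perm.mul_apply, Perm.mul_apply, h1, pow_one, big_apply, if_pos h2, key _ _ h3,
    Nat.cast_sub hjp, Nat.cast_succ]
  ring

theorem big_ne (z : ZMod (p ^ (a + 1))) : big p a z ≠ z := by
  intro h
  have := res_big p a z
  rw [h] at this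
  exact one_ne_zero (add_eq_left.mp this.symm)

theorem small_one : small p a 1 = 1 := by
  rw [small_apply, if_neg]
  simp

theorem shift_ne (z : ZMod (p ^ (a + 1))) : shift p a z ≠ z := by
  intro h
  have := congrArg (res p a) h
  rw [shift_apply, map_add, map_one, add_eq_left] at this
  exact one_ne_zero this

theorem shift_isCycle [NeZero (p ^ (a + 1))] : (shift p a).IsCycle := by
  refine ⟨0, shift_ne p a 0, fun y _ => ⟨y.val, ?_⟩⟩
  have : ∀ m : ℕ, (shift p a ^ m) 0 = m := by
    intro m
    induction m with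
    | zero => simp
    | succ m ih => rw [pow_succ' (shift p a), Perm.mul_apply, ih, shift_apply, Nat.cast_succ]
  rw [zpow_natCast, this, ZMod.natCast_zmod_val]

end Cfsg.Agent.Fusion.AltCycle
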