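import Mathlib
import Cfsg.Prelude.Def_FusionSystem

/-!
Elementary facts about fusion systems: closure of the map sets under restriction, composition and
inverses, conjugacy, the automorphism group as a set, automorphisms induced by a subgroup,
extenders, fully centralized/normalized representatives, receptive subgroups.
-/

set_option autoImplicit false

namespace Cfsg.Agent.Fusion

open Cfsg Cfsg.FusionSystem

variable {Ω : Type*} [Group Ω] {S : Subgroup Ω} {F : FusionSystem S}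

/-! ### Maps -/

theorem dom_le {P : Subgroup Ω} {φ : P →* Ω} (hφ : φ ∈ F.Hom P) : P ≤ S := (F.le_of_mem hφ).1

theorem apply_mem {P : Subgroup Ω} {φ : P →* Ω} (hφ : φ ∈ F.Hom P) (x : P) : φ x ∈ S :=
  (F.le_of_mem hφ).2 x

theorem range_le {P : Subgroup Ω} {φ : P →* Ω} (hφ : φ ∈ F.Hom P) : φ.range ≤ S := by
  rintro _ ⟨x, rfl⟩
  exact apply_mem hφ x

@[simp] theorem conjHom_apply (P : Subgroup Ω) (g : Ω) (x : P) :
    conjHom P g x = g * (x : Ω) * g⁻¹ := rfl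

/-- A homomorphism that is conjugation by an element of `S` is a map of the system. -/
theorem mem_of_conj {P : Subgroup Ω} (hP : P ≤ S) {g : Ω} (hg : g ∈ S) {φ : P →* Ω}
    (h : ∀ x : P, φ x = g * (x : Ω) * g⁻¹) : φ ∈ F.Hom P := by
  rw [show φ = conjHom P g from MonoidHom.ext h]
  exact F.conj_mem hP hg

/-- The inclusion of a subgroup of `S` is a map of the system. -/
theorem subtype_mem (F : FusionSystem S) {P : Subgroup Ω} (hP : P ≤ S) : P.subtype ∈ F.Hom P :=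
  mem_of_conj hP S.one_mem fun x => by simp

/-- Composition, with the composite given by its values. -/
theorem comp_mem' {P Q : Subgroup Ω} {φ : P →* Ω} {ψ : Q →* Ω} (hφ : φ ∈ F.Hom P)
    (hψ : ψ ∈ F.Hom Q) (h : ∀ x : P, φ x ∈ Q) {χ : P →* Ω}
    (hχ : ∀ x : P, χ x = ψ ⟨φ x, h x⟩) : χ ∈ F.Hom P := by
  rw [show χ = ψ.comp (φ.codRestrict Q h) from MonoidHom.ext hχ]
  exact F.comp_mem hφ hψ h

/-- Restriction, with the restricted map given by its values. -/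
theorem mem_of_le {P Q : Subgroup Ω} {φ : Q →* Ω} (hφ : φ ∈ F.Hom Q) (hPQ : P ≤ Q)
    {ψ : P →* Ω} (h : ∀ x : P, ψ x = φ (Subgroup.inclusion hPQ x)) : ψ ∈ F.Hom P :=
  comp_mem' (subtype_mem F (hPQ.trans (dom_le hφ))) hφ (fun x => hPQ x.2) h

theorem restrict_mem {P Q : Subgroup Ω} {φ : Q →* Ω} (hφ : φ ∈ F.Hom Q) (hPQ : P ≤ Q) :
    φ.comp (Subgroup.inclusion hPQ) ∈ F.Hom P :=
  mem_of_le hφ hPQ fun _ => rfl

/-- Transport along an equality of sources. -/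
theorem mem_congr {P Q : Subgroup Ω} {φ : Q →* Ω} (hφ : φ ∈ F.Hom Q) (hPQ : P = Q)
    {ψ : P →* Ω} (h : ∀ (x : Ω) (hx : x ∈ P), ψ ⟨x, hx⟩ = φ ⟨x, hPQ ▸ hx⟩) : ψ ∈ F.Hom P :=
  mem_of_le hφ hPQ.le fun x => h x x.2

/-- The inverse of a map of the system, with source any subgroup equal to the image. -/
theorem exists_inverse {P R : Subgroup Ω} {φ : P →* Ω} (hφ : φ ∈ F.Hom P) (hR : φ.range = R) :
    ∃ ψ ∈ F.Hom R, ψ.range = P ∧
      (∀ (x : P) (hx : φ x ∈ R), ψ ⟨φ x, hx⟩ = (x : Ω)) ∧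
      ∀ (y : R) (hy : ψ y ∈ P), φ ⟨ψ y, hy⟩ = (y : Ω) := by
  subst hR
  obtain ⟨ψ, hψ, hi⟩ := F.inv_mem hφ
  refine ⟨ψ, hψ, ?_, fun x _ => hi x, ?_⟩
  · ext y
    constructor
    · rintro ⟨⟨_, x, rfl⟩, rfl⟩
      rw [hi x]
      exact x.2
    · intro hy
      exact ⟨⟨φ ⟨y, hy⟩, ⟨y, hy⟩, rfl⟩, hi ⟨y, hy⟩⟩
  · rintro ⟨_, x, rfl⟩ hy
    congr 1
    exact Subtype.ext (hi x)

theorem inv_mem' {P R : Subgroup Ω} {φ : P →* Ω} (hφ : φ ∈ F.Hom P) (hR : φ.range = R)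
    {ψ : R →* Ω} (h : ∀ (x : P) (hx : φ x ∈ R), ψ ⟨φ x, hx⟩ = (x : Ω)) : ψ ∈ F.Hom R := by
  obtain ⟨χ, hχ, -, hi, -⟩ := exists_inverse hφ hR
  suffices ψ = χ by rwa [this]
  refine MonoidHom.ext fun y => ?_
  obtain ⟨x, hx⟩ : (y : Ω) ∈ φ.range := hR ▸ y.2
  have hxR : φ x ∈ R := hx ▸ y.2
  have hy : y = ⟨φ x, hxR⟩ := Subtype.ext hx.symm
  rw [hy, h, hi]

/-- The isomorphism of `P` onto the image of a map. -/
noncomputable def homEquiv {P Q : Subgroup Ω} {φ : P →* Ω} (hφ : φ ∈ F.Hom P)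
    (hQ : φ.range = Q) : P ≃* Q :=
  (MonoidHom.ofInjective (F.injective_of_mem hφ)).trans (MulEquiv.subgroupCongr hQ)

@[simp] theorem coe_homEquiv {P Q : Subgroup Ω} {φ : P →* Ω} (hφ : φ ∈ F.Hom P)
    (hQ : φ.range = Q) (x : P) : ((homEquiv hφ hQ x : Q) : Ω) = φ x := rfl

theorem card_range {P : Subgroup Ω} {φ : P →* Ω} (hφ : φ ∈ F.Hom P) :
    Nat.card φ.range = Nat.card P :=
  (Nat.card_congr (homEquiv hφ rfl).toEquiv).symm

theorem finite_of_le [Finite S] {P : Subgroup Ω} (hP : P ≤ S) : Finite P :=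
  Finite.of_injective _ (Subgroup.inclusion_injective hP)

/-- A map carrying a finite subgroup into itself carries it onto itself. -/
theorem range_eq_of_le [Finite S] {P Q : Subgroup Ω} {φ : P →* Ω} (hφ : φ ∈ F.Hom P)
    (hQ : Q ≤ S) (h : ∀ x : P, φ x ∈ Q) (hc : Nat.card Q ≤ Nat.card P) : φ.range = Q := by
  have := finite_of_le hQ
  refine Subgroup.eq_of_le_of_card_ge ?_ (by rw [card_range hφ]; exact hc)
  rintro _ ⟨x, rfl⟩
  exact h x

/-- For finite `S`, "maps `Q` onto `Q`" is the same as "maps `Q` into `Q`". -/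
theorem map_subgroupOf_eq_iff [Finite S] {Q R : Subgroup Ω} {ψ : R →* Ω} (hψ : ψ ∈ F.Hom R)
    (hQR : Q ≤ R) :
    (Q.subgroupOf R).map ψ = Q ↔ ∀ (x : Ω) (hx : x ∈ Q), ψ ⟨x, hQR hx⟩ ∈ Q := by
  constructor
  · intro h x hx
    exact h.le ⟨⟨x, hQR hx⟩, hx, rfl⟩
  · intro h
    have := finite_of_le (hQR.trans (dom_le hψ))
    refine Subgroup.eq_of_le_of_card_ge ?_ ?_
    · rintro _ ⟨⟨x, hxR⟩, hx, rfl⟩
      exact h x hx
    · rw [Subgroup.card_map_of_injective (F.injective_of_mem hψ)]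
      exact (Nat.card_congr (Subgroup.subgroupOfEquivOfLe hQR).toEquiv).ge

/-! ### Conjugacy -/

theorem isConj_le {P Q : Subgroup Ω} (h : F.IsConj P Q) : P ≤ S ∧ Q ≤ S := by
  obtain ⟨φ, hφ, rfl⟩ := h
  exact ⟨dom_le hφ, range_le hφ⟩

theorem isConj_refl (F : FusionSystem S) {P : Subgroup Ω} (hP : P ≤ S) : F.IsConj P P :=
  ⟨P.subtype, subtype_mem F hP, P.range_subtype⟩

theorem isConj_symm {P Q : Subgroup Ω} (h : F.IsConj P Q) : F.IsConj Q P := by
  obtain ⟨φ, hφ, hr⟩ := h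
  obtain ⟨ψ, hψ, hr', -⟩ := exists_inverse hφ hr
  exact ⟨ψ, hψ, hr'⟩

theorem isConj_trans {P Q R : Subgroup Ω} (h₁ : F.IsConj P Q) (h₂ : F.IsConj Q R) :
    F.IsConj P R := by
  obtain ⟨φ, hφ, rfl⟩ := h₁
  obtain ⟨ψ, hψ, rfl⟩ := h₂
  refine ⟨_, F.comp_mem hφ hψ fun x => ⟨x, rfl⟩, ?_⟩
  ext y
  constructor
  · rintro ⟨x, rfl⟩
    exact ⟨_, rfl⟩
  · rintro ⟨⟨_, x, rfl⟩, rfl⟩
    exact ⟨x, rfl⟩

theorem isConj_card {P Q : Subgroup Ω} (h : F.IsConj P Q) : Nat.card Q = Nat.card P := by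
  obtain ⟨φ, hφ, rfl⟩ := h
  exact card_range hφ

theorem exists_fullyNormalized [Finite S] (F : FusionSystem S) {P : Subgroup Ω} (hP : P ≤ S) :
    ∃ Q, F.IsConj P Q ∧ F.IsFullyNormalized Q := by
  classical
  have hfin : {Q : Subgroup Ω | F.IsConj P Q}.Finite := by
    refine Set.Finite.subset (Set.finite_range fun H : Subgroup S => H.map S.subtype) ?_
    intro Q hQ
    exact ⟨Q.subgroupOf S, Subgroup.map_subgroupOf_eq_of_le (isConj_le hQ).2⟩
  obtain ⟨Q, hQ, hmax⟩ :=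
    hfin.exists_maximalFor (fun Q => Nat.card (normalizerIn S Q)) _ ⟨P, isConj_refl F hP⟩
  refine ⟨Q, hQ, (isConj_le hQ).2, fun R hR => ?_⟩
  rcases le_total (Nat.card (normalizerIn S R)) (Nat.card (normalizerIn S Q)) with h | h
  · exact h
  · exact hmax (isConj_trans hQ hR) h

theorem exists_fullyCentralized [Finite S] (F : FusionSystem S) {P : Subgroup Ω} (hP : P ≤ S) :
    ∃ Q, F.IsConj P Q ∧ F.IsFullyCentralized Q := by
  classical
  have hfin : {Q : Subgroup Ω | F.IsConj P Q}.Finite := by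
    refine Set.Finite.subset (Set.finite_range fun H : Subgroup S => H.map S.subtype) ?_
    intro Q hQ
    exact ⟨Q.subgroupOf S, Subgroup.map_subgroupOf_eq_of_le (isConj_le hQ).2⟩
  obtain ⟨Q, hQ, hmax⟩ :=
    hfin.exists_maximalFor (fun Q => Nat.card (centralizerIn S Q)) _ ⟨P, isConj_refl F hP⟩
  refine ⟨Q, hQ, (isConj_le hQ).2, fun R hR => ?_⟩
  rcases le_total (Nat.card (centralizerIn S R)) (Nat.card (centralizerIn S Q)) with h | h
  · exact h
  · exact hmax (isConj_trans hQ hR) h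

/-! ### Centralizers and normalizers in `S` -/

theorem mem_centralizerIn {P : Subgroup Ω} {g : Ω} :
    g ∈ centralizerIn S P ↔ g ∈ S ∧ ∀ x ∈ P, x * g = g * x := Iff.rfl

theorem centralizerIn_le (S P : Subgroup Ω) : centralizerIn S P ≤ S := inf_le_left

theorem normalizerIn_le (S P : Subgroup Ω) : normalizerIn S P ≤ S := inf_le_left

theorem centralizerIn_le_normalizerIn (S P : Subgroup Ω) :
    centralizerIn S P ≤ normalizerIn S P :=
  inf_le_inf_left S fun _ hg => Subgroup.centralizer_le_normalizer _ hg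

theorem le_normalizerIn {P : Subgroup Ω} (hP : P ≤ S) : P ≤ normalizerIn S P :=
  le_inf hP Subgroup.le_normalizer

/-! ### The automorphism group as a set -/

theorem mem_autGroup_iff {P : Subgroup Ω} (hP : P ≤ S) {α : MulAut P} :
    α ∈ F.autGroup P ↔ P.subtype.comp α.toMonoidHom ∈ F.Hom P := by
  refine ⟨fun hα => ?_, fun hα => Subgroup.subset_closure hα⟩
  induction hα using Subgroup.closure_induction with
  | mem x hx => exact hx
  | one => exact mem_of_le (subtype_mem F hP) le_rfl fun _ => rfl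
  | mul a b _ _ ha hb =>
    exact comp_mem' hb ha (fun x => (b x).2) fun x => rfl
  | inv a _ ha =>
    refine inv_mem' ha ?_ fun x hx => ?_
    · ext y
      exact ⟨fun ⟨x, hx⟩ => hx ▸ (a x).2, fun hy => ⟨a⁻¹ ⟨y, hy⟩, by simp⟩⟩
    · exact congrArg Subtype.val (show a⁻¹ (a x) = x from MulAut.inv_apply_self P a x)

theorem autGroup_eq_bot {P : Subgroup Ω} (hP : ¬ P ≤ S) : F.autGroup P = ⊥ := by
  rw [FusionSystem.autGroup, Subgroup.closure_eq_bot_iff]
  intro α hα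
  exact absurd (dom_le hα) hP

/-- The automorphism of `P` given by a map of the system with image `P`. -/
noncomputable def toAut {P : Subgroup Ω} {φ : P →* Ω} (hφ : φ ∈ F.Hom P) (h : φ.range = P) :
    MulAut P :=
  homEquiv hφ h

@[simp] theorem coe_toAut {P : Subgroup Ω} {φ : P →* Ω} (hφ : φ ∈ F.Hom P) (h : φ.range = P)
    (x : P) : ((toAut hφ h x : P) : Ω) = φ x := rfl

theorem toAut_mem {P : Subgroup Ω} {φ : P →* Ω} (hφ : φ ∈ F.Hom P) (h : φ.range = P) :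
    toAut hφ h ∈ F.autGroup P :=
  (mem_autGroup_iff (dom_le hφ)).2 (mem_of_le hφ le_rfl fun _ => rfl)

theorem hom_of_mem_autGroup {P : Subgroup Ω} (hP : P ≤ S) {α : MulAut P}
    (hα : α ∈ F.autGroup P) :
    P.subtype.comp α.toMonoidHom ∈ F.Hom P ∧ (P.subtype.comp α.toMonoidHom).range = P := by
  refine ⟨(mem_autGroup_iff hP).1 hα, ?_⟩
  ext y
  exact ⟨fun ⟨x, hx⟩ => hx ▸ (α x).2, fun hy => ⟨α.symm ⟨y, hy⟩, by simp⟩⟩

/-- An element `g` of the normalizer of `P`, as an automorphism of `P`. -/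
def conjAut {P : Subgroup Ω} {g : Ω} (hg : g ∈ Subgroup.normalizer (P : Set Ω)) : MulAut P :=
  P.normalizerMonoidHom ⟨g, hg⟩

@[simp] theorem coe_conjAut {P : Subgroup Ω} {g : Ω} (hg : g ∈ Subgroup.normalizer (P : Set Ω))
    (x : P) : ((conjAut hg x : P) : Ω) = g * (x : Ω) * g⁻¹ := rfl

theorem mem_autInducedBy_iff {K P : Subgroup Ω} {α : MulAut P} :
    α ∈ autInducedBy K P ↔ ∃ g ∈ K, ∀ x : P, ((α x : P) : Ω) = g * (x : Ω) * g⁻¹ := by
  refine ⟨fun hα => ?_, fun hα => Subgroup.subset_closure hα⟩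
  induction hα using Subgroup.closure_induction with
  | mem x hx => exact hx
  | one => exact ⟨1, K.one_mem, fun x => by simp⟩
  | mul a b _ _ ha hb =>
    obtain ⟨g, hg, ha⟩ := ha
    obtain ⟨k, hk, hb⟩ := hb
    refine ⟨g * k, K.mul_mem hg hk, fun x => ?_⟩
    rw [show (a * b) x = a (b x) from rfl, ha, hb]
    group
  | inv a _ ha =>
    obtain ⟨g, hg, ha⟩ := ha
    refine ⟨g⁻¹, K.inv_mem hg, fun x => ?_⟩
    have h := ha (a⁻¹ x)
    rw [show a (a⁻¹ x) = x from MulAut.apply_inv_self P a x] at h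
    rw [h]
    group

theorem mem_normalizer_of_aut {P : Subgroup Ω} {α : MulAut P} {g : Ω}
    (h : ∀ x : P, ((α x : P) : Ω) = g * (x : Ω) * g⁻¹) : g ∈ Subgroup.normalizer (P : Set Ω) := by
  rw [Subgroup.mem_normalizer_iff]
  intro y
  constructor
  · intro hy
    have h1 := h ⟨y, hy⟩
    exact h1 ▸ (α ⟨y, hy⟩).2
  · intro hy
    have h1 := h (α.symm ⟨_, hy⟩)
    rw [MulEquiv.apply_symm_apply] at h1
    have h2 : y = (α.symm ⟨_, hy⟩ : P) := mul_left_cancel (mul_right_cancel h1)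
    rw [h2]
    exact (α.symm ⟨_, hy⟩).2

theorem conjAut_mem_autInducedBy {K P : Subgroup Ω} {g : Ω} (hgK : g ∈ K)
    (hg : g ∈ Subgroup.normalizer (P : Set Ω)) : conjAut hg ∈ autInducedBy K P :=
  mem_autInducedBy_iff.2 ⟨g, hgK, fun _ => rfl⟩

theorem autInducedBy_mono {K L P : Subgroup Ω} (h : K ≤ L) :
    autInducedBy K P ≤ autInducedBy L P := fun _ hα => by
  obtain ⟨g, hg, hx⟩ := mem_autInducedBy_iff.1 hα
  exact mem_autInducedBy_iff.2 ⟨g, h hg, hx⟩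

theorem autInducedBy_le_autGroup (F : FusionSystem S) {P : Subgroup Ω} (hP : P ≤ S) :
    autInducedBy S P ≤ F.autGroup P := fun _ hα => by
  obtain ⟨g, hg, hx⟩ := mem_autInducedBy_iff.1 hα
  exact (mem_autGroup_iff hP).2 (mem_of_conj hP hg hx)

theorem inn_le_autInducedBy {P : Subgroup Ω} (hP : P ≤ S) : Inn P ≤ autInducedBy S P := by
  rintro _ ⟨g, rfl⟩
  exact mem_autInducedBy_iff.2 ⟨g, hP g.2, fun x => rfl⟩

theorem inn_le_autGroup (F : FusionSystem S) {P : Subgroup Ω} (hP : P ≤ S) :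
    Inn P ≤ F.autGroup P :=
  (inn_le_autInducedBy hP).trans (autInducedBy_le_autGroup F hP)

/-- Transport of the automorphism group along a map of the system. -/
theorem congr_mem_autGroup {P Q : Subgroup Ω} {φ : P →* Ω} (hφ : φ ∈ F.Hom P) (hQ : φ.range = Q)
    {α : MulAut P} (hα : α ∈ F.autGroup P) :
    MulAut.congr (homEquiv hφ hQ) α ∈ F.autGroup Q := by
  obtain ⟨ψ, hψ, hψr, hi, hi'⟩ := exists_inverse hφ hQ
  have hP := dom_le hφ
  have hQS : Q ≤ S := hQ ▸ range_le hφ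
  have hψP : ∀ y : Q, ψ y ∈ P := fun y => hψr.le ⟨y, rfl⟩
  have hsymm : ∀ y : Q, (((homEquiv hφ hQ).symm y : P) : Ω) = ψ y := by
    intro y
    obtain ⟨x, rfl⟩ := (homEquiv hφ hQ).surjective y
    rw [MulEquiv.symm_apply_apply]
    exact (hi x (homEquiv hφ hQ x).2).symm
  rw [mem_autGroup_iff hQS]
  refine comp_mem' (χ := Q.subtype.comp (MulAut.congr (homEquiv hφ hQ) α).toMonoidHom) hψ
    (comp_mem' ((mem_autGroup_iff hP).1 hα) hφ (fun x => (α x).2)
      (χ := φ.comp α.toMonoidHom) fun x => rfl) hψP fun y => ?_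
  show φ (α ((homEquiv hφ hQ).symm y)) = φ (α ⟨ψ y, hψP y⟩)
  rw [show (homEquiv hφ hQ).symm y = ⟨ψ y, hψP y⟩ from Subtype.ext (hsymm y)]

/-- An isomorphism of the system between `P` and `Q` carries `Aut_F(P)` onto `Aut_F(Q)`. -/
theorem map_autGroup {P Q : Subgroup Ω} {φ : P →* Ω} (hφ : φ ∈ F.Hom P) (hQ : φ.range = Q) :
    (F.autGroup P).map (MulAut.congr (homEquiv hφ hQ)).toMonoidHom = F.autGroup Q := by
  apply le_antisymm
  · rintro _ ⟨α, hα, rfl⟩
    exact congr_mem_autGroup hφ hQ hα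
  · intro β hβ
    obtain ⟨ψ, hψ, hψr, hi, -⟩ := exists_inverse hφ hQ
    refine ⟨(MulAut.congr (homEquiv hφ hQ)).symm β, ?_, MulEquiv.apply_symm_apply _ β⟩
    have he : homEquiv hψ hψr = (homEquiv hφ hQ).symm := by
      refine MulEquiv.ext fun y => ?_
      obtain ⟨x, rfl⟩ := (homEquiv hφ hQ).surjective y
      rw [MulEquiv.symm_apply_apply]
      exact Subtype.ext (hi x (homEquiv hφ hQ x).2)
    have := congr_mem_autGroup hψ hψr hβ
    rw [he] at this
    exact this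

/-! ### Extenders and receptive subgroups -/

theorem mem_extender_iff {P : Subgroup Ω} {φ : P →* Ω} {g : Ω} :
    g ∈ extender S P φ ↔ g ∈ S ∧ g ∈ Subgroup.normalizer (P : Set Ω) ∧
      ∃ h ∈ S, ∀ (x : P) (hx : g * (x : Ω) * g⁻¹ ∈ P), φ ⟨g * x * g⁻¹, hx⟩ = h * φ x * h⁻¹ := by
  refine ⟨fun hg => ?_, fun hg => Subgroup.subset_closure hg⟩
  induction hg using Subgroup.closure_induction with
  | mem x hx => exact hx
  | one =>
    exact ⟨S.one_mem, Subgroup.one_mem _, 1, S.one_mem, fun x hx => by simp⟩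
  | mul a b _ _ ha hb =>
    obtain ⟨haS, haN, h, hhS, hh⟩ := ha
    obtain ⟨hbS, hbN, k, hkS, hk⟩ := hb
    refine ⟨S.mul_mem haS hbS, Subgroup.mul_mem _ haN hbN, h * k, S.mul_mem hhS hkS,
      fun x hx => ?_⟩
    have hbx : b * (x : Ω) * b⁻¹ ∈ P := (Subgroup.mem_normalizer_iff.1 hbN x).1 x.2
    have hax : a * (b * (x : Ω) * b⁻¹) * a⁻¹ ∈ P := (Subgroup.mem_normalizer_iff.1 haN _).1 hbx
    have he : (⟨a * b * x * (a * b)⁻¹, hx⟩ : P) =
        ⟨a * ((⟨b * x * b⁻¹, hbx⟩ : P) : Ω) * a⁻¹, hax⟩ :=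
      Subtype.ext (by group)
    rw [he, hh, hk]
    group
  | inv a _ ha =>
    obtain ⟨haS, haN, h, hhS, hh⟩ := ha
    refine ⟨S.inv_mem haS, Subgroup.inv_mem _ haN, h⁻¹, S.inv_mem hhS, fun x hx => ?_⟩
    have h2 : a * ((⟨a⁻¹ * x * a⁻¹⁻¹, hx⟩ : P) : Ω) * a⁻¹ ∈ P := by
      have : a * (a⁻¹ * (x : Ω) * a⁻¹⁻¹) * a⁻¹ = x := by group
      exact this.symm ▸ x.2
    have h3 := hh _ h2
    rw [show (⟨_, h2⟩ : P) = x from Subtype.ext (by group)] at h3
    rw [h3]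
    group

theorem extender_le (S P : Subgroup Ω) (φ : P →* Ω) : extender S P φ ≤ normalizerIn S P :=
  fun _ hg => ⟨(mem_extender_iff.1 hg).1, (mem_extender_iff.1 hg).2.1⟩

theorem le_extender {P : Subgroup Ω} {φ : P →* Ω} (hP : P ≤ S) (hφ : ∀ x : P, φ x ∈ S) :
    P ≤ extender S P φ := fun g hg => by
  refine mem_extender_iff.2 ⟨hP hg, Subgroup.le_normalizer hg, φ ⟨g, hg⟩, hφ _, fun x hx => ?_⟩
  rw [← map_inv, ← map_mul, ← map_mul]
  rfl

theorem centralizerIn_le_extender {P : Subgroup Ω} (φ : P →* Ω) :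
    centralizerIn S P ≤ extender S P φ := fun g hg => by
  obtain ⟨hgS, hc⟩ := mem_centralizerIn.1 hg
  refine mem_extender_iff.2 ⟨hgS, Subgroup.centralizer_le_normalizer _ hg.2, 1, S.one_mem,
    fun x hx => ?_⟩
  rw [one_mul, inv_one, mul_one]
  congr 1
  refine Subtype.ext ?_
  show g * (x : Ω) * g⁻¹ = x
  rw [← hc x x.2, mul_inv_cancel_right]

/-- An extension of a map onto a receptive subgroup to any subgroup of its extender. -/
theorem exists_extension {P Q N : Subgroup Ω} {φ : P →* Ω} (hQ : F.IsReceptive Q)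
    (hφ : φ ∈ F.Hom P) (hr : φ.range = Q) (hN : N ≤ extender S P φ) :
    ∃ ψ ∈ F.Hom N, ∀ (x : Ω) (hP : x ∈ P) (hN : x ∈ N), ψ ⟨x, hN⟩ = φ ⟨x, hP⟩ := by
  obtain ⟨ψ, hψ, hx⟩ := hQ.2 P φ hφ hr
  exact ⟨_, restrict_mem hψ hN, fun x hP hx' => hx x hP (hN hx')⟩

/-- Receptive subgroups are fully centralized. -/
theorem isFullyCentralized_of_receptive [Finite S] {Q : Subgroup Ω} (hQ : F.IsReceptive Q) :
    F.IsFullyCentralized Q := by
  refine ⟨hQ.1, fun P hP => ?_⟩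
  obtain ⟨φ, hφ, hr⟩ := isConj_symm hP
  obtain ⟨ψ, hψ, hext⟩ := exists_extension hQ hφ hr (le_refl (extender S P φ))
  have hPS := dom_le hφ
  have := finite_of_le (centralizerIn_le S Q)
  refine Nat.card_le_card_of_injective (fun c : centralizerIn S P =>
    (⟨ψ ⟨c, centralizerIn_le_extender φ c.2⟩, ?_⟩ : centralizerIn S Q)) ?_
  · refine mem_centralizerIn.2 ⟨apply_mem hψ _, fun y hy => ?_⟩
    obtain ⟨x, rfl⟩ := hr.ge hy
    have hxN := le_extender hPS (apply_mem hφ) x.2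
    rw [← hext x x.2 hxN, ← map_mul, ← map_mul]
    exact congrArg ψ (Subtype.ext ((mem_centralizerIn.1 c.2).2 x x.2))
  · intro a b hab
    have := F.injective_of_mem hψ (congrArg Subtype.val hab)
    exact Subtype.ext (congrArg (fun z : extender S P φ => (z : Ω)) this)

end Cfsg.Agent.Fusion
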