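import Cfsg.Agent.Lib.Fusion.GroupSimple
import Cfsg.Agent.Lib.Fusion.Basic

/-!
Variants of the simplicity criterion: extension along a subgroup of the Sylow subgroup that the element
normalises, and `p`-elements of normalisers of subgroups that need not be fully normalised.
-/

set_option autoImplicit false
set_option linter.unusedSectionVars false

namespace Cfsg.Agent.Fusion.SimpleTop

open Cfsg Cfsg.FusionSystem Cfsg.Agent.Fusion.Extn Cfsg.Agent.Fusion.GroupSimple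

section General

variable {Ω : Type*} [Group Ω] {S : Subgroup Ω}

/-- As `extend_centric_aut`, for a subgroup of the normaliser. -/
theorem extend_centric_aut_sub [Finite S] {p : ℕ} [Fact p.Prime] (hp : IsPGroup p S) (F : FusionSystem S)
    (hF : F.IsSaturated p) {R : Subgroup Ω} (hR : F.IsCentric R) {φ : R →* Ω} (hφ : φ ∈ F.Hom R)
    (hφR : ∀ x : R, φ x ∈ R) (hsurj : φ.range = R)
    {M : Subgroup Ω} (hRM : R ≤ M) (hM : M ≤ normalizerIn S R)
    (hnorm : ∀ n ∈ M, ∃ h ∈ M,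
      ∀ (x : R) (hx : n * (x : Ω) * n⁻¹ ∈ R), φ ⟨n * x * n⁻¹, hx⟩ = h * φ x * h⁻¹) :
    ∃ ψ ∈ F.Hom M, (∀ x, ψ x ∈ M) ∧
      ∀ (x : Ω) (hx : x ∈ R) (hx' : x ∈ M), ψ ⟨x, hx'⟩ = φ ⟨x, hx⟩ := by
  let N := normalizerIn S R
  obtain ⟨χ, hχ, hQrec⟩ : ∃ χ ∈ F.Hom N, F.IsReceptive ((R.subgroupOf N).map χ) :=
    exists_extension_to_receptive hp F hF hR.1
  set Q := (R.subgroupOf N).map χ with hQ
  have hRN : R ≤ N := le_inf hR.1 Subgroup.le_normalizer
  have hconj : F.IsConj R Q := by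
    refine ⟨χ.comp (Subgroup.inclusion hRN), Extn.restrict_mem F hχ hRN, ?_⟩
    rw [MonoidHom.range_comp, Subgroup.inclusion_range]
  let φ' : R →* Ω := (χ.comp (Subgroup.inclusion hRN)).comp (φ.codRestrict R hφR)
  have hφ' : φ' ∈ F.Hom R := F.comp_mem hφ (Extn.restrict_mem F hχ hRN) hφR
  have hφ'v : ∀ x : R, φ' x = χ ⟨φ x, hRN (hφR x)⟩ := fun x => rfl
  have hφ'r : φ'.range = Q := by
    apply le_antisymm
    · rintro _ ⟨x, rfl⟩
      exact ⟨⟨φ x, hRN (hφR x)⟩, hφR x, rfl⟩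
    · rintro _ ⟨y, hy, rfl⟩
      obtain ⟨x, hx⟩ := hsurj.ge hy
      exact ⟨x, by rw [hφ'v]; congr 1; exact Subtype.ext hx⟩
  obtain ⟨ψ₁, hψ₁, hψ₁'⟩ := hQrec.2 R φ' hφ' hφ'r
  have hle : M ≤ extender S R φ' := by
    intro n hn
    obtain ⟨h, hh, hh'⟩ := hnorm n hn
    refine Subgroup.subset_closure ⟨(Subgroup.mem_inf.mp (hM hn)).1, (Subgroup.mem_inf.mp (hM hn)).2,
      χ ⟨h, hM hh⟩, (F.le_of_mem hχ).2 _, ?_⟩
    intro x hx
    rw [hφ'v, hφ'v, ← map_inv, ← map_mul, ← map_mul]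
    congr 1
    apply Subtype.ext
    simpa using hh' x hx
  let ψ₂ := ψ₁.comp (Subgroup.inclusion hle)
  have hψ₂ : ψ₂ ∈ F.Hom M := Extn.restrict_mem F hψ₁ hle
  have hψ₂R : ∀ (x : Ω) (hx : x ∈ R), ψ₂ ⟨x, hRM hx⟩ = χ ⟨φ ⟨x, hx⟩, hRN (hφR _)⟩ := fun x hx =>
    hψ₁' x hx (hle (hRM hx))
  have hrangeM : ∀ n : M, ∃ y : N, χ y = ψ₂ n ∧ (y : Ω) ∈ M := by
    intro n
    obtain ⟨h, hh, hh'⟩ := hnorm n n.2
    have hc : (χ ⟨h, hM hh⟩)⁻¹ * ψ₂ n ∈ centralizerIn S Q := by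
      refine ⟨S.mul_mem (S.inv_mem ((F.le_of_mem hχ).2 _)) ((F.le_of_mem hψ₂).2 n), ?_⟩
      refine Subgroup.mem_centralizer_iff.mpr fun q hq => ?_
      obtain ⟨x, rfl⟩ : ∃ x : R, φ' x = q := hφ'r.ge hq
      have hx : (n : Ω) * x * (n : Ω)⁻¹ ∈ R :=
        (Subgroup.mem_normalizer_iff.mp (Subgroup.mem_inf.mp (hM n.2)).2 x).mp x.2
      have h1 : ψ₂ n * φ' x * (ψ₂ n)⁻¹ = χ ⟨h, hM hh⟩ * φ' x * (χ ⟨h, hM hh⟩)⁻¹ := by
        have hx' : φ' x = ψ₂ ⟨x, hRM x.2⟩ := (hψ₂R x x.2).symm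
        conv_lhs => rw [hx', ← map_inv, ← map_mul, ← map_mul]
        rw [show n * ⟨(x : Ω), hRM x.2⟩ * n⁻¹ = (⟨_, hRM hx⟩ : M) from Subtype.ext rfl, hψ₂R _ hx,
          hφ'v, ← map_inv, ← map_mul, ← map_mul]
        congr 1
        apply Subtype.ext
        simpa using hh' x hx
      calc φ' x * ((χ ⟨h, hM hh⟩)⁻¹ * ψ₂ n)
          = (χ ⟨h, hM hh⟩)⁻¹ * (χ ⟨h, hM hh⟩ * φ' x * (χ ⟨h, hM hh⟩)⁻¹) * ψ₂ n := by group
        _ = (χ ⟨h, hM hh⟩)⁻¹ * (ψ₂ n * φ' x * (ψ₂ n)⁻¹) * ψ₂ n := by rw [h1]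
        _ = _ := by group
    obtain ⟨y, hyR, hy⟩ := hR.2 Q hconj hc
    exact ⟨⟨h, hM hh⟩ * y, by rw [map_mul, hy]; group, M.mul_mem hh (hRM hyR)⟩
  have hrange : ∀ n : M, ψ₂ n ∈ χ.range := fun n => let ⟨y, hy, _⟩ := hrangeM n; ⟨y, hy⟩
  obtain ⟨θ, hθ, hθ'⟩ := F.inv_mem hχ
  refine ⟨θ.comp (ψ₂.codRestrict χ.range hrange), F.comp_mem hψ₂ hθ hrange, ?_, ?_⟩
  · intro n
    obtain ⟨y, hy, hyM⟩ := hrangeM n
    have : θ.comp (ψ₂.codRestrict χ.range hrange) n = (y : Ω) := by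
      rw [← hθ' y]
      show θ _ = θ _
      congr 1
      exact Subtype.ext hy.symm
    rw [this]
    exact hyM
  · intro x hx hx'
    rw [show θ.comp (ψ₂.codRestrict χ.range hrange) ⟨x, hx'⟩ =
      θ ⟨χ ⟨φ ⟨x, hx⟩, hRN (hφR _)⟩, ⟨_, rfl⟩⟩ from congrArg θ (Subtype.ext (hψ₂R x hx))]
    exact hθ' _

end General

variable {p : ℕ} [Fact p.Prime] {G : Type*} [Group G] [Finite G] (P : Sylow p G)

/-- As `ec_normalizerIn`, inside a subgroup `V`. -/
theorem ec_normalizerIn_sub {E : FusionSystem (P : Subgroup G)}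
    (hE : E.IsInvariantIn (groupFusionSystem (P : Subgroup G))) (hsat : E.IsSaturated p) {R : Subgroup G}
    (hR : (groupFusionSystem (P : Subgroup G)).IsCentric R) {g : G} (hgR : g ∈ Subgroup.normalizer (R : Set G))
    {V : Subgroup G} (hRV : R ≤ V) (hVP : V ≤ (P : Subgroup G))
    (hgP : g ∈ Subgroup.normalizer (V : Set G)) (h : EC E R g) :
    EC E (normalizerIn V R) g := by
  set N := normalizerIn V R with hN
  have hNP : N ≤ normalizerIn (P : Subgroup G) R := le_inf (inf_le_left.trans hVP) inf_le_right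
  have hgN : ∀ n, g * n * g⁻¹ ∈ N ↔ n ∈ N := fun n => by
    constructor
    · rintro ⟨h1, h2⟩
      refine ⟨(conj_mem_iff_of_mem_normalizer hgP).mp h1, ?_⟩
      have h2' : g * n * g⁻¹ ∈ Subgroup.normalizer (R : Set G) := h2
      have := Subgroup.mul_mem _ (Subgroup.mul_mem _ (Subgroup.inv_mem _ hgR) h2') hgR
      show n ∈ Subgroup.normalizer (R : Set G)
      convert this using 1
      group
    · rintro ⟨h1, h2⟩
      exact ⟨(conj_mem_iff_of_mem_normalizer hgP).mpr h1,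
        Subgroup.mul_mem _ (Subgroup.mul_mem _ hgR h2) (Subgroup.inv_mem _ hgR)⟩
  have hEcentric : E.IsCentric R := by
    refine ⟨hR.1, fun Q ⟨φ, hφ, hr⟩ => hR.2 Q ⟨φ, hE.1 R hφ, hr⟩⟩
  have hrange : (conjHom R g).range = R := by
    ext y
    constructor
    · rintro ⟨x, rfl⟩; exact (conj_mem_iff_of_mem_normalizer hgR).mpr x.2
    · intro hy
      exact (map_conj_eq_of_mem_normalizer hgR).ge hy |> fun ⟨x, hx, hxy⟩ => ⟨⟨x, hx⟩, hxy⟩
  obtain ⟨ψ, hψ, hψN, hψR⟩ := extend_centric_aut_sub P.2 E hsat hEcentric h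
    (fun x => (conj_mem_iff_of_mem_normalizer hgR).mpr x.2) hrange (M := N) (le_inf hRV Subgroup.le_normalizer) hNP fun n hn =>
      ⟨g * n * g⁻¹, (hgN n).mpr hn, fun x hx => by
        show g * (n * x * n⁻¹) * g⁻¹ = g * n * g⁻¹ * (g * x * g⁻¹) * (g * n * g⁻¹)⁻¹
        group⟩
  obtain ⟨k, rfl⟩ := ec_exists E hE hψ
  have hRN : R ≤ N := le_inf hRV Subgroup.le_normalizer
  have hcC : g⁻¹ * k ∈ Subgroup.centralizer (R : Set G) := by
    refine Subgroup.mem_centralizer_iff.mpr fun x hx => ?_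
    have h1 : k * x * k⁻¹ = g * x * g⁻¹ := hψR x hx (hRN hx)
    calc x * (g⁻¹ * k) = g⁻¹ * (g * x * g⁻¹) * k := by group
      _ = _ := by rw [← h1]; group
  have hcN : ∀ x ∈ N, g⁻¹ * k * x * (g⁻¹ * k)⁻¹ * x⁻¹ ∈ R := by
    intro x hx
    have h1 : g⁻¹ * k * x * (g⁻¹ * k)⁻¹ ∈ N := by
      rw [← hgN]
      convert hψN ⟨x, hx⟩ using 1
      show _ = k * x * k⁻¹
      group
    have hmem : g⁻¹ * k * x * (g⁻¹ * k)⁻¹ * x⁻¹ ∈ centralizerIn (P : Subgroup G) R := by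
      refine ⟨hVP (Subgroup.mul_mem _ (Subgroup.mem_inf.mp h1).1 (Subgroup.inv_mem _ (Subgroup.mem_inf.mp hx).1)),
        Subgroup.mem_centralizer_iff.mpr fun r hr => ?_⟩
      set c := g⁻¹ * k
      have hxr : x⁻¹ * r * x ∈ R := by
        have := (conj_mem_iff_of_mem_normalizer (Subgroup.inv_mem _ (Subgroup.mem_inf.mp hx).2)).mpr hr
        rwa [inv_inv] at this
      calc r * (c * x * c⁻¹ * x⁻¹)
          = r * c * x * c⁻¹ * x⁻¹ := by group
        _ = c * r * x * c⁻¹ * x⁻¹ := by rw [Subgroup.mem_centralizer_iff.mp hcC r hr]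
        _ = c * x * ((x⁻¹ * r * x) * c⁻¹) * x⁻¹ := by group
        _ = c * x * (c⁻¹ * (x⁻¹ * r * x)) * x⁻¹ := by
              rw [Subgroup.mem_centralizer_iff.mp (Subgroup.inv_mem _ hcC) _ hxr]
        _ = _ := by group
    exact hR.2 R ⟨conjHom R 1, (groupFusionSystem _).conj_mem hR.1 (one_mem _), by
      ext y; exact ⟨fun ⟨x, hx⟩ => by simpa [← hx, conjHom] using x.2, fun hy => ⟨⟨y, hy⟩, by simp [conjHom]⟩⟩⟩ hmem
  obtain ⟨z, hz, hzN⟩ := exists_mem_conj_eq P hR (inf_le_right) hcC hcN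
  have h1 : EC E N z⁻¹ := EC.of_mem E (inf_le_left.trans hVP) ((P : Subgroup G).inv_mem (hR.1 hz))
  have h2 := EC.comp E h1 hψ fun x hx =>
    (conj_mem_iff_of_mem_normalizer (Subgroup.le_normalizer (hRN (R.inv_mem hz)))).mpr hx
  refine EC.congr E h2 fun x hx => ?_
  have hzx : z⁻¹ * x * z⁻¹⁻¹ ∈ N :=
    (conj_mem_iff_of_mem_normalizer (Subgroup.le_normalizer (hRN (R.inv_mem hz)))).mpr hx
  calc g * x * g⁻¹ = g * (z * (z⁻¹ * x * z⁻¹⁻¹) * z⁻¹) * g⁻¹ := by group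
    _ = g * (g⁻¹ * k * (z⁻¹ * x * z⁻¹⁻¹) * (g⁻¹ * k)⁻¹) * g⁻¹ := by rw [hzN _ hzx]
    _ = _ := by group

/-- Extension from a centric subgroup up to a subgroup `V` that is normalised. -/
theorem ec_up {E : FusionSystem (P : Subgroup G)}
    (hE : E.IsInvariantIn (groupFusionSystem (P : Subgroup G))) (hsat : E.IsSaturated p) {R V : Subgroup G}
    (hR : (groupFusionSystem (P : Subgroup G)).IsCentric R) (hRV : R ≤ V) (hVP : V ≤ (P : Subgroup G))
    {g : G} (hgR : g ∈ Subgroup.normalizer (R : Set G))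
    (hgV : g ∈ Subgroup.normalizer (V : Set G)) (h : EC E R g) :
    EC E V g := by
  induction hd : Nat.card V - Nat.card R using Nat.strong_induction_on generalizing R with
  | _ n ih =>
    rcases hRV.eq_or_lt with heq | hlt
    · exact EC.mono E h heq.ge
    have hlt' : R < normalizerIn V R := by
      refine lt_of_le_of_ne (le_inf hRV Subgroup.le_normalizer) fun heq => ?_
      have := (P.2.to_le hVP).isNilpotent
      have hnc : NormalizerCondition V := Group.normalizerCondition_of_isNilpotent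
      have hlt2 : R.subgroupOf V < ⊤ := by
        rw [lt_top_iff_ne_top, Ne, Subgroup.subgroupOf_eq_top]
        exact not_le_of_gt hlt
      obtain ⟨x, hxN, hxR⟩ := SetLike.exists_of_lt (hnc _ hlt2)
      refine hxR (show (x : G) ∈ R from heq.ge ⟨x.2, ?_⟩)
      refine Subgroup.mem_normalizer_iff.mpr fun y => ?_
      constructor
      · intro hy
        exact (Subgroup.mem_normalizer_iff.mp hxN ⟨y, hRV hy⟩).mp hy
      · intro hy
        have hyV : y ∈ V := by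
          have := V.mul_mem (V.mul_mem (V.inv_mem x.2) (hRV hy)) x.2
          convert this using 1
          group
        exact (Subgroup.mem_normalizer_iff.mp hxN ⟨y, hyV⟩).mpr hy
    have hN := centric_of_le P hR hlt'.le (inf_le_left.trans hVP)
    have hgN : g ∈ Subgroup.normalizer ((normalizerIn V R) : Set G) := by
      refine Subgroup.mem_normalizer_iff.mpr fun y => ?_
      exact (conj_mem_iff_of_mem_normalizer hgV).symm.and
        (conj_mem_iff_of_mem_normalizer (Subgroup.le_normalizer hgR)).symm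
    refine ih _ ?_ hN inf_le_left hgN (ec_normalizerIn_sub P hE hsat hR hgR hRV hVP hgV h) rfl
    have h1 : Nat.card R < Nat.card (normalizerIn V R) := Set.ncard_lt_ncard hlt' (Set.toFinite _)
    have h2 : Nat.card (normalizerIn V R) ≤ Nat.card V :=
      Nat.le_of_dvd Nat.card_pos (Subgroup.card_dvd_of_le inf_le_left)
    omega

/-- The `p`-elements normalising any subgroup of `P` are seen by an invariant system. -/
theorem pElts_le {E : FusionSystem (P : Subgroup G)}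
    (hE : E.IsInvariantIn (groupFusionSystem (P : Subgroup G))) {R : Subgroup G} (hR : R ≤ (P : Subgroup G)) :
    pElts p R ≤ normalizerPart E R hR := by
  obtain ⟨Q, ⟨φ, hφ, hQ⟩, hQn⟩ := exists_fullyNormalized (groupFusionSystem (P : Subgroup G)) hR
  obtain ⟨-, hφP, g, hg⟩ := hφ
  have hmem : ∀ x ∈ R, g * x * g⁻¹ ∈ (P : Subgroup G) := fun x hx => hg ⟨x, hx⟩ ▸ hφP ⟨x, hx⟩
  have hQR : Q = R.map (MulAut.conj g).toMonoidHom := by
    rw [← hQ]
    ext y
    constructor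
    · rintro ⟨x, rfl⟩; exact ⟨x, x.2, (hg x).symm⟩
    · rintro ⟨x, hx, rfl⟩; exact ⟨⟨x, hx⟩, hg _⟩
  obtain ⟨a, ha, he⟩ := frattini E hE hR (g := g) hmem
  refine (Subgroup.closure_le _).mpr ?_
  rintro n ⟨hn, k, hk⟩
  have hgn : g * n * g⁻¹ ∈ normalizerPart E Q hQn.1 := by
    refine pElts_le_normalizerPart P hE hQn (Subgroup.subset_closure ⟨?_, k, ?_⟩)
    · rw [hQR]
      exact Subgroup.le_normalizer_map _ ⟨n, hn, rfl⟩
    · rw [← hk]; exact (MulAut.conj g).orderOf_eq n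
  refine ⟨hn, ?_⟩
  set e := a⁻¹ * g with he'
  have h1 := invariance E hE hgn.2 (inv_mem ha)
  have hR₁ : R.map (MulAut.conj e).toMonoidHom = Q.map (MulAut.conj a⁻¹).toMonoidHom := by
    rw [hQR, Subgroup.map_map]
    congr 1
    exact MonoidHom.ext fun x => by simp [he', mul_assoc]
  rw [← hR₁] at h1
  have h2 := EC.comp E he h1 fun x hx => ⟨x, hx, rfl⟩
  have h3 := EC.comp E h2 (EC.inv E he) fun x hx => by
    refine ⟨n * x * n⁻¹, (conj_mem_iff_of_mem_normalizer hn).mpr hx, ?_⟩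
    show e * (n * x * n⁻¹) * e⁻¹ = _
    rw [he']
    group
  exact EC.congr E h3 fun x hx => by rw [he']; group

/-- A subgroup containing its centraliser is centric. -/
theorem isCentric_of_centralizer_le {R : Subgroup G} (hR : R ≤ (P : Subgroup G))
    (hC : Subgroup.centralizer (R : Set G) ≤ R) : (groupFusionSystem (P : Subgroup G)).IsCentric R := by
  refine ⟨hR, ?_⟩
  rintro Q ⟨φ, ⟨-, -, g, hg⟩, rfl⟩ y ⟨-, hy⟩
  have : g⁻¹ * y * g ∈ Subgroup.centralizer (R : Set G) := by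
    refine Subgroup.mem_centralizer_iff.mpr fun r hr => ?_
    have h1 : φ ⟨r, hr⟩ * y = y * φ ⟨r, hr⟩ := Subgroup.mem_centralizer_iff.mp hy _ ⟨_, rfl⟩
    rw [hg] at h1
    calc r * (g⁻¹ * y * g) = g⁻¹ * (g * r * g⁻¹ * y) * g := by group
      _ = _ := by rw [h1]; group
  exact ⟨⟨_, hC this⟩, by rw [hg]; group⟩

/-- The criterion. -/
theorem isSimple (hF : (groupFusionSystem (P : Subgroup G)).IsSaturated p) (hP : (P : Subgroup G) ≠ ⊥)
    (hclosed : ∀ T : Subgroup G, (groupFusionSystem (P : Subgroup G)).StronglyClosed T → T = ⊥ ∨ T = P)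
    (htop : ∀ E : FusionSystem (P : Subgroup G), E.IsInvariantIn (groupFusionSystem (P : Subgroup G)) →
      E.IsSaturated p → ∀ a ∈ Subgroup.normalizer ((P : Subgroup G) : Set G), EC E (P : Subgroup G) a) :
    (groupFusionSystem (P : Subgroup G)).IsSimple p := by
  refine ⟨hF, hP, fun T E hE => ?_⟩
  obtain ⟨⟨hsat, -, hinv⟩, -⟩ := hE
  rcases hclosed T hinv.2.1 with hT | hT
  · exact Or.inl hT
  subst hT
  refine Or.inr ⟨rfl, fun R => Set.Subset.antisymm (hinv.1 R) ?_⟩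
  rintro φ ⟨hR, hφ, g, hg⟩
  obtain rfl := eq_conjHom hg
  obtain ⟨a, ha, he⟩ := frattini E hinv hR (g := g) fun x hx => hφ ⟨x, hx⟩
  have h1 := EC.comp E he (htop E hinv hsat a ha) fun x hx => EC.mem E he hx
  rw [mul_inv_cancel_left] at h1
  exact h1

end Cfsg.Agent.Fusion.SimpleTop
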