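import Cfsg.Agent.Lib.Fusion.AltBlocks
import Cfsg.Agent.Lib.Fusion.AltClosed
import Cfsg.Agent.Lib.Fusion.SimpleTop
import Cfsg.Agent.Lib.Fusion.Group
import Cfsg.Agent.Lib.Perm.SylowTwo

/-!
Simplicity of the fusion system of an alternating group.
-/

set_option autoImplicit false
set_option linter.unusedSectionVars false

namespace Cfsg.Agent.Fusion.AltSimple

open Cfsg Cfsg.FusionSystem Equiv Equiv.Perm
open Cfsg.Agent.Fusion.AltBlocks Cfsg.Agent.Fusion.GroupSimple

section Top

variable {p : ℕ} [Fact p.Prime] {α : Type*} [Fintype α] [DecidableEq α]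

/-- Strongly closed subgroups of a Sylow subgroup of the alternating group. -/
theorem stronglyClosed_trivial (hn : p ^ 2 ≤ Fintype.card α) (P : Sylow p (alternatingGroup α))
    (T : Subgroup (alternatingGroup α))
    (hT : (groupFusionSystem (P : Subgroup (alternatingGroup α))).StronglyClosed T) : T = ⊥ ∨ T = P := by
  rcases eq_or_ne T ⊥ with h | h
  · exact Or.inl h
  refine Or.inr (Subgroup.map_injective (alternatingGroup α).subtype_injective
    (AltClosed.eq_of_ne_bot (P := (P : Subgroup (alternatingGroup α)).map (alternatingGroup α).subtype)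
      (T := T.map (alternatingGroup α).subtype) ⟨Subgroup.map_mono hT.1, Subgroup.map_subtype_le _, P.2.map _, ?_, ?_⟩
      hn ((Subgroup.map_eq_bot_iff_of_injective _ (alternatingGroup α).subtype_injective).not.mpr h)))
  · intro H hH hle
    obtain ⟨Q, hQ⟩ := (hH.comap_subtype (K := alternatingGroup α)).exists_le_sylow
    obtain ⟨g, hg⟩ := MulAction.exists_smul_eq (alternatingGroup α) Q P
    refine ⟨g, g.2, fun x hx => ⟨g * ⟨x, hle hx⟩ * g⁻¹, ?_, rfl⟩⟩
    rw [← hg, Sylow.coe_subgroup_smul]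
    exact Subgroup.smul_mem_pointwise_smul _ (MulAut.conj g) _ (hQ hx)
  · rintro _ ⟨x, hx, rfl⟩ g hg ⟨y, hy, hyx⟩
    refine ⟨y, ?_, hyx⟩
    have hy' : y = (⟨g, hg⟩ : alternatingGroup α) * x * ⟨g, hg⟩⁻¹ := Subtype.ext hyx
    rw [hy'] at hy ⊢
    refine hT.2 (Subgroup.zpowers x) (Subgroup.zpowers_le.mpr hx) (conjHom _ _) ⟨?_, ?_, _, fun z => rfl⟩
      ⟨x, Subgroup.mem_zpowers x⟩
    · exact Subgroup.zpowers_le.mpr (hT.1 hx)
    · rintro ⟨z, m, rfl⟩
      show _ * x ^ m * _ ∈ _
      rw [← conj_zpow]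
      exact Subgroup.zpow_mem _ hy m

end Top

section Odd

variable {p : ℕ} [Fact p.Prime] {r : ℕ} {γ α : Type*} [Fintype γ] [DecidableEq γ] [Subsingleton γ]
  [Fintype α] [DecidableEq α]

/-- The blocks: `p` of them forming a super-block, and `r` others. -/
abbrev Blk (p r : ℕ) := ZMod p ⊕ Fin r

variable (e : α ≃ (Blk p r × ZMod p) ⊕ γ)

/-- A permutation of the super-block. -/
def sup : Perm (ZMod p × ZMod p) →* Perm (Blk p r × ZMod p) :=
  (Equiv.sumProdDistrib (ZMod p) (Fin r) (ZMod p)).symm.permCongrHom.toMonoidHom.comp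
    ((Perm.sumCongrHom _ _).comp (MonoidHom.inl _ _))

theorem sup_inl (M : Perm (ZMod p × ZMod p)) (k i : ZMod p) :
    sup (r := r) M (.inl k, i) = (.inl (M (k, i)).1, (M (k, i)).2) := by
  simp [sup]

theorem sup_inr (M : Perm (ZMod p × ZMod p)) (j : Fin r) (i : ZMod p) :
    sup (r := r) M (.inr j, i) = (.inr j, i) := by
  simp [sup]

/-- An element of the second radical. -/
def rfun (a c : ZMod p) (t : Fin r → ZMod p) : Perm (Blk p r × ZMod p) :=
  sup (Equiv.addRight (a, c)) * tr (Sum.elim 0 t)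

theorem rfun_inl (a c : ZMod p) (t : Fin r → ZMod p) (k i : ZMod p) :
    rfun a c t (.inl k, i) = (.inl (k + a), i + c) := by
  rw [rfun, Perm.mul_apply, tr_apply, sup_inl]
  simp

theorem rfun_inr (a c : ZMod p) (t : Fin r → ZMod p) (j : Fin r) (i : ZMod p) :
    rfun a c t (.inr j, i) = (.inr j, i + t j) := by
  rw [rfun, Perm.mul_apply, tr_apply, sup_inr]
  rfl

theorem rfun_mul (a c a' c' : ZMod p) (t t' : Fin r → ZMod p) :
    rfun a c t * rfun a' c' t' = rfun (a' + a) (c' + c) (t' + t) := by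
  refine Equiv.ext ?_
  rintro ⟨b | j, i⟩ <;> simp [rfun_inl, rfun_inr, add_assoc]

theorem rfun_zero : rfun (0 : ZMod p) 0 (0 : Fin r → ZMod p) = 1 := by
  refine Equiv.ext ?_
  rintro ⟨b | j, i⟩ <;> simp [rfun_inl, rfun_inr]

theorem rfun_eq_aff (a c : ZMod p) (t : Fin r → ZMod p) :
    rfun a c t = aff (Equiv.sumCongr (Equiv.addRight a) 1) 1 (Sum.elim (fun _ => c) t) := by
  refine Equiv.ext ?_
  rintro ⟨b | j, i⟩ <;> simp [rfun_inl, rfun_inr, aff_apply]

/-- The second radical. -/
def radTwo : Subgroup (Perm α) where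
  carrier := {g | ∃ a c t, g = emb e (rfun a c t)}
  one_mem' := ⟨0, 0, 0, by rw [rfun_zero, map_one]⟩
  mul_mem' := by
    rintro x y ⟨a, c, t, rfl⟩ ⟨a', c', t', rfl⟩
    exact ⟨a' + a, c' + c, t' + t, by rw [← map_mul, rfun_mul]⟩
  inv_mem' := by
    rintro x ⟨a, c, t, rfl⟩
    refine ⟨-a, -c, -t, inv_eq_of_mul_eq_one_right ?_⟩
    rw [← map_mul, rfun_mul, neg_add_cancel, neg_add_cancel, neg_add_cancel, rfun_zero, map_one]

theorem mem_radTwo_of_centralizes {g : Perm α} (hg : g ∈ Subgroup.centralizer (radTwo e : Set (Perm α))) :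
    g ∈ radTwo e := by
  obtain ⟨σ, rfl⟩ := mem_range_of_fix e (g := g) (fix_of_normalizes e (H := radTwo e)
    (fun h hh => by obtain ⟨a, c, t, rfl⟩ := hh; exact ⟨_, rfl⟩)
    (by
      rintro ⟨b | j, i⟩
      · exact ⟨_, ⟨0, 1, 0, rfl⟩, by simp [emb_apply_inl, rfun_inl]⟩
      · exact ⟨_, ⟨0, 0, Pi.single j 1, rfl⟩, by simp [emb_apply_inl, rfun_inr]⟩)
    fun h hh => by
      rw [mul_assoc, Subgroup.mem_centralizer_iff.mp hg h hh, inv_mul_cancel_left]
      exact hh)
  have hcomm : ∀ a c t x, rfun a c t (σ x) = σ (rfun a c t x) := by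
    intro a c t x
    exact Equiv.congr_fun (emb_injective e (a₁ := rfun a c t * σ) (a₂ := σ * rfun a c t)
      (by rw [map_mul, map_mul]; exact Subgroup.mem_centralizer_iff.mp hg _ ⟨a, c, t, rfl⟩)) x
  have hblock : ∀ j i, (σ (.inr j, i)).1 = .inr j := by
    intro j i
    have h := hcomm 0 0 (Pi.single j 1) (.inr j, i)
    rw [rfun_inr, Pi.single_eq_same] at h
    rcases hσ : σ (Sum.inr j, i) with ⟨b | j', l⟩
    · rw [hσ, rfun_inl, add_zero, add_zero, ← hσ] at h
      have h' := σ.injective h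
      simp at h'
    · rw [hσ, rfun_inr] at h
      by_contra hne
      have hne' : j' ≠ j := fun e' => hne (by rw [e'])
      rw [Pi.single_eq_of_ne hne', add_zero, ← hσ] at h
      have h' := σ.injective h
      simp at h'
  set t : Fin r → ZMod p := fun j => (σ (.inr j, 0)).2 with ht
  have hinr : ∀ j i, σ (.inr j, i) = (.inr j, i + t j) := by
    intro j i
    have h := hcomm 0 0 (Pi.single j i) (.inr j, 0)
    rw [rfun_inr, Pi.single_eq_same, zero_add] at h
    rw [← h]
    rcases hσ : σ (Sum.inr j, (0 : ZMod p)) with ⟨b, l⟩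
    have hb := hblock j 0
    rw [hσ] at hb
    obtain rfl : b = .inr j := hb
    rw [rfun_inr, Pi.single_eq_same, ht]
    simp [hσ, add_comm]
  obtain ⟨k₀, i₀, h₀⟩ : ∃ k₀ i₀, σ (.inl 0, 0) = (.inl k₀, i₀) := by
    rcases hσ : σ (Sum.inl (0 : ZMod p), (0 : ZMod p)) with ⟨b | j, l⟩
    · exact ⟨b, l, rfl⟩
    · have h' := σ.injective (hσ.trans ((by simp : _ = _).trans (hinr j (l - t j)).symm))
      simp at h'
  refine ⟨k₀, i₀, t, congrArg (emb e) (Equiv.ext ?_)⟩
  rintro ⟨k | j, i⟩
  · have h := hcomm k i 0 (.inl 0, 0)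
    rw [rfun_inl, zero_add, zero_add, h₀, rfun_inl] at h
    rw [← h, rfun_inl, add_comm k₀, add_comm i₀]
  · rw [hinr, rfun_inr]

theorem sup_normalizes (M : Perm (ZMod p × ZMod p)) (hM : ∀ v w, M (v + w) = M v + M w) :
    emb e (sup M) ∈ Subgroup.normalizer (radTwo e : Set (Perm α)) := by
  refine Subgroup.mem_normalizer_iff_map_conj_eq.mpr (Subgroup.eq_of_le_of_card_ge ?_ ?_)
  · rintro _ ⟨_, ⟨a, c, t, rfl⟩, rfl⟩
    refine ⟨(M (a, c)).1, (M (a, c)).2, t, ?_⟩
    show emb e _ * emb e _ * (emb e _)⁻¹ = _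
    rw [mul_inv_eq_iff_eq_mul, ← map_mul, ← map_mul]
    refine congrArg (emb e) (Equiv.ext ?_)
    rintro ⟨k | j, i⟩
    · rw [Perm.mul_apply, Perm.mul_apply, rfun_inl, sup_inl, sup_inl, rfun_inl,
        show ((k + a, i + c) : ZMod p × ZMod p) = (k, i) + (a, c) from rfl, hM]
      rfl
    · rw [Perm.mul_apply, Perm.mul_apply, rfun_inr, sup_inr, sup_inr, rfun_inr]
  · exact (Subgroup.card_map_of_injective (MulAut.conj _).injective).ge

/-- `(k, i) ↦ (k + a i, i)`. -/
def upper (a : ZMod p) : Perm (ZMod p × ZMod p) where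
  toFun x := (x.1 + a * x.2, x.2)
  invFun x := (x.1 - a * x.2, x.2)
  left_inv x := Prod.ext (add_sub_cancel_right _ _) rfl
  right_inv x := Prod.ext (sub_add_cancel _ _) rfl

/-- `(k, i) ↦ (k, i + b k)`. -/
def lower (b : ZMod p) : Perm (ZMod p × ZMod p) where
  toFun x := (x.1, x.2 + b * x.1)
  invFun x := (x.1, x.2 - b * x.1)
  left_inv x := Prod.ext rfl (add_sub_cancel_right _ _)
  right_inv x := Prod.ext rfl (sub_add_cancel _ _)

theorem upper_facts (a : ZMod p) : (∀ v w, upper a (v + w) = upper a v + upper a w) ∧ upper a ^ p = 1 := by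
  refine ⟨fun v w => Prod.ext ?_ rfl, Equiv.ext fun x => ?_⟩
  · show v.1 + w.1 + a * (v.2 + w.2) = v.1 + a * v.2 + (w.1 + a * w.2)
    ring
  · have h : ∀ m : ℕ, (upper a ^ m) x = (x.1 + m * (a * x.2), x.2) := by
      intro m
      induction m with
      | zero => simp
      | succ m ih =>
        rw [pow_succ', Perm.mul_apply, ih]
        refine Prod.ext ?_ rfl
        show x.1 + m * (a * x.2) + a * x.2 = _
        push_cast
        ring
    rw [h, ZMod.natCast_self, zero_mul, add_zero]
    rfl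

theorem lower_facts (b : ZMod p) : (∀ v w, lower b (v + w) = lower b v + lower b w) ∧ lower b ^ p = 1 := by
  refine ⟨fun v w => Prod.ext rfl ?_, Equiv.ext fun x => ?_⟩
  · show v.2 + w.2 + b * (v.1 + w.1) = v.2 + b * v.1 + (w.2 + b * w.1)
    ring
  · have h : ∀ m : ℕ, (lower b ^ m) x = (x.1, x.2 + m * (b * x.1)) := by
      intro m
      induction m with
      | zero => simp
      | succ m ih =>
        rw [pow_succ', Perm.mul_apply, ih]
        refine Prod.ext rfl ?_
        show x.2 + m * (b * x.1) + b * x.1 = _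
        push_cast
        ring
    rw [h, ZMod.natCast_self, zero_mul, add_zero]
    rfl

/-- The torus element is a product of transvections. -/
theorem torus_eq (x : (ZMod p)ˣ) :
    aff (Equiv.sumCongr (Units.mulLeft x⁻¹) (1 : Perm (Fin r))) (Sum.elim (fun _ => x) 1) 0 =
      sup (upper (x⁻¹ : (ZMod p)ˣ) * lower (-(x : ZMod p)) * upper (x⁻¹ : (ZMod p)ˣ) *
        (upper (-1) * lower 1 * upper (-1))) := by
  refine Equiv.ext ?_
  rintro ⟨k | j, i⟩
  · rw [sup_inl, aff_apply]
    simp only [Perm.mul_apply, upper, lower, Equiv.coe_fn_mk]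
    have hx : ((x⁻¹ : (ZMod p)ˣ) : ZMod p) * x = 1 := x.inv_mul
    refine Prod.ext (congrArg Sum.inl ?_) ?_
    · show ((x⁻¹ : (ZMod p)ˣ) : ZMod p) * k = _
      linear_combination (norm := ring_nf) ((((x⁻¹ : (ZMod p)ˣ) : ZMod p)) * k - i) * hx
    · show (x : ZMod p) * i + 0 = _
      linear_combination (norm := ring_nf) k * hx
  · simp only [sup_inr, aff_apply, Sum.elim_inr, Pi.one_apply, Units.val_one, one_mul, Pi.zero_apply, add_zero]
    rfl

theorem mem_alt_of_pow {g : Perm α} (hp : Odd p) (hg : g ^ p = 1) : g ∈ alternatingGroup α :=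
  AltClosed.mem_alt_of_pow_odd hp hg

theorem elem_le_alt (hp : Odd p) : elem e ≤ alternatingGroup α := by
  rintro _ ⟨t, rfl⟩
  exact mem_alt_of_pow hp (by rw [← map_pow, tr_pow_p, map_one])

theorem radTwo_le_alt (hp : Odd p) : radTwo e ≤ alternatingGroup α := by
  rintro _ ⟨a, c, t, rfl⟩
  refine mem_alt_of_pow hp ?_
  rw [← map_pow]
  have h : ∀ m : ℕ, rfun a c t ^ m = rfun (m • a) (m • c) (m • t) := by
    intro m
    induction m with
    | zero => simp [rfun_zero]
    | succ m ih => rw [pow_succ', ih, rfun_mul, succ_nsmul, succ_nsmul, succ_nsmul]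
  rw [h, show p • a = 0 by simp, show p • c = 0 by simp, show p • t = 0 from funext fun j => by simp,
    rfun_zero, map_one]

/-- A subgroup containing the elements of order `p` among the affine maps, and torus elements of every
determinant, contains every even affine map. -/
theorem affine_mem (hp : Odd p) (N : Subgroup (Perm α))
    (hN : ∀ π d t, emb e (aff π d t) ^ p = 1 → emb e (aff π d t) ∈ N)
    (htor : ∀ x : (ZMod p)ˣ,
      emb e (aff (Equiv.sumCongr (Units.mulLeft x⁻¹) (1 : Perm (Fin r))) (Sum.elim (fun _ => x) 1) 0) ∈ N)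
    (hNe : N ≤ alternatingGroup α) (π : Perm (Blk p r)) (d : Blk p r → (ZMod p)ˣ) (t : Blk p r → ZMod p)
    (hev : emb e (aff π d t) ∈ alternatingGroup α) : emb e (aff π d t) ∈ N := by
  have hp3 : 3 ≤ p := by
    obtain ⟨m, hm⟩ := hp
    have := (Fact.out : p.Prime).two_le
    omega
  set c : Perm (Blk p r) := Equiv.sumCongr (Equiv.addRight (1 : ZMod p)) 1 with hc
  have hc_apply : ∀ k, c (.inl k) = .inl (k + 1) := fun k => rfl
  have hcp : c ^ p = 1 := by
    have h : ∀ m : ℕ, ∀ b, (c ^ m) b = Sum.map (· + (m : ZMod p)) id b := by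
      intro m
      induction m with
      | zero => rintro (k | j) <;> simp
      | succ m ih =>
        rintro (k | j) <;> rw [pow_succ', Perm.mul_apply, ih] <;> simp [hc, add_assoc]
    exact Equiv.ext fun b => by rw [h]; cases b <;> simp
  let L : Subgroup (Perm (Blk p r)) := N.comap ((emb e).comp blk)
  let D : Subgroup (Blk p r → (ZMod p)ˣ) := N.comap ((emb e).comp diag)
  have hL : ∀ g, g * c * g⁻¹ ∈ L := by
    intro g
    refine hN _ 1 0 ?_
    show emb e (blk _) ^ p = 1
    rw [← map_pow, ← map_pow, conj_pow, hcp, mul_one, mul_inv_cancel, map_one, map_one]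
  have h01 : (0 : ZMod p) ≠ 1 := zero_ne_one
  have h02 : (0 : ZMod p) ≠ 1 + 1 := by
    intro h
    have h2 : ((2 : ℕ) : ZMod p) = 0 := by rw [h]; push_cast; ring
    have := Nat.le_of_dvd two_pos ((ZMod.natCast_eq_zero_iff _ _).mp h2)
    omega
  set x₀ : Blk p r := .inl 0
  set s : Perm (Blk p r) := swap x₀ (c x₀) with hs
  have h3c : (s * c * s⁻¹ * c⁻¹).IsThreeCycle := by
    have h : s * c * s⁻¹ * c⁻¹ = swap (c x₀) x₀ * swap (c x₀) (c (c x₀)) := by
      rw [hs, swap_inv, mul_assoc, mul_assoc, ← mul_assoc c, mul_swap_eq_swap_mul, mul_inv_cancel_right, swap_comm]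
    rw [h]
    refine isThreeCycle_swap_mul_swap_same ?_ ?_ ?_
    · show c (.inl 0) ≠ .inl 0
      simp [hc_apply, h01.symm]
    · show c (.inl 0) ≠ c (c (.inl 0))
      simp [hc_apply]
    · show (Sum.inl 0 : Blk p r) ≠ c (c (.inl 0))
      simp [hc_apply, h02]
  have hA : alternatingGroup (Blk p r) ≤ L := by
    rw [← closure_three_cycles_eq_alternating, Subgroup.closure_le]
    intro u hu
    obtain ⟨g, hg⟩ := isConj_iff.mp (isConj_iff_cycleType_eq.mpr (h3c.cycleType.trans hu.cycleType.symm))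
    have : u = (g * s) * c * (g * s)⁻¹ * (g * c * g⁻¹)⁻¹ := by rw [← hg]; group
    rw [this]
    exact mul_mem (hL _) (inv_mem (hL _))
  have hcomm : ∀ (g : Perm (Blk p r)) (f : Blk p r → (ZMod p)ˣ),
      (fun b => f b * (f ((g * c * g⁻¹)⁻¹ b))⁻¹) ∈ D := by
    intro g f
    set π' := g * c * g⁻¹ with hπ'
    have h1 : emb e (diag f * blk π' * (diag f)⁻¹) ∈ N := by
      have hpow : emb e (diag f * blk π' * (diag f)⁻¹) ^ p = 1 := by
        rw [← map_pow, conj_pow, ← map_pow, hπ', conj_pow, hcp, mul_one, mul_inv_cancel, map_one, mul_one,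
          mul_inv_cancel, map_one]
      have heq : ∃ (d' : Blk p r → (ZMod p)ˣ) (t' : Blk p r → ZMod p),
          diag f * blk π' * (diag f)⁻¹ = aff π' d' t' := by
        refine ⟨fun b => f (π' b) * (f b)⁻¹, 0, mul_inv_eq_iff_eq_mul.mpr (Equiv.ext ?_)⟩
        rintro ⟨b, i⟩
        simp only [diag, blk, MonoidHom.coe_mk, OneHom.coe_mk, Perm.mul_apply, aff_apply, Pi.one_apply,
          Pi.zero_apply, Units.val_one, one_mul, add_zero, Perm.one_apply, Units.val_mul, mul_assoc,
          Units.inv_mul_cancel_left]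
      obtain ⟨d', t', heq⟩ := heq
      rw [heq] at hpow ⊢
      exact hN _ _ _ hpow
    have h2 : blk π' * diag (p := p) f⁻¹ * (blk π')⁻¹ = diag fun b => (f (π'⁻¹ b))⁻¹ := by
      rw [mul_inv_eq_iff_eq_mul]
      show aff π' 1 0 * aff 1 f⁻¹ 0 = aff 1 _ 0 * aff π' 1 0
      refine Equiv.ext ?_
      rintro ⟨b, i⟩
      simp only [Perm.mul_apply, aff_apply, Pi.one_apply, Pi.inv_apply, Pi.zero_apply, Units.val_one, one_mul,
        add_zero, Perm.one_apply, Perm.coe_inv, Equiv.symm_apply_apply]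
    show emb e (diag (f * fun b => (f (π'⁻¹ b))⁻¹)) ∈ N
    rw [map_mul, ← h2, map_inv,
      show diag f * (blk π' * (diag f)⁻¹ * (blk π')⁻¹) = diag f * blk π' * (diag f)⁻¹ * (blk π')⁻¹ by group,
      map_mul, map_inv]
    exact mul_mem h1 (inv_mem (hL g))
  have hpair : ∀ (a b : Blk p r) (x : (ZMod p)ˣ),
      (Pi.mulSingle a x : Blk p r → (ZMod p)ˣ) * Pi.mulSingle b x⁻¹ ∈ D := by
    intro a b x
    rcases eq_or_ne a b with rfl | hab
    · rw [← Pi.mulSingle_mul, mul_inv_cancel, Pi.mulSingle_one]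
      exact one_mem _
    set g : Perm (Blk p r) := swap (swap x₀ a (c x₀)) b * swap x₀ a with hg
    have hgx : g x₀ = a := by
      rw [hg, Perm.mul_apply, swap_apply_left, swap_apply_of_ne_of_ne ?_ hab]
      intro h
      have : swap x₀ a x₀ = swap x₀ a (c x₀) := by rw [swap_apply_left]; exact h
      have := (swap x₀ a).injective this
      simp [x₀, hc_apply] at this
    have hgy : g (c x₀) = b := by rw [hg, Perm.mul_apply, swap_apply_left]
    convert hcomm g (Pi.mulSingle a x) using 1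
    funext z
    show (Pi.mulSingle a x : Blk p r → (ZMod p)ˣ) z * (Pi.mulSingle b x⁻¹ : Blk p r → (ZMod p)ˣ) z = _
    congr 1
    by_cases hz : z = b
    · rw [hz, Pi.mulSingle_eq_same]
      have : (g * c * g⁻¹)⁻¹ b = a := by
        rw [Perm.inv_eq_iff_eq, Perm.mul_apply, Perm.mul_apply, Perm.inv_eq_iff_eq.mpr hgx.symm, hgy]
      rw [this, Pi.mulSingle_eq_same]
    · rw [Pi.mulSingle_eq_of_ne hz, Pi.mulSingle_eq_of_ne, inv_one]
      intro h
      apply hz
      rw [Perm.inv_eq_iff_eq, Perm.mul_apply, Perm.mul_apply, Perm.inv_eq_iff_eq.mpr hgx.symm, hgy] at h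
      exact h
  have hdiag : ∀ f : Blk p r → (ZMod p)ˣ, ∏ b, f b = 1 → f ∈ D := by
    intro f hf
    have h : f = ∏ b, (Pi.mulSingle b (f b) * Pi.mulSingle x₀ (f b)⁻¹) := by
      rw [Finset.prod_mul_distrib, Finset.univ_prod_mulSingle]
      funext z
      rw [Pi.mul_apply, Finset.prod_apply]
      by_cases hz : z = x₀
      · simp [hz, Finset.prod_inv_distrib, hf]
      · simp [hz]
    rw [h]
    exact Subgroup.prod_mem _ fun b _ => hpair b x₀ (f b)
  set x := ∏ b, d b with hx
  have hh := htor x⁻¹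
  set πh : Perm (Blk p r) := Equiv.sumCongr (Units.mulLeft x⁻¹⁻¹) (1 : Perm (Fin r)) with hπh
  set dh : Blk p r → (ZMod p)ˣ := Sum.elim (fun _ => x⁻¹) 1 with hdh
  obtain ⟨d', t', hq, hprod⟩ : ∃ d' t', aff πh dh 0 * aff π d t = aff (πh * π) d' t' ∧ ∏ b, d' b = 1 := by
    refine ⟨_, _, aff_mul _ _ _ _ _ _, ?_⟩
    rw [Finset.prod_mul_distrib, Equiv.prod_comp π dh, ← hx, hdh, Fintype.prod_sum_type]
    simp only [Sum.elim_inl, Sum.elim_inr, Finset.prod_const, Finset.card_univ, ZMod.card, Pi.one_apply,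
      one_pow, mul_one]
    rw [show x⁻¹ ^ p = x⁻¹ from Units.ext (by rw [Units.val_pow_eq_pow_val, ZMod.pow_card]), inv_mul_cancel]
  have hqN : emb e (aff (πh * π) d' t') ∈ N := by
    have hd : emb e (diag d') ∈ N := hdiag d' hprod
    have hqA : emb e (aff (πh * π) d' t') ∈ alternatingGroup α := by
      rw [← hq, map_mul]; exact mul_mem (hNe hh) hev
    have htr : ∀ s, emb e (tr s) ∈ N := fun s => hN _ _ _ (by rw [← map_pow, tr_pow_p, map_one])
    rw [aff_decompose, map_mul, map_mul] at hqA ⊢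
    refine mul_mem (mul_mem (hA ?_) hd) (htr _)
    have h1 : emb e (blk (p := p) (πh * π)) ∈ alternatingGroup α :=
      (Subgroup.mul_mem_cancel_right _ (hNe hd)).mp ((Subgroup.mul_mem_cancel_right _ (hNe (htr _))).mp hqA)
    rw [mem_alternatingGroup, sign_emb, sign_blk _ hp] at h1
    exact mem_alternatingGroup.mpr h1
  rw [← hq, map_mul] at hqN
  exact (Subgroup.mul_mem_cancel_left _ hh).mp hqN

end Odd

section Main

variable {p : ℕ} [Fact p.Prime] {r : ℕ} {γ α : Type*} [Fintype γ] [DecidableEq γ] [Subsingleton γ]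
  [Fintype α] [DecidableEq α] (e : α ≃ (Blk p r × ZMod p) ⊕ γ)

theorem normalizer_subgroupOf {A H : Subgroup (Perm α)} (hH : H ≤ A) (g : A) :
    g ∈ Subgroup.normalizer ((H.subgroupOf A : Subgroup A) : Set A) ↔
      (g : Perm α) ∈ Subgroup.normalizer (H : Set (Perm α)) := by
  constructor
  · intro hg
    refine Subgroup.mem_normalizer_iff.mpr fun x => ⟨fun hx => ?_, fun hx => ?_⟩
    · exact (Subgroup.mem_normalizer_iff.mp hg ⟨x, hH hx⟩).mp hx
    · have h2 := (Subgroup.mem_normalizer_iff.mp (inv_mem hg) ⟨_, hH hx⟩).mp hx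
      have h3 : (g : Perm α)⁻¹ * (g * x * (g : Perm α)⁻¹) * ((g : Perm α)⁻¹)⁻¹ ∈ H := h2
      convert h3 using 1
      group
  · intro hg
    exact Subgroup.mem_normalizer_iff.mpr fun x => Subgroup.mem_normalizer_iff.mp hg x

theorem centralizer_subgroupOf {A H : Subgroup (Perm α)} (hH : H ≤ A) {g : A}
    (hg : g ∈ Subgroup.centralizer ((H.subgroupOf A : Subgroup A) : Set A)) :
    (g : Perm α) ∈ Subgroup.centralizer (H : Set (Perm α)) :=
  Subgroup.mem_centralizer_iff.mpr fun x hx =>
    congrArg Subtype.val (Subgroup.mem_centralizer_iff.mp hg ⟨x, hH hx⟩ hx)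

theorem tr_mem_of_single (K : Subgroup (Perm α)) (h : ∀ b, emb e (tr (Pi.single b 1)) ∈ K)
    (t : Blk p r → ZMod p) : emb e (tr t) ∈ K := by
  rw [← Finset.univ_sum_single t]
  induction (Finset.univ : Finset (Blk p r)) using Finset.induction_on with
  | empty => rw [Finset.sum_empty, show tr (0 : Blk p r → ZMod p) = 1 from aff_one, map_one]; exact one_mem K
  | @insert b s hb ih =>
    rw [Finset.sum_insert hb, ← tr_mul, map_mul]
    refine mul_mem ?_ ih
    rw [← ZMod.natCast_zmod_val (t b), ← nsmul_one (t b).val, Pi.single_smul, ← tr_pow, map_pow]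
    exact pow_mem (h b) _

theorem single_support (b : Blk p r) : (emb e (tr (Pi.single b (1 : ZMod p)))).support.card = p := by
  have h : (tr (Pi.single b (1 : ZMod p))).support = ({b} : Finset (Blk p r)) ×ˢ (Finset.univ : Finset (ZMod p)) := by
    ext ⟨b', i⟩
    rw [mem_support, tr_apply]
    by_cases hb : b' = b
    · simp [hb]
    · simp [hb, Ne.symm hb]
  rw [card_support_emb, h, Finset.card_product, Finset.card_singleton, Finset.card_univ, ZMod.card, one_mul]

variable (hp : Odd p) (P : Sylow p (alternatingGroup α)) (S : Subgroup (Perm (Blk p r)))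
  (hP : (P : Subgroup (alternatingGroup α)).map (alternatingGroup α).subtype = sylSub e S)
  (hS : ∀ a : ZMod p, Equiv.sumCongr (Equiv.addRight a) (1 : Perm (Fin r)) ∈ S)

include hp hP hS

/-- The normaliser of the Sylow subgroup is seen by every invariant saturated subsystem. -/
theorem top_part (E : FusionSystem (P : Subgroup (alternatingGroup α)))
    (hinv : E.IsInvariantIn (groupFusionSystem (P : Subgroup (alternatingGroup α)))) (hsat : E.IsSaturated p)
    (a : alternatingGroup α)
    (ha : a ∈ Subgroup.normalizer ((P : Subgroup (alternatingGroup α)) : Set (alternatingGroup α))) :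
    EC E (P : Subgroup (alternatingGroup α)) a := by
  set Eg : Subgroup (alternatingGroup α) := (elem e).subgroupOf (alternatingGroup α) with hEg
  set Rg : Subgroup (alternatingGroup α) := (radTwo e).subgroupOf (alternatingGroup α) with hRg
  have hmemP : ∀ x : (alternatingGroup α), x ∈ (P : Subgroup (alternatingGroup α)) ↔ (x : Perm α) ∈ sylSub e S := by
    intro x
    rw [← hP]
    exact (Subgroup.mem_map_iff_mem (alternatingGroup α).subtype_injective).symm
  have hEP : Eg ≤ (P : Subgroup (alternatingGroup α)) := by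
    rintro x ⟨t, ht⟩
    exact (hmemP x).mpr ⟨1, S.one_mem, t, ht⟩
  have hRP : Rg ≤ (P : Subgroup (alternatingGroup α)) := by
    rintro x ⟨a', c', t', ht⟩
    exact (hmemP x).mpr ⟨_, hS a', _, (show (x : Perm α) = _ from ht).trans (congrArg (emb e) (rfun_eq_aff a' c' t'))⟩
  have hEc : (groupFusionSystem (P : Subgroup (alternatingGroup α))).IsCentric Eg := SimpleTop.isCentric_of_centralizer_le P hEP
    fun x hx => mem_elem_of_centralizes e (centralizer_subgroupOf (elem_le_alt e hp) hx)
  have hRc : (groupFusionSystem (P : Subgroup (alternatingGroup α))).IsCentric Rg := SimpleTop.isCentric_of_centralizer_le P hRP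
    fun x hx => mem_radTwo_of_centralizes e (centralizer_subgroupOf (radTwo_le_alt e hp) hx)
  set N := (normalizerPart E Eg hEP).map (alternatingGroup α).subtype with hN
  have hNp : ∀ π d t, emb e (aff π d t) ^ p = 1 → emb e (aff π d t) ∈ N := by
    intro π d t h
    refine ⟨⟨_, mem_alt_of_pow hp h⟩, SimpleTop.pElts_le P hinv hEP (Subgroup.subset_closure ⟨?_, ?_⟩), rfl⟩
    · exact (normalizer_subgroupOf (elem_le_alt e hp) _).mpr (aff_normalizes e π d t)
    · obtain ⟨j, -, hj⟩ := (Nat.dvd_prime_pow Fact.out).mp (orderOf_dvd_of_pow_eq_one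
        (x := (⟨_, mem_alt_of_pow hp h⟩ : (alternatingGroup α))) (n := p ^ 1) (Subtype.ext (by rw [pow_one]; exact h)))
      exact ⟨j, hj⟩
  have htor : ∀ x : (ZMod p)ˣ,
      emb e (aff (Equiv.sumCongr (Units.mulLeft x⁻¹) (1 : Perm (Fin r))) (Sum.elim (fun _ => x) 1) 0) ∈ N := by
    intro x
    set W := (normalizerPart E Rg hRP).map (alternatingGroup α).subtype with hW
    have hWp : ∀ M : Perm (ZMod p × ZMod p), (∀ v w, M (v + w) = M v + M w) → M ^ p = 1 → emb e (sup M) ∈ W := by
      intro M hM hMp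
      have hM' : emb e (sup (r := r) M) ^ p = 1 := by rw [← map_pow, ← map_pow, hMp, map_one, map_one]
      refine ⟨⟨_, mem_alt_of_pow hp hM'⟩, SimpleTop.pElts_le P hinv hRP (Subgroup.subset_closure ⟨?_, ?_⟩), rfl⟩
      · exact (normalizer_subgroupOf (radTwo_le_alt e hp) _).mpr (sup_normalizes e M hM)
      · obtain ⟨j, -, hj⟩ := (Nat.dvd_prime_pow Fact.out).mp (orderOf_dvd_of_pow_eq_one
          (x := (⟨_, mem_alt_of_pow hp hM'⟩ : (alternatingGroup α))) (n := p ^ 1) (Subtype.ext (by rw [pow_one]; exact hM')))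
        exact ⟨j, hj⟩
    have hU : ∀ a, emb e (sup (upper a)) ∈ W := fun a => hWp _ (upper_facts a).1 (upper_facts a).2
    have hL : ∀ b, emb e (sup (lower b)) ∈ W := fun b => hWp _ (lower_facts b).1 (lower_facts b).2
    set h0 := emb e (aff (Equiv.sumCongr (Units.mulLeft x⁻¹) (1 : Perm (Fin r))) (Sum.elim (fun _ => x) 1) 0)
      with hh0
    have hW0 : h0 ∈ W := by
      rw [hh0, torus_eq]
      simp only [map_mul]
      exact mul_mem (mul_mem (mul_mem (hU _) (hL _)) (hU _)) (mul_mem (mul_mem (hU _) (hL _)) (hU _))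
    obtain ⟨h, ⟨hhR, hhE⟩, hh⟩ := hW0
    have hhn : h ∈ Subgroup.normalizer (Eg : Set (alternatingGroup α)) :=
      (normalizer_subgroupOf (elem_le_alt e hp) _).mpr (by rw [show (h : Perm α) = _ from hh]; exact aff_normalizes e _ _ _)
    have hhV : h ∈ Subgroup.normalizer ((Eg ⊔ Rg : Subgroup (alternatingGroup α)) : Set (alternatingGroup α)) := by
      rw [Subgroup.mem_normalizer_iff_map_conj_eq, Subgroup.map_sup,
        Subgroup.mem_normalizer_iff_map_conj_eq.mp hhn, Subgroup.mem_normalizer_iff_map_conj_eq.mp hhR]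
    refine ⟨h, ⟨hhn, ?_⟩, hh⟩
    exact EC.mono E (SimpleTop.ec_up P hinv hsat hRc le_sup_right (sup_le hEP hRP) hhR hhV hhE) le_sup_left
  have hNe : N ≤ alternatingGroup α := Subgroup.map_subtype_le _
  have haN : a ∈ Subgroup.normalizer (Eg : Set (alternatingGroup α)) := by
    rw [hEg, normalizer_subgroupOf (elem_le_alt e hp)]
    refine Subgroup.mem_normalizer_iff_map_conj_eq.mpr (Subgroup.eq_of_le_of_card_ge ?_ ?_)
    · rw [Subgroup.map_le_iff_le_comap]
      rintro _ ⟨t, rfl⟩
      refine tr_mem_of_single e _ (fun b => ?_) t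
      have hc : (⟨_, elem_le_alt e hp (tr_mem_elem e (Pi.single b 1))⟩ : (alternatingGroup α)) ∈ (P : Subgroup (alternatingGroup α)) :=
        hEP (tr_mem_elem e _)
      obtain ⟨π, -, t', ht'⟩ := (hmemP _).mp ((Subgroup.mem_normalizer_iff.mp ha _).mp hc)
      show (a : Perm α) * emb e (tr (Pi.single b 1)) * (a : Perm α)⁻¹ ∈ elem e
      have ht'' : (a : Perm α) * emb e (tr (Pi.single b 1)) * (a : Perm α)⁻¹ = emb e (aff π 1 t') := ht'
      rw [ht'']
      suffices π = 1 by rw [this]; exact tr_mem_elem e t'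
      by_contra hπ
      obtain ⟨b', hb'⟩ : ∃ b', π b' ≠ b' := by
        by_contra hno
        exact hπ (Equiv.ext fun z => by simpa using not_exists.mp hno z)
      have hcard : (emb e (aff π 1 t')).support.card = p := by
        rw [← ht'', card_support_conj, single_support]
      rw [card_support_emb] at hcard
      have hsub : ({b', π b'} : Finset (Blk p r)) ×ˢ (Finset.univ : Finset (ZMod p)) ⊆ (aff π 1 t').support := by
        rintro ⟨z, i⟩ hz
        rw [mem_support, aff_apply]
        intro h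
        have h1 : π z = z := congrArg Prod.fst h
        rcases Finset.mem_insert.mp (Finset.mem_product.mp hz).1 with hz' | hz'
        · exact hb' (hz' ▸ h1)
        · exact hb' (π.injective ((Finset.mem_singleton.mp hz') ▸ h1))
      have h2 := Finset.card_le_card hsub
      rw [Finset.card_product, Finset.card_pair (Ne.symm hb'), Finset.card_univ, ZMod.card, hcard] at h2
      have := (Fact.out : p.Prime).pos
      omega
    · exact (Subgroup.card_map_of_injective (MulAut.conj _).injective).ge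
  have haE : a ∈ normalizerPart E Eg hEP := by
    obtain ⟨π, d, t, hwa⟩ := exists_aff_of_normalizes e ((normalizer_subgroupOf (elem_le_alt e hp) a).mp haN)
    have := affine_mem e hp N hNp htor hNe π d t (hwa ▸ a.2)
    rw [← hwa] at this
    exact (Subgroup.mem_map_iff_mem (alternatingGroup α).subtype_injective).mp this
  exact ec_top P hinv hsat hEc haN ha haE.2

end Main

/-- The fusion system of an alternating group is simple. -/
theorem main (n p : ℕ) (hn : 6 ≤ n) [Fact p.Prime] (hnp : p ^ 2 ≤ n) (hb : n % p ≤ 1)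
    (P : Sylow p (alternatingGroup (Fin n))) :
    (groupFusionSystem (P : Subgroup (alternatingGroup (Fin n)))).IsSimple p := by
  have hsat : (groupFusionSystem (P : Subgroup (alternatingGroup (Fin n)))).IsSaturated p :=
    groupFusionSystem_saturated P
  have hn' : p ^ 2 ≤ Fintype.card (Fin n) := by rwa [Fintype.card_fin]
  have hbot : (P : Subgroup (alternatingGroup (Fin n))) ≠ ⊥ := by
    have : Nontrivial (Fin n) := Fin.nontrivial_iff_two_le.mpr (by omega)
    refine P.ne_bot_of_dvd_card ?_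
    have h1 := two_mul_nat_card_alternatingGroup (α := Fin n)
    rw [Nat.card_perm, Nat.card_eq_fintype_card (α := Fin n), Fintype.card_fin] at h1
    rcases (Fact.out : p.Prime).eq_two_or_odd' with h | h
    · subst h
      have h4 : 4 ∣ n.factorial := Nat.dvd_factorial (by omega) (by omega)
      rw [← h1] at h4
      omega
    · have hp2 : p ≠ 2 := fun e => by rw [e] at h; exact absurd h (by decide)
      have hpn : p ∣ n.factorial :=
        Nat.dvd_factorial (Fact.out : p.Prime).pos ((Nat.le_self_pow two_ne_zero p).trans hnp)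
      rw [← h1] at hpn
      exact ((Fact.out : p.Prime).dvd_mul.mp hpn).resolve_left fun hd =>
        hp2 ((Nat.prime_dvd_prime_iff_eq Fact.out Nat.prime_two).mp hd)
  refine SimpleTop.isSimple P hsat hbot (stronglyClosed_trivial hn' P) fun E hinv hsatE a ha => ?_
  rcases (Fact.out : p.Prime).eq_two_or_odd' with h | hp
  · subst h
    rw [Cfsg.Agent.Perm.normalizer_sylow_two_alternating n hn P] at ha
    exact EC.of_mem E le_rfl ha
  · set r := n / p - p with hr
    have hpn : p ≤ n / p := by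
      rw [Nat.le_div_iff_mul_le (Fact.out : p.Prime).pos, ← sq]; exact hnp
    have : Subsingleton (Fin (n % p)) := ⟨fun x y => Fin.ext (by omega)⟩
    obtain ⟨e⟩ : Nonempty (Fin n ≃ (Blk p r × ZMod p) ⊕ Fin (n % p)) := ⟨Fintype.equivOfCardEq (by
      simp only [Fintype.card_fin, Fintype.card_sum, Fintype.card_prod, ZMod.card, hr]
      rw [Nat.add_sub_cancel' hpn, mul_comm, Nat.div_add_mod])⟩
    set s₀ : Perm (Blk p r) := Equiv.sumCongr (Equiv.addRight (1 : ZMod p)) 1 with hs₀
    have hs : ∀ m : ℕ, s₀ ^ m = Equiv.sumCongr (Equiv.addRight (m : ZMod p)) 1 := by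
      intro m
      induction m with
      | zero => refine Equiv.ext ?_; rintro (k | j) <;> simp
      | succ m ih =>
        rw [pow_succ', ih, hs₀]
        refine Equiv.ext ?_
        rintro (k | j) <;> simp
    have hsp : IsPGroup p (Subgroup.zpowers s₀) := by
      refine AltClosed.isPGroup_zpowers (k := 1) ?_
      rw [pow_one, hs, ZMod.natCast_self]
      refine Equiv.ext ?_
      rintro (k | j) <;> simp
    obtain ⟨S, hS⟩ := hsp.exists_le_sylow
    set Q₀ : Subgroup (alternatingGroup (Fin n)) := (sylSub e (S : Subgroup (Perm (Blk p r)))).subgroupOf _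
    have hcard := card_sylSub_eq e S (by rw [Fintype.card_fin]; exact hb)
    have hp' : IsPGroup p (sylSub e (S : Subgroup (Perm (Blk p r)))) := IsPGroup.of_card hcard
    have hle : sylSub e (S : Subgroup (Perm (Blk p r))) ≤ alternatingGroup (Fin n) := by
      intro x hx
      obtain ⟨k, hk⟩ := hp' ⟨x, hx⟩
      exact AltClosed.mem_alt_of_pow_odd (hp.pow) (congrArg Subtype.val hk)
    have hQcard : Nat.card Q₀ = p ^ (Nat.card (alternatingGroup (Fin n))).factorization p := by
      have : Nontrivial (Fin n) := Fin.nontrivial_iff_two_le.mpr (by omega)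
      rw [Nat.card_congr (Subgroup.subgroupOfEquivOfLe hle).toEquiv, hcard]
      congr 1
      have h1 := two_mul_nat_card_alternatingGroup (α := Fin n)
      rw [Nat.card_perm, Nat.card_eq_fintype_card (α := Fin n)] at h1
      have hp2 : ¬ p ∣ 2 := fun hd => by
        rw [(Nat.prime_dvd_prime_iff_eq Fact.out Nat.prime_two).mp hd] at hp
        exact absurd hp (by decide)
      rw [← h1, Nat.factorization_mul two_ne_zero Nat.card_pos.ne', Finsupp.add_apply,
        Nat.factorization_eq_zero_of_not_dvd hp2, zero_add]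
    set Q := Sylow.ofCard Q₀ hQcard with hQ
    obtain ⟨g, hg⟩ := MulAction.exists_smul_eq (alternatingGroup (Fin n)) Q P
    let e' : Fin n ≃ (Blk p r × ZMod p) ⊕ Fin (n % p) := ((g : Perm (Fin n))⁻¹ : Perm (Fin n)).trans e
    have hemb : ∀ σ, emb e' σ = (g : Perm (Fin n)) * emb e σ * (g : Perm (Fin n))⁻¹ := by
      intro σ
      refine Equiv.ext fun z => ?_
      simp [emb, e', Equiv.permCongr_apply]
      rfl
    refine top_part e' hp P (S : Subgroup (Perm (Blk p r))) ?_ (fun b => ?_) E hinv hsatE a ha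
    · rw [← hg, Sylow.coe_subgroup_smul, hQ, Sylow.coe_ofCard]
      ext z
      constructor
      · rintro ⟨w, ⟨w₀, hw₀, rfl⟩, rfl⟩
        obtain ⟨π, hπ, t, ht⟩ := hw₀
        refine ⟨π, hπ, t, ?_⟩
        rw [hemb, ← ht]
        rfl
      · rintro ⟨π, hπ, t, rfl⟩
        refine ⟨g * ⟨emb e (aff π 1 t), hle ⟨π, hπ, t, rfl⟩⟩ * g⁻¹, ⟨_, ?_, rfl⟩, ?_⟩
        · exact ⟨π, hπ, t, rfl⟩
        · rw [hemb]; rfl
    · rw [← ZMod.natCast_zmod_val b, ← hs]
      exact hS (pow_mem (Subgroup.mem_zpowers _) _)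

end Cfsg.Agent.Fusion.AltSimple
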