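import Cfsg.Agent.Lib.Fusion.RelFrattini
import Cfsg.Agent.S5251

/-!
The subsystem of index prime to `p` cut out by a subgroup `K` of `Aut_F(T)` as in `RelData`.
-/

set_option autoImplicit false
set_option linter.unusedSectionVars false

namespace Cfsg.Agent.Fusion

open Cfsg Cfsg.FusionSystem

universe v
variable {Ω : Type v} [Group Ω] {S T : Subgroup Ω} {F : FusionSystem S} {E : FusionSystem T} {p : ℕ}
  {K : Subgroup (MulAut T)}

/-- The automorphisms of `S` whose restriction to `T` lies in `K`. -/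
def restrictsTo (F : FusionSystem S) (hTS : T ≤ S) (K : Subgroup (MulAut T)) :
    Subgroup (MulAut S) where
  carrier := {α | α ∈ F.autGroup S ∧ ∃ β ∈ K, ∀ t : T,
    ((β t : T) : Ω) = ((α ⟨t, hTS t.2⟩ : S) : Ω)}
  one_mem' := ⟨one_mem _, 1, one_mem _, fun _ => rfl⟩
  mul_mem' := by
    rintro a b ⟨ha, a', ha', hav⟩ ⟨hb, b', hb', hbv⟩
    refine ⟨mul_mem ha hb, a' * b', mul_mem ha' hb', fun t => ?_⟩
    rw [MulAut.mul_apply, MulAut.mul_apply, hav]
    exact congrArg (fun s : S => ((a s : S) : Ω)) (Subtype.ext (hbv t))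
  inv_mem' := by
    rintro a ⟨ha, a', ha', hav⟩
    refine ⟨inv_mem ha, a'⁻¹, inv_mem ha', fun t => ?_⟩
    have h1 := hav (a'⁻¹ t)
    rw [MulAut.apply_inv_self] at h1
    refine Eq.trans ?_ (congrArg (fun s : S => ((a⁻¹ s : S) : Ω))
      (Subtype.ext h1 : (⟨(t : Ω), hTS t.2⟩ : S) = a ⟨_, hTS (a'⁻¹ t).2⟩)).symm
    rw [MulAut.inv_apply_self]

theorem exists_restrict [Finite S] (hT : F.StronglyClosed T) {α : MulAut S}
    (hα : α ∈ F.autGroup S) :
    ∃ β ∈ F.autGroup T, ∀ t : T, ((β t : T) : Ω) = ((α ⟨t, hT.1 t.2⟩ : S) : Ω) := by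
  have hr := restrict_mem ((mem_autGroup_iff le_rfl).1 hα) hT.1
  have := finite_of_le (Ω := Ω) hT.1
  have hrange := range_eq_of_le hr hT.1 (fun x => hT.2 T le_rfl _ hr x) le_rfl
  exact ⟨toAut hr hrange, toAut_mem hr hrange, fun t => rfl⟩

theorem restrictsTo_conj [Finite S] (h : RelData F E p K) {d : MulAut S} (hd : d ∈ F.autGroup S)
    {a : MulAut S} (ha : a ∈ restrictsTo F h.closed.1 K) :
    d * a * d⁻¹ ∈ restrictsTo F h.closed.1 K := by
  obtain ⟨haF, a', ha', hav⟩ := ha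
  obtain ⟨d', hd', hdv⟩ := exists_restrict h.closed hd
  refine ⟨mul_mem (mul_mem hd haF) (inv_mem hd), d' * a' * d'⁻¹, h.conj d' hd' a' ha', fun t => ?_⟩
  set u := d'⁻¹ t with hu
  have h1 : (⟨(t : Ω), h.closed.1 t.2⟩ : S) = d ⟨u, h.closed.1 u.2⟩ :=
    Subtype.ext ((congrArg Subtype.val (MulAut.apply_inv_self _ d' t)).symm.trans (hdv u))
  rw [MulAut.mul_apply, MulAut.mul_apply, MulAut.mul_apply, MulAut.mul_apply, h1,
    MulAut.inv_apply_self, hdv]
  exact congrArg (fun s : S => ((d s : S) : Ω)) (Subtype.ext (hav u))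

namespace RelData

variable [Finite S]

/-- The maps an element of `Γ` composed with a map of the minimal system. -/
def quotSystem (h : RelData F E p K) (hS : IsPGroup p S) : FusionSystem S :=
  kSub F (stronglyClosed_self F) (minimalPrimeToP F p) transports_minimalPrimeToP
    (restrictsTo F h.closed.1 K) (fun _ hα => hα.1) fun α hα => by
      obtain ⟨k, hk⟩ := conjAut_pow_eq_one hS hα
      have hαF := autInducedBy_le_autGroup F le_rfl hα
      obtain ⟨β, hβ, hv⟩ := exists_restrict h.closed hαF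
      refine ⟨hαF, β, h.pElt β hβ k (MulEquiv.ext fun t => Subtype.ext ?_), hv⟩
      have : ∀ n : ℕ, (((β ^ n) t : T) : Ω) = (((α ^ n) ⟨t, h.closed.1 t.2⟩ : S) : Ω) := by
        intro n
        induction n generalizing t with
        | zero => rfl
        | succ n ih =>
          rw [pow_succ, pow_succ, MulAut.mul_apply, MulAut.mul_apply, ih]
          exact congrArg (fun s : S => (((α ^ n) s : S) : Ω)) (Subtype.ext (hv t))
      rw [this, hk]
      rfl

theorem mem_quot (h : RelData F E p K) (hS : IsPGroup p S) {P : Subgroup Ω} {φ : P →* Ω}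
    (hφ : φ ∈ (h.quotSystem hS).Hom P) :
    φ ∈ F.Hom P ∧ ∃ α ∈ restrictsTo F h.closed.1 K, ∃ φ₀ ∈ (minimalPrimeToP F p).Hom P,
      ∀ (x : P) (hx : φ₀ x ∈ S), φ x = ((α ⟨φ₀ x, hx⟩ : S) : Ω) :=
  ⟨hφ.1, hφ.2 P le_rfl (dom_le hφ.1)⟩

theorem quot_of (h : RelData F E p K) (hS : IsPGroup p S) {P : Subgroup Ω} {φ : P →* Ω}
    (hφ : φ ∈ F.Hom P) {α : MulAut S} (hα : α ∈ restrictsTo F h.closed.1 K) {φ₀ : P →* Ω}
    (hφ₀ : φ₀ ∈ (minimalPrimeToP F p).Hom P)
    (he : ∀ (x : P) (hx : φ₀ x ∈ S), φ x = ((α ⟨φ₀ x, hx⟩ : S) : Ω)) :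
    φ ∈ (h.quotSystem hS).Hom P :=
  ⟨hφ, fun Q hQP _ => ⟨α, hα, _, restrict_mem hφ₀ hQP, fun x hx => he (Subgroup.inclusion hQP x) hx⟩⟩

theorem minimal_le_quot (h : RelData F E p K) (hS : IsPGroup p S) :
    minimalPrimeToP F p ≤ h.quotSystem hS := fun P φ hφ =>
  h.quot_of hS (minimalPrimeToP_isSubsystemOf P hφ) (one_mem _) hφ fun _ _ => rfl

theorem isLarge_quot (h : RelData F E p K) (hS : IsPGroup p S) :
    IsLargeOnCentric (h.quotSystem hS) F p := fun P hP a ha =>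
  (mem_autGroup_iff hP.1).2 (h.minimal_le_quot hS P
    ((mem_autGroup_iff hP.1).1 (isLargeOnCentric_minimalPrimeToP P hP ha)))

variable [Fact p.Prime]

/-- Every map of the minimal system is `K E` on `T`. -/
theorem minimal_kOn (h : RelData F E p K) (hS : IsPGroup p S) {P : Subgroup Ω} {φ : P →* Ω}
    (hφ : φ ∈ (minimalPrimeToP F p).Hom P) : KOn E K P φ := by
  refine (minimalPrimeToP_le
    (E := kSub F h.closed E h.transports K h.le (h.inner hS)) ?_ P hφ).2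
  intro R hR
  rw [Subgroup.map_le_iff_le_comap]
  refine (Subgroup.closure_le _).2 fun γ ⟨k, hk⟩ => ?_
  refine (mem_autGroup_iff hR.1).2 ⟨(mem_autGroup_iff hR.1).1 γ.2, fun Q hQR hQT => ?_⟩
  have hRT : R ⊓ T ≤ S := inf_le_left.trans hR.1
  obtain ⟨hγF, -⟩ := hom_of_mem_autGroup hR.1 γ.2
  have hres := restrict_mem hγF (inf_le_left : R ⊓ T ≤ R)
  have := finite_of_le (Ω := Ω) hRT
  have hrange := range_eq_of_le hres hRT
    (fun x => ⟨((γ : MulAut R) _).2, h.closed.2 _ inf_le_right _ hres x⟩) le_rfl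
  have hpow : toAut hres hrange ^ p ^ k = 1 := by
    refine MulEquiv.ext fun x => Subtype.ext ?_
    have : ∀ n : ℕ, (((toAut hres hrange ^ n) x : ↥(R ⊓ T)) : Ω) =
        ((((γ : MulAut R) ^ n) ⟨x, x.2.1⟩ : R) : Ω) := by
      intro n
      induction n generalizing x with
      | zero => rfl
      | succ n ih =>
        rw [pow_succ, pow_succ, MulAut.mul_apply, MulAut.mul_apply, ih]
        rfl
    rw [this, show (γ : MulAut R) ^ p ^ k = 1 by
      rw [← SubgroupClass.coe_pow, ← hk, pow_orderOf_eq_one]; rfl]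
    rfl
  obtain ⟨a, ha, e, he, hv⟩ :=
    h.exists_of_pElement hS inf_le_right (toAut_mem hres hrange) hpow
  exact ⟨a, ha, _, restrict_mem he (le_inf hQR hQT : Q ≤ R ⊓ T),
    fun x hx => hv (Subgroup.inclusion (le_inf hQR hQT) x) hx⟩

/-- An automorphism of `S` relating two maps that are `K E` on an `E`-centric part is in `Γ`. -/
theorem mem_restricts_of_rel (h : RelData F E p K) (hS : IsPGroup p S) {P : Subgroup Ω}
    (hP : E.IsCentric (P ⊓ T)) {φ₀ φ : P →* Ω} (h₀F : φ₀ ∈ F.Hom P) (h₀ : KOn E K P φ₀)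
    (h₁ : KOn E K P φ) {α : MulAut S} (hα : α ∈ F.autGroup S)
    (he : ∀ (x : P) (hx : φ₀ x ∈ S), φ x = ((α ⟨φ₀ x, hx⟩ : S) : Ω)) :
    α ∈ restrictsTo F h.closed.1 K := by
  obtain ⟨b, hb, hbv⟩ := exists_restrict h.closed hα
  obtain ⟨a, ha, e, he0, hev⟩ := h₀ (P ⊓ T) inf_le_left inf_le_right
  obtain ⟨a', ha', e', he0', hev'⟩ := h₁ (P ⊓ T) inf_le_left inf_le_right
  have hmem : a'⁻¹ * b * a ∈ K := by
    refine h.mem_of_rel hS hP he0 he0' (mul_mem (mul_mem (inv_mem (h.le ha')) hb) (h.le ha))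
      fun x => ?_
    have h1 : b (a ⟨e x, apply_mem he0 x⟩) = a' ⟨e' x, apply_mem he0' x⟩ := by
      refine Subtype.ext ((hbv _).trans ?_)
      rw [← hev' x, he _ (apply_mem h₀F _)]
      exact congrArg (fun s : S => ((α s : S) : Ω)) (Subtype.ext (hev x _).symm)
    rw [MulAut.mul_apply, MulAut.mul_apply, h1, MulAut.inv_apply_self]
  refine ⟨hα, b, ?_, hbv⟩
  have := mul_mem (mul_mem ha' hmem) (inv_mem ha)
  simpa [mul_assoc] using this

theorem quot_kOn (h : RelData F E p K) (hS : IsPGroup p S) {P : Subgroup Ω} {φ : P →* Ω}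
    (hφ : φ ∈ (h.quotSystem hS).Hom P) : KOn E K P φ := by
  obtain ⟨hφF, α, ⟨hα, b, hb, hbv⟩, φ₀, hφ₀, he⟩ := h.mem_quot hS hφ
  intro Q hQP hQT
  obtain ⟨a, ha, e, he0, hev⟩ := h.minimal_kOn hS hφ₀ Q hQP hQT
  refine ⟨b * a, mul_mem hb ha, e, he0, fun x hx => ?_⟩
  rw [MulAut.mul_apply, hbv, he _ (apply_mem hφ₀ _)]
  exact congrArg (fun s : S => ((α s : S) : Ω)) (Subtype.ext (hev x hx))

/-- On subgroups meeting `T` in an `E`-centric subgroup `F₀` is `K E`. -/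
theorem quot_of_kOn (h : RelData F E p K) (hS : IsPGroup p S) {P : Subgroup Ω}
    (hP : E.IsCentric (P ⊓ T)) {φ : P →* Ω} (hφ : φ ∈ F.Hom P) (h₁ : KOn E K P φ) :
    φ ∈ (h.quotSystem hS).Hom P := by
  obtain ⟨α, hα, φ₀, hφ₀, he⟩ := frattini_minimalPrimeToP hS h.satF hφ P le_rfl (dom_le hφ)
  exact h.quot_of hS hφ (h.mem_restricts_of_rel hS hP (minimalPrimeToP_isSubsystemOf P hφ₀)
    (h.minimal_kOn hS hφ₀) h₁ hα he) hφ₀ he

theorem mem_autGroup_quot_iff (h : RelData F E p K) (hS : IsPGroup p S) (α : MulAut S) :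
    α ∈ (h.quotSystem hS).autGroup S ↔ α ∈ restrictsTo F h.closed.1 K := by
  refine ⟨fun hα => ?_, fun hα => (mem_autGroup_iff le_rfl).2 <|
    h.quot_of hS ((mem_autGroup_iff le_rfl).1 hα.1) hα (subtype_mem _ le_rfl) fun x hx => rfl⟩
  have hφ := (mem_autGroup_iff le_rfl).1 hα
  obtain ⟨a, ha, e, he, hv⟩ := h.quot_kOn hS hφ T h.closed.1 le_rfl
  have := finite_of_le (Ω := Ω) h.closed.1
  have her : e.range = T := range_eq_of_le he le_rfl (apply_mem he) le_rfl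
  refine ⟨(mem_autGroup_iff le_rfl).2 hφ.1, a * toAut he her,
    mul_mem ha (h.aut (toAut_mem he her)), fun t => ?_⟩
  rw [MulAut.mul_apply]
  exact (hv t (apply_mem he t)).symm

theorem transports_quot (h : RelData F E p K) (hS : IsPGroup p S) :
    Transports (h.quotSystem hS) F := by
  intro P hPS φ hφ β hβ
  obtain ⟨hφF, α, hα, φ₀, hφ₀, he⟩ := h.mem_quot hS hφ
  obtain ⟨χ₀, hχ₀, hv⟩ := (transports_minimalPrimeToP : Transports (minimalPrimeToP F p) F)
    P hPS φ₀ hφ₀ β hβ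
  obtain ⟨χ, hχ, hχv⟩ : ∃ χ ∈ F.Hom ((P.subgroupOf S).map (S.subtype.comp β.toMonoidHom)),
      ∀ y, χ y = (((β * α * β⁻¹) ⟨χ₀ y, apply_mem hχ₀ y⟩ : S) : Ω) :=
    ⟨_, F.comp_mem (minimalPrimeToP_isSubsystemOf _ hχ₀)
      ((mem_autGroup_iff le_rfl).1 (mul_mem (mul_mem hβ hα.1) (inv_mem hβ))) (apply_mem hχ₀),
      fun y => rfl⟩
  refine ⟨χ, h.quot_of hS hχ (restrictsTo_conj h hβ hα) hχ₀ fun y _ => hχv y, fun x hx hy => ?_⟩
  rw [hχv, show (⟨χ₀ ⟨_, hy⟩, apply_mem hχ₀ _⟩ : S) = β ⟨φ₀ x, apply_mem hφ₀ x⟩ from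
      Subtype.ext (hv x (apply_mem hφ₀ x) hy), MulAut.mul_apply, MulAut.mul_apply,
    MulAut.inv_apply_self]
  exact congrArg (fun s : S => ((β s : S) : Ω)) (Subtype.ext (he x _).symm)

theorem isInvariantIn_quot (h : RelData F E p K) (hS : IsPGroup p S) :
    (h.quotSystem hS).IsInvariantIn F := by
  refine ⟨fun P φ hφ => hφ.1, stronglyClosed_self F, h.transports_quot hS, fun P hP φ hφ => ?_⟩
  obtain ⟨α, hα, φ₀, hφ₀, he⟩ := frattini_minimalPrimeToP hS h.satF hφ P le_rfl hP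
  exact ⟨α, hα, φ₀, h.minimal_le_quot hS P hφ₀, he⟩

/-- Being centric and meeting `T` in an `E`-centric subgroup passes to conjugates. -/
theorem inf_centric_of_isConj (h : RelData F E p K) {P Q : Subgroup Ω}
    (hP : F.IsCentric P ∧ E.IsCentric (P ⊓ T)) (hPQ : F.IsConj P Q) :
    F.IsCentric Q ∧ E.IsCentric (Q ⊓ T) := by
  refine ⟨isCentric_of_isConj hP.1 hPQ, ?_⟩
  obtain ⟨φ, hφ, rfl⟩ := hPQ
  convert h.isCentric_image hP.2 (restrict_mem hφ inf_le_left) using 1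
  ext y
  constructor
  · rintro ⟨⟨x, rfl⟩, hy⟩
    obtain ⟨η, hη, -, hηi, -⟩ := exists_inverse hφ (rfl : φ.range = φ.range)
    have h1 := h.closed.2 (φ.range ⊓ T) inf_le_right _ (restrict_mem hη inf_le_left)
      ⟨φ x, ⟨x, rfl⟩, hy⟩
    refine ⟨⟨x, x.2, ?_⟩, rfl⟩
    have h2 : η ⟨φ x, x, rfl⟩ = (x : Ω) := hηi x _
    exact h2 ▸ h1
  · rintro ⟨x, rfl⟩
    exact ⟨⟨_, rfl⟩, h.closed.2 (P ⊓ T) inf_le_right _ (restrict_mem hφ inf_le_left) x⟩

/-- The subgroups generating `F₀`. -/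
def good (F : FusionSystem S) (E : FusionSystem T) : Set (Subgroup Ω) :=
  {P | F.IsCentric P ∧ E.IsCentric (P ⊓ T)}

theorem self_mem_good (h : RelData F E p K) : S ∈ good F E := by
  have := finite_of_le (Ω := Ω) h.closed.1
  exact ⟨isCentric_self F, by rw [inf_eq_right.2 h.closed.1]; exact isCentric_self E⟩

/-- A map of `F` between conjugates with `F`-fully normalized target up to `Γ`. -/
theorem exists_fullyNormalized_conj (h : RelData F E p K) (hS : IsPGroup p S) {P : Subgroup Ω}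
    (hP : P ≤ S) : ∃ U, (h.quotSystem hS).IsConj P U ∧ F.IsFullyNormalized U := by
  obtain ⟨Q, ⟨φ, hφ, rfl⟩, hQn⟩ := exists_fullyNormalized F hP
  obtain ⟨β, hβ, φ₀, hφ₀, he⟩ := frattini_minimalPrimeToP hS h.satF hφ P le_rfl hP
  have hU : F.IsConj P φ₀.range := ⟨φ₀, minimalPrimeToP_isSubsystemOf P hφ₀, rfl⟩
  refine ⟨φ₀.range, ⟨φ₀, h.minimal_le_quot hS P hφ₀, rfl⟩, range_le hφ₀, fun R hR => ?_⟩
  refine (hQn.2 R (isConj_trans (isConj_trans (isConj_symm ⟨φ, hφ, rfl⟩) hU) hR)).trans ?_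
  have := finite_of_le (Ω := Ω) (normalizerIn_le S φ₀.range)
  have hmap : ∀ g ∈ normalizerIn S φ.range, ∀ hg : g ∈ S,
      ((β⁻¹ ⟨g, hg⟩ : S) : Ω) ∈ normalizerIn S φ₀.range := by
    intro g hg hgS
    refine ⟨Subtype.property _, Subgroup.mem_normalizer_iff.2 fun z => ?_⟩
    have hiff : ∀ z : Ω, z ∈ φ₀.range ↔ ∃ hz : z ∈ S, ((β ⟨z, hz⟩ : S) : Ω) ∈ φ.range := fun z => by
      constructor
      · rintro ⟨x, rfl⟩
        exact ⟨apply_mem hφ₀ x, x, he x _⟩
      · rintro ⟨hz, x, hx⟩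
        refine ⟨x, ?_⟩
        have hx' : φ x = ((β ⟨φ₀ x, apply_mem hφ₀ x⟩ : S) : Ω) := he x _
        rw [hx'] at hx
        exact congrArg Subtype.val (β.injective (Subtype.ext hx))
    set t := β⁻¹ ⟨g, hgS⟩ with ht
    have hbt : β t = ⟨g, hgS⟩ := MulAut.apply_inv_self _ _ _
    rw [hiff, hiff]
    constructor
    · rintro ⟨hz, hm⟩
      refine ⟨S.mul_mem (S.mul_mem t.2 hz) (S.inv_mem t.2), ?_⟩
      rw [show (⟨(t : Ω) * z * (t : Ω)⁻¹, _⟩ : S) = t * ⟨z, hz⟩ * t⁻¹ from rfl, map_mul,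
        map_mul, map_inv, hbt]
      exact (Subgroup.mem_normalizer_iff.1 hg.2 _).1 hm
    · rintro ⟨hz', hm⟩
      have hz : z ∈ S := by
        simpa [mul_assoc] using S.mul_mem (S.mul_mem (S.inv_mem t.2) hz') t.2
      refine ⟨hz, (Subgroup.mem_normalizer_iff.1 hg.2 _).2 ?_⟩
      rw [show (⟨(t : Ω) * z * (t : Ω)⁻¹, hz'⟩ : S) = t * ⟨z, hz⟩ * t⁻¹ from rfl, map_mul,
        map_mul, map_inv, hbt] at hm
      exact hm
  refine Nat.card_le_card_of_injective (fun g : normalizerIn S φ.range =>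
    (⟨_, hmap g g.2 g.2.1⟩ : normalizerIn S φ₀.range)) fun a b hab => ?_
  have hab' : ((β⁻¹ ⟨a, a.2.1⟩ : S) : Ω) = ((β⁻¹ ⟨b, b.2.1⟩ : S) : Ω) := by
    simpa using congrArg Subtype.val hab
  have h1 := (β⁻¹).injective (Subtype.ext hab')
  exact Subtype.ext (Subtype.ext_iff.1 h1 :)

theorem good_quot (h : RelData F E p K) (hS : IsPGroup p S) {P : Subgroup Ω} (hP : P ∈ good F E) :
    Criterion.Good (h.quotSystem hS) p P := by
  obtain ⟨U, hPU, hUn⟩ := h.exists_fullyNormalized_conj hS hP.1.1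
  have hPU' : F.IsConj P U := by
    obtain ⟨φ, hφ, hr⟩ := hPU
    exact ⟨φ, hφ.1, hr⟩
  have hU := h.inf_centric_of_isConj hP hPU'
  have hUS := hUn.1
  refine ⟨U, hPU, ⟨hUS, ?_⟩, ⟨hUS, fun P' φ hφ hr => ?_⟩⟩
  · have hle : (h.quotSystem hS).autGroup U ≤ F.autGroup U :=
      autGroup_le_of_subsystem (show (h.quotSystem hS).IsSubsystemOf F from fun _ _ hφ => hφ.1) hUS
    have := finite_autGroup (F := F) hUS
    obtain ⟨-, R, hR⟩ := isFullyAutomized_of_fullyNormalized hS h.satF hUn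
    have hRle : (R : Subgroup (F.autGroup U)) ≤
        ((h.quotSystem hS).autGroup U).subgroupOf (F.autGroup U) := by
      rw [hR]
      exact fun a ha => autInducedBy_le_autGroup _ hUS ha
    refine ⟨(R.subtype hRle).comapOfInjective
      ((Subgroup.subgroupOfEquivOfLe hle).symm.toMonoidHom)
      (Subgroup.subgroupOfEquivOfLe hle).symm.injective ?_, ?_⟩
    · intro x _
      exact ⟨Subgroup.subgroupOfEquivOfLe hle x, MulEquiv.symm_apply_apply _ x⟩
    · ext a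
      show (⟨⟨(a : MulAut U), hle a.2⟩, a.2⟩ :
        ↥(((h.quotSystem hS).autGroup U).subgroupOf (F.autGroup U))) ∈
          (R : Subgroup (F.autGroup U)).subgroupOf _ ↔ _
      rw [Subgroup.mem_subgroupOf, hR]
      exact Iff.rfl
  · obtain ⟨ψ, hψ, hψe⟩ := (isReceptive_of_centric hS h.satF hU.1).2 P' φ hφ.1 hr
    refine ⟨ψ, ?_, hψe⟩
    have hP'N : P' ≤ extender S P' φ := le_extender (dom_le hφ.1) (apply_mem hφ.1)
    obtain ⟨β, hβ, ψ₀, hψ₀, hev⟩ := frattini_minimalPrimeToP hS h.satF hψ _ le_rfl (dom_le hψ)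
    have hP' := h.inf_centric_of_isConj hU (isConj_symm ⟨φ, hφ.1, hr⟩)
    have hres := restrict_mem hψ₀ hP'N
    have hev' : ∀ (x : P') (hx : ψ₀.comp (Subgroup.inclusion hP'N) x ∈ S),
        φ x = ((β ⟨_, hx⟩ : S) : Ω) := fun x hx =>
      (hψe x x.2 (hP'N x.2)).symm.trans (hev (Subgroup.inclusion hP'N x) hx)
    exact h.quot_of hS hψ (h.mem_restricts_of_rel hS hP'.2 (minimalPrimeToP_isSubsystemOf _ hres)
      (h.minimal_kOn hS hres) (h.quot_kOn hS hφ) hβ hev') hψ₀ hev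

/-- The smallest subsystem agreeing with `F₀` on the good subgroups. -/
def genSystem (h : RelData F E p K) (hS : IsPGroup p S) : FusionSystem S :=
  subsystemOf (h.quotSystem hS)
    (fun P φ => ∀ D : FusionSystem S,
      (∀ R ∈ good F E, (h.quotSystem hS).Hom R ⊆ D.Hom R) → φ ∈ D.Hom P)
    (fun _ _ hP hg D _ => D.conj_mem hP hg)
    (fun _ _ _ _ _ _ hφ hψ h' D hD => D.comp_mem (hφ D hD) (hψ D hD) h')
    (fun _ φ ψ _ hφ _ hi D hD => inv_mem' (hφ D hD) rfl fun x _ => hi x)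

theorem transports_gen (h : RelData F E p K) (hS : IsPGroup p S) :
    Transports (h.genSystem hS) F := by
  intro P hPS φ hφ β hβ
  obtain ⟨hφ0, hall⟩ := hφ
  obtain ⟨χ, hχ, hv⟩ := h.transports_quot hS P hPS φ hφ0 β hβ
  refine ⟨χ, ⟨hχ, fun D hD => ?_⟩, hv⟩
  have hpull : ∀ R ∈ good F E, (h.quotSystem hS).Hom R ⊆ (pullSystem F D β).Hom R := by
    intro R hR ψ hψ
    obtain ⟨χ', hχ', hv'⟩ := h.transports_quot hS R hR.1.1 ψ hψ β hβ
    refine ⟨hψ.1, hR.1.1, χ', hD _ ?_ hχ', hv'⟩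
    refine h.inf_centric_of_isConj hR ⟨_, restrict_mem ((mem_autGroup_iff le_rfl).1 hβ) hR.1.1, ?_⟩
    exact imageOfAut hR.1.1 fun x => rfl
  obtain ⟨-, _, χ', hχ', hv'⟩ := hall _ hpull
  have heq : χ = χ' := MonoidHom.ext fun y => by
    obtain ⟨_, z, hz, rfl⟩ := y
    exact (hv ⟨z, hz⟩ (apply_mem hφ0.1 _) ⟨z, hz, rfl⟩).trans
      (hv' ⟨z, hz⟩ (apply_mem hφ0.1 _) ⟨z, hz, rfl⟩).symm
  exact heq ▸ hχ'

theorem frattini_gen (h : RelData F E p K) (hS : IsPGroup p S) (hn : E.IsNormalIn F p)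
    {P : Subgroup Ω} {φ : P →* Ω} (hφ : φ ∈ F.Hom P) : FrattiniOn (h.genSystem hS) F P φ := by
  refine frattiniOn_of_step hS h.satF (stronglyClosed_self F) (h.transports_gen hS) ?_ hφ
  intro R hRn hRc hRr _ α hα Q hQR hQS
  have hR : R ∈ good F E := ⟨hRc, by
    by_contra hne
    exact (S5251.result p hS F h.satF E hn R hRc hne).2 hRr⟩
  obtain ⟨β, hβ, φ₀, hφ₀, he⟩ := frattini_minimalPrimeToP hS h.satF
    ((mem_autGroup_iff hRc.1).1 hα) R le_rfl hRc.1
  have hg : φ₀ ∈ (h.genSystem hS).Hom R :=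
    ⟨h.minimal_le_quot hS R hφ₀, fun D hD => hD R hR (h.minimal_le_quot hS R hφ₀)⟩
  exact ⟨β, hβ, _, restrict_mem hg hQR, fun x hx => he (Subgroup.inclusion hQR x) hx⟩

theorem minimal_le_gen (h : RelData F E p K) (hS : IsPGroup p S) (hn : E.IsNormalIn F p) :
    minimalPrimeToP F p ≤ h.genSystem hS := by
  refine minimalPrimeToP_le fun R hR => ?_
  rw [Subgroup.map_le_iff_le_comap]
  refine (Subgroup.closure_le _).2 fun γ ⟨k, hk⟩ => ?_
  obtain ⟨θ, hθ, c, hc, hθc⟩ := exists_conj_of_pElement hS h.satF hR.1 γ.2 (k := k)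
    (show (γ : MulAut R) ^ p ^ k = 1 by
      rw [← SubgroupClass.coe_pow, ← hk, pow_orderOf_eq_one]; rfl)
  obtain ⟨α, hα, g, hg, he⟩ := h.frattini_gen hS hn hθ R le_rfl hR.1
  set c' : S := α⁻¹ ⟨c, hc⟩ with hc'
  have hrel : ∀ x : R, g ((γ : MulAut R) x) = (c' : Ω) * g x * (c' : Ω)⁻¹ := fun x => by
    refine congrArg Subtype.val
      (show (⟨g ((γ : MulAut R) x), apply_mem hg _⟩ : S) = c' * ⟨g x, apply_mem hg x⟩ * c'⁻¹ from
        α.injective ?_)
    rw [map_mul, map_mul, map_inv, hc', MulAut.apply_inv_self]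
    refine Subtype.ext ?_
    show _ = c * _ * c⁻¹
    rw [← he x (apply_mem hg x), ← he _ (apply_mem hg _)]
    exact hθc x
  obtain ⟨η, hη, -, hηi, -⟩ := exists_inverse hg (rfl : g.range = g.range)
  have hmem : ∀ x : R, (conjHom g.range (c' : Ω)).comp (g.codRestrict g.range fun y => ⟨y, rfl⟩) x
      ∈ g.range := fun x => ⟨(γ : MulAut R) x, hrel x⟩
  refine (mem_autGroup_iff hR.1).2 (comp_mem' ((h.genSystem hS).comp_mem hg
    ((h.genSystem hS).conj_mem (range_le hg) c'.2) fun y => ⟨y, rfl⟩) hη hmem fun x => ?_)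
  refine Eq.trans ?_ (congrArg η (Subtype.ext (hrel x) :
    (⟨g ((γ : MulAut R) x), _, rfl⟩ : g.range) = ⟨_, hmem x⟩))
  exact (hηi ((γ : MulAut R) x) ⟨_, rfl⟩).symm

theorem quot_le_of_good (h : RelData F E p K) (hS : IsPGroup p S) (hn : E.IsNormalIn F p)
    (D : FusionSystem S) (hD : ∀ R ∈ good F E, (h.quotSystem hS).Hom R ⊆ D.Hom R) :
    h.quotSystem hS ≤ D := by
  intro P φ hφ
  obtain ⟨hφF, α, hα, φ₀, hφ₀, he⟩ := h.mem_quot hS hφ
  have h0 := (h.minimal_le_gen hS hn P hφ₀).2 D hD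
  have h1 := hD S h.self_mem_good ((mem_autGroup_iff le_rfl).1 ((h.mem_autGroup_quot_iff hS α).2 hα))
  exact comp_mem' h0 h1 (apply_mem hφ₀) fun x => he x _

theorem isSaturated_quot (h : RelData F E p K) (hS : IsPGroup p S) (hn : E.IsNormalIn F p) :
    (h.quotSystem hS).IsSaturated p := by
  have hsub : (h.quotSystem hS).IsSubsystemOf F := fun _ _ hφ => hφ.1
  refine Criterion.isSaturated hS (good F E) (fun P hP Q hPQ => ?_) (fun P hP => h.good_quot hS hP)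
    (h.quot_le_of_good hS hn) fun P hPc hPg => ?_
  · obtain ⟨φ, hφ, hr⟩ := hPQ
    exact h.inf_centric_of_isConj hP ⟨φ, hφ.1, hr⟩
  have hPF := (isCentric_iff_of_large hS h.satF hsub (h.isLarge_quot hS) P).1 hPc
  obtain ⟨⟨φ, hφ, x, ⟨hxS, hxN⟩, hxR, a, ha, hav⟩, -⟩ :=
    S5251.result p hS F h.satF E hn P hPF fun hc => hPg ⟨hPF, hc⟩
  obtain ⟨β, hβ, φ₀, hφ₀, he⟩ := frattini_minimalPrimeToP hS h.satF hφ P le_rfl hPF.1
  have hUS := range_le hφ₀
  set U := φ₀.range with hU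
  set μ := (S.subtype.comp β.toMonoidHom).comp (Subgroup.inclusion hUS) with hμ
  have hμF : μ ∈ F.Hom U := restrict_mem ((mem_autGroup_iff le_rfl).1 hβ) hUS
  have hμr : μ.range = φ.range := by
    ext y
    constructor
    · rintro ⟨⟨_, z, rfl⟩, rfl⟩
      exact ⟨z, he z _⟩
    · rintro ⟨z, rfl⟩
      exact ⟨⟨φ₀ z, z, rfl⟩, (he z _).symm⟩
  set e := homEquiv hμF hμr with heq
  refine ⟨U, ⟨φ₀, h.minimal_le_quot hS P hφ₀, rfl⟩, fun hle => ?_⟩
  set x' : S := β⁻¹ ⟨x, hxS⟩ with hx'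
  have hval : ∀ u : U, ((e.symm (conjAut hxN (e u)) : U) : Ω) = (x' : Ω) * u * (x' : Ω)⁻¹ := by
    intro u
    set v := e.symm (conjAut hxN (e u)) with hv
    have h1 : e v = conjAut hxN (e u) := MulEquiv.apply_symm_apply _ _
    refine congrArg Subtype.val (show (⟨(v : Ω), hUS v.2⟩ : S) = x' * ⟨u, hUS u.2⟩ * x'⁻¹ from
      β.injective ?_)
    rw [map_mul, map_mul, map_inv, hx', MulAut.apply_inv_self]
    have h2 : ((e v : φ.range) : Ω) = x * ((e u : φ.range) : Ω) * x⁻¹ := by rw [h1]; rfl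
    exact Subtype.ext h2
  have hx'N : (x' : Ω) ∈ Subgroup.normalizer (U : Set Ω) :=
    mem_normalizer_of_aut (α := (e.trans (conjAut hxN)).trans e.symm) fun u => hval u
  have hγF : conjAut hx'N ∈ (h.quotSystem hS).autGroup U :=
    autInducedBy_le_autGroup _ hUS (conjAut_mem_autInducedBy x'.2 hx'N)
  have hle' : (h.quotSystem hS).autGroup U ≤ F.autGroup U := autGroup_le_of_subsystem hsub hUS
  let f : (h.quotSystem hS).autGroup U →* F.autGroup φ.range :=
    ((MulAut.congr e).toMonoidHom.comp ((h.quotSystem hS).autGroup U).subtype).codRestrict _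
      fun b => congr_mem_autGroup hμF hμr (hle' b.2)
  have hf : Function.Injective f := fun b c hbc =>
    Subtype.ext ((MulAut.congr e).injective (congrArg Subtype.val hbc))
  have := finite_autGroup (F := F) (range_le hφ)
  have : (pCore p (F.autGroup φ.range)).Normal := Cfsg.Agent.PCore.pCore_normal
  have hcp : IsPGroup p ((pCore p (F.autGroup φ.range)).comap f) :=
    Cfsg.Agent.PCore.isPGroup_pCore.comap_of_injective f hf
  have hcore : (⟨conjAut hx'N, hγF⟩ : (h.quotSystem hS).autGroup U) ∈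
      pCore p ((h.quotSystem hS).autGroup U) := by
    refine Cfsg.Agent.PCore.le_pCore hcp ?_
    obtain ⟨a', ha', rfl⟩ := ha
    rw [Subgroup.mem_comap]
    suffices h5 : f ⟨conjAut hx'N, hγF⟩ = a' by rw [h5]; exact ha'
    refine Subtype.ext (MulEquiv.ext fun (y : φ.range) => Subtype.ext ?_)
    obtain ⟨u, rfl⟩ := e.surjective y
    show ((MulAut.congr e (conjAut hx'N) (e u) : φ.range) : Ω) = _
    rw [congr_apply, show conjAut hx'N u = e.symm (conjAut hxN (e u)) from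
      Subtype.ext (hval u).symm, MulEquiv.apply_symm_apply]
    exact (hav (e u)).symm
  obtain ⟨w, hw⟩ := hle ⟨conjAut_mem_autInducedBy x'.2 hx'N, ⟨_, hγF⟩, hcore, rfl⟩
  refine conjAut_notMem_inn (isCentric_centralizerIn_le (isCentric_of_isConj hPF ⟨φ, hφ, rfl⟩))
    (range_le hφ) hxS hxN hxR ⟨e w, MulEquiv.ext fun y => ?_⟩
  obtain ⟨u, rfl⟩ := e.surjective y
  have h1 := congrArg (fun b : MulAut U => b u) hw
  simp only [MulAut.conj_apply] at h1
  rw [MulAut.conj_apply, ← map_mul, ← map_inv, ← map_mul, h1,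
    show conjAut hx'N u = e.symm (conjAut hxN (e u)) from Subtype.ext (hval u).symm,
    MulEquiv.apply_symm_apply]

theorem isNormalIn_quot (h : RelData F E p K) (hS : IsPGroup p S) (hn : E.IsNormalIn F p) :
    (h.quotSystem hS).IsNormalIn F p := by
  refine ⟨⟨h.isSaturated_quot hS hn, h.satF, h.isInvariantIn_quot hS⟩, fun α hα => ?_⟩
  have hαF := ((h.mem_autGroup_quot_iff hS α).1 hα).1
  have hSS : S ⊔ centralizerIn S S = S := sup_eq_left.2 (centralizerIn_le S S)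
  have hm : S.subtype.comp α.toMonoidHom ∈ F.Hom S := (mem_autGroup_iff le_rfl).1 hαF
  have hφ := restrict_mem hm hSS.le
  have := finite_of_le (Ω := Ω) hSS.le
  have hr := range_eq_of_le hφ hSS.le (fun x => hSS.ge (apply_mem hφ x)) le_rfl
  refine ⟨toAut hφ hr, toAut_mem hφ hr, fun x => rfl, fun c hc => ⟨?_, ?_⟩⟩
  · exact S.mul_mem (S.inv_mem hc.1) (apply_mem hφ c)
  · refine mul_mem (Subgroup.inv_mem _ hc.2) (Subgroup.mem_centralizer_iff.2 fun y hy => ?_)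
    obtain ⟨z, hz⟩ := α.surjective ⟨y, hy⟩
    have h1 : z * ⟨c, hc.1⟩ = ⟨c, hc.1⟩ * z :=
      Subtype.ext (Subgroup.mem_centralizer_iff.1 hc.2 z z.2)
    have h2 := congrArg Subtype.val (congrArg α h1)
    rw [map_mul, map_mul, hz] at h2
    exact h2

/-- `E` lies in `F₀`. -/
theorem subsystem_le_quot (h : RelData F E p K) (hS : IsPGroup p S) :
    E.IsSubsystemOf (h.quotSystem hS) := by
  have hTS := h.closed.1
  have := finite_of_le (Ω := Ω) hTS
  intro P φ hφ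
  refine alperin_induction (C := fun P φ => φ ∈ (h.quotSystem hS).Hom P) (hS.to_le hTS) h.satE
    (fun Q g hQ hg => (h.quotSystem hS).conj_mem (hQ.trans hTS) (hTS hg))
    (fun _ _ _ _ _ _ h1 h2 h' => (h.quotSystem hS).comp_mem h1 h2 h')
    (fun _ _ _ _ h1 _ hi => inv_mem' h1 rfl fun x _ => hi x)
    (fun R _ hRc _ α hα => ?_) hφ
  have he := (mem_autGroup_iff hRc.1).1 hα
  refine h.quot_of_kOn hS (by rwa [inf_eq_left.2 hRc.1]) (h.sub _ he) fun Q hQR hQT => ?_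
  exact ⟨1, one_mem _, _, restrict_mem he hQR, fun x hx => rfl⟩

/-- Some automorphism of `S` does not restrict into a proper `K`. -/
theorem exists_not_restricts (h : RelData F E p K) (hS : IsPGroup p S) {b : MulAut T}
    (hb : b ∈ F.autGroup T) (hbK : b ∉ K) :
    ∃ α ∈ F.autGroup S, α ∉ restrictsTo F h.closed.1 K := by
  have hTS := h.closed.1
  have hN : normalizerIn S T = S := normalizerIn_eq_of_le (le_normalizer_of_stronglyClosed h.closed)
  have hTn : F.IsFullyNormalized T := ⟨hTS, fun Q _ => by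
    rw [hN]; exact card_le_of_le le_rfl (normalizerIn_le S Q)⟩
  have := finite_mulAut (Ω := Ω) hTS
  obtain ⟨-, Y, hY⟩ := isFullyAutomized_of_fullyNormalized hS h.satF hTn
  have hKn : (K.subgroupOf (F.autGroup T)).Normal := ⟨fun k hk d => h.conj _ d.2 _ hk⟩
  have hYK : (Y : Subgroup (F.autGroup T)) ≤ K.subgroupOf (F.autGroup T) := by
    rw [hY]
    exact fun a ha => h.inner hS _ ha
  obtain ⟨Y', hY'⟩ := Cfsg.Agent.SylowCount.exists_sylow_inf Y (K.subgroupOf (F.autGroup T))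
  have hfr := Sylow.normalizer_sup_eq_top Y'
  rw [hY', Subgroup.subgroupOf_map_subtype, inf_eq_left.2 hYK] at hfr
  obtain ⟨m, hm, k, hk, hmk⟩ :=
    Subgroup.mem_sup_of_normal_right.1 (hfr ▸ Subgroup.mem_top (⟨b, hb⟩ : F.autGroup T))
  obtain ⟨hmφ, hmr⟩ := hom_of_mem_autGroup hTS m.2
  have hext : S ≤ extender S T (T.subtype.comp (m : MulAut T).toMonoidHom) := fun g hgS => by
    have hgN := le_normalizer_of_stronglyClosed h.closed hgS
    have hc₁ := autInducedBy_le_autGroup F hTS (conjAut_mem_autInducedBy hgS hgN)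
    have hcY : (⟨conjAut hgN, hc₁⟩ : F.autGroup T) ∈ (Y : Subgroup (F.autGroup T)) := by
      rw [hY]; exact conjAut_mem_autInducedBy hgS hgN
    have h2 := (Subgroup.mem_normalizer_iff.1 hm _).1 hcY
    rw [hY] at h2
    obtain ⟨y, hyS, hh⟩ := mem_autInducedBy_iff.1 (Subgroup.mem_subgroupOf.1 h2)
    refine mem_extender_iff.2 ⟨hgS, hgN, y, hyS, fun x hx => ?_⟩
    have h3 := hh ((m : MulAut T) x)
    rw [show ((m * ⟨conjAut hgN, hc₁⟩ * m⁻¹ : F.autGroup T) : MulAut T) ((m : MulAut T) x) =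
      (m : MulAut T) (conjAut hgN ((m : MulAut T)⁻¹ ((m : MulAut T) x))) from rfl,
      MulAut.inv_apply_self] at h3
    exact h3
  obtain ⟨ψ, hψ, hψe⟩ := exists_extension (isReceptive_of_fullyNormalized hS h.satF hTn) hmφ hmr hext
  have hψr : ψ.range = S := range_eq_of_le hψ le_rfl (apply_mem hψ) le_rfl
  refine ⟨toAut hψ hψr, toAut_mem hψ hψr, fun ⟨_, β, hβ, hv⟩ => hbK ?_⟩
  have he : β = (m : MulAut T) := MulEquiv.ext fun t => Subtype.ext
    ((hv t).trans (hψe t t.2 (hTS t.2)))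
  rw [show b = (m : MulAut T) * (k : MulAut T) from (congrArg Subtype.val hmk).symm, ← he]
  exact mul_mem hβ hk

end RelData

end Cfsg.Agent.Fusion
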