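import Cfsg.Agent.Lib.Fusion.Iso

/-!
The fusion system `F_T(H)` of a subgroup on one of its Sylow subgroups.
-/

set_option autoImplicit false
set_option linter.unusedSectionVars false

namespace Cfsg.Agent.Fusion

open Cfsg Cfsg.FusionSystem

variable {G : Type*} [Group G] {p : ℕ}

theorem mem_subgroupSystem {H T : Subgroup G} {hTH : T ≤ H} {P : Subgroup G} {φ : P →* G} :
    φ ∈ (fusionSystemOfSubgroup H T hTH).Hom P ↔
      P ≤ T ∧ (∀ x : P, φ x ∈ T) ∧ ∃ g ∈ H, ∀ x : P, φ x = g * (x : G) * g⁻¹ := Iff.rfl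

theorem subgroupSystem_isRealizedBy {H T : Subgroup G} (hTH : T ≤ H) :
    (fusionSystemOfSubgroup H T hTH).IsRealizedBy (Subgroup.inclusion hTH) := by
  refine ⟨Subgroup.inclusion_injective hTH, fun P hP φ hφ => ?_⟩
  rw [mem_subgroupSystem]
  constructor
  · rintro ⟨-, -, g, hg, hx⟩
    exact ⟨⟨g, hg⟩, fun x => Subtype.ext (hx x)⟩
  · rintro ⟨g, hx⟩
    exact ⟨hP, hφ, g, g.2, fun x => congrArg Subtype.val (hx x)⟩

variable [Finite G] [Fact p.Prime]

theorem subgroupSystem_saturated {H T : Subgroup G} (hTH : T ≤ H) (hT : IsSylowIn p T H) :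
    (fusionSystemOfSubgroup H T hTH).IsSaturated p := by
  obtain ⟨R, hR⟩ := hT
  exact isSaturated_of_realized (subgroupSystem_isRealizedBy hTH)
    ⟨R, by rw [hR, Subgroup.inclusion_range]⟩

/-- A Sylow subgroup of `K` meets a subgroup normal in `K` in a Sylow subgroup. -/
theorem isSylowIn_inf_of_normal {A H K : Subgroup G} (hAK : A ≤ K) (hA : IsSylowIn p A K)
    (hHK : H ≤ K) [(H.subgroupOf K).Normal] : IsSylowIn p (A ⊓ H) H := by
  obtain ⟨R, hR⟩ := hA
  obtain ⟨R', hR'⟩ := Cfsg.Agent.SylowCount.exists_sylow_inf R (H.subgroupOf K)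
  rw [isSylowIn_iff_card inf_le_right]
  have h1 := R'.card_eq_multiplicity
  rw [Nat.card_congr (Subgroup.subgroupOfEquivOfLe hHK).toEquiv, hR', hR] at h1
  rw [← h1, ← Nat.card_congr (Subgroup.subgroupOfEquivOfLe
    (inf_le_right : A ⊓ H ≤ H)).toEquiv]
  refine Nat.card_congr ?_
  exact
    { toFun := fun x => ⟨⟨⟨(x : H), hHK (x : H).2⟩, (x : H).2⟩, x.2.1⟩
      invFun := fun y => ⟨⟨((y : H.subgroupOf K) : K), (y : H.subgroupOf K).2⟩, y.2, (y : H.subgroupOf K).2⟩
      left_inv := fun _ => rfl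
      right_inv := fun _ => rfl }

theorem sylow_isSylowIn_top (S : Sylow p G) : IsSylowIn p (S : Subgroup G) ⊤ := by
  rw [isSylowIn_iff_card le_top, Nat.card_congr (Subgroup.topEquiv (G := G)).toEquiv]
  exact S.card_eq_multiplicity

theorem isSylowIn_of_normal (S : Sylow p G) (H : Subgroup G) [H.Normal] :
    IsSylowIn p ((S : Subgroup G) ⊓ H) H :=
  isSylowIn_inf_of_normal le_top (sylow_isSylowIn_top S) le_top

/-- The group system of `H` on a Sylow subgroup is isomorphic to the system in the overgroup. -/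
theorem isIsoAlong_subgroupSystem (H T : Subgroup G) :
    IsIsoAlong (groupFusionSystem (T.subgroupOf H)) (fusionSystemOfSubgroup H (T ⊓ H) inf_le_right)
      (H.subtype.comp (T.subgroupOf H).subtype) := by
  refine ⟨H.subtype_injective.comp (T.subgroupOf H).subtype_injective, ?_,
    fun {P} hP φ hφ => ?_⟩
  · rw [MonoidHom.range_comp, Subgroup.range_subtype, Subgroup.subgroupOf_map_subtype]
  · have hinj := H.subtype_injective.comp (T.subgroupOf H).subtype_injective
    rw [mem_groupHom, mem_subgroupSystem]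
    constructor
    · rintro ⟨-, -, g, hg⟩
      refine ⟨?_, fun y => ?_, g, g.2, fun y => ?_⟩
      · rintro _ ⟨s, -, rfl⟩
        exact ⟨s.2, (s : H).2⟩
      · obtain ⟨x, rfl⟩ := (imgEquiv hinj hP).surjective y
        rw [transHom_apply]
        exact ⟨hφ x, (φ x).2⟩
      · obtain ⟨x, rfl⟩ := (imgEquiv hinj hP).surjective y
        rw [transHom_apply]
        exact congrArg Subtype.val (hg x)
    · rintro ⟨-, -, g, hgH, hg⟩
      refine ⟨hP, hφ, ⟨g, hgH⟩, fun x => Subtype.ext ?_⟩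
      have h1 := hg (imgEquiv hinj hP x)
      rw [transHom_apply] at h1
      exact h1

end Cfsg.Agent.Fusion
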