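import Cfsg.Agent.Lib.Fusion.Constrained
import Cfsg.Agent.Lib.Fusion.SubgroupSystem
import Cfsg.Agent.Lib.Fusion.NormalSubsystem
import Mathlib.GroupTheory.Transfer

/-!
Normal subsystems of the fusion system of a strictly `p`-constrained group are the systems of
normal subgroups.
-/

set_option autoImplicit false
set_option linter.unusedSectionVars false

namespace Cfsg.Agent.Fusion.ConstrainedGroup

open Cfsg Cfsg.FusionSystem Cfsg.Agent.Fusion
open scoped Pointwise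

variable {G : Type*} [Group G] [Finite G] {p : ℕ} [Fact p.Prime] (S : Sylow p G)

theorem mem_of_pow_mem_of_coprime {X : Type*} [Group X] (B : Subgroup X) {x : X} {n : ℕ}
    (h : x ^ n ∈ B) (hc : n.Coprime (orderOf x)) : x ∈ B := by
  have hb := Nat.gcd_eq_gcd_ab n (orderOf x)
  rw [hc] at hb
  have e : x = (x ^ n) ^ Nat.gcdA n (orderOf x) * (x ^ orderOf x) ^ Nat.gcdB n (orderOf x) := by
    rw [← zpow_natCast x n, ← zpow_natCast x (orderOf x), ← zpow_mul, ← zpow_mul, ← zpow_add, ← hb]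
    simp
  rw [e, pow_orderOf_eq_one, one_zpow, mul_one]
  exact B.zpow_mem h _

theorem isPGroup_zpowers_of_pow_eq_one {X : Type*} [Group X] {x : X} {k : ℕ} (h : x ^ p ^ k = 1) :
    IsPGroup p (Subgroup.zpowers x) := by
  rintro ⟨δ, hδ⟩
  obtain ⟨i, rfl⟩ := Subgroup.mem_zpowers_iff.1 hδ
  refine ⟨k, Subtype.ext ?_⟩
  show (x ^ i) ^ p ^ k = 1
  rw [← zpow_natCast, ← zpow_mul, mul_comm, zpow_mul, zpow_natCast, h, one_zpow]

/-- An element some `p`-power of whose has order prime to `p`. -/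
theorem exists_pow_coprime {X : Type*} [Group X] [Finite X] (x : X) :
    ∃ e : ℕ, (orderOf (x ^ p ^ e)).Coprime p := by
  have hp : p.Prime := Fact.out
  obtain ⟨e, m, hm, hord⟩ := Nat.exists_eq_pow_mul_and_not_dvd (orderOf_pos x).ne' p hp.ne_one
  refine ⟨e, Nat.Coprime.coprime_dvd_left (k := m) ?_ (hp.coprime_iff_not_dvd.2 hm).symm⟩
  exact orderOf_dvd_of_pow_eq_one (by rw [← pow_mul, ← hord, pow_orderOf_eq_one])

theorem isCentric_pCore
    (hG : Subgroup.centralizer ((Cfsg.pCore p G : Subgroup G) : Set G) ≤ Cfsg.pCore p G) :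
    (groupFusionSystem (S : Subgroup G)).IsCentric (Cfsg.pCore p G) := by
  have hn : (Cfsg.pCore p G).Normal := Cfsg.Agent.PCore.pCore_normal
  refine ⟨Cfsg.Agent.PCore.pCore_le_sylow S, fun P hP => ?_⟩
  obtain ⟨-, -, g, rfl⟩ := group_isConj_iff.1 hP
  have he : (Cfsg.pCore p G).map (MulAut.conj g).toMonoidHom = Cfsg.pCore p G :=
    Subgroup.mem_normalizer_iff_map_conj_eq.1
      (Subgroup.normalizer_eq_top (H := Cfsg.pCore p G) ▸ Subgroup.mem_top g)
  rw [he]
  exact fun x hx => hG hx.2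

theorem isConstrained_group
    (hG : Subgroup.centralizer ((Cfsg.pCore p G : Subgroup G) : Set G) ≤ Cfsg.pCore p G) :
    (groupFusionSystem (S : Subgroup G)).IsConstrained p :=
  ⟨groupFusionSystem_saturated S, _,
    group_isNormal_of_normal S Cfsg.Agent.PCore.pCore_normal Cfsg.Agent.PCore.isPGroup_pCore,
    isCentric_pCore S hG⟩

/-- In a strictly `p`-constrained group the core of the fusion system is `O_p(G)`. -/
theorem core_eq_pCore
    (hG : Subgroup.centralizer ((Cfsg.pCore p G : Subgroup G) : Set G) ≤ Cfsg.pCore p G) :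
    (groupFusionSystem (S : Subgroup G)).core = Cfsg.pCore p G := by
  set F := groupFusionSystem (S : Subgroup G)
  have hQn : F.IsNormal (Cfsg.pCore p G) :=
    group_isNormal_of_normal S Cfsg.Agent.PCore.pCore_normal Cfsg.Agent.PCore.isPGroup_pCore
  refine le_antisymm ?_ (le_core hQn)
  have hC := isNormal_core F
  have hle := le_core hQn
  suffices hn : F.core.Normal from
    Cfsg.Agent.PCore.le_pCore (hN := hn) (S.2.to_le hC.1)
  refine ⟨fun x hx g => ?_⟩
  have hφ : conjHom (Cfsg.pCore p G) g ∈ F.Hom (Cfsg.pCore p G) :=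
    conjHom_mem_groupHom hQn.1 (by
      rintro _ ⟨y, hy, rfl⟩
      exact hQn.1 ((Cfsg.Agent.PCore.pCore_normal (p := p) (G := G)).conj_mem y hy g))
  obtain ⟨ψ, hψ, hψP, hψC⟩ := hC.2 _ _ hφ
  obtain ⟨-, -, k, hk⟩ := mem_groupHom.1 hψ
  have hgk : k⁻¹ * g ∈ Cfsg.pCore p G := hG (Subgroup.mem_centralizer_iff.2 fun y hy => by
    have h1 : k * y * k⁻¹ = g * y * g⁻¹ := (hk _).symm.trans (hψP ⟨y, hy⟩)
    calc y * (k⁻¹ * g) = k⁻¹ * (k * y * k⁻¹) * g := by group
      _ = k⁻¹ * (g * y * g⁻¹) * g := by rw [h1]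
      _ = k⁻¹ * g * y := by group)
  have hz := hle hgk
  have h2 : (k⁻¹ * g) * x * (k⁻¹ * g)⁻¹ ∈ F.core :=
    F.core.mul_mem (F.core.mul_mem hz hx) (F.core.inv_mem hz)
  have h3 := hψC.le ⟨⟨_, Subgroup.mem_sup_right h2⟩, h2, rfl⟩
  rw [hk] at h3
  simpa [mul_assoc] using h3

variable {T : Subgroup G}

theorem conj_mem_of_stronglyClosed (hT : (groupFusionSystem (S : Subgroup G)).StronglyClosed T)
    {t g : G} (ht : t ∈ T) (hg : g * t * g⁻¹ ∈ (S : Subgroup G)) : g * t * g⁻¹ ∈ T := by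
  have hle : Subgroup.zpowers t ≤ T := Subgroup.zpowers_le.2 ht
  refine hT.2 _ hle (conjHom _ g) (conjHom_mem_groupHom (hle.trans hT.1) ?_)
    ⟨t, Subgroup.mem_zpowers t⟩
  rintro _ ⟨y, hy, rfl⟩
  obtain ⟨i, rfl⟩ := Subgroup.mem_zpowers_iff.1 hy
  show g * t ^ i * g⁻¹ ∈ _
  rw [← conj_zpow]
  exact zpow_mem hg i

/-- The elements acting trivially on `Q` modulo a normal subgroup `R`. -/
def actTrivially (Q R : Subgroup G) (hQ : Q.Normal) (hR : R.Normal) : Subgroup G where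
  carrier := {g | ∀ q ∈ Q, q⁻¹ * (g * q * g⁻¹) ∈ R}
  one_mem' q _ := by simp
  mul_mem' := by
    intro a b ha hb q hq
    have h1 := R.mul_mem (ha q hq) (hR.conj_mem _ (hb q hq) a)
    have h2 : q⁻¹ * (a * b * q * (a * b)⁻¹) =
        q⁻¹ * (a * q * a⁻¹) * (a * (q⁻¹ * (b * q * b⁻¹)) * a⁻¹) := by group
    rw [h2]
    exact h1
  inv_mem' := by
    intro a ha q hq
    have h1 := R.inv_mem (ha _ (hQ.conj_mem q hq a⁻¹))
    simpa [mul_assoc] using h1

theorem normal_actTrivially (Q R : Subgroup G) (hQ : Q.Normal) (hR : R.Normal) :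
    (actTrivially Q R hQ hR).Normal := by
  refine ⟨fun a ha g q hq => ?_⟩
  have h1 := hR.conj_mem _ (ha _ (hQ.conj_mem q hq g⁻¹)) g
  simpa [mul_assoc] using h1

/-- A `p'`-element whose action on `T` lies in `Aut_E(T)` and which centralizes `C_S(T)` modulo `T`
acts trivially on `Q` modulo `Q ⊓ T`. -/
theorem mem_actTrivially_of_extension {E : FusionSystem T}
    (hE : E.IsNormalIn (groupFusionSystem (S : Subgroup G)) p) {Q : Subgroup G} (hQn : Q.Normal)
    (hQS : Q ≤ (S : Subgroup G)) (hRn : (Q ⊓ T).Normal) {g : G} (hgo : (orderOf g).Coprime p)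
    {α : MulAut T} (hα : α ∈ E.autGroup T)
    (hgα : ∀ x : T, ((α x : T) : G) = g * (x : G) * g⁻¹)
    (hgC : ∀ c ∈ centralizerIn (S : Subgroup G) T, c⁻¹ * (g * c * g⁻¹) ∈ T) :
    g ∈ actTrivially Q (Q ⊓ T) hQn hRn := by
  obtain ⟨⟨hEs, hFs, hEinv⟩, -⟩ := hE
  have hTcl := hEinv.2.1
  have hTS : T ≤ (S : Subgroup G) := hTcl.1
  have hTp : IsPGroup p T := S.2.to_le hTS
  have hST : (S : Subgroup G) ≤ Subgroup.normalizer (T : Set G) :=
    le_normalizer_of_stronglyClosed hTcl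
  set C := centralizerIn (S : Subgroup G) T with hCdef
  set U := Q ⊓ (T ⊔ C) with hUdef
  -- the translations of `g` on `U` lie in `Q ⊓ T`
  have hUtriv : ∀ v ∈ U, v⁻¹ * (g * v * g⁻¹) ∈ Q ⊓ T := by
    intro v hv
    refine ⟨Q.mul_mem (Q.inv_mem hv.1) (hQn.conj_mem v hv.1 g), ?_⟩
    have hCT : C ≤ Subgroup.normalizer (T : Set G) := (centralizerIn_le _ _).trans hST
    have hv2 : v ∈ ((T : Set G) * (C : Set G)) := by
      rw [← Subgroup.coe_mul_of_right_le_normalizer_left T C hCT]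
      exact hv.2
    obtain ⟨t, ht, c, hc, rfl⟩ := hv2
    have ht2 : g * t * g⁻¹ ∈ T := hgα ⟨t, ht⟩ ▸ (α ⟨t, ht⟩).2
    have h1 : c⁻¹ * (t⁻¹ * (g * t * g⁻¹)) * c ∈ T := by
      have := (Subgroup.mem_normalizer_iff.1 (Subgroup.inv_mem _ (hCT hc))
        (t⁻¹ * (g * t * g⁻¹))).1 (T.mul_mem (T.inv_mem ht) ht2)
      simpa using this
    have h2 := T.mul_mem h1 (hgC c hc)
    simpa [mul_assoc] using h2
  intro q hq
  set u := g * q * g⁻¹ * q⁻¹ with hu
  have huQ : u ∈ Q := Q.mul_mem (hQn.conj_mem q hq g) (Q.inv_mem hq)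
  have huS : u ∈ (S : Subgroup G) := hQS huQ
  -- `u` lies in `T C_S(T)`
  have huU : u ∈ U := by
    refine ⟨huQ, ?_⟩
    have hqN := hST (hQS hq)
    have huN := hST huS
    have hcu : conjAut huN = α * (conjAut hqN * α⁻¹ * (conjAut hqN)⁻¹) := by
      rw [eq_comm, ← mul_assoc, ← mul_assoc, mul_inv_eq_iff_eq_mul, mul_inv_eq_iff_eq_mul]
      refine MulEquiv.ext fun x => Subtype.ext ?_
      simp only [MulAut.mul_apply, coe_conjAut, hgα, hu]
      group
    have hmem : conjAut huN ∈ E.autGroup T := by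
      rw [hcu]
      exact mul_mem hα (conj_mem_autGroup_of_invariant hEinv le_rfl
        (autInducedBy_le_autGroup _ hTS (conjAut_mem_autInducedBy (hQS hq) hqN)) (inv_mem hα))
    obtain ⟨k, hk⟩ := S.2.to_le hQS ⟨u, huQ⟩
    have hk' : (⟨conjAut huN, hmem⟩ : E.autGroup T) ^ p ^ k = 1 := by
      refine Subtype.ext ?_
      show (T.normalizerMonoidHom ⟨u, huN⟩) ^ p ^ k = 1
      rw [← map_pow]
      have : (⟨u, huN⟩ : Subgroup.normalizer (T : Set G)) ^ p ^ k = 1 :=
        Subtype.ext (congrArg (fun z : Q => (z : G)) hk)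
      rw [this, map_one]
    obtain ⟨-, R₀, hR₀⟩ := isFullyAutomized_self hTp hEs
    rw [autInducedBy_self] at hR₀
    have hRn₀ : (R₀ : Subgroup (E.autGroup T)).Normal := by
      rw [hR₀]
      exact inn_subgroupOf_normal T _
    have hsub : Subsingleton (Sylow p (E.autGroup T)) := by
      have := R₀.unique_of_normal hRn₀
      infer_instance
    obtain ⟨R₁, hR₁⟩ := (isPGroup_zpowers_of_pow_eq_one hk').exists_le_sylow
    have h1 := hR₁ (Subgroup.mem_zpowers _)
    rw [Subsingleton.elim R₁ R₀, hR₀, Subgroup.mem_subgroupOf] at h1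
    obtain ⟨⟨t, ht⟩, hte⟩ := h1
    have hc : t⁻¹ * u ∈ C := by
      refine mem_centralizerIn.2
        ⟨(S : Subgroup G).mul_mem ((S : Subgroup G).inv_mem (hTS ht)) huS, fun x hx => ?_⟩
      have h2 : t * x * t⁻¹ = u * x * u⁻¹ :=
        congrArg Subtype.val (DFunLike.congr_fun hte (⟨x, hx⟩ : T))
      calc x * (t⁻¹ * u) = t⁻¹ * (t * x * t⁻¹) * u := by group
        _ = t⁻¹ * (u * x * u⁻¹) * u := by rw [h2]
        _ = t⁻¹ * u * x := by group
    rw [show u = t * (t⁻¹ * u) by group]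
    exact Subgroup.mul_mem_sup ht hc
  -- iterate
  have hpow : ∀ j : ℕ, (u ^ j)⁻¹ * (g ^ j * q * (g ^ j)⁻¹ * q⁻¹) ∈ Q ⊓ T := by
    intro j
    induction j with
    | zero => simp
    | succ j ih =>
      have h1 := (Q ⊓ T).mul_mem (hUtriv _ (U.pow_mem huU j)) (hRn.conj_mem _ ih g)
      have h2 : (u ^ (j + 1))⁻¹ * (g ^ (j + 1) * q * (g ^ (j + 1))⁻¹ * q⁻¹) =
          u⁻¹ * ((u ^ j)⁻¹ * (g * u ^ j * g⁻¹) *
            (g * ((u ^ j)⁻¹ * (g ^ j * q * (g ^ j)⁻¹ * q⁻¹)) * g⁻¹)) * u := by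
        rw [pow_succ u j, pow_succ' g j, hu]
        group
      rw [h2]
      simpa using hRn.conj_mem _ h1 u⁻¹
  have hn := hpow (orderOf g)
  rw [pow_orderOf_eq_one] at hn
  have hun : u ^ orderOf g ∈ Q ⊓ T := by simpa using hn
  obtain ⟨k, hk⟩ := S.2.to_le hQS ⟨u, huQ⟩
  have hou : orderOf u ∣ p ^ k :=
    orderOf_dvd_of_pow_eq_one (congrArg (fun z : Q => (z : G)) hk)
  have huR : u ∈ Q ⊓ T := mem_of_pow_mem_of_coprime _ hun
    (Nat.Coprime.coprime_dvd_right hou (Nat.Coprime.pow_right _ hgo))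
  have h3 := hRn.conj_mem _ huR q⁻¹
  simpa [hu, mul_assoc] using h3

/-- Every normal subsystem of the fusion system of a strictly `p`-constrained group is the system
of a unique normal subgroup. -/
theorem exists_unique_normal
    (hG : Subgroup.centralizer ((Cfsg.pCore p G : Subgroup G) : Set G) ≤ Cfsg.pCore p G)
    (E : FusionSystem T) (hE : E.IsNormalIn (groupFusionSystem (S : Subgroup G)) p) :
    ∃ H : Subgroup G, (∃ hTH : T ≤ H, H.Normal ∧ IsSylowIn p T H ∧
        ∀ P : Subgroup G, E.Hom P = (fusionSystemOfSubgroup H T hTH).Hom P) ∧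
      ∀ H' : Subgroup G, (∃ hTH' : T ≤ H', H'.Normal ∧ IsSylowIn p T H' ∧
        ∀ P : Subgroup G, E.Hom P = (fusionSystemOfSubgroup H' T hTH').Hom P) → H' = H := by
  set F := groupFusionSystem (S : Subgroup G) with hFdef
  obtain ⟨⟨hEs, hFs, hEinv⟩, hext⟩ := id hE
  have hEF : E.IsSubsystemOf F := hEinv.1
  have hTcl : F.StronglyClosed T := hEinv.2.1
  have hTS : T ≤ (S : Subgroup G) := hTcl.1
  have hST : (S : Subgroup G) ≤ Subgroup.normalizer (T : Set G) :=
    le_normalizer_of_stronglyClosed hTcl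
  have hTp : IsPGroup p T := S.2.to_le hTS
  set Q := Cfsg.pCore p G with hQdef
  have hQn : Q.Normal := Cfsg.Agent.PCore.pCore_normal
  have hQS : Q ≤ (S : Subgroup G) := Cfsg.Agent.PCore.pCore_le_sylow S
  have hQp : IsPGroup p Q := S.2.to_le hQS
  have hconj : ∀ t ∈ T, ∀ g : G, g * t * g⁻¹ ∈ (S : Subgroup G) → g * t * g⁻¹ ∈ T :=
    fun t ht g hg => conj_mem_of_stronglyClosed S hTcl ht hg
  have hcore := core_eq_pCore S hG
  have hconstr := isConstrained_group S hG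
  set R := Q ⊓ T with hRdef
  have hRn : R.Normal := ⟨fun r hr g =>
    ⟨hQn.conj_mem r hr.1 g, hconj r hr.2 g (hQS (hQn.conj_mem r hr.1 g))⟩⟩
  obtain ⟨hRnE, hRcE⟩ := isNormal_isCentric_core_inf S.2 hconstr hTcl E hEF hEs
  rw [hcore] at hRnE hRcE
  have hCTR : centralizerIn T R ≤ R := hRcE.2 R (isConj_refl E hRnE.1)
  have hRT : R ≤ T := inf_le_right
  have hRS : R ≤ (S : Subgroup G) := hRT.trans hTS
  set A := E.autGroup R with hAdef
  let ρ : G →* MulAut R := MulAut.conjNormal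
  have hρ : ∀ (g : G) (r : R), ((ρ g r : R) : G) = g * (r : G) * g⁻¹ :=
    fun g r => MulAut.conjNormal_apply g r
  have hρF : ∀ g, ρ g ∈ F.autGroup R := fun g => by
    rw [group_autGroup hRS]
    exact mem_autInducedBy_iff.2 ⟨g, trivial, hρ g⟩
  have hAn : ∀ g, ∀ a ∈ A, ρ g * a * (ρ g)⁻¹ ∈ A := fun g a ha =>
    conj_mem_autGroup_of_invariant hEinv hRT (hρF g) ha
  have hρA : ∀ t ∈ T, ρ t ∈ A := fun t ht =>
    autInducedBy_le_autGroup E hRT (mem_autInducedBy_iff.2 ⟨t, ht, hρ t⟩)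
  -- the subgroup `M`
  set M := actTrivially Q R hQn hRn ⊓ A.comap ρ with hMdef
  have hMn : M.Normal := by
    have h1 := normal_actTrivially Q R hQn hRn
    have h2 : (A.comap ρ).Normal := ⟨fun a ha g => by
      show ρ (g * a * g⁻¹) ∈ A
      rw [map_mul, map_mul, map_inv]
      exact hAn g _ ha⟩
    exact Subgroup.normal_inf_normal _ _
  have hTM : T ≤ M := fun t ht => ⟨fun q hq => ⟨Q.mul_mem (Q.inv_mem hq) (hQn.conj_mem q hq t), by
    have h1 := (Subgroup.mem_normalizer_iff.1 (hST (inv_mem (hQS hq))) t).1 ht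
    have h2 := T.mul_mem h1 (T.inv_mem ht)
    simpa [mul_assoc] using h2⟩, hρA t ht⟩
  -- the kernel of the action on `R`
  set K := M ⊓ Subgroup.centralizer (R : Set G) with hKdef
  have hKQ : K ≤ Q := by
    have hCn : (Subgroup.centralizer (R : Set G)).Normal := ⟨fun c hc g => by
      refine Subgroup.mem_centralizer_iff.2 fun r hr => ?_
      have h1 := hc _ (hRn.conj_mem r hr g⁻¹)
      rw [inv_inv] at h1
      calc r * (g * c * g⁻¹) = g * (g⁻¹ * r * g * c) * g⁻¹ := by group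
        _ = g * (c * (g⁻¹ * r * g)) * g⁻¹ := by rw [h1]
        _ = g * c * g⁻¹ * r := by group⟩
    have hKn : K.Normal := Subgroup.normal_inf_normal _ _
    have hKp : IsPGroup p K := by
      rintro ⟨k, hkM, hkC⟩
      obtain ⟨e, he⟩ := IsPGroup.iff_card.1 hQp
      have hfix : ∀ r ∈ R, k * r * k⁻¹ = r := fun r hr => by
        rw [← hkC r hr, mul_inv_cancel_right]
      have hkQ : k ^ Nat.card Q ∈ Q := by
        refine hG (Subgroup.mem_centralizer_iff.2 fun q hq => ?_)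
        have hd := hkM.1 q hq
        have hj : ∀ j : ℕ, k ^ j * q * (k ^ j)⁻¹ = q * (q⁻¹ * (k * q * k⁻¹)) ^ j := by
          intro j
          induction j with
          | zero => simp
          | succ j ih =>
            calc k ^ (j + 1) * q * (k ^ (j + 1))⁻¹
                = k * (k ^ j * q * (k ^ j)⁻¹) * k⁻¹ := by rw [pow_succ']; group
              _ = (k * q * k⁻¹) * (k * (q⁻¹ * (k * q * k⁻¹)) ^ j * k⁻¹) := by rw [ih]; group
              _ = q * (q⁻¹ * (k * q * k⁻¹)) * (q⁻¹ * (k * q * k⁻¹)) ^ j := by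
                  rw [hfix _ (R.pow_mem hd j)]; group
              _ = _ := by rw [mul_assoc, ← pow_succ']
        have h1 := hj (Nat.card Q)
        have h2 : (q⁻¹ * (k * q * k⁻¹)) ^ Nat.card Q = 1 :=
          congrArg (fun z : Q => (z : G)) (pow_card_eq_one' (x := (⟨_, hd.1⟩ : Q)))
        rw [h2, mul_one] at h1
        calc q * k ^ Nat.card Q
            = k ^ Nat.card Q * q * (k ^ Nat.card Q)⁻¹ * k ^ Nat.card Q := by rw [h1]
          _ = k ^ Nat.card Q * q := by group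
      obtain ⟨f, hf⟩ := hQp ⟨_, hkQ⟩
      have hf' : (k ^ Nat.card Q) ^ p ^ f = 1 := congrArg (fun z : Q => (z : G)) hf
      refine ⟨e + f, Subtype.ext ?_⟩
      show k ^ p ^ (e + f) = 1
      rw [pow_add, pow_mul, ← he, hf']
    exact Cfsg.Agent.PCore.le_pCore (hN := hKn) hKp
  -- `R` is fully automized in `E`
  have hRfa : E.IsFullyAutomized p R := by
    refine isFullyAutomized_of_fullyNormalized hTp hEs ⟨hRT, fun R' hR' => ?_⟩
    obtain ⟨φ, hφ, rfl⟩ := hR'
    rw [range_eq_of_le hφ hRT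
      (fun x => (stronglyClosed_of_isNormal hRnE).2 _ le_rfl φ hφ x) le_rfl]
  obtain ⟨-, Syl, hSyl⟩ := hRfa
  have hFA : Finite (MulAut R) := finite_mulAut (Ω := G) (S := (S : Subgroup G)) hRS
  -- any normal subgroup containing `T` contains the `p`-elements of `A`
  have hpel : ∀ L : Subgroup G, L.Normal → T ≤ L → ∀ a : A,
      (∃ k, a ^ p ^ k = 1) → (a : MulAut R) ∈ L.map ρ := by
    rintro L hLn hTL a ⟨k, hk⟩
    obtain ⟨Syl', hSyl'⟩ := (isPGroup_zpowers_of_pow_eq_one hk).exists_le_sylow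
    obtain ⟨b, hb⟩ := MulAction.exists_smul_eq A Syl' Syl
    have h1 : b * a * b⁻¹ ∈ (Syl : Subgroup A) := by
      rw [← hb, Sylow.coe_subgroup_smul]
      exact Subgroup.smul_mem_pointwise_smul a (MulAut.conj b) _ (hSyl' (Subgroup.mem_zpowers a))
    rw [hSyl, Subgroup.mem_subgroupOf] at h1
    obtain ⟨t, ht, hte⟩ := mem_autInducedBy_iff.1 h1
    -- lift `b`
    have hbF : (b : MulAut R) ∈ F.autGroup R := autGroup_le_of_subsystem hEF hRT b.2
    rw [group_autGroup hRS] at hbF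
    obtain ⟨g, -, hg⟩ := mem_autInducedBy_iff.1 hbF
    have hbg : (b : MulAut R) = ρ g :=
      MulEquiv.ext fun r => Subtype.ext ((hg r).trans (hρ g r).symm)
    have hta : ((b * a * b⁻¹ : A) : MulAut R) = ρ t :=
      MulEquiv.ext fun r => Subtype.ext ((hte r).trans (hρ t r).symm)
    refine ⟨g⁻¹ * t * g, by simpa using hLn.conj_mem t (hTL ht) g⁻¹, ?_⟩
    rw [map_mul, map_mul, map_inv, ← hbg, ← hta]
    simp [mul_assoc]
  have hnormB : ∀ L : Subgroup G, L.Normal → ((L.map ρ).subgroupOf A).Normal := by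
    intro L hLn
    refine ⟨fun a ha b => ?_⟩
    obtain ⟨l, hl, hla⟩ := Subgroup.mem_subgroupOf.1 ha
    have hbF : (b : MulAut R) ∈ F.autGroup R := autGroup_le_of_subsystem hEF hRT b.2
    rw [group_autGroup hRS] at hbF
    obtain ⟨g, -, hg⟩ := mem_autInducedBy_iff.1 hbF
    have hbg : (b : MulAut R) = ρ g :=
      MulEquiv.ext fun r => Subtype.ext ((hg r).trans (hρ g r).symm)
    refine ⟨g * l * g⁻¹, hLn.conj_mem l hl g, ?_⟩
    show ρ (g * l * g⁻¹) = (b : MulAut R) * (a : MulAut R) * (b : MulAut R)⁻¹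
    rw [map_mul, map_mul, map_inv, hla, hbg]
  -- `M` maps onto `A`
  have hMA : ∀ a : A, (a : MulAut R) ∈ M.map ρ := by
    have := hnormB M hMn
    set B := (M.map ρ).subgroupOf A with hBdef
    have hSB : (Syl : Subgroup A) ≤ B := fun a ha => by
      obtain ⟨k, hk⟩ := Syl.2 ⟨a, ha⟩
      exact hpel M hMn hTM a ⟨k, congrArg Subtype.val hk⟩
    have hnorm : Subgroup.normalizer ((Syl : Subgroup A) : Set A) ≤ B := by
      intro a ha
      show (⟨a, ha⟩ : Subgroup.normalizer ((Syl : Subgroup A) : Set A)) ∈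
        B.subgroupOf (Subgroup.normalizer ((Syl : Subgroup A) : Set A))
      refine mem_of_pParts (p := p) _ (fun x hx => ?_) (fun x hx => ?_) _
      · obtain ⟨k, hk⟩ := hx
        exact hpel M hMn hTM x ⟨k, congrArg Subtype.val hk⟩
      · obtain ⟨⟨a, ha⟩, hax⟩ : ∃ y : Subgroup.normalizer ((Syl : Subgroup A) : Set A), y = x :=
          ⟨x, rfl⟩
        subst hax
        have hao : (orderOf a).Coprime p := by
          rwa [← Subgroup.orderOf_coe] at hx
        show a ∈ B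
        obtain ⟨hah, har⟩ := hom_of_mem_autGroup hRT a.2
        have hextn : T ≤ extender T R (R.subtype.comp (a : MulAut R).toMonoidHom) := by
          intro t ht
          have htS : (⟨ρ t, hρA t ht⟩ : A) ∈ (Syl : Subgroup A) := by
            rw [hSyl, Subgroup.mem_subgroupOf]
            exact mem_autInducedBy_iff.2 ⟨t, ht, hρ t⟩
          have h1 := (Subgroup.mem_normalizer_iff.1 ha _).1 htS
          rw [hSyl, Subgroup.mem_subgroupOf] at h1
          obtain ⟨h, hh, hhe⟩ := mem_autInducedBy_iff.1 h1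
          refine mem_extender_iff.2 ⟨ht, le_normalizer_of_isNormal hRnE ht, h, hh, fun r hr => ?_⟩
          have h2 := hhe ((a : MulAut R) r)
          simp only [Subgroup.coe_mul, Subgroup.coe_inv, MulAut.mul_apply,
            MulAut.inv_apply_self] at h2
          show (((a : MulAut R) ⟨t * r * t⁻¹, hr⟩ : R) : G) = _
          rw [show (⟨t * r * t⁻¹, hr⟩ : R) = ρ t r from Subtype.ext (hρ t r).symm]
          exact h2
        obtain ⟨ψ, hψ, hψe⟩ :=
          exists_extension (isReceptive_of_centric hTp hEs hRcE) hah har hextn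
        have hψr : ψ.range = T := range_eq_of_le hψ le_rfl (apply_mem hψ) le_rfl
        set α := toAut hψ hψr
        obtain ⟨β, hβ, hβT, hβC⟩ := hext α (toAut_mem hψ hψr)
        rw [group_autGroup (sup_le hTS (centralizerIn_le _ _))] at hβ
        obtain ⟨g, -, hg⟩ := mem_autInducedBy_iff.1 hβ
        have hgT : ∀ x : T, ((α x : T) : G) = g * (x : G) * g⁻¹ := fun x =>
          (hβT x).symm.trans (hg _)
        have hgC : ∀ c ∈ centralizerIn (S : Subgroup G) T, c⁻¹ * (g * c * g⁻¹) ∈ T := fun c hc => by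
          have h3 := (hβC ⟨c, Subgroup.mem_sup_right hc⟩ hc).1
          rwa [hg] at h3
        have hρg : ρ g = (a : MulAut R) := MulEquiv.ext fun r => Subtype.ext (by
          rw [hρ]
          exact (hgT ⟨r, hRT r.2⟩).symm.trans (hψe r r.2 (hRT r.2)))
        have hpows : ∀ j : ℕ, (∀ x : T, (((α ^ j) x : T) : G) = g ^ j * (x : G) * (g ^ j)⁻¹) ∧
            ∀ c ∈ centralizerIn (S : Subgroup G) T, c⁻¹ * (g ^ j * c * (g ^ j)⁻¹) ∈ T := by
          intro j
          induction j with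
          | zero => exact ⟨fun x => by simp, fun c _ => by simp⟩
          | succ j ih =>
            refine ⟨fun x => ?_, fun c hc => ?_⟩
            · rw [pow_succ', MulAut.mul_apply, hgT, ih.1, pow_succ']
              group
            · have h3 := T.mul_mem (hgC c hc)
                (hgT ⟨_, ih.2 c hc⟩ ▸ (α ⟨_, ih.2 c hc⟩).2)
              rw [pow_succ']
              simpa [mul_assoc] using h3
        obtain ⟨e, he⟩ := exists_pow_coprime (p := p) g
        have hgN : g ^ p ^ e ∈ M := by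
          refine ⟨mem_actTrivially_of_extension S hE hQn hQS hRn he
            (pow_mem (toAut_mem hψ hψr) _) (hpows _).1 (hpows _).2, ?_⟩
          show ρ (g ^ p ^ e) ∈ A
          rw [map_pow, hρg]
          exact pow_mem a.2 _
        refine mem_of_pow_mem_of_coprime B (n := p ^ e) ?_ (Nat.Coprime.pow_left _ hao.symm)
        exact ⟨g ^ p ^ e, hgN, by rw [map_pow, hρg]; rfl⟩
    intro a
    have htop : (⊤ : Subgroup A) ≤ B := by
      rw [← Sylow.normalizer_sup_eq_top' Syl hSB]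
      exact sup_le hnorm le_rfl
    exact htop trivial
  -- `S ⊓ M` is `T K`
  have hTK : ∀ x ∈ (S : Subgroup G) ⊓ M, ∃ t ∈ T, t⁻¹ * x ∈ K := by
    intro x hx
    set V := (((S : Subgroup G) ⊓ M).map ρ).subgroupOf A with hVdef
    have hV : IsPGroup p V := ((S.2.to_le inf_le_left).map ρ).comap_subtype
    have hle : (Syl : Subgroup A) ≤ V := fun a ha => by
      rw [hSyl, Subgroup.mem_subgroupOf] at ha
      obtain ⟨t, ht, hte⟩ := mem_autInducedBy_iff.1 ha
      exact ⟨t, ⟨hTS ht, hTM ht⟩, MulEquiv.ext fun r => Subtype.ext ((hρ t r).trans (hte r).symm)⟩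
    have heq := Syl.is_maximal' hV hle
    have hxV : (⟨ρ x, hx.2.2⟩ : A) ∈ (Syl : Subgroup A) := heq ▸ ⟨x, hx, rfl⟩
    rw [hSyl, Subgroup.mem_subgroupOf] at hxV
    obtain ⟨t, ht, hte⟩ := mem_autInducedBy_iff.1 hxV
    refine ⟨t, ht, M.mul_mem (M.inv_mem (hTM ht)) hx.2,
      Subgroup.mem_centralizer_iff.2 fun r hr => ?_⟩
    have h1 : x * r * x⁻¹ = t * r * t⁻¹ := (hρ x ⟨r, hr⟩).symm.trans (hte ⟨r, hr⟩)
    calc r * (t⁻¹ * x) = t⁻¹ * (t * r * t⁻¹) * x := by group
      _ = t⁻¹ * (x * r * x⁻¹) * x := by rw [h1]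
      _ = t⁻¹ * x * r := by group
  have hKSM : K ≤ (S : Subgroup G) ⊓ M := le_inf (hKQ.trans hQS) inf_le_left
  -- the transfer
  set SM := ((S : Subgroup G) ⊓ M).subgroupOf M with hSMdef
  have hTn : ((T.subgroupOf M).subgroupOf SM).Normal := ⟨fun x hx y =>
    (Subgroup.mem_normalizer_iff.1 (hST y.2.1) _).1 hx⟩
  let π := QuotientGroup.mk' ((T.subgroupOf M).subgroupOf SM)
  have hπK : ∀ x : SM, ∃ k : SM, ((k : M) : G) ∈ K ∧ π x = π k := by
    intro x
    obtain ⟨t, ht, hk⟩ := hTK _ x.2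
    refine ⟨⟨⟨_, hk.1⟩, hKSM hk⟩, hk, (QuotientGroup.eq.2 ?_)⟩
    show ((x : M) : G)⁻¹ * (t⁻¹ * ((x : M) : G)) ∈ T
    have h1 := (Subgroup.mem_normalizer_iff.1 (hST (inv_mem x.2.1)) _).1 (T.inv_mem ht)
    simpa [mul_assoc] using h1
  have hπs : Function.Surjective π := QuotientGroup.mk'_surjective _
  letI : CommGroup (SM ⧸ (T.subgroupOf M).subgroupOf SM) :=
    { (inferInstance : Group (SM ⧸ (T.subgroupOf M).subgroupOf SM)) with
      mul_comm := by
        intro a b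
        obtain ⟨x, rfl⟩ := QuotientGroup.mk'_surjective _ a
        obtain ⟨y, rfl⟩ := QuotientGroup.mk'_surjective _ b
        obtain ⟨k, hk, hkx⟩ := hπK x
        obtain ⟨l, hl, hly⟩ := hπK y
        show π x * π y = π y * π x
        rw [hkx, hly, ← map_mul, ← map_mul]
        refine QuotientGroup.eq.2 ?_
        show (((k : M) : G) * (l : M))⁻¹ * (((l : M) : G) * (k : M)) ∈ T
        have h1 := hl.1.1 _ (hKQ hk)
        have h2 := hRn.conj_mem _ h1 ((l : M) : G)⁻¹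
        exact (show _ ∈ R by simpa [mul_assoc] using h2 : _ ∈ R).2 }
  let τ : M →* SM ⧸ (T.subgroupOf M).subgroupOf SM := MonoidHom.transfer π
  have hπT : ∀ x : SM, ((x : M) : G) ∈ T → π x = 1 := fun x hx =>
    (QuotientGroup.eq_one_iff x).2 hx
  letI : ∀ m : M, Fintype (Quotient (MulAction.orbitRel (Subgroup.zpowers m) (M ⧸ SM))) :=
    fun m => Fintype.ofFinite _
  have hτT : ∀ m : M, (m : G) ∈ T → τ m = 1 := by
    intro m hm
    rw [show τ m = _ from MonoidHom.transfer_eq_prod_quotient_orbitRel_zpowers_quot π m]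
    refine Finset.prod_eq_one fun c _ => hπT _ ?_
    set w := c.out.out
    set n := Function.minimalPeriod (m • ·) c.out
    have hS' : (w : G)⁻¹ * (m : G) ^ n * (w : G) ∈ (S : Subgroup G) :=
      (QuotientGroup.out_conj_pow_minimalPeriod_mem SM m c.out).1
    have h1 := hconj _ (T.pow_mem hm n) (w : G)⁻¹ (by rwa [inv_inv])
    rw [inv_inv] at h1
    exact h1
  have hτK : ∀ k : SM, ((k : M) : G) ∈ K → τ k = π k ^ SM.index := by
    intro k hk
    rw [show τ k = _ from MonoidHom.transfer_eq_prod_quotient_orbitRel_zpowers_quot π (k : M)]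
    letI := SM.fintypeQuotientOfFiniteIndex
    rw [Subgroup.index_eq_sum_minimalPeriod SM (k : M), ← Finset.prod_pow_eq_pow_sum]
    refine Finset.prod_congr rfl fun c _ => ?_
    rw [← map_pow]
    refine QuotientGroup.eq.2 ?_
    set w := c.out.out
    set n := Function.minimalPeriod ((k : M) • ·) c.out
    have hkn : ((k : M) : G) ^ n ∈ Q := Q.pow_mem (hKQ hk) n
    have h1 := R.inv_mem ((M.inv_mem w.2).1 _ hkn)
    refine (show _ ∈ R from ?_ : _ ∈ R).2
    simpa [mul_assoc] using h1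
  -- `S ⊓ M` is Sylow in `M`
  have hSMsyl := isSylowIn_of_normal S M
  have hindex : ¬ p ∣ SM.index := by
    obtain ⟨R', hR'⟩ := hSMsyl
    rw [hSMdef, ← hR']
    exact R'.not_dvd_index
  have hVp : IsPGroup p (SM ⧸ (T.subgroupOf M).subgroupOf SM) :=
    IsPGroup.of_surjective ((S.2.to_le inf_le_left).comap_subtype (H := (S : Subgroup G) ⊓ M)) π
      hπs
  have hp : p.Prime := Fact.out
  -- the normal subgroup
  set gen : Set G := (T : Set G) ∪ {x | x ∈ M ∧ (orderOf x).Coprime p} with hgendef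
  set H := Subgroup.normalClosure gen with hHdef
  have hHn : H.Normal := Subgroup.normalClosure_normal
  have hgenM : gen ⊆ (M : Set G) := by
    rintro x (hx | hx)
    · exact hTM hx
    · exact hx.1
  have hHM : H ≤ M := Subgroup.normalClosure_le_normal (N := M) hgenM
  have hTH : T ≤ H := fun t ht => Subgroup.subset_normalClosure (Or.inl ht)
  have hHker : H ≤ τ.ker.map M.subtype := by
    rw [hHdef, Subgroup.normalClosure, Subgroup.closure_le]
    intro z hz
    obtain ⟨x, hx, hxz⟩ := Group.mem_conjugatesOfSet_iff.1 hz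
    obtain ⟨g, hg⟩ := isConj_iff.1 hxz
    subst hg
    have hmem : g * x * g⁻¹ ∈ M := hMn.conj_mem x (hgenM hx) g
    refine ⟨⟨_, hmem⟩, ?_, rfl⟩
    rcases hx with hx | ⟨-, hxo⟩
    · -- conjugate into `S` inside `M`
      obtain ⟨R', hR'⟩ := hSMsyl
      obtain ⟨e, he⟩ := hTp ⟨x, hx⟩
      have hpw : (⟨g * x * g⁻¹, hmem⟩ : M) ^ p ^ e = 1 := by
        refine Subtype.ext ?_
        show (g * x * g⁻¹) ^ p ^ e = 1
        rw [conj_pow, show x ^ p ^ e = 1 from congrArg (fun z : T => (z : G)) he]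
        simp
      obtain ⟨R'', hR''⟩ := (isPGroup_zpowers_of_pow_eq_one hpw).exists_le_sylow
      obtain ⟨m, hm⟩ := MulAction.exists_smul_eq M R'' R'
      have h1 : m * ⟨g * x * g⁻¹, hmem⟩ * m⁻¹ ∈ (R' : Subgroup M) := by
        rw [← hm, Sylow.coe_subgroup_smul]
        exact Subgroup.smul_mem_pointwise_smul _ (MulAut.conj m) _
          (hR'' (Subgroup.mem_zpowers _))
      rw [hR', Subgroup.mem_subgroupOf] at h1
      have hS' : ((m : G) * g) * x * ((m : G) * g)⁻¹ ∈ (S : Subgroup G) := by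
        have h1' : (m : G) * (g * x * g⁻¹) * (m : G)⁻¹ ∈ (S : Subgroup G) := h1.1
        simpa [mul_assoc] using h1'
      have h2 := hconj x hx _ hS'
      have h3 : τ (m * ⟨g * x * g⁻¹, hmem⟩ * m⁻¹) = 1 := hτT _ (by simpa [mul_assoc] using h2)
      rw [map_mul, map_mul, map_inv, mul_inv_eq_one, mul_eq_left] at h3
      exact h3
    · obtain ⟨e, he⟩ := hVp (τ ⟨_, hmem⟩)
      have hco : (orderOf (⟨g * x * g⁻¹, hmem⟩ : M)).Coprime p := by
        rw [← Subgroup.orderOf_coe]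
        show (orderOf (g * x * g⁻¹)).Coprime p
        rwa [← MulAut.conj_apply, MulEquiv.orderOf_eq]
      have h1 := Nat.Coprime.coprime_dvd_left
        (orderOf_map_dvd τ (⟨g * x * g⁻¹, hmem⟩ : M)) hco
      exact orderOf_eq_one_iff.1
        (Nat.eq_one_of_dvd_coprimes (Nat.Coprime.pow_right e h1) dvd_rfl
          (orderOf_dvd_of_pow_eq_one he))
  have hHS : (S : Subgroup G) ⊓ H = T := by
    refine le_antisymm ?_ (le_inf hTS hTH)
    rintro x ⟨hxS, hxH⟩
    obtain ⟨t, ht, hk⟩ := hTK x ⟨hxS, hHM hxH⟩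
    obtain ⟨⟨y, hyM⟩, hy, hyx⟩ := hHker (H.mul_mem (H.inv_mem (hTH ht)) hxH)
    change y = t⁻¹ * x at hyx
    subst hyx
    have h1 := hτK ⟨⟨t⁻¹ * x, hyM⟩, hKSM hk⟩ hk
    rw [show τ (⟨t⁻¹ * x, hyM⟩ : M) = 1 from hy] at h1
    obtain ⟨e, he⟩ := hVp (π ⟨⟨t⁻¹ * x, hyM⟩, hKSM hk⟩)
    have h2 : π ⟨⟨t⁻¹ * x, hyM⟩, hKSM hk⟩ ∈ (⊥ : Subgroup _) := by
      refine mem_of_pow_mem_of_coprime ⊥ (n := SM.index) (Subgroup.mem_bot.2 h1.symm) ?_
      exact Nat.Coprime.coprime_dvd_right (orderOf_dvd_of_pow_eq_one he)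
        (Nat.Coprime.pow_right _ (hp.coprime_iff_not_dvd.2 hindex).symm)
    have h3 : t⁻¹ * x ∈ T := (QuotientGroup.eq_one_iff (N := (T.subgroupOf M).subgroupOf SM)
      (⟨⟨t⁻¹ * x, hyM⟩, hKSM hk⟩ : SM)).1 (Subgroup.mem_bot.1 h2)
    simpa using T.mul_mem ht h3
  have hsylH : IsSylowIn p T H := by
    have := isSylowIn_of_normal S H
    rwa [hHS] at this
  -- `H` maps onto `A`
  have hHA : ∀ a : A, (a : MulAut R) ∈ H.map ρ := by
    intro a
    show a ∈ (H.map ρ).subgroupOf A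
    refine mem_of_pParts (p := p) _ (fun x hx => hpel H hHn hTH x hx) (fun x hx => ?_) a
    obtain ⟨m, hm, hmx⟩ := hMA x
    obtain ⟨e, he⟩ := exists_pow_coprime (p := p) m
    refine mem_of_pow_mem_of_coprime _ (n := p ^ e) ?_ (Nat.Coprime.pow_left _ hx.symm)
    exact ⟨m ^ p ^ e, Subgroup.subset_normalClosure (Or.inr ⟨M.pow_mem hm _, he⟩),
      by rw [map_pow, hmx]; rfl⟩
  -- comparison of systems
  have hsame : ∀ (H' : Subgroup G) (hn : H'.Normal) (hT' : T ≤ H'), IsSylowIn p T H' →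
      H' ≤ M → (∀ a : A, (a : MulAut R) ∈ H'.map ρ) →
      ∀ P, E.Hom P = (fusionSystemOfSubgroup H' T hT').Hom P := by
    intro H' hn' hT' hsyl' hle hon
    set E' := fusionSystemOfSubgroup H' T hT' with hE'def
    have hE's := subgroupSystem_saturated hT' hsyl'
    have hE'F : E'.IsSubsystemOf F := by
      rintro P φ ⟨hP, hφ, g, -, hg⟩
      exact ⟨hP.trans hTS, fun x => hTS (hφ x), g, hg⟩
    obtain ⟨hRn', hRc'⟩ := isNormal_isCentric_core_inf S.2 hconstr hTcl E' hE'F hE's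
    rw [hcore] at hRn' hRc'
    have hautR : E.autGroup R = E'.autGroup R := by
      ext α
      rw [mem_autGroup_iff (F := E') hRT, mem_subgroupSystem]
      constructor
      · intro hα
        obtain ⟨h, hh, hhe⟩ := hon ⟨α, hα⟩
        exact ⟨hRT, fun r => hRT (α r).2, h, hh, fun r =>
          (congrArg (fun β : MulAut R => ((β r : R) : G)) hhe.symm).trans (hρ h r)⟩
      · rintro ⟨-, -, h, hh, hhe⟩
        have h1 : α = ρ h := MulEquiv.ext fun r => Subtype.ext ((hhe r).trans (hρ h r).symm)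
        rw [h1]
        exact (hle hh).2
    have hnE : ∀ P ≤ T, ∀ α ∈ F.autGroup P, ∀ x ∈ E.autGroup P, α * x * α⁻¹ ∈ E.autGroup P :=
      fun P hP α hα x hx => conj_mem_autGroup_of_invariant hEinv hP hα hx
    have hnE' : ∀ P ≤ T, ∀ α ∈ F.autGroup P, ∀ x ∈ E'.autGroup P,
        α * x * α⁻¹ ∈ E'.autGroup P := by
      intro P hP α hα x hx
      rw [group_autGroup (hP.trans hTS)] at hα
      obtain ⟨g, -, hg⟩ := mem_autInducedBy_iff.1 hα
      obtain ⟨-, -, h, hh, hhe⟩ := mem_subgroupSystem.1 ((mem_autGroup_iff hP).1 hx)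
      refine (mem_autGroup_iff hP).2 ⟨hP, fun y => hP ((α * x * α⁻¹) y).2, g * h * g⁻¹,
        hn'.conj_mem h hh g, fun y => ?_⟩
      have h1 : ((α⁻¹ y : P) : G) = g⁻¹ * (y : G) * g := by
        have h2 := hg (α⁻¹ y)
        rw [MulAut.apply_inv_self] at h2
        rw [h2]
        group
      show ((α (x (α⁻¹ y)) : P) : G) = _
      rw [hg, show ((x (α⁻¹ y) : P) : G) = h * ((α⁻¹ y : P) : G) * h⁻¹ from hhe _, h1]
      group
    intro P
    exact Set.Subset.antisymm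
      (subsystem_le_of_same S.2 hEF hE'F hEs hE's hRnE hRn' hRcE hRc' hautR hnE hnE' P)
      (subsystem_le_of_same S.2 hE'F hEF hE's hEs hRn' hRnE hRc' hRcE hautR.symm hnE' hnE P)
  refine ⟨H, ⟨hTH, hHn, hsylH, hsame H hHn hTH hsylH hHM hHA⟩, ?_⟩
  rintro H' ⟨hT', hn', hsyl', heq⟩
  have hH'S : (S : Subgroup G) ⊓ H' = T :=
    (hsyl'.eq_of_le hT' (le_inf hTS hT') (S.2.to_le inf_le_left) inf_le_right).symm
  have hA' : ∀ α : MulAut R, α ∈ A ↔ ∃ h ∈ H', ρ h = α := by
    intro α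
    rw [hAdef, mem_autGroup_iff hRT, heq, mem_subgroupSystem]
    constructor
    · rintro ⟨-, -, h, hh, hhe⟩
      exact ⟨h, hh, MulEquiv.ext fun r => Subtype.ext ((hρ h r).trans (hhe r).symm)⟩
    · rintro ⟨h, hh, rfl⟩
      exact ⟨hRT, fun r => hRT (ρ h r).2, h, hh, hρ h⟩
  have hH'M : H' ≤ M := fun h hh => by
    refine ⟨fun q hq => ?_, (hA' _).2 ⟨h, hh, rfl⟩⟩
    have h1 : q⁻¹ * (h * q * h⁻¹) ∈ Q := Q.mul_mem (Q.inv_mem hq) (hQn.conj_mem q hq h)
    have h2 : q⁻¹ * (h * q * h⁻¹) ∈ H' := by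
      have := H'.mul_mem (hn'.conj_mem h hh q⁻¹) (H'.inv_mem hh)
      simpa [mul_assoc] using this
    exact ⟨h1, hH'S.le ⟨hQS h1, h2⟩⟩
  have hlift : ∀ x ∈ M, ∃ h ∈ H', h⁻¹ * x ∈ K := by
    intro x hx
    obtain ⟨h, hh, hhe⟩ := (hA' _).1 hx.2
    refine ⟨h, hh, M.mul_mem (M.inv_mem (hH'M hh)) hx, Subgroup.mem_centralizer_iff.2 fun r hr => ?_⟩
    have h1 : h * r * h⁻¹ = x * r * x⁻¹ :=
      (hρ h ⟨r, hr⟩).symm.trans ((congrArg (fun β : MulAut R => ((β ⟨r, hr⟩ : R) : G)) hhe).trans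
        (hρ x ⟨r, hr⟩))
    calc r * (h⁻¹ * x) = h⁻¹ * (h * r * h⁻¹) * x := by group
      _ = h⁻¹ * (x * r * x⁻¹) * x := by rw [h1]
      _ = h⁻¹ * x * r := by group
  refine le_antisymm (fun x hx => ?_) (Subgroup.normalClosure_le_normal (N := H') ?_)
  · -- `H' ≤ H`
    obtain ⟨h, hh, hhe⟩ := hHA ⟨ρ x, (hA' _).2 ⟨x, hx, rfl⟩⟩
    have hhe' : ρ h = ρ x := hhe
    have hH'H : H ≤ H' := by
      refine Subgroup.normalClosure_le_normal (N := H') ?_
      rintro z (hz | ⟨hzM, hzo⟩)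
      · exact hT' hz
      · obtain ⟨h', hh', hk⟩ := hlift z hzM
        obtain ⟨e, he⟩ := (S.2.to_le (hKQ.trans hQS)) ⟨_, hk⟩
        refine mem_of_pow_mem_of_coprime H' (n := p ^ e) ?_ (Nat.Coprime.pow_left _ hzo.symm)
        rw [← QuotientGroup.eq_one_iff, QuotientGroup.mk_pow]
        have h2 : ((z : G) : G ⧸ H') = ((h'⁻¹ * z : G) : G ⧸ H') := by
          rw [QuotientGroup.mk_mul, QuotientGroup.mk_inv, (QuotientGroup.eq_one_iff h').2 hh']
          simp
        rw [h2, ← QuotientGroup.mk_pow,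
          show (h'⁻¹ * z) ^ p ^ e = 1 from congrArg (fun w : K => (w : G)) he]
        rfl
    have hk : h⁻¹ * x ∈ K := by
      refine ⟨M.mul_mem (M.inv_mem (hHM hh)) (hH'M hx), Subgroup.mem_centralizer_iff.2 fun r hr => ?_⟩
      have h1 : h * r * h⁻¹ = x * r * x⁻¹ :=
        (hρ h ⟨r, hr⟩).symm.trans ((congrArg (fun β : MulAut R => ((β ⟨r, hr⟩ : R) : G)) hhe').trans
          (hρ x ⟨r, hr⟩))
      calc r * (h⁻¹ * x) = h⁻¹ * (h * r * h⁻¹) * x := by group
        _ = h⁻¹ * (x * r * x⁻¹) * x := by rw [h1]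
        _ = h⁻¹ * x * r := by group
    have h2 : h⁻¹ * x ∈ T :=
      hH'S.le ⟨hQS (hKQ hk), H'.mul_mem (H'.inv_mem (hH'H hh)) hx⟩
    simpa using H.mul_mem hh (hTH h2)
  · rintro z (hz | ⟨hzM, hzo⟩)
    · exact hT' hz
    · obtain ⟨h', hh', hk⟩ := hlift z hzM
      obtain ⟨e, he⟩ := (S.2.to_le (hKQ.trans hQS)) ⟨_, hk⟩
      refine mem_of_pow_mem_of_coprime H' (n := p ^ e) ?_ (Nat.Coprime.pow_left _ hzo.symm)
      rw [← QuotientGroup.eq_one_iff, QuotientGroup.mk_pow]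
      have h2 : ((z : G) : G ⧸ H') = ((h'⁻¹ * z : G) : G ⧸ H') := by
        rw [QuotientGroup.mk_mul, QuotientGroup.mk_inv, (QuotientGroup.eq_one_iff h').2 hh']
        simp
      rw [h2, ← QuotientGroup.mk_pow,
        show (h'⁻¹ * z) ^ p ^ e = 1 from congrArg (fun w : K => (w : G)) he]
      rfl

end Cfsg.Agent.Fusion.ConstrainedGroup
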