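import Cfsg.Agent.Lib.Fusion.Alperin
import Cfsg.Agent.Lib.Transfer.Residual

/-!
The focal and hyperfocal subgroups of a fusion system: normality, strong closure of every normal
subgroup of `S` containing the hyperfocal subgroup, and `foc(F) = hyp(F)[S,S]`.
-/

set_option autoImplicit false

namespace Cfsg.Agent.Fusion

open Cfsg Cfsg.FusionSystem

variable {Ω : Type*} [Group Ω] {S : Subgroup Ω} {F : FusionSystem S} {p : ℕ}

theorem inv_mul_apply_mem_focal {P : Subgroup Ω} {φ : P →* Ω} (hφ : φ ∈ F.Hom P) (x : P) :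
    (x : Ω)⁻¹ * φ x ∈ F.focalSubgroup :=
  Subgroup.subset_closure ⟨P, φ, x, hφ, rfl⟩

theorem focalSubgroup_le (F : FusionSystem S) : F.focalSubgroup ≤ S := by
  refine (Subgroup.closure_le _).2 ?_
  rintro _ ⟨P, φ, x, hφ, rfl⟩
  exact S.mul_mem (S.inv_mem (dom_le hφ x.2)) (apply_mem hφ x)

theorem commutator_le_focal (F : FusionSystem S) : ⁅S, S⁆ ≤ F.focalSubgroup := by
  refine Subgroup.commutator_le.2 fun a ha b hb => ?_
  have h := inv_mul_apply_mem_focal (F.conj_mem (le_refl S) hb) ⟨a⁻¹, S.inv_mem ha⟩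
  rw [conjHom_apply] at h
  rw [commutatorElement_def]
  simpa [mul_assoc] using h

theorem inv_mul_apply_mem_hyperfocal {P : Subgroup Ω} (hP : P ≤ S) {α : F.autGroup P}
    (hα : α ∈ pResidual p (F.autGroup P)) (x : P) :
    (x : Ω)⁻¹ * ((α : MulAut P) x : P) ∈ F.hyperfocalSubgroup p :=
  Subgroup.subset_closure ⟨P, α, x, hP, hα, rfl⟩

theorem hyperfocal_le_focal (F : FusionSystem S) (p : ℕ) :
    F.hyperfocalSubgroup p ≤ F.focalSubgroup := by
  refine (Subgroup.closure_le _).2 ?_
  rintro _ ⟨P, α, x, hP, -, rfl⟩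
  exact inv_mul_apply_mem_focal ((mem_autGroup_iff hP).1 α.2) x

theorem hyperfocal_le (F : FusionSystem S) (p : ℕ) : F.hyperfocalSubgroup p ≤ S :=
  (hyperfocal_le_focal F p).trans (focalSubgroup_le F)

/-- The hyperfocal subgroup is normalized by `S`. -/
theorem le_normalizer_hyperfocal (F : FusionSystem S) (p : ℕ) :
    S ≤ Subgroup.normalizer (F.hyperfocalSubgroup p : Set Ω) := by
  suffices h : ∀ g ∈ S, ∀ y ∈ F.hyperfocalSubgroup p, g * y * g⁻¹ ∈ F.hyperfocalSubgroup p by
    intro g hg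
    refine Subgroup.mem_normalizer_iff.2 fun y => ⟨h g hg y, fun hy => ?_⟩
    simpa [mul_assoc] using h g⁻¹ (S.inv_mem hg) _ hy
  intro g hg
  suffices h : F.hyperfocalSubgroup p ≤
      (F.hyperfocalSubgroup p).comap (MulAut.conj g).toMonoidHom from fun y hy => h hy
  refine (Subgroup.closure_le _).2 ?_
  rintro _ ⟨P, α, x, hP, hα, rfl⟩
  show g * ((x : Ω)⁻¹ * ((α : MulAut P) x : P)) * g⁻¹ ∈ F.hyperfocalSubgroup p
  have hφ := F.conj_mem hP hg
  set Q := (conjHom P g).range with hQ
  set e := homEquiv hφ (rfl : (conjHom P g).range = Q)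
  have hle : (pResidual p (F.autGroup P)).map
      (((MulAut.congr e).toMonoidHom.comp (F.autGroup P).subtype).codRestrict (F.autGroup Q)
        fun a => congr_mem_autGroup hφ rfl a.2) ≤ pResidual p (F.autGroup Q) :=
    Transfer.map_residual_le _ p
  have hβ := hle ⟨α, hα, rfl⟩
  have h := inv_mul_apply_mem_hyperfocal (F := F) (range_le hφ) hβ (e x)
  have he : (((MulAut.congr e) (α : MulAut P) (e x) : Q) : Ω) =
      g * ((α : MulAut P) x : P) * g⁻¹ := by
    rw [congr_apply]
    rfl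
  have he' : ((e x : Q) : Ω) = g * (x : Ω) * g⁻¹ := rfl
  rw [he'] at h
  have h2 : (g * (x : Ω) * g⁻¹)⁻¹ * (g * ((α : MulAut P) x : P) * g⁻¹) =
      g * ((x : Ω)⁻¹ * ((α : MulAut P) x : P)) * g⁻¹ := by group
  rw [← h2]
  exact he ▸ h

/-- For `R` fully automized, `Aut_F(R)` is generated by its `p`-residual and `Aut_S(R)`: a subgroup
containing both contains everything. -/
theorem autGroup_le_of_residual [Finite S] [Fact p.Prime] {R : Subgroup Ω}
    (hR : F.IsFullyAutomized p R) {K : Subgroup (MulAut R)}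
    (h1 : (pResidual p (F.autGroup R)).map (F.autGroup R).subtype ≤ K)
    (h2 : autInducedBy S R ≤ K) : F.autGroup R ≤ K := by
  obtain ⟨hRS, T, hT⟩ := hR
  have := finite_autGroup (F := F) hRS
  intro α hα
  have htop : (⟨α, hα⟩ : F.autGroup R) ∈ K.comap (F.autGroup R).subtype := by
    have h3 : (T : Subgroup (F.autGroup R)) ⊔ pResidual p (F.autGroup R) ≤
        K.comap (F.autGroup R).subtype :=
      sup_le (fun a ha => h2 (Subgroup.mem_subgroupOf.1 (hT ▸ ha))) (Subgroup.map_le_iff_le_comap.1 h1)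
    rw [Transfer.sylow_sup_pResidual_eq_top T] at h3
    exact h3 (Subgroup.mem_top _)
  exact htop

/-- A subgroup of `S` normalized by `S` and containing the hyperfocal subgroup is strongly
closed. -/
theorem stronglyClosed_of_hyperfocal_le [Finite S] [Fact p.Prime] (hS : IsPGroup p S)
    (hF : F.IsSaturated p) {T : Subgroup Ω} (hTS : T ≤ S) (hT : F.hyperfocalSubgroup p ≤ T)
    (hn : S ≤ Subgroup.normalizer (T : Set Ω)) : F.StronglyClosed T := by
  refine ⟨hTS, fun R hR φ hφ x => ?_⟩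
  refine ((alperin_induction hS hF (C := fun P φ => ∀ x : P, (x : Ω) ∈ T ↔ φ x ∈ T) ?_ ?_ ?_ ?_
    hφ) x).1 (hR x.2)
  · intro P g _ hg x
    exact Subgroup.mem_normalizer_iff.1 (hn hg) x
  · intro P Q φ ψ _ _ hφ hψ h x
    exact (hφ x).trans (hψ ⟨φ x, h x⟩)
  · intro P φ ψ _ hφ _ hi y
    obtain ⟨_, x, rfl⟩ := y
    exact (hφ x).symm.trans (by rw [hi x])
  · intro R hRn _ _
    let K : Subgroup (MulAut R) :=
      { carrier := {α | ∀ x : R, (x : Ω) ∈ T ↔ ((α x : R) : Ω) ∈ T}
        one_mem' := fun x => Iff.rfl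
        mul_mem' := fun {a b} ha hb x => (hb x).trans (ha (b x))
        inv_mem' := fun {a} ha x => by
          have := ha (a⁻¹ x)
          rw [MulAut.apply_inv_self] at this
          exact this.symm }
    refine autGroup_le_of_residual (K := K) (p := p)
      (isFullyAutomized_of_fullyNormalized hS hF hRn) ?_ ?_
    · rintro _ ⟨α, hα, rfl⟩ x
      have h := hT (inv_mul_apply_mem_hyperfocal hRn.1 hα x)
      constructor
      · intro hx
        simpa using T.mul_mem hx h
      · intro hx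
        simpa using T.mul_mem hx (T.inv_mem h)
    · intro α hα x
      obtain ⟨g, hg, hx⟩ := mem_autInducedBy_iff.1 hα
      rw [hx]
      exact Subgroup.mem_normalizer_iff.1 (hn hg) x

theorem stronglyClosed_hyperfocal [Finite S] [Fact p.Prime] (hS : IsPGroup p S)
    (hF : F.IsSaturated p) : F.StronglyClosed (F.hyperfocalSubgroup p) :=
  stronglyClosed_of_hyperfocal_le hS hF (hyperfocal_le F p) le_rfl (le_normalizer_hyperfocal F p)

theorem le_normalizer_focal (F : FusionSystem S) :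
    S ≤ Subgroup.normalizer (F.focalSubgroup : Set Ω) := by
  suffices h : ∀ g ∈ S, ∀ y ∈ F.focalSubgroup, g * y * g⁻¹ ∈ F.focalSubgroup by
    intro g hg
    refine Subgroup.mem_normalizer_iff.2 fun y => ⟨h g hg y, fun hy => ?_⟩
    simpa [mul_assoc] using h g⁻¹ (S.inv_mem hg) _ hy
  intro g hg y hy
  have h := inv_mul_apply_mem_focal (F.conj_mem (le_refl S) hg) ⟨y, focalSubgroup_le F hy⟩
  rw [conjHom_apply] at h
  simpa [mul_assoc] using F.focalSubgroup.mul_mem hy h

theorem stronglyClosed_focal (F : FusionSystem S) : F.StronglyClosed F.focalSubgroup :=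
  ⟨focalSubgroup_le F, fun R hR φ hφ x => by
    simpa using F.focalSubgroup.mul_mem (hR x.2) (inv_mul_apply_mem_focal hφ x)⟩

/-- `foc(F) = hyp(F)[S,S]`. -/
theorem focal_eq [Finite S] [Fact p.Prime] (hS : IsPGroup p S) (hF : F.IsSaturated p) :
    F.focalSubgroup = F.hyperfocalSubgroup p ⊔ ⁅S, S⁆ := by
  refine le_antisymm ?_ (sup_le (hyperfocal_le_focal F p) (commutator_le_focal F))
  set Y := F.hyperfocalSubgroup p ⊔ ⁅S, S⁆ with hY
  refine (Subgroup.closure_le _).2 ?_
  rintro _ ⟨P, φ, x, hφ, rfl⟩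
  refine alperin_induction hS hF (C := fun P φ => ∀ x : P, (x : Ω)⁻¹ * φ x ∈ Y) ?_ ?_ ?_ ?_ hφ x
  · intro P g hP hg x
    refine Subgroup.mem_sup_right ?_
    have h := Subgroup.commutator_mem_commutator (S.inv_mem (hP x.2)) hg
    rw [commutatorElement_def, inv_inv] at h
    rw [conjHom_apply]
    simpa [mul_assoc] using h
  · intro P Q φ ψ _ _ hφ hψ h x
    have h1 := Y.mul_mem (hφ x) (hψ ⟨φ x, h x⟩)
    show (x : Ω)⁻¹ * ψ ⟨φ x, h x⟩ ∈ Y
    simpa [mul_assoc] using h1
  · intro P φ ψ _ hφ _ hi y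
    obtain ⟨_, x, rfl⟩ := y
    have h1 := Y.inv_mem (hφ x)
    rw [hi x]
    simpa using h1
  · intro R hRn _ _
    let K : Subgroup (MulAut R) :=
      { carrier := {α | ∀ x : R, (x : Ω)⁻¹ * ((α x : R) : Ω) ∈ Y}
        one_mem' := fun x => by simp
        mul_mem' := fun {a b} ha hb x => by
          have := Y.mul_mem (hb x) (ha (b x))
          show (x : Ω)⁻¹ * ((a (b x) : R) : Ω) ∈ Y
          simpa [mul_assoc] using this
        inv_mem' := fun {a} ha x => by
          have := Y.inv_mem (ha (a⁻¹ x))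
          rw [MulAut.apply_inv_self, mul_inv_rev, inv_inv] at this
          exact this }
    refine autGroup_le_of_residual (K := K) (p := p)
      (isFullyAutomized_of_fullyNormalized hS hF hRn) ?_ ?_
    · rintro _ ⟨α, hα, rfl⟩ x
      exact Subgroup.mem_sup_left (inv_mul_apply_mem_hyperfocal hRn.1 hα x)
    · intro α hα x
      obtain ⟨g, hg, hx⟩ := mem_autInducedBy_iff.1 hα
      refine Subgroup.mem_sup_right ?_
      have h := Subgroup.commutator_mem_commutator (S.inv_mem (hRn.1 x.2)) hg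
      rw [commutatorElement_def, inv_inv] at h
      rw [hx]
      simpa [mul_assoc] using h

end Cfsg.Agent.Fusion
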