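import Cfsg.Agent.Lib.Fusion.StrongInduction
import Cfsg.Agent.Lib.Fusion.NormalCriteria
import Cfsg.Agent.Lib.Fusion.Constructions
import Cfsg.Agent.Lib.Fusion.Hyperfocal
import Cfsg.Agent.Lib.Fusion.ConstrainedGroup
import Cfsg.Agent.Lib.SylowCount.Basic

/-!
Invariant subsystems: the Frattini condition from strong invariance, and normality of saturated
subsystems of `p`-power index.
-/

set_option autoImplicit false
set_option linter.unusedSectionVars false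

namespace Cfsg.Agent.Fusion

open Cfsg Cfsg.FusionSystem
open scoped Pointwise

variable {Ω : Type*} [Group Ω] {S T : Subgroup Ω} {F : FusionSystem S} {E : FusionSystem T} {p : ℕ}

/-- The invariance clause: maps of `E` are transported by `Aut_F(T)` to maps of `E`. -/
def Transports (E : FusionSystem T) (F : FusionSystem S) : Prop :=
  ∀ (P : Subgroup Ω) (hPT : P ≤ T) (φ : P →* Ω), φ ∈ E.Hom P → ∀ α ∈ F.autGroup T,
    ∃ χ ∈ E.Hom ((P.subgroupOf T).map (T.subtype.comp α.toMonoidHom)),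
      ∀ (x : P) (hφx : φ x ∈ T)
        (hαx : ((α ⟨x, hPT x.2⟩ : T) : Ω) ∈ (P.subgroupOf T).map (T.subtype.comp α.toMonoidHom)),
        χ ⟨(α ⟨x, hPT x.2⟩ : T), hαx⟩ = ((α ⟨φ x, hφx⟩ : T) : Ω)

/-- The Frattini condition for a map, on all subgroups of its source lying in `T`. -/
def FrattiniOn (E : FusionSystem T) (F : FusionSystem S) (P : Subgroup Ω) (φ : P →* Ω) : Prop :=
  ∀ (Q : Subgroup Ω) (hQP : Q ≤ P), Q ≤ T →
    ∃ α ∈ F.autGroup T, ∃ φ₀ ∈ E.Hom Q, ∀ (x : Q) (hx : φ₀ x ∈ T),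
      φ (Subgroup.inclusion hQP x) = ((α ⟨φ₀ x, hx⟩ : T) : Ω)

theorem map_aut_le {α : MulAut T} (Q : Subgroup Ω) :
    (Q.subgroupOf T).map (T.subtype.comp α.toMonoidHom) ≤ T := by
  rintro _ ⟨x, -, rfl⟩
  exact (α x).2

/-- Transport of a map along `α`, evaluated at any element. -/
theorem Transports.exists_map (h : Transports E F) {P : Subgroup Ω} {φ : P →* Ω}
    (hφ : φ ∈ E.Hom P) {α : MulAut T} (hα : α ∈ F.autGroup T) {P' : Subgroup Ω}
    (hP' : ∀ (y : Ω) (hy : y ∈ P'), ∃ x : P, ((α ⟨x, dom_le hφ x.2⟩ : T) : Ω) = y) :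
    ∃ χ ∈ E.Hom P', ∀ (x : P) (hx : φ x ∈ T) (hy : ((α ⟨x, dom_le hφ x.2⟩ : T) : Ω) ∈ P'),
      χ ⟨(α ⟨x, dom_le hφ x.2⟩ : T), hy⟩ = ((α ⟨φ x, hx⟩ : T) : Ω) := by
  obtain ⟨χ, hχ, he⟩ := h P (dom_le hφ) φ hφ α hα
  have hle : P' ≤ (P.subgroupOf T).map (T.subtype.comp α.toMonoidHom) := fun y hy => by
    obtain ⟨x, hx⟩ := hP' y hy
    exact ⟨⟨x, dom_le hφ x.2⟩, x.2, hx⟩
  exact ⟨χ.comp (Subgroup.inclusion hle), restrict_mem hχ hle,
    fun x hx hy => he x hx ⟨⟨x, dom_le hφ x.2⟩, x.2, rfl⟩⟩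

theorem frattiniOn_conj [Finite S] (hT : F.StronglyClosed T) (P : Subgroup Ω) {g : Ω}
    (hg : g ∈ S) : FrattiniOn E F P (conjHom P g) := by
  intro Q hQP hQT
  have hgN := le_normalizer_of_stronglyClosed hT hg
  exact ⟨conjAut hgN, autInducedBy_le_autGroup F hT.1 (conjAut_mem_autInducedBy hg hgN),
    Q.subtype, subtype_mem E hQT, fun x hx => rfl⟩

theorem frattiniOn_comp (hT : F.StronglyClosed T) (htr : Transports E F) {P P' : Subgroup Ω}
    {φ : P →* Ω} {χ : P' →* Ω} (hφ : φ ∈ F.Hom P) (hφC : FrattiniOn E F P φ)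
    (hχC : FrattiniOn E F P' χ) (h : ∀ x : P, φ x ∈ P') :
    FrattiniOn E F P (χ.comp (φ.codRestrict P' h)) := by
  intro Q hQP hQT
  obtain ⟨α, hα, φ₀, hφ₀, he⟩ := hφC Q hQP hQT
  set R₀ := (φ.comp (Subgroup.inclusion hQP)).range with hR₀
  have hR₀T : R₀ ≤ T := by
    rintro _ ⟨x, rfl⟩
    exact hT.2 Q hQT _ (restrict_mem hφ hQP) x
  have hR₀P : R₀ ≤ P' := by
    rintro _ ⟨x, rfl⟩
    exact h _
  obtain ⟨β, hβ, χ₀, hχ₀, he'⟩ := hχC R₀ hR₀P hR₀T
  have hmem : ∀ x : Q, φ₀ x ∈ φ₀.range := fun x => ⟨x, rfl⟩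
  obtain ⟨γ, hγ, hγe⟩ := htr.exists_map hχ₀ (inv_mem hα) (P' := φ₀.range) (by
    rintro _ ⟨x, rfl⟩
    have hx := apply_mem hφ₀ x
    refine ⟨⟨φ (Subgroup.inclusion hQP x), x, rfl⟩, ?_⟩
    rw [show (⟨φ (Subgroup.inclusion hQP x), _⟩ : T) = α ⟨φ₀ x, hx⟩ from Subtype.ext (he x hx),
      MulAut.inv_apply_self])
  refine ⟨β * α, mul_mem hβ hα, _, E.comp_mem hφ₀ hγ hmem, fun x hx => ?_⟩
  have hx₀ := apply_mem hφ₀ x
  set z : R₀ := ⟨φ (Subgroup.inclusion hQP x), x, rfl⟩ with hz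
  have hzT := apply_mem hχ₀ z
  have e : φ₀ x = ((α⁻¹ ⟨z, dom_le hχ₀ z.2⟩ : T) : Ω) := by
    rw [show (⟨(z : Ω), dom_le hχ₀ z.2⟩ : T) = α ⟨φ₀ x, hx₀⟩ from Subtype.ext (he x hx₀),
      MulAut.inv_apply_self]
  have h1 : γ ⟨φ₀ x, hmem x⟩ = ((α⁻¹ ⟨χ₀ z, hzT⟩ : T) : Ω) := by
    refine Eq.trans (congrArg γ (Subtype.ext e)) (hγe z hzT ?_)
    rw [← e]
    exact hmem x
  show χ ⟨φ (Subgroup.inclusion hQP x), h _⟩ = ((β (α ⟨_, hx⟩) : T) : Ω)
  rw [show (⟨γ.comp (φ₀.codRestrict _ hmem) x, hx⟩ : T) = α⁻¹ ⟨χ₀ z, hzT⟩ from Subtype.ext h1,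
    MulAut.apply_inv_self]
  exact he' z hzT

theorem frattiniOn_inv [Finite S] (hT : F.StronglyClosed T) (htr : Transports E F)
    {P : Subgroup Ω} {φ : P →* Ω} {χ : φ.range →* Ω} (hφC : FrattiniOn E F P φ)
    (hχ : χ ∈ F.Hom φ.range) (hi : ∀ x : P, χ ⟨φ x, ⟨x, rfl⟩⟩ = (x : Ω)) :
    FrattiniOn E F φ.range χ := by
  intro Q hQP hQT
  set Q₀ := (χ.comp (Subgroup.inclusion hQP)).range with hQ₀
  have hQ₀T : Q₀ ≤ T := by
    rintro _ ⟨x, rfl⟩
    exact hT.2 Q hQT _ (restrict_mem hχ hQP) x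
  have hQ₀P : Q₀ ≤ P := by
    rintro _ ⟨⟨y, hy⟩, rfl⟩
    obtain ⟨x, hx⟩ := hQP hy
    show χ ⟨y, _⟩ ∈ P
    rw [show (⟨y, hQP hy⟩ : φ.range) = ⟨φ x, x, rfl⟩ from Subtype.ext hx.symm, hi]
    exact x.2
  obtain ⟨α, hα, φ₀, hφ₀, he⟩ := hφC Q₀ hQ₀P hQ₀T
  have hback : ∀ y : Q, φ (Subgroup.inclusion hQ₀P ⟨_, y, rfl⟩) = (y : Ω) := by
    rintro ⟨y, hy⟩
    obtain ⟨x, hx⟩ := hQP hy
    refine Eq.trans (congrArg φ (Subtype.ext ?_)) hx
    show χ ⟨y, _⟩ = x
    rw [show (⟨y, hQP hy⟩ : φ.range) = ⟨φ x, x, rfl⟩ from Subtype.ext hx.symm, hi]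
  obtain ⟨η, hη, -, hηi, -⟩ := exists_inverse hφ₀ rfl
  obtain ⟨γ, hγ, hγe⟩ := htr.exists_map hη hα (P' := Q) (by
    intro y hy
    refine ⟨⟨φ₀ ⟨_, ⟨y, hy⟩, rfl⟩, _, rfl⟩, ?_⟩
    rw [← he]
    exact hback ⟨y, hy⟩)
  refine ⟨α⁻¹, inv_mem hα, γ, hγ, fun y hy => ?_⟩
  set z : Q₀ := ⟨_, y, rfl⟩ with hz
  have hzT := apply_mem hφ₀ z
  have h1 : (y : Ω) = ((α ⟨φ₀ z, hzT⟩ : T) : Ω) := (hback y).symm.trans (he z hzT)
  have hzv := hηi z ⟨z, rfl⟩
  have hzv' : η ⟨φ₀ z, z, rfl⟩ ∈ T := by rw [hzv]; exact hQ₀T z.2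
  have h2 : γ y = ((α ⟨η ⟨φ₀ z, z, rfl⟩, hzv'⟩ : T) : Ω) := by
    refine Eq.trans (congrArg γ (Subtype.ext h1)) (hγe ⟨φ₀ z, z, rfl⟩ hzv' ?_)
    rw [← h1]
    exact y.2
  rw [show (⟨γ y, hy⟩ : T) = α ⟨η ⟨φ₀ z, z, rfl⟩, hzv'⟩ from Subtype.ext h2,
    MulAut.inv_apply_self]
  exact hzv.symm

/-- The Frattini condition follows from its validity at fully normalized centric radical subgroups,
where it may be assumed for maps with larger sources. -/
theorem frattiniOn_of_step [Finite S] [Fact p.Prime] (hS : IsPGroup p S) (hF : F.IsSaturated p)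
    (hT : F.StronglyClosed T) (htr : Transports E F)
    (hstep : ∀ R : Subgroup Ω, F.IsFullyNormalized R → F.IsCentric R → F.IsRadical p R →
      (∀ Q : Subgroup Ω, Nat.card R < Nat.card Q → ∀ ψ ∈ F.Hom Q, FrattiniOn E F Q ψ) →
      ∀ α ∈ F.autGroup R, FrattiniOn E F R (R.subtype.comp α.toMonoidHom))
    {P : Subgroup Ω} {φ : P →* Ω} (hφ : φ ∈ F.Hom P) : FrattiniOn E F P φ :=
  alperin_strong_induction (C := FrattiniOn E F) hS hF
    (fun P _ _ hg => frattiniOn_conj hT P hg)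
    (fun _ _ _ _ hφ _ hφC hχC h => frattiniOn_comp hT htr hφ hφC hχC h)
    (fun _ _ _ _ hφC hχ hi => frattiniOn_inv hT htr hφC hχ hi) hstep hφ

theorem isInvariantIn_of_frattiniOn (hEF : E.IsSubsystemOf F) (hT : F.StronglyClosed T)
    (htr : Transports E F) (h : ∀ (P : Subgroup Ω) (φ : P →* Ω), φ ∈ F.Hom P → FrattiniOn E F P φ) :
    E.IsInvariantIn F :=
  ⟨hEF, hT, htr, fun P hP φ hφ => h P φ hφ P le_rfl hP⟩

/-- Frattini's argument at a fully normalized `R`: an automorphism is, up to an element of a normal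
`K` containing the automorphisms induced by `N_T(R)`, one extending to `R N_T(R)`, which is larger
than `R` unless `T ≤ R`. -/
theorem exists_frattini_extension [Finite S] [Fact p.Prime] (hS : IsPGroup p S)
    (hF : F.IsSaturated p) (hTS : T ≤ S) (hTn : S ≤ Subgroup.normalizer (T : Set Ω))
    {R : Subgroup Ω} (hRn : F.IsFullyNormalized R) (hTR : ¬ T ≤ R)
    (K : Subgroup (F.autGroup R)) [K.Normal]
    (hK : ∀ g ∈ T, g ∈ Subgroup.normalizer (R : Set Ω) → ∀ a : F.autGroup R,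
      (∀ x : R, (((a : MulAut R) x : R) : Ω) = g * x * g⁻¹) → a ∈ K)
    (α : F.autGroup R) :
    ∃ m : F.autGroup R, ∃ k ∈ K, α = m * k ∧ ∃ (R' : Subgroup Ω) (hRR' : R ≤ R'),
      Nat.card R < Nat.card R' ∧ ∃ χ ∈ F.Hom R',
        ∀ x : R, χ (Subgroup.inclusion hRR' x) = (((m : MulAut R) x : R) : Ω) := by
  have hRS := hRn.1
  have := finite_mulAut (Ω := Ω) hRS
  obtain ⟨-, Y, hY⟩ := isFullyAutomized_of_fullyNormalized hS hF hRn
  obtain ⟨Y', hY'⟩ := Cfsg.Agent.SylowCount.exists_sylow_inf Y K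
  have hfr := Sylow.normalizer_sup_eq_top Y'
  rw [hY', Subgroup.subgroupOf_map_subtype] at hfr
  obtain ⟨m, hm, k, hk, hmk⟩ := Subgroup.mem_sup_of_normal_right.1 (hfr ▸ Subgroup.mem_top α)
  refine ⟨m, k, hk, hmk.symm, ?_⟩
  set R' := R ⊔ (normalizerIn S R ⊓ T) with hR'def
  obtain ⟨hmφ, hmr⟩ := hom_of_mem_autGroup hRS m.2
  have hext : R' ≤ extender S R (R.subtype.comp (m : MulAut R).toMonoidHom) := by
    refine sup_le (le_extender hRS fun x => apply_mem hmφ x) fun g hg => ?_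
    obtain ⟨⟨hgS, hgN⟩, hgT⟩ := hg
    have hc₁ := autInducedBy_le_autGroup F hRS (conjAut_mem_autInducedBy hgS hgN)
    have hcK : (⟨conjAut hgN, hc₁⟩ : F.autGroup R) ∈ (Y : Subgroup (F.autGroup R)) ⊓ K := by
      refine ⟨?_, hK g hgT hgN _ fun x => rfl⟩
      rw [hY]
      exact conjAut_mem_autInducedBy hgS hgN
    have h2 := ((Subgroup.mem_normalizer_iff.1 hm _).1 hcK).1
    rw [hY] at h2
    obtain ⟨h, hhS, hh⟩ := mem_autInducedBy_iff.1 (Subgroup.mem_subgroupOf.1 h2)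
    refine mem_extender_iff.2 ⟨hgS, hgN, h, hhS, fun x hx => ?_⟩
    have h3 := hh ((m : MulAut R) x)
    rw [show ((m * ⟨conjAut hgN, hc₁⟩ * m⁻¹ : F.autGroup R) : MulAut R) ((m : MulAut R) x) =
      (m : MulAut R) (conjAut hgN ((m : MulAut R)⁻¹ ((m : MulAut R) x))) from rfl,
      MulAut.inv_apply_self] at h3
    exact h3
  obtain ⟨χ, hχ, hχe⟩ := exists_extension (isReceptive_of_fullyNormalized hS hF hRn) hmφ hmr hext
  refine ⟨R', le_sup_left, card_lt_of_lt (dom_le hχ) (lt_of_le_of_ne le_sup_left fun he => ?_),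
    χ, hχ, fun x => hχe x x.2 _⟩
  have hsup : R ⊔ T ≤ S := sup_le hRS hTS
  have hlt : R < R ⊔ T :=
    lt_of_le_of_ne le_sup_left fun he' => hTR (le_sup_right.trans he'.ge)
  have := finite_of_le (Ω := Ω) hsup
  obtain ⟨g, ⟨hgm, hgN⟩, hgR⟩ := SetLike.exists_of_lt (lt_normalizerIn (hS.to_le hsup) hlt)
  have hgm' : g ∈ ((R ⊔ T : Subgroup Ω) : Set Ω) := hgm
  rw [Subgroup.coe_mul_of_left_le_normalizer_right R T (hRS.trans hTn)] at hgm'
  obtain ⟨x, hx, q, hq, rfl⟩ := hgm'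
  have hqN : q ∈ Subgroup.normalizer (R : Set Ω) := by
    have h1 := Subgroup.mul_mem _ (Subgroup.inv_mem _ (Subgroup.le_normalizer hx)) hgN
    simpa using h1
  exact hgR (R.mul_mem hx (he.ge (Subgroup.mem_sup_right ⟨⟨hTS hq, hqN⟩, hq⟩)))

/-! ### Strong invariance -/

/-- The strong invariance condition. -/
def StronglyInvariant (E : FusionSystem T) (F : FusionSystem S) : Prop :=
  ∀ (P Q : Subgroup Ω) (hPQ : P ≤ Q) (_ : Q ≤ T) (φ : P →* Ω) (_ : φ ∈ E.Hom P)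
    (hφQ : ∀ x : P, φ x ∈ Q) (ψ : Q →* Ω) (_ : ψ ∈ F.Hom Q),
    ∃ χ ∈ E.Hom ((P.subgroupOf Q).map ψ),
      ∀ (x : P) (hx : ψ (Subgroup.inclusion hPQ x) ∈ (P.subgroupOf Q).map ψ),
        χ ⟨ψ (Subgroup.inclusion hPQ x), hx⟩ = ψ ⟨φ x, hφQ x⟩

theorem stronglyInvariant_of_invariant (hE : E.IsInvariantIn F) : StronglyInvariant E F := by
  obtain ⟨-, -, htr, hfr⟩ := hE
  intro P Q hPQ hQT φ hφ hφQ ψ hψ
  obtain ⟨α, hα, ψ₀, hψ₀, he⟩ := hfr Q hQT ψ hψ
  set P₀ := (ψ₀.comp (Subgroup.inclusion hPQ)).range with hP₀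
  obtain ⟨η, hη, hηr, hηi, -⟩ := exists_inverse (restrict_mem hψ₀ hPQ) hP₀.symm
  have hηP : ∀ z, η z ∈ P := fun z => hηr.le ⟨z, rfl⟩
  have hφ₀ := E.comp_mem (E.comp_mem hη hφ hηP) hψ₀ (fun z => hφQ _)
  obtain ⟨χ, hχ, hχe⟩ := Transports.exists_map (F := F) htr hφ₀ hα
    (P' := (P.subgroupOf Q).map ψ) (by
      rintro _ ⟨x, hx, rfl⟩
      exact ⟨⟨_, ⟨x, hx⟩, rfl⟩, (he x (apply_mem hψ₀ x)).symm⟩)
  refine ⟨χ, hχ, fun x hx => ?_⟩
  have hxT := apply_mem hψ₀ (Subgroup.inclusion hPQ x)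
  set z : P₀ := ⟨_, x, rfl⟩ with hz
  have e : ψ (Subgroup.inclusion hPQ x) = ((α ⟨z, dom_le hφ₀ z.2⟩ : T) : Ω) := he _ hxT
  refine (Eq.trans ?_ (hχe z (apply_mem hφ₀ z) (e ▸ hx))).trans ?_
  · exact congrArg χ (Subtype.ext e)
  rw [he _ (apply_mem hψ₀ ⟨φ x, hφQ x⟩)]
  refine congrArg (fun t : T => ((α t : T) : Ω)) (Subtype.ext ?_)
  show ψ₀ ⟨φ ⟨η z, hηP z⟩, _⟩ = ψ₀ ⟨φ x, hφQ x⟩
  exact congrArg ψ₀ (Subtype.ext (congrArg φ (Subtype.ext (hηi x z.2))))

theorem transports_of_stronglyInvariant (hT : F.StronglyClosed T) (h : StronglyInvariant E F) :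
    Transports E F := by
  intro P hPT φ hφ α hα
  obtain ⟨χ, hχ, he⟩ := h P T hPT le_rfl φ hφ (fun x => apply_mem hφ x) _
    ((mem_autGroup_iff hT.1).1 hα)
  exact ⟨χ, hχ, fun x hx hy => he x hy⟩

/-- The elements of `Aut_F(R)` inducing on `R ⊓ T` an automorphism belonging to `E`. -/
def traceKernel (E : FusionSystem T) (F : FusionSystem S) (R : Subgroup Ω) :
    Subgroup (F.autGroup R) where
  carrier := {a | ∃ β ∈ E.autGroup (R ⊓ T), ∀ x : ↥(R ⊓ T),
    (((a : MulAut R) ⟨x, x.2.1⟩ : R) : Ω) = ((β x : ↥(R ⊓ T)) : Ω)}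
  one_mem' := ⟨1, one_mem _, fun _ => rfl⟩
  mul_mem' := by
    rintro a b ⟨β, hβ, hb⟩ ⟨γ, hγ, hg⟩
    refine ⟨β * γ, mul_mem hβ hγ, fun x => ?_⟩
    show (((a : MulAut R) ((b : MulAut R) ⟨x, x.2.1⟩) : R) : Ω) = _
    rw [show (b : MulAut R) ⟨x, x.2.1⟩ = ⟨γ x, (γ x).2.1⟩ from Subtype.ext (hg x), hb]
    rfl
  inv_mem' := by
    rintro a ⟨β, hβ, hb⟩
    refine ⟨β⁻¹, inv_mem hβ, fun x => ?_⟩
    have h1 : (a : MulAut R) ⟨(β⁻¹ x : ↥(R ⊓ T)), (β⁻¹ x).2.1⟩ = ⟨x, x.2.1⟩ := Subtype.ext (by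
      rw [hb, MulAut.apply_inv_self])
    show (((a : MulAut R)⁻¹ ⟨x, x.2.1⟩ : R) : Ω) = _
    rw [← h1, MulAut.inv_apply_self]

theorem mem_traceKernel {R : Subgroup Ω} {a : F.autGroup R} :
    a ∈ traceKernel E F R ↔ ∃ β ∈ E.autGroup (R ⊓ T), ∀ x : ↥(R ⊓ T),
      (((a : MulAut R) ⟨x, x.2.1⟩ : R) : Ω) = ((β x : ↥(R ⊓ T)) : Ω) := Iff.rfl

theorem traceKernel_normal [Finite S] (hT : F.StronglyClosed T) (h : StronglyInvariant E F)
    {R : Subgroup Ω} (hR : R ≤ S) : (traceKernel E F R).Normal := by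
  refine ⟨fun k hk a => ?_⟩
  obtain ⟨β, hβ, hb⟩ := mem_traceKernel.1 hk
  have hR₀T : R ⊓ T ≤ T := inf_le_right
  have := finite_of_le (Ω := Ω) hT.1
  set ψ := (R.subtype.comp (a : MulAut R).toMonoidHom).comp
    (Subgroup.inclusion (inf_le_left : R ⊓ T ≤ R)) with hψdef
  have hψ : ψ ∈ F.Hom (R ⊓ T) := restrict_mem ((mem_autGroup_iff hR).1 a.2) _
  have hψmem : ∀ x, ψ x ∈ R ⊓ T := fun x =>
    ⟨((a : MulAut R) _).2, apply_mem_of_stronglyClosed hT hR a.2 x.2.2⟩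
  have := finite_of_le (Ω := Ω) (inf_le_left.trans hR : R ⊓ T ≤ S)
  have hψr : ψ.range = R ⊓ T := range_eq_of_le hψ (inf_le_left.trans hR) hψmem le_rfl
  obtain ⟨χ, hχ, he⟩ := h (R ⊓ T) (R ⊓ T) le_rfl hR₀T _ ((mem_autGroup_iff hR₀T).1 hβ)
    (fun x => (β x).2) ψ hψ
  have himg : ((R ⊓ T).subgroupOf (R ⊓ T)).map ψ = R ⊓ T := by
    rw [Subgroup.subgroupOf_self, ← MonoidHom.range_eq_map, hψr]
  set χ' := χ.comp (Subgroup.inclusion himg.ge) with hχ'def
  have hχ' : χ' ∈ E.Hom (R ⊓ T) := restrict_mem hχ _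
  have hval : ∀ (x : ↥(R ⊓ T)) (y : ↥(R ⊓ T)), (y : Ω) = ψ x →
      χ' y = ψ ⟨(β x : ↥(R ⊓ T)), (β x).2⟩ := by
    intro x y hy
    have h2 : ψ (Subgroup.inclusion le_rfl x) ∈ ((R ⊓ T).subgroupOf (R ⊓ T)).map ψ :=
      ⟨x, x.2, rfl⟩
    exact (congrArg χ (Subtype.ext hy)).trans (he x h2)
  have hχ'mem : ∀ y, χ' y ∈ R ⊓ T := fun y => by
    obtain ⟨x, hx⟩ := hψr.ge y.2
    rw [hval x y hx.symm]
    exact hψmem _
  have hχ'r : χ'.range = R ⊓ T := range_eq_of_le (F := E) hχ' hR₀T hχ'mem le_rfl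
  refine mem_traceKernel.2 ⟨toAut hχ' hχ'r, toAut_mem hχ' hχ'r, fun y => ?_⟩
  obtain ⟨x, hx⟩ := hψr.ge y.2
  rw [coe_toAut, hval x y hx.symm,
    show (⟨y, y.2.1⟩ : R) = (a : MulAut R) ⟨x, x.2.1⟩ from Subtype.ext hx.symm]
  show (((a : MulAut R) ((k : MulAut R) ((a : MulAut R)⁻¹ ((a : MulAut R) _))) : R) : Ω) = _
  rw [MulAut.inv_apply_self]
  exact congrArg (fun r : R => (((a : MulAut R) r : R) : Ω)) (Subtype.ext (hb x))

/-- Strong invariance implies invariance. -/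
theorem isInvariantIn_of_stronglyInvariant [Finite S] [Fact p.Prime] (hS : IsPGroup p S)
    (hF : F.IsSaturated p) (hEF : E.IsSubsystemOf F) (hT : F.StronglyClosed T)
    (h : StronglyInvariant E F) : E.IsInvariantIn F := by
  have htr := transports_of_stronglyInvariant hT h
  refine isInvariantIn_of_frattiniOn hEF hT htr fun P φ hφ =>
    frattiniOn_of_step hS hF hT htr ?_ hφ
  intro R hRn _ _ hbig α hα Q hQR hQT
  by_cases hTR : T ≤ R
  · obtain ⟨hαφ, -⟩ := hom_of_mem_autGroup hRn.1 hα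
    have h1 := restrict_mem hαφ hTR
    have hr : ((R.subtype.comp α.toMonoidHom).comp (Subgroup.inclusion hTR)).range = T :=
      range_eq_of_le h1 hT.1 (fun x => hT.2 T le_rfl _ h1 x) le_rfl
    exact ⟨toAut h1 hr, toAut_mem h1 hr, Q.subtype, subtype_mem E hQT, fun x hx => rfl⟩
  have := traceKernel_normal hT h hRn.1
  obtain ⟨m, k, hk, hmk, R', hRR', hlt, χ, hχ, hχe⟩ := exists_frattini_extension hS hF hT.1
    (le_normalizer_of_stronglyClosed hT) hRn hTR (traceKernel E F R) (fun g hgT hgN a ha => by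
      have hg₀ : g ∈ Subgroup.normalizer ((R ⊓ T : Subgroup Ω) : Set Ω) := by
        rw [Subgroup.mem_normalizer_iff]
        intro y
        exact ⟨fun hy => ⟨(Subgroup.mem_normalizer_iff.1 hgN y).1 hy.1,
          (Subgroup.mem_normalizer_iff.1 (Subgroup.le_normalizer hgT) y).1 hy.2⟩,
          fun hy => ⟨(Subgroup.mem_normalizer_iff.1 hgN y).2 hy.1,
          (Subgroup.mem_normalizer_iff.1 (Subgroup.le_normalizer hgT) y).2 hy.2⟩⟩
      exact mem_traceKernel.2 ⟨conjAut hg₀,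
        autInducedBy_le_autGroup E inf_le_right (conjAut_mem_autInducedBy hgT hg₀),
        fun x => ha _⟩) ⟨α, hα⟩
  obtain ⟨β, hβ, hkβ⟩ := mem_traceKernel.1 hk
  have hQ₀ : Q ≤ R ⊓ T := le_inf hQR hQT
  have hkQ := restrict_mem ((mem_autGroup_iff (inf_le_right : R ⊓ T ≤ T)).1 hβ) hQ₀
  set k₀ := ((R ⊓ T).subtype.comp β.toMonoidHom).comp (Subgroup.inclusion hQ₀) with hk₀
  have hk₀R' : k₀.range ≤ R' := by
    rintro _ ⟨x, rfl⟩
    exact hRR' (β _).2.1
  obtain ⟨δ, hδ, φ₀, hφ₀, he⟩ := hbig R' hlt χ hχ k₀.range hk₀R' (range_le hkQ)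
  refine ⟨δ, hδ, _, E.comp_mem hkQ hφ₀ (fun x => ⟨x, rfl⟩), fun x hx => ?_⟩
  have h1 := he ⟨k₀ x, x, rfl⟩ hx
  refine Eq.trans ?_ h1
  have h2 := hχe ⟨k₀ x, (β _).2.1⟩
  refine Eq.trans ?_ (h2.symm.trans (congrArg χ (Subtype.ext rfl)))
  show ((α (Subgroup.inclusion hQR x) : R) : Ω) = _
  rw [show α = (m : MulAut R) * (k : MulAut R) from congrArg Subtype.val hmk, MulAut.mul_apply]
  exact congrArg (fun r : R => (((m : MulAut R) r : R) : Ω))
    (Subtype.ext (hkβ (Subgroup.inclusion hQ₀ x)))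

/-! ### Subsystems of `p`-power index -/

/-- Conjugation by a map `θ` carries `p'`-elements into the residual. -/
theorem congr_mem_residual {P Q : Subgroup Ω} {φ : P →* Ω} (hφ : φ ∈ F.Hom P)
    (hQ : φ.range = Q) {a : MulAut P} (ha : a ∈ F.autGroup P) (ho : (orderOf a).Coprime p) :
    ∃ b : F.autGroup Q, b ∈ pResidual p (F.autGroup Q) ∧
      (b : MulAut Q) = MulAut.congr (homEquiv hφ hQ) a := by
  refine ⟨⟨_, congr_mem_autGroup hφ hQ ha⟩, Subgroup.subset_closure ?_, rfl⟩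
  show (orderOf (⟨_, congr_mem_autGroup hφ hQ ha⟩ : F.autGroup Q)).Coprime p
  rw [← Subgroup.orderOf_coe]
  show (orderOf (MulAut.congr (homEquiv hφ hQ) a)).Coprime p
  rwa [MulEquiv.orderOf_eq]

theorem transports_of_pPowerIndex [Finite S] [Fact p.Prime] (hS : IsPGroup p S)
    (hT : F.StronglyClosed T) (hEs : E.IsSaturated p) (hEi : E.HasPPowerIndexIn F p) :
    Transports E F := by
  obtain ⟨hEF, -, hres⟩ := hEi
  have := finite_of_le (Ω := Ω) hT.1
  intro P hPT φ hφ α hα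
  have hαφ := (mem_autGroup_iff hT.1).1 hα
  let C : ∀ Q : Subgroup Ω, (Q →* Ω) → Prop := fun Q ψ =>
    ∃ (hQT : Q ≤ T), ∃ χ ∈ E.Hom ((Q.subgroupOf T).map (T.subtype.comp α.toMonoidHom)),
      ∀ (x : Q) (hψx : ψ x ∈ T)
        (hαx : ((α ⟨x, hQT x.2⟩ : T) : Ω) ∈ (Q.subgroupOf T).map (T.subtype.comp α.toMonoidHom)),
        χ ⟨(α ⟨x, hQT x.2⟩ : T), hαx⟩ = ((α ⟨ψ x, hψx⟩ : T) : Ω)
  obtain ⟨_, hfinal⟩ : C P φ := by
    refine alperin_induction (F := E) (hS.to_le hT.1) hEs (C := C) ?_ ?_ ?_ ?_ hφ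
    · intro Q g hQ hg
      refine ⟨hQ, conjHom _ ((α ⟨g, hg⟩ : T) : Ω), E.conj_mem (map_aut_le Q) (α _).2,
        fun x hx hy => ?_⟩
      show ((α ⟨g, hg⟩ : T) : Ω) * ((α ⟨x, hQ x.2⟩ : T) : Ω) * ((α ⟨g, hg⟩ : T) : Ω)⁻¹ = _
      rw [← Subgroup.coe_inv, ← map_inv, ← Subgroup.coe_mul, ← Subgroup.coe_mul, ← map_mul,
        ← map_mul]
      rfl
    · rintro Q Q' ψ ψ' hψ hψ' ⟨hQ, χ, hχ, he⟩ ⟨hQ', χ', hχ', he'⟩ h
      have hmem : ∀ y, χ y ∈ (Q'.subgroupOf T).map (T.subtype.comp α.toMonoidHom) := by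
        rintro ⟨_, z, hz, rfl⟩
        have h1 := he ⟨z, hz⟩ (apply_mem hψ _) ⟨z, hz, rfl⟩
        exact h1 ▸ ⟨⟨ψ ⟨z, hz⟩, apply_mem hψ _⟩, h _, rfl⟩
      refine ⟨hQ, _, E.comp_mem hχ hχ' hmem, fun x hx hy => ?_⟩
      show χ' ⟨χ _, _⟩ = _
      refine Eq.trans ?_ (he' ⟨ψ x, h x⟩ hx ⟨⟨ψ x, apply_mem hψ x⟩, h x, rfl⟩)
      exact congrArg χ' (Subtype.ext (he x (apply_mem hψ x) hy))
    · rintro Q ψ η hψ ⟨hQ, χ, hχ, he⟩ hη hi
      have hr : χ.range = (ψ.range.subgroupOf T).map (T.subtype.comp α.toMonoidHom) := by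
        ext y
        constructor
        · rintro ⟨⟨_, z, hz, rfl⟩, rfl⟩
          have h1 := he ⟨z, hz⟩ (apply_mem hψ _) ⟨z, hz, rfl⟩
          exact h1 ▸ ⟨⟨ψ ⟨z, hz⟩, apply_mem hψ _⟩, ⟨_, rfl⟩, rfl⟩
        · rintro ⟨⟨z, hzT⟩, ⟨x, rfl⟩, rfl⟩
          exact ⟨⟨_, ⟨x, hQ x.2⟩, x.2, rfl⟩, he x hzT ⟨_, x.2, rfl⟩⟩
      obtain ⟨ρ, hρ, -, hρi, -⟩ := exists_inverse hχ hr
      refine ⟨range_le hψ, ρ, hρ, ?_⟩
      rintro ⟨_, x, rfl⟩ hx hy
      have h1 := he x (apply_mem hψ x) ⟨⟨x, hQ x.2⟩, x.2, rfl⟩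
      have h2 := hρi ⟨_, ⟨x, hQ x.2⟩, x.2, rfl⟩ (h1 ▸ hy)
      refine Eq.trans (congrArg ρ (Subtype.ext h1.symm)) (h2.trans ?_)
      exact congrArg (fun t : T => ((α t : T) : Ω)) (Subtype.ext (hi x).symm)
    · intro R hRn _ _
      have hRT := hRn.1
      set R' := (R.subgroupOf T).map (T.subtype.comp α.toMonoidHom) with hR'
      have hR'T : R' ≤ T := map_aut_le R
      obtain ⟨θ, hθ, hθe⟩ : ∃ θ ∈ F.Hom R, ∀ x : R, θ x = ((α ⟨x, hRT x.2⟩ : T) : Ω) :=
        ⟨_, restrict_mem hαφ hRT, fun x => rfl⟩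
      have hθr : θ.range = R' := by
        ext y
        constructor
        · rintro ⟨x, rfl⟩
          exact ⟨⟨x, hRT x.2⟩, x.2, (hθe x).symm⟩
        · rintro ⟨z, hz, rfl⟩
          exact ⟨⟨z, hz⟩, hθe _⟩
      set e := homEquiv hθ hθr with hedef
      let K : Subgroup (MulAut R) := (E.autGroup R').comap (MulAut.congr e).toMonoidHom
      have hK : E.autGroup R ≤ K := by
        refine autGroup_le_of_residual (isFullyAutomized_of_fullyNormalized (hS.to_le hT.1) hEs hRn)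
          ?_ ?_
        · rw [Subgroup.map_le_iff_le_comap]
          refine (Subgroup.closure_le _).2 fun a ha => ?_
          obtain ⟨b, hb, hbe⟩ := congr_mem_residual hθ hθr
            (autGroup_le_of_subsystem hEF hRT a.2)
            (show (orderOf (a : MulAut R)).Coprime p by rw [Subgroup.orderOf_coe]; exact ha)
          show MulAut.congr e (a : MulAut R) ∈ E.autGroup R'
          rw [← hbe]
          exact hres R' hR'T ⟨b, hb, rfl⟩
        · intro a ha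
          obtain ⟨g, hg, hgx⟩ := mem_autInducedBy_iff.1 ha
          show MulAut.congr e a ∈ E.autGroup R'
          refine autInducedBy_le_autGroup E hR'T (mem_autInducedBy_iff.2
            ⟨(α ⟨g, hg⟩ : T), (α _).2, fun y => ?_⟩)
          obtain ⟨x, rfl⟩ := e.surjective y
          rw [congr_apply, coe_homEquiv, coe_homEquiv, hθe, hθe, ← Subgroup.coe_inv, ← map_inv,
            ← Subgroup.coe_mul, ← Subgroup.coe_mul, ← map_mul, ← map_mul]
          exact congrArg (fun t : T => ((α t : T) : Ω)) (Subtype.ext (hgx x))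
      intro a ha
      refine ⟨hRT, _, (mem_autGroup_iff hR'T).1 (hK ha), fun x hx hy => ?_⟩
      show ((MulAut.congr e a ⟨_, hy⟩ : R') : Ω) = _
      rw [show (⟨((α ⟨x, hRT x.2⟩ : T) : Ω), hy⟩ : R') = e x from Subtype.ext (hθe x).symm,
        congr_apply, coe_homEquiv, hθe]
      rfl
  exact hfinal

theorem frattiniOn_step_pPowerIndex [Finite S] [Fact p.Prime] (hS : IsPGroup p S)
    (hF : F.IsSaturated p) (hT : F.StronglyClosed T) (htr : Transports E F)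
    (hEi : E.HasPPowerIndexIn F p) {R : Subgroup Ω} (hRn : F.IsFullyNormalized R) :
    ∀ α ∈ F.autGroup R, FrattiniOn E F R (R.subtype.comp α.toMonoidHom) := by
  obtain ⟨hEF, -, hres⟩ := hEi
  have hRS := hRn.1
  obtain ⟨-, Y, hY⟩ := isFullyAutomized_of_fullyNormalized hS hF hRn
  intro α hα
  have := finite_autGroup (F := F) hRS
  have := Cfsg.Agent.Transfer.pResidual_normal (G := F.autGroup R) p
  obtain ⟨y, hy, k, hk, hyk⟩ := Subgroup.mem_sup_of_normal_right.1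
    ((Transfer.sylow_sup_pResidual_eq_top (p := p) Y).ge (Subgroup.mem_top (⟨α, hα⟩ : F.autGroup R)))
  rw [hY] at hy
  obtain ⟨g, hg, hgx⟩ := mem_autInducedBy_iff.1 (Subgroup.mem_subgroupOf.1 hy)
  have hkF := (mem_autGroup_iff hRS).1 k.2
  have hkC : FrattiniOn E F R (R.subtype.comp (k : MulAut R).toMonoidHom) := by
    intro Q hQR hQT
    -- the restriction to `R ⊓ T` of an element of the residual lies in the residual
    have hR₀T : R ⊓ T ≤ T := inf_le_right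
    have hR₀S : R ⊓ T ≤ S := inf_le_left.trans hRS
    have key : ∀ a ∈ pResidual p (F.autGroup R), ∃ β ∈ E.autGroup (R ⊓ T), ∀ x : ↥(R ⊓ T),
        (((a : MulAut R) ⟨x, x.2.1⟩ : R) : Ω) = ((β x : ↥(R ⊓ T)) : Ω) := by
      suffices h : pResidual p (F.autGroup R) ≤ traceKernel E F R from fun a ha =>
        mem_traceKernel.1 (h ha)
      refine (Subgroup.closure_le _).2 fun a ha => ?_
      set ψ := (R.subtype.comp (a : MulAut R).toMonoidHom).comp
        (Subgroup.inclusion (inf_le_left : R ⊓ T ≤ R)) with hψdef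
      have hψ : ψ ∈ F.Hom (R ⊓ T) := restrict_mem ((mem_autGroup_iff hRS).1 a.2) _
      have hψr : ψ.range = R ⊓ T := range_eq_of_le hψ hR₀S
        (fun x => ⟨((a : MulAut R) _).2, apply_mem_of_stronglyClosed hT hRS a.2 x.2.2⟩) le_rfl
      refine mem_traceKernel.2 ⟨toAut hψ hψr, ?_, fun x => rfl⟩
      refine hres _ hR₀T ⟨⟨_, toAut_mem hψ hψr⟩, Subgroup.subset_closure ?_, rfl⟩
      have hpow : ∀ n : ℕ, ∀ x : ↥(R ⊓ T), (((toAut hψ hψr) ^ n) x : Ω) =
          ((((a : MulAut R) ^ n) ⟨x, x.2.1⟩ : R) : Ω) := by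
        intro n
        induction n with
        | zero => exact fun x => rfl
        | succ n ih =>
          intro x
          rw [pow_succ', pow_succ', MulAut.mul_apply, MulAut.mul_apply, coe_toAut]
          exact congrArg (fun r : R => (((a : MulAut R) r : R) : Ω)) (Subtype.ext (ih x))
      refine Nat.Coprime.coprime_dvd_left ?_ ha
      refine orderOf_dvd_of_pow_eq_one (Subtype.ext (MulEquiv.ext fun x => Subtype.ext ?_))
      show (((toAut hψ hψr) ^ orderOf a) x : Ω) = x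
      rw [hpow, ← SubmonoidClass.coe_pow, pow_orderOf_eq_one]
      rfl
    obtain ⟨β, hβ, he⟩ := key k hk
    refine ⟨1, one_mem _, _, restrict_mem ((mem_autGroup_iff hR₀T).1 hβ) (le_inf hQR hQT),
      fun x hx => ?_⟩
    exact he (Subgroup.inclusion (le_inf hQR hQT) x)
  have hαeq : R.subtype.comp α.toMonoidHom = (conjHom R g).comp
      ((R.subtype.comp (k : MulAut R).toMonoidHom).codRestrict R fun x => ((k : MulAut R) x).2) :=
    MonoidHom.ext fun x => by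
      show ((α x : R) : Ω) = g * (((k : MulAut R) x : R) : Ω) * g⁻¹
      rw [← hgx, show α = (y : MulAut R) * (k : MulAut R) from (congrArg Subtype.val hyk).symm]
      rfl
  rw [hαeq]
  exact frattiniOn_comp hT htr hkF hkC (frattiniOn_conj hT R hg) _

/-- A saturated subsystem of `p`-power index over a subgroup normal in `S` is normal. -/
theorem isNormalIn_of_pPowerIndex [Finite S] [Fact p.Prime] (hS : IsPGroup p S)
    (hF : F.IsSaturated p) (hT : F.StronglyClosed T) (hEs : E.IsSaturated p)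
    (hEi : E.HasPPowerIndexIn F p) : E.IsNormalIn F p := by
  have htr := transports_of_pPowerIndex hS hT hEs hEi
  have hinv : E.IsInvariantIn F := isInvariantIn_of_frattiniOn hEi.1 hT htr fun P φ hφ =>
    frattiniOn_of_step hS hF hT htr
      (fun R hRn _ _ _ => frattiniOn_step_pPowerIndex hS hF hT htr hEi hRn) hφ
  refine ⟨⟨hEs, hF, hinv⟩, ?_⟩
  obtain ⟨hEF, hfoc, -⟩ := hEi
  have hTS := hT.1
  have := finite_of_le (Ω := Ω) hTS
  set X := T ⊔ centralizerIn S T with hX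
  have hXS : X ≤ S := sup_le hTS (centralizerIn_le S T)
  let B : Subgroup (MulAut T) :=
    { carrier := {a | ∃ β ∈ F.autGroup X,
        (∀ x : T, ((β (Subgroup.inclusion le_sup_left x) : X) : Ω) = ((a x : T) : Ω)) ∧
        ∀ c : X, (c : Ω) ∈ centralizerIn S T →
          (c : Ω)⁻¹ * ((β c : X) : Ω) ∈ T ⊓ Subgroup.centralizer (T : Set Ω)}
      one_mem' := ⟨1, one_mem _, fun _ => rfl, fun c _ => by simp⟩
      mul_mem' := by
        rintro a b ⟨β, hβ, ha, ha'⟩ ⟨γ, hγ, hb, hb'⟩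
        refine ⟨β * γ, mul_mem hβ hγ, fun x => ?_, fun c hc => ?_⟩
        · rw [MulAut.mul_apply, show γ (Subgroup.inclusion le_sup_left x) =
            Subgroup.inclusion le_sup_left (b x) from Subtype.ext (hb x), ha]
          rfl
        · have h1 := hb' c hc
          have hγc : ((γ c : X) : Ω) ∈ centralizerIn S T :=
            ⟨hXS (γ c).2, by
              have h2 := (Subgroup.centralizer (T : Set Ω)).mul_mem hc.2 h1.2
              rwa [mul_inv_cancel_left] at h2⟩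
          have h3 := mul_mem h1 (ha' _ hγc)
          rw [MulAut.mul_apply]
          simpa [mul_assoc] using h3
      inv_mem' := by
        rintro a ⟨β, hβ, ha, ha'⟩
        refine ⟨β⁻¹, inv_mem hβ, fun x => ?_, fun c hc => ?_⟩
        · have h1 : β (Subgroup.inclusion le_sup_left (a⁻¹ x)) =
              Subgroup.inclusion le_sup_left x := Subtype.ext (by
            rw [ha, MulAut.apply_inv_self]; rfl)
          rw [← h1, MulAut.inv_apply_self]
          rfl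
        · obtain ⟨c', rfl⟩ := β.surjective c
          have hc' : (c' : Ω) ∈ centralizerIn S T := by
            refine ⟨hXS c'.2, Subgroup.mem_centralizer_iff.2 fun t ht => ?_⟩
            have h1 : β (Subgroup.inclusion le_sup_left ⟨t, ht⟩ * c') =
                β (c' * Subgroup.inclusion le_sup_left ⟨t, ht⟩) := by
              rw [map_mul, map_mul]
              refine Subtype.ext ?_
              show ((β _ : X) : Ω) * (β c' : X) = (β c' : X) * ((β _ : X) : Ω)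
              rw [ha]
              exact Subgroup.mem_centralizer_iff.1 hc.2 _ (a _).2
            exact congrArg Subtype.val (β.injective h1)
          have h2 := inv_mem (ha' c' hc')
          rw [MulAut.inv_apply_self]
          simpa using h2 }
  have hB : E.autGroup T ≤ B := by
    refine autGroup_le_of_residual (isFullyAutomized_self (hS.to_le hTS) hEs) ?_ ?_
    · rw [Subgroup.map_le_iff_le_comap]
      refine (Subgroup.closure_le _).2 fun a ha => ?_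
      show (a : MulAut T) ∈ B
      have haF : (a : MulAut T) ∈ F.autGroup T := autGroup_le_of_subsystem hEF le_rfl a.2
      obtain ⟨haφ, har⟩ := hom_of_mem_autGroup hTS haF
      have hTn : F.IsFullyNormalized T := by
        refine ⟨hTS, ?_⟩
        rintro Q ⟨φ, hφ, rfl⟩
        rw [range_eq_of_le hφ hTS (fun x => hT.2 T le_rfl φ hφ x) le_rfl]
      obtain ⟨β₀, hβ₀, hβ₀e⟩ := exists_extension (N := X)
        (isReceptive_of_fullyNormalized hS hF hTn) haφ har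
        (sup_le (le_extender hTS fun x => apply_mem haφ x) (centralizerIn_le_extender _))
      have hβT : ∀ x : T, β₀ (Subgroup.inclusion le_sup_left x) = (((a : MulAut T) x : T) : Ω) :=
        fun x => hβ₀e x x.2 _
      have hβr : β₀.range = X := by
        refine range_eq_of_le hβ₀ hXS (forall_sup_mem β₀ (fun x => ?_) fun c => ?_) le_rfl
        · rw [hβT]
          exact Subgroup.mem_sup_left (Subtype.property _)
        · refine Subgroup.mem_sup_right ⟨apply_mem hβ₀ _, Subgroup.mem_centralizer_iff.2 fun t ht => ?_⟩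
          obtain ⟨x, hx⟩ := (a : MulAut T).surjective ⟨t, ht⟩
          have h1 : t = β₀ (Subgroup.inclusion le_sup_left x) := by rw [hβT, hx]
          rw [h1, ← map_mul, ← map_mul]
          exact congrArg β₀ (Subtype.ext (Subgroup.mem_centralizer_iff.1 c.2.2 _ x.2))
      set β := toAut hβ₀ hβr with hβdef
      have hβF := toAut_mem hβ₀ hβr
      have := finite_autGroup (F := F) hXS
      obtain ⟨e, he⟩ := ConstrainedGroup.exists_pow_coprime (p := p) (⟨β, hβF⟩ : F.autGroup X)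
      have hres' : (⟨β, hβF⟩ : F.autGroup X) ^ p ^ e ∈ pResidual p (F.autGroup X) :=
        Subgroup.subset_closure he
      have hmemB : ((a : MulAut T) ^ p ^ e) ∈ B := by
        refine ⟨β ^ p ^ e, pow_mem hβF _, fun x => ?_, fun c hc => ?_⟩
        · generalize p ^ e = n
          induction n generalizing x with
          | zero => rfl
          | succ n ih =>
            rw [pow_succ, pow_succ, MulAut.mul_apply, MulAut.mul_apply,
              show β (Subgroup.inclusion le_sup_left x) =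
                Subgroup.inclusion le_sup_left ((a : MulAut T) x) from Subtype.ext (hβT x)]
            exact ih _
        · refine ⟨hfoc (inv_mul_apply_mem_hyperfocal hXS hres' c), ?_⟩
          refine mul_mem (Subgroup.inv_mem _ hc.2) (Subgroup.mem_centralizer_iff.2 fun t ht => ?_)
          have hcom : ∀ n : ℕ, ∀ d : X, (d : Ω) ∈ Subgroup.centralizer (T : Set Ω) →
              (((β ^ n) d : X) : Ω) ∈ Subgroup.centralizer (T : Set Ω) := by
            intro n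
            induction n with
            | zero => exact fun d hd => hd
            | succ n ih =>
              intro d hd
              rw [pow_succ, MulAut.mul_apply]
              refine ih _ (Subgroup.mem_centralizer_iff.2 fun t ht => ?_)
              obtain ⟨x, hx⟩ := (a : MulAut T).surjective ⟨t, ht⟩
              have h1 : t = β₀ (Subgroup.inclusion le_sup_left x) := by rw [hβT, hx]
              rw [h1, hβdef, coe_toAut, ← map_mul, ← map_mul]
              exact congrArg β₀ (Subtype.ext (Subgroup.mem_centralizer_iff.1 hd _ x.2))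
          exact Subgroup.mem_centralizer_iff.1 (hcom _ c hc.2) t ht
      have hco : (orderOf (a : MulAut T)).Coprime p := by rw [Subgroup.orderOf_coe]; exact ha
      exact ConstrainedGroup.mem_of_pow_mem_of_coprime B hmemB (Nat.Coprime.pow_left _ hco.symm)
    · intro a ha
      obtain ⟨t, ht, htx⟩ := mem_autInducedBy_iff.1 ha
      have htX : t ∈ X := Subgroup.mem_sup_left ht
      refine ⟨MulAut.conj (⟨t, htX⟩ : X), inn_le_autGroup F hXS ⟨_, rfl⟩, fun x => (htx x).symm,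
        fun c hc => ?_⟩
      show (c : Ω)⁻¹ * (t * c * t⁻¹) ∈ _
      rw [Subgroup.mem_centralizer_iff.1 hc.2 t ht, mul_inv_cancel_right, inv_mul_cancel]
      exact Subgroup.one_mem _
  intro α hα
  exact hB hα

end Cfsg.Agent.Fusion
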