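import Cfsg.Agent.Lib.Fusion.KNormalizer
import Cfsg.Agent.Lib.Fusion.NormalCriteria
import Cfsg.Agent.Lib.Fusion.Invariant

/-!
A saturated system on `S = S₁ × S₂` with both factors strongly closed: the full subsystem on `S₁`
and the subsystem of the maps extending trivially to `S₂`.
-/

set_option autoImplicit false
set_option linter.unusedSectionVars false

namespace Cfsg.Agent.Fusion

open Cfsg Cfsg.FusionSystem

variable {Ω : Type*} [Group Ω] {S S₁ S₂ : Subgroup Ω} {F : FusionSystem S}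
  {R R' : FusionSystem S₁} {p : ℕ}

/-- `S₁` and `S₂` are strongly closed, commute, and generate `S`. -/
structure IsProductPair (F : FusionSystem S) (S₁ S₂ : Subgroup Ω) : Prop where
  closed₁ : F.StronglyClosed S₁
  closed₂ : F.StronglyClosed S₂
  comm : ∀ a ∈ S₁, ∀ b ∈ S₂, a * b = b * a
  sup : S₁ ⊔ S₂ = S

theorem IsProductPair.swap (h : IsProductPair F S₁ S₂) : IsProductPair F S₂ S₁ :=
  ⟨h.closed₂, h.closed₁, fun a ha b hb => (h.comm b hb a ha).symm, by rw [sup_comm, h.sup]⟩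

theorem IsProductPair.exists_eq (h : IsProductPair F S₁ S₂) {g : Ω} (hg : g ∈ S) :
    ∃ a ∈ S₁, ∃ b ∈ S₂, g = a * b := by
  have hle : S₁ ≤ Subgroup.normalizer (S₂ : Set Ω) :=
    h.closed₁.1.trans (le_normalizer_of_stronglyClosed h.closed₂)
  have hg' : g ∈ ((S₁ ⊔ S₂ : Subgroup Ω) : Set Ω) := by rw [h.sup]; exact hg
  rw [Subgroup.coe_mul_of_left_le_normalizer_right S₁ S₂ hle] at hg'
  obtain ⟨a, ha, b, hb, rfl⟩ := hg'
  exact ⟨a, ha, b, hb, rfl⟩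

theorem isFullyNormalized_of_stronglyClosed [Finite S] {Q : Subgroup Ω}
    (hQ : F.StronglyClosed Q) : F.IsFullyNormalized Q := by
  refine ⟨hQ.1, ?_⟩
  rintro P ⟨φ, hφ, rfl⟩
  rw [range_eq_of_le hφ hQ.1 (fun x => hQ.2 Q le_rfl φ hφ x) le_rfl]

theorem IsProductPair.le_centralizer (h : IsProductPair F S₁ S₂) {P : Subgroup Ω} (hP : P ≤ S₁) :
    S₂ ≤ centralizerIn S P := fun b hb =>
  mem_centralizerIn.2 ⟨h.closed₂.1 hb, fun x hx => h.comm x (hP hx) b hb⟩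

theorem IsProductPair.autInducedBy_le (h : IsProductPair F S₁ S₂) {P : Subgroup Ω} (hP : P ≤ S₁) :
    autInducedBy S P ≤ autInducedBy S₁ P := by
  intro α hα
  obtain ⟨g, hg, hgx⟩ := mem_autInducedBy_iff.1 hα
  obtain ⟨a, ha, b, hb, rfl⟩ := h.exists_eq hg
  refine mem_autInducedBy_iff.2 ⟨a, ha, fun x => ?_⟩
  rw [hgx]
  calc a * b * (x : Ω) * (a * b)⁻¹ = a * (b * (x : Ω) * b⁻¹) * a⁻¹ := by group
    _ = a * (x : Ω) * a⁻¹ := by rw [← h.comm _ (hP x.2) b hb, mul_inv_cancel_right]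

/-- A map on a subgroup of `S₁` extends to its product with `S₂`. -/
theorem IsProductPair.exists_extend [Finite S] [Fact p.Prime] (h : IsProductPair F S₁ S₂)
    (hS : IsPGroup p S) (hF : F.IsSaturated p) {P : Subgroup Ω} (hP : P ≤ S₁) {φ : P →* Ω}
    (hφ : φ ∈ F.Hom P) :
    ∃ ψ ∈ F.Hom (P ⊔ S₂), ∀ x : P, ψ (Subgroup.inclusion le_sup_left x) = φ x := by
  have hPS := dom_le hφ
  have hP'1 : φ.range ≤ S₁ := by
    rintro _ ⟨x, rfl⟩
    exact h.closed₁.2 P hP φ hφ x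
  obtain ⟨Q, hQc, hQn⟩ := exists_fullyNormalized F (range_le hφ)
  obtain ⟨χ, hχ, hχr⟩ := hQc
  have hrec := isReceptive_of_fullyNormalized hS hF hQn
  -- the composite to `Q` extends
  have hφχ := F.comp_mem hφ hχ (fun x => ⟨x, rfl⟩)
  have hφχr : (χ.comp (φ.codRestrict φ.range fun x => ⟨x, rfl⟩)).range = Q := by
    rw [← hχr]
    ext y
    constructor
    · rintro ⟨x, rfl⟩
      exact ⟨_, rfl⟩
    · rintro ⟨⟨_, x, rfl⟩, rfl⟩
      exact ⟨x, rfl⟩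
  obtain ⟨ψ₁, hψ₁, he₁⟩ := exists_extension (N := P ⊔ S₂) hrec hφχ hφχr
    (sup_le (le_extender hPS fun x => apply_mem hφχ x)
      ((h.le_centralizer hP).trans (centralizerIn_le_extender _)))
  obtain ⟨ψ₂, hψ₂, he₂⟩ := exists_extension (N := φ.range ⊔ S₂) hrec hχ hχr
    (sup_le (le_extender (range_le hφ) fun x => apply_mem hχ x)
      ((h.le_centralizer hP'1).trans (centralizerIn_le_extender _)))
  have hr₂ : ψ₂.range = Q ⊔ S₂ := range_sup_eq (φ := χ) (fun x => he₂ x x.2 _)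
    (image_stronglyClosed h.closed₂ hψ₂ le_sup_right) |>.trans (by rw [hχr])
  obtain ⟨η, hη, -, hηi, -⟩ := exists_inverse hψ₂ hr₂
  have hmem : ∀ z, ψ₁ z ∈ Q ⊔ S₂ := forall_sup_mem ψ₁
    (fun x => by
      rw [show ψ₁ (Subgroup.inclusion le_sup_left x) = χ ⟨φ x, x, rfl⟩ from he₁ x x.2 _]
      exact Subgroup.mem_sup_left (hχr.le ⟨_, rfl⟩))
    (fun x => Subgroup.mem_sup_right
      ((image_stronglyClosed h.closed₂ hψ₁ le_sup_right).le ⟨_, x.2, rfl⟩))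
  refine ⟨_, F.comp_mem hψ₁ hη hmem, fun x => ?_⟩
  show η ⟨ψ₁ (Subgroup.inclusion le_sup_left x), _⟩ = φ x
  refine Eq.trans (congrArg η (Subtype.ext ?_))
    (hηi (Subgroup.inclusion le_sup_left (⟨φ x, x, rfl⟩ : φ.range)) ?_)
  · exact (he₁ x x.2 _).trans (he₂ _ ⟨x, rfl⟩ _).symm
  · exact hr₂.le ⟨_, rfl⟩

/-- An automorphism of `S₁` extends to one of `S`. -/
theorem IsProductPair.exists_extend_aut [Finite S] [Fact p.Prime] (h : IsProductPair F S₁ S₂)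
    (hS : IsPGroup p S) (hF : F.IsSaturated p) {α : MulAut S₁} (hα : α ∈ F.autGroup S₁) :
    ∃ β ∈ F.autGroup S, ∀ (x : S₁),
      ((β ⟨x, h.closed₁.1 x.2⟩ : S) : Ω) = ((α x : S₁) : Ω) := by
  obtain ⟨ψ, hψ, he⟩ := h.exists_extend hS hF le_rfl ((mem_autGroup_iff h.closed₁.1).1 hα)
  have hψ' := restrict_mem hψ h.sup.ge
  have hr := range_eq_of_le hψ' le_rfl (fun x => apply_mem hψ' x) le_rfl
  exact ⟨toAut hψ' hr, toAut_mem hψ' hr, fun x => he x⟩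

/-- The full subsystem on `S₁`. -/
theorem IsProductPair.full_saturated [Finite S] [Fact p.Prime] (h : IsProductPair F S₁ S₂)
    (hS : IsPGroup p S) (hF : F.IsSaturated p) (hR : ∀ P : Subgroup Ω, P ≤ S₁ → R.Hom P = F.Hom P) :
    R.IsSaturated p := by
  intro P hP
  obtain ⟨Q, ⟨φ, hφ, hφr⟩, hQn⟩ := exists_fullyNormalized F (hP.trans h.closed₁.1)
  have hQ1 : Q ≤ S₁ := by
    rw [← hφr]
    rintro _ ⟨x, rfl⟩
    exact h.closed₁.2 P hP φ hφ x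
  refine ⟨Q, ⟨φ, (hR P hP).symm ▸ hφ, hφr⟩, ⟨hQ1, ?_⟩, hQ1, ?_⟩
  · have hA : R.autGroup Q = F.autGroup Q := by rw [autGroup, autGroup, hR Q hQ1]
    have hI : autInducedBy S₁ Q = autInducedBy S Q :=
      le_antisymm (autInducedBy_mono h.closed₁.1) (h.autInducedBy_le hQ1)
    rw [hI, hA]
    exact (isFullyAutomized_of_fullyNormalized hS hF hQn).2
  · intro P' χ hχ hχr
    have hP'1 := dom_le hχ
    have hχF : χ ∈ F.Hom P' := hR P' hP'1 ▸ hχ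
    obtain ⟨ψ, hψ, he⟩ := exists_extension (N := extender S₁ P' χ)
      (isReceptive_of_fullyNormalized hS hF hQn) hχF hχr (fun g hg => by
        obtain ⟨hg1, hgN, k, hk, hkx⟩ := mem_extender_iff.1 hg
        exact mem_extender_iff.2 ⟨h.closed₁.1 hg1, hgN, k, h.closed₁.1 hk, hkx⟩)
    have hN1 : extender S₁ P' χ ≤ S₁ := fun g hg => (mem_extender_iff.1 hg).1
    exact ⟨ψ, (hR _ hN1).symm ▸ hψ, he⟩

theorem IsProductPair.full_isInvariantIn [Finite S] [Fact p.Prime] (h : IsProductPair F S₁ S₂)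
    (hR : ∀ P : Subgroup Ω, P ≤ S₁ → R.Hom P = F.Hom P) : R.IsInvariantIn F := by
  have hEF : R.IsSubsystemOf F := fun P φ hφ => hR P (dom_le hφ) ▸ hφ
  refine ⟨hEF, h.closed₁, fun P hPT φ hφ α hα => ?_, fun P hP φ hφ => ?_⟩
  · have hαF := (mem_autGroup_iff h.closed₁.1).1 hα
    have hθ := restrict_mem hαF hPT
    set θ := (S₁.subtype.comp α.toMonoidHom).comp (Subgroup.inclusion hPT) with hθdef
    have hθr : θ.range = (P.subgroupOf S₁).map (S₁.subtype.comp α.toMonoidHom) := by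
      ext y
      constructor
      · rintro ⟨x, rfl⟩
        exact ⟨⟨x, hPT x.2⟩, x.2, rfl⟩
      · rintro ⟨z, hz, rfl⟩
        exact ⟨⟨z, hz⟩, rfl⟩
    obtain ⟨η, hη, hηr, hηi, -⟩ := exists_inverse hθ hθr
    have hηP : ∀ y, η y ∈ P := fun y => hηr.le ⟨y, rfl⟩
    have hφ1 : ∀ x : P, φ x ∈ S₁ := fun x => apply_mem hφ x
    have hc := F.comp_mem (F.comp_mem hη (hEF P hφ) hηP) hαF (fun y => hφ1 _)
    refine ⟨_, (hR _ (map_aut_le P)).symm ▸ hc, fun x hx hy => ?_⟩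
    show ((α ⟨φ ⟨η ⟨_, hy⟩, _⟩, _⟩ : S₁) : Ω) = _
    exact congrArg (fun t : S₁ => ((α t : S₁) : Ω))
      (Subtype.ext (congrArg φ (Subtype.ext (hηi x hy))))
  · exact ⟨1, one_mem _, φ, (hR P hP).symm ▸ hφ, fun x hx => rfl⟩

theorem IsProductPair.centralizerPair (h : IsProductPair F S₁ S₂) (E : FusionSystem (centralizerIn S S₂))
    (hE : F.IsCentralizerSystem S₂ E) :
    IsProductPair E S₁ (S₂ ⊓ Subgroup.centralizer (S₂ : Set Ω)) := by
  have h1 : S₁ ≤ centralizerIn S S₂ := fun a ha =>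
    mem_centralizerIn.2 ⟨h.closed₁.1 ha, fun x hx => (h.comm a ha x hx).symm⟩
  refine ⟨⟨h1, fun P hP φ hφ x => ?_⟩, ⟨fun b hb => ⟨h.closed₂.1 hb.1, hb.2⟩, fun P hP φ hφ x => ?_⟩,
    fun a ha b hb => h.comm a ha b hb.1, le_antisymm (sup_le h1 fun b hb => ⟨h.closed₂.1 hb.1, hb.2⟩) ?_⟩
  · rw [hE P] at hφ
    exact h.closed₁.2 P hP φ hφ.1 x
  · rw [hE P] at hφ
    obtain ⟨-, -, -, ψ, -, hψP, hψQ⟩ := hφ
    have e : φ x = (x : Ω) := by
      rw [← hψP x]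
      exact hψQ ⟨x, (hP x.2).1⟩
    rw [e]
    exact hP x.2
  · intro g hg
    obtain ⟨a, ha, b, hb, rfl⟩ := h.exists_eq hg.1
    refine Subgroup.mul_mem_sup ha ⟨hb, ?_⟩
    have h2 := (Subgroup.centralizer (S₂ : Set Ω)).mul_mem
      ((Subgroup.centralizer (S₂ : Set Ω)).inv_mem (h1 ha).2) hg.2
    simpa using h2

theorem IsProductPair.trivial_saturated [Finite S] [Fact p.Prime] (h : IsProductPair F S₁ S₂)
    (hS : IsPGroup p S) (hF : F.IsSaturated p)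
    (hR' : ∀ P : Subgroup Ω, P ≤ S₁ → R'.Hom P = F.centralizerHom S₂ P) : R'.IsSaturated p := by
  have hn := isFullyNormalized_of_stronglyClosed h.closed₂
  have hE := centralizerSystem_spec F S₂ h.closed₂.1
  have hEs := centralizerSystem_saturated hS hF
    (isFullyCentralized_of_fullyNormalized hS hF hn) hE
  have := finite_of_le (Ω := Ω) (centralizerIn_le S S₂)
  exact (h.centralizerPair _ hE).full_saturated (hS.to_le (centralizerIn_le S S₂)) hEs hR'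

theorem IsProductPair.trivial_isInvariantIn [Finite S] [Fact p.Prime] (h : IsProductPair F S₁ S₂)
    (hS : IsPGroup p S) (hF : F.IsSaturated p)
    (hR' : ∀ P : Subgroup Ω, P ≤ S₁ → R'.Hom P = F.centralizerHom S₂ P) : R'.IsInvariantIn F := by
  have hEF : R'.IsSubsystemOf F := fun P φ hφ => by
    rw [hR' P (dom_le hφ)] at hφ
    exact hφ.1
  have hC : ∀ a ∈ S₁, a ∈ centralizerIn S S₂ := fun a ha =>
    mem_centralizerIn.2 ⟨h.closed₁.1 ha, fun x hx => (h.comm a ha x hx).symm⟩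
  refine ⟨hEF, h.closed₁, fun P hPT φ hφ α hα => ?_, fun P hP φ hφ => ?_⟩
  · obtain ⟨β, hβ, hβe⟩ := h.exists_extend_aut hS hF hα
    have hφ' := hφ
    rw [hR' P hPT] at hφ'
    obtain ⟨hφF, -, -, ψ, hψ, hψP, hψQ⟩ := hφ'
    have hβF := (mem_autGroup_iff le_rfl).1 hβ
    set P' := (P.subgroupOf S₁).map (S₁.subtype.comp α.toMonoidHom) with hP'
    have hP'1 : P' ≤ S₁ := map_aut_le P
    obtain ⟨hiF, hir⟩ := hom_of_mem_autGroup le_rfl (inv_mem hβ)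
    have hsup : P' ⊔ S₂ ≤ S := sup_le (hP'1.trans h.closed₁.1) h.closed₂.1
    have hin := restrict_mem hiF hsup
    set η := (S.subtype.comp (β⁻¹).toMonoidHom).comp (Subgroup.inclusion hsup) with hη
    have hback : ∀ (x : P) (hy : ((α ⟨x, hPT x.2⟩ : S₁) : Ω) ∈ P' ⊔ S₂),
        η ⟨_, hy⟩ = (x : Ω) := by
      intro x hy
      show ((β⁻¹ ⟨_, hsup hy⟩ : S) : Ω) = x
      rw [show (⟨((α ⟨x, hPT x.2⟩ : S₁) : Ω), hsup hy⟩ : S) =
        β ⟨(x : Ω), h.closed₁.1 (hPT x.2)⟩ from Subtype.ext (hβe ⟨x, hPT x.2⟩).symm,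
        MulAut.inv_apply_self]
    have hmem : ∀ z, η z ∈ P ⊔ S₂ := forall_sup_mem η
      (fun y => by
        obtain ⟨_, z, hz, rfl⟩ := y
        rw [show η (Subgroup.inclusion le_sup_left (⟨_, z, hz, rfl⟩ : P')) = (z : Ω) from
          hback ⟨z, hz⟩ _]
        exact Subgroup.mem_sup_left hz)
      (fun y => Subgroup.mem_sup_right
        ((image_stronglyClosed h.closed₂ hin le_sup_right).le ⟨_, y.2, rfl⟩))
    have hψS : ∀ z, ψ z ∈ S := fun z => apply_mem hψ z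
    obtain ⟨ψ', hψ', hψ'e⟩ : ∃ ψ' ∈ F.Hom (P' ⊔ S₂),
        ∀ z, ψ' z = ((β ⟨ψ ⟨η z, hmem z⟩, hψS _⟩ : S) : Ω) :=
      ⟨_, F.comp_mem (F.comp_mem hin hψ hmem) hβF (fun z => hψS _), fun z => rfl⟩
    have hval : ∀ (x : P) (hx : φ x ∈ S₁) (hy : ((α ⟨x, hPT x.2⟩ : S₁) : Ω) ∈ P' ⊔ S₂),
        ψ' ⟨_, hy⟩ = ((α ⟨φ x, hx⟩ : S₁) : Ω) := by
      intro x hx hy
      rw [hψ'e, ← hβe ⟨φ x, hx⟩]
      refine congrArg (fun t : S => ((β t : S) : Ω)) (Subtype.ext ?_)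
      show ψ ⟨η _, _⟩ = φ x
      rw [← hψP x]
      exact congrArg ψ (Subtype.ext (hback x hy))
    have hres := restrict_mem hψ' (le_sup_left : P' ≤ P' ⊔ S₂)
    refine ⟨ψ'.comp (Subgroup.inclusion le_sup_left), ?_,
      fun x hx hy => hval x hx (Subgroup.mem_sup_left hy)⟩
    rw [hR' P' hP'1]
    refine ⟨hres, fun a ha => hC a (hP'1 ha),
      fun y => hC _ (h.closed₁.2 P' hP'1 _ hres y), ψ', hψ', fun y => rfl, fun y => ?_⟩
    rw [hψ'e]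
    have h2 : η (Subgroup.inclusion le_sup_right y) ∈ S₂ :=
      (image_stronglyClosed h.closed₂ hin le_sup_right).le ⟨_, y.2, rfl⟩
    rw [show (⟨ψ ⟨η (Subgroup.inclusion le_sup_right y), hmem _⟩, hψS _⟩ : S) =
      β⁻¹ ⟨(y : Ω), h.closed₂.1 y.2⟩ from Subtype.ext (hψQ ⟨_, h2⟩), MulAut.apply_inv_self]
  · obtain ⟨ψ, hψ, hψe⟩ := h.exists_extend hS hF hP hφ
    have hψ2 := restrict_mem hψ (le_sup_right : S₂ ≤ P ⊔ S₂)
    have hr2 : (ψ.comp (Subgroup.inclusion (le_sup_right : S₂ ≤ P ⊔ S₂))).range = S₂ :=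
      range_eq_of_le hψ2 h.closed₂.1 (fun x => h.closed₂.2 S₂ le_rfl _ hψ2 x) le_rfl
    obtain ⟨β, hβ, hβe⟩ := h.swap.exists_extend_aut hS hF (toAut_mem hψ2 hr2)
    obtain ⟨hβ1F, hβ1r⟩ : S.subtype.comp (β : MulAut S).toMonoidHom ∈ F.Hom S ∧ True :=
      ⟨(mem_autGroup_iff le_rfl).1 hβ, trivial⟩
    have hres1 := restrict_mem hβ1F h.closed₁.1
    have hres1r := range_eq_of_le hres1 h.closed₁.1
      (fun x => h.closed₁.2 S₁ le_rfl _ hres1 x) le_rfl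
    obtain ⟨hiF, -⟩ := hom_of_mem_autGroup le_rfl (inv_mem hβ)
    obtain ⟨ψ₀, hψ₀, hψ₀e⟩ : ∃ ψ₀ ∈ F.Hom (P ⊔ S₂),
        ∀ z, ψ₀ z = ((β⁻¹ ⟨ψ z, apply_mem hψ z⟩ : S) : Ω) :=
      ⟨_, F.comp_mem hψ hiF (fun z => apply_mem hψ z), fun z => rfl⟩
    have hres := restrict_mem hψ₀ (le_sup_left : P ≤ P ⊔ S₂)
    refine ⟨toAut hres1 hres1r, toAut_mem hres1 hres1r, ψ₀.comp (Subgroup.inclusion le_sup_left),
      ?_, fun x hx => ?_⟩
    · rw [hR' P hP]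
      refine ⟨hres, fun a ha => hC a (hP ha), fun y => hC _ (h.closed₁.2 P hP _ hres y), ψ₀, hψ₀,
        fun y => rfl, fun y => ?_⟩
      rw [hψ₀e]
      rw [show (⟨ψ (Subgroup.inclusion le_sup_right y), apply_mem hψ _⟩ : S) =
        β ⟨y, h.closed₂.1 y.2⟩ from Subtype.ext (hβe y).symm, MulAut.inv_apply_self]
    · rw [← hψe x]
      show _ = ((β ⟨_, _⟩ : S) : Ω)
      rw [show (⟨((ψ₀.comp (Subgroup.inclusion le_sup_left)) x), h.closed₁.1 hx⟩ : S) =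
        β⁻¹ ⟨ψ (Subgroup.inclusion le_sup_left x), apply_mem hψ _⟩ from
        Subtype.ext (hψ₀e _), MulAut.apply_inv_self]

theorem IsProductPair.trivial_extension [Finite S] (h : IsProductPair F S₁ S₂)
    (hR' : ∀ P : Subgroup Ω, P ≤ S₁ → R'.Hom P = F.centralizerHom S₂ P) :
    ∀ α ∈ R'.autGroup S₁, ∃ β ∈ F.autGroup (S₁ ⊔ centralizerIn S S₁),
      (∀ x : S₁, ((β (Subgroup.inclusion le_sup_left x) : ↥(S₁ ⊔ centralizerIn S S₁)) : Ω) =
        ((α x : S₁) : Ω)) ∧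
      ∀ c : ↥(S₁ ⊔ centralizerIn S S₁), (c : Ω) ∈ centralizerIn S S₁ →
        (c : Ω)⁻¹ * ((β c : ↥(S₁ ⊔ centralizerIn S S₁)) : Ω) ∈
          S₁ ⊓ Subgroup.centralizer (S₁ : Set Ω) := by
  intro α hα
  have hα' := (mem_autGroup_iff le_rfl).1 hα
  rw [hR' S₁ le_rfl] at hα'
  obtain ⟨-, -, -, ψ, hψ, hψP, hψQ⟩ := hα'
  have hX : S₁ ⊔ centralizerIn S S₁ = S :=
    le_antisymm (sup_le h.closed₁.1 (centralizerIn_le S S₁))
      (h.sup.ge.trans (sup_le_sup_left (h.le_centralizer le_rfl) _))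
  have hle : S₁ ⊔ centralizerIn S S₁ ≤ S₁ ⊔ S₂ := (hX.trans h.sup.symm).le
  have hψ' := restrict_mem hψ hle
  have hr := range_eq_of_le hψ' hX.le (fun x => hX.ge (apply_mem hψ' x)) le_rfl
  refine ⟨toAut hψ' hr, toAut_mem hψ' hr, fun x => hψP x, fun c hc => ?_⟩
  obtain ⟨a, ha, b, hb, hab⟩ := h.exists_eq (hX.le c.2)
  have hca : a ∈ Subgroup.centralizer (S₁ : Set Ω) := by
    have h1 := (Subgroup.centralizer (S₁ : Set Ω)).mul_mem hc.2
      ((Subgroup.centralizer (S₁ : Set Ω)).inv_mem (h.le_centralizer le_rfl hb).2)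
    rw [hab, mul_inv_cancel_right] at h1
    exact h1
  have hαa : ((α ⟨a, ha⟩ : S₁) : Ω) ∈ S₁ ⊓ Subgroup.centralizer (S₁ : Set Ω) := by
    refine ⟨Subtype.property _, Subgroup.mem_centralizer_iff.2 fun t ht => ?_⟩
    obtain ⟨u, hu⟩ := α.surjective ⟨t, ht⟩
    have h1 : u * ⟨a, ha⟩ = ⟨a, ha⟩ * u :=
      Subtype.ext (Subgroup.mem_centralizer_iff.1 hca _ u.2)
    have h2 := congrArg (fun v : S₁ => ((α v : S₁) : Ω)) h1
    simpa [hu] using h2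
  have hval : ((toAut hψ' hr c : ↥(S₁ ⊔ centralizerIn S S₁)) : Ω) = ((α ⟨a, ha⟩ : S₁) : Ω) * b := by
    show ψ (Subgroup.inclusion hle c) = _
    rw [show Subgroup.inclusion hle c = Subgroup.inclusion le_sup_left (⟨a, ha⟩ : S₁) *
      Subgroup.inclusion le_sup_right (⟨b, hb⟩ : S₂) from Subtype.ext hab, map_mul, hψP, hψQ]
    rfl
  rw [hval, hab]
  have h3 := mul_mem (inv_mem (⟨ha, hca⟩ : a ∈ S₁ ⊓ Subgroup.centralizer (S₁ : Set Ω))) hαa
  have h4 : (a * b)⁻¹ * (((α ⟨a, ha⟩ : S₁) : Ω) * b) = a⁻¹ * ((α ⟨a, ha⟩ : S₁) : Ω) := by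
    have h5 := h.comm _ (S₁.mul_mem (S₁.inv_mem ha) (α ⟨a, ha⟩).2) b hb
    calc (a * b)⁻¹ * (((α ⟨a, ha⟩ : S₁) : Ω) * b)
        = b⁻¹ * (a⁻¹ * ((α ⟨a, ha⟩ : S₁) : Ω) * b) := by group
      _ = b⁻¹ * (b * (a⁻¹ * ((α ⟨a, ha⟩ : S₁) : Ω))) := by rw [h5]
      _ = _ := by group
  rw [h4]
  exact h3

/-- Invariance in the ambient system gives invariance in the full subsystem. -/
theorem isInvariantIn_full (hR : ∀ P : Subgroup Ω, P ≤ S₁ → R.Hom P = F.Hom P)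
    (h : R'.IsInvariantIn F) : R'.IsInvariantIn R := by
  obtain ⟨hsub, hcl, htr, hfr⟩ := h
  have hA : R.autGroup S₁ = F.autGroup S₁ := by rw [autGroup, autGroup, hR S₁ le_rfl]
  refine ⟨fun P φ hφ => (hR P (dom_le hφ)).symm ▸ hsub P hφ,
    ⟨le_rfl, fun P hP φ hφ x => apply_mem hφ x⟩, ?_, fun P hP φ hφ => ?_⟩
  · rw [hA]; exact htr
  · rw [hA]; exact hfr P hP φ (hR P hP ▸ hφ)

/-- The statement on products of strongly closed factors. -/
theorem product_factors [Finite S] [Fact p.Prime] (h : IsProductPair F S₁ S₂)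
    (hS : IsPGroup p S) (hF : F.IsSaturated p)
    (hR : ∀ P : Subgroup Ω, P ≤ S₁ → R.Hom P = F.Hom P)
    (hR' : ∀ P : Subgroup Ω, P ≤ S₁ → R'.Hom P = F.centralizerHom S₂ P) :
    R.IsSaturated p ∧ R'.IsSaturated p ∧ R'.IsNormalIn F p ∧ R'.IsNormalIn R p ∧
      R.IsWeaklyNormalIn F p := by
  have hs := h.full_saturated hS hF hR
  have hs' := h.trivial_saturated hS hF hR'
  have hi := h.trivial_isInvariantIn hS hF hR'
  refine ⟨hs, hs', ⟨⟨hs', hF, hi⟩, h.trivial_extension hR'⟩,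
    ⟨⟨hs', hs, isInvariantIn_full hR hi⟩, fun α hα => ?_⟩, hs, hF, h.full_isInvariantIn (p := p) hR⟩
  obtain ⟨-, hr⟩ := hom_of_mem_autGroup le_rfl hα
  have hX : S₁ ⊔ centralizerIn S₁ S₁ ≤ S₁ := sup_le le_rfl (centralizerIn_le S₁ S₁)
  have hαR : S₁.subtype.comp α.toMonoidHom ∈ R.Hom S₁ := by
    rw [hR S₁ le_rfl]
    exact hi.1 S₁ ((mem_autGroup_iff le_rfl).1 hα)
  have hres := restrict_mem hαR hX
  have := finite_of_le (Ω := Ω) h.closed₁.1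
  have hrr := range_eq_of_le hres hX
    (fun x => Subgroup.mem_sup_left (apply_mem hres x)) le_rfl
  refine ⟨toAut hres hrr, toAut_mem hres hrr, fun x => rfl, fun c hc => ?_⟩
  have hαc : ((α ⟨c, hc.1⟩ : S₁) : Ω) ∈ Subgroup.centralizer (S₁ : Set Ω) := by
    refine Subgroup.mem_centralizer_iff.2 fun t ht => ?_
    obtain ⟨u, hu⟩ := α.surjective ⟨t, ht⟩
    have h1 : u * ⟨(c : Ω), hc.1⟩ = ⟨(c : Ω), hc.1⟩ * u :=
      Subtype.ext (Subgroup.mem_centralizer_iff.1 hc.2 _ u.2)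
    have h2 := congrArg (fun v : S₁ => ((α v : S₁) : Ω)) h1
    simpa [hu] using h2
  show (c : Ω)⁻¹ * ((α (Subgroup.inclusion hX c) : S₁) : Ω) ∈ _
  exact ⟨S₁.mul_mem (S₁.inv_mem hc.1) (Subtype.property _),
    Subgroup.mul_mem _ (Subgroup.inv_mem _ hc.2) hαc⟩

end Cfsg.Agent.Fusion
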