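import Cfsg.Agent.S5203
import Cfsg.Agent.S5199

/-!
Invariance of the residual limit under subsystems of index prime to `p` and of `p`-power index,
existence of limits, and subsystems invariant in an invariant subsystem.
-/

set_option autoImplicit false
set_option linter.unusedSectionVars false

namespace Cfsg.Agent.Fusion

open Cfsg Cfsg.FusionSystem

variable {Ω : Type*} [Group Ω] {S T U : Subgroup Ω} {F : FusionSystem S} {p : ℕ}

/-- For an invariant subsystem the automorphism groups are carried along by the maps of `F`. -/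
theorem congr_mem_of_invariant {E : FusionSystem T} (hE : E.IsInvariantIn F) {P Q : Subgroup Ω}
    (hPT : P ≤ T) {φ : P →* Ω} (hφ : φ ∈ F.Hom P) (hQ : φ.range = Q) {a : MulAut P}
    (ha : a ∈ E.autGroup P) : MulAut.congr (homEquiv hφ hQ) a ∈ E.autGroup Q := by
  obtain ⟨χ, hχ, he⟩ := stronglyInvariant_of_invariant hE P P le_rfl hPT _
    ((mem_autGroup_iff hPT).1 ha) (fun x => (a x).2) φ hφ
  have himg : (P.subgroupOf P).map φ = Q := by
    rw [Subgroup.subgroupOf_self, ← MonoidHom.range_eq_map, hQ]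
  have hQT : Q ≤ T := fun y hy => by
    obtain ⟨x, rfl⟩ := hQ.ge hy
    exact hE.2.1.2 P hPT φ hφ x
  refine (mem_autGroup_iff hQT).2 (mem_congr hχ himg.symm fun y hy => ?_)
  obtain ⟨x, rfl⟩ := hQ.ge hy
  show ((MulAut.congr (homEquiv hφ hQ) a (homEquiv hφ hQ x) : Q) : Ω) = _
  rw [congr_apply]
  exact (he x (himg.ge hy)).symm

/-- An invariant subsystem of an invariant subsystem, transported by `F`, is invariant in `F`. -/
theorem isInvariantIn_trans [Finite S] {G : FusionSystem U} (hG : G.IsInvariantIn F)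
    {U' : Subgroup Ω} (hU'U : U' ≤ U) (hcl : F.StronglyClosed U') {E' : FusionSystem U'}
    (hE' : E'.IsInvariantIn G) (htr : Transports E' F) : E'.IsInvariantIn F := by
  refine ⟨fun P φ hφ => hG.1 P (hE'.1 P hφ), hcl, htr, fun P hP φ hφ => ?_⟩
  obtain ⟨α, hα, φ₁, hφ₁, he⟩ := hG.2.2.2 P (hP.trans hU'U) φ hφ
  obtain ⟨α', hα', φ₀, hφ₀, he'⟩ := hE'.2.2.2 P hP φ₁ hφ₁
  have := finite_of_le (Ω := Ω) hcl.1
  have hres : (U.subtype.comp α.toMonoidHom).comp (Subgroup.inclusion hU'U) ∈ F.Hom U' :=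
    restrict_mem ((mem_autGroup_iff hG.2.1.1).1 hα) hU'U
  have hr : ((U.subtype.comp α.toMonoidHom).comp (Subgroup.inclusion hU'U)).range = U' :=
    range_eq_of_le hres hcl.1 (hcl.2 U' le_rfl _ hres) le_rfl
  refine ⟨toAut hres hr * α', mul_mem (toAut_mem hres hr) (autGroup_le_of_subsystem hG.1 hU'U hα'),
    φ₀, hφ₀, fun x hx => ?_⟩
  rw [MulAut.mul_apply, coe_toAut, he x (apply_mem hφ₁ x)]
  exact congrArg (fun u : U => ((α u : U) : Ω)) (Subtype.ext (he' x hx))

/-- An invariant saturated subsystem over a subgroup containing its centralizer is normal. -/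
theorem isNormalIn_of_centralizer [Finite S] (hF : F.IsSaturated p) {E : FusionSystem U}
    (hE : E.IsSaturated p) (hinv : E.IsInvariantIn F) (hC : centralizerIn S U ≤ U) :
    E.IsNormalIn F p := by
  refine ⟨⟨hE, hF, hinv⟩, fun α hα => ?_⟩
  have hUS := hinv.2.1.1
  have hαF := autGroup_le_of_subsystem hinv.1 le_rfl hα
  have hUU : U ⊔ centralizerIn S U = U := sup_eq_left.2 hC
  have hφ := restrict_mem ((mem_autGroup_iff hUS).1 hαF) hUU.le
  have := finite_of_le (Ω := Ω) (hUU.le.trans hUS)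
  have hr := range_eq_of_le hφ (hUU.le.trans hUS) (fun x => hUU.ge (α _).2) le_rfl
  refine ⟨toAut hφ hr, toAut_mem hφ hr, fun x => rfl, fun c hc => ⟨?_, ?_⟩⟩
  · exact U.mul_mem (U.inv_mem (hC hc)) (α _).2
  · refine mul_mem (Subgroup.inv_mem _ hc.2) (Subgroup.mem_centralizer_iff.2 fun y hy => ?_)
    obtain ⟨z, hz⟩ := α.surjective ⟨y, hy⟩
    have h1 : z * ⟨c, hC hc⟩ = ⟨c, hC hc⟩ * z :=
      Subtype.ext (Subgroup.mem_centralizer_iff.1 hc.2 z z.2)
    have h2 := congrArg Subtype.val (congrArg α h1)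
    rw [map_mul, map_mul, hz] at h2
    exact h2

/-- A saturated subsystem of `p`-power index in an invariant subsystem is transported by `F`. -/
theorem transports_pIndex_of_invariant [Finite S] [Fact p.Prime] (hS : IsPGroup p S)
    {G : FusionSystem U} (hG : G.IsInvariantIn F) {U' : Subgroup Ω} (hU'U : U' ≤ U)
    (hcl : F.StronglyClosed U') {E' : FusionSystem U'} (hE' : E'.IsSaturated p)
    (hi : E'.HasPPowerIndexIn G p) : Transports E' F := by
  intro P hP φ hφ α hα
  have := finite_of_le (Ω := Ω) hcl.1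
  suffices hle : E' ≤ pullSystem E' E' α by
    obtain ⟨-, _, h⟩ := hle P hφ
    exact h
  refine S5199.le_of_pResidual (hS.to_le hcl.1) hE' fun R hR => ?_
  rw [pResidual, MonoidHom.map_closure, Subgroup.closure_le]
  rintro _ ⟨a, ha, rfl⟩
  obtain ⟨θ, hθ, hθe⟩ : ∃ θ ∈ F.Hom R, ∀ x : R, θ x = ((α ⟨x, hR x.2⟩ : U') : Ω) :=
    ⟨_, restrict_mem ((mem_autGroup_iff hcl.1).1 hα) hR, fun x => rfl⟩
  have hr : θ.range = (R.subgroupOf U').map (U'.subtype.comp α.toMonoidHom) := imageOfAut hR hθe
  have hb := congr_mem_of_invariant hG (hR.trans hU'U) hθ hr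
    (autGroup_le_of_subsystem hi.1 hR a.2)
  have hbE : MulAut.congr (homEquiv hθ hr) (a : MulAut R) ∈ E'.autGroup _ :=
    hi.2.2 _ (map_aut_le R) ⟨⟨_, hb⟩, Subgroup.subset_closure (by
      show (orderOf _).Coprime p
      rw [Subgroup.orderOf_mk, MulEquiv.orderOf_eq, Subgroup.orderOf_coe]
      exact ha), rfl⟩
  refine Subgroup.subset_closure ⟨(mem_autGroup_iff hR).1 a.2, hR, _,
    (mem_autGroup_iff (map_aut_le R)).1 hbE, fun x hx hy => ?_⟩
  show ((MulAut.congr (homEquiv hθ hr) (a : MulAut R) ⟨_, hy⟩ :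
    ↥((R.subgroupOf U').map (U'.subtype.comp α.toMonoidHom))) : Ω) = _
  rw [show (⟨((α ⟨x, hR x.2⟩ : U') : Ω), hy⟩ :
      ↥((R.subgroupOf U').map (U'.subtype.comp α.toMonoidHom))) = homEquiv hθ hr x from
    Subtype.ext (hθe x).symm, congr_apply, coe_homEquiv, hθe]
  rfl

namespace Limit

open S5203

variable {V : Subgroup Ω} {L : FusionSystem V}

/-- A limit of a residual of a residual is a limit. -/
theorem of_step (hT : T = F.hyperfocalSubgroup p) {D D' : FusionSystem T} (hD : D.IsSaturated p)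
    (hDi : D.HasPPowerIndexIn F p) (hD' : D.IsPPrimeResidual p D')
    (h : L.IsResidualLimitOf D' p) : L.IsResidualLimitOf F p := by
  subst hT
  exact .step F p D D' ⟨hD, hDi⟩ hD' h

theorem iff_step [Finite S] [Fact p.Prime] (hS : IsPGroup p S) (hF : F.IsSaturated p)
    (hT : T = F.hyperfocalSubgroup p) {D : FusionSystem T} [Finite T] (hD : D.IsSaturated p)
    (hDi : D.HasPPowerIndexIn F p) :
    L.IsResidualLimitOf F p ↔ L.IsResidualLimitOf (PPrimeResidual.residual D p) p := by
  have hr := PPrimeResidual.isPPrimeResidual_residual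
    (hS.to_le (hT ▸ hyperfocal_le F p)) hD
  exact ⟨fun h => limit_of_step hS hF h hT D _ hD hDi hr, of_step hT hD hDi hr⟩

/-- A subsystem of `p`-power index has the same limits. -/
theorem iff_pPowerIndex [Finite S] [Fact p.Prime] (hS : IsPGroup p S) (hF : F.IsSaturated p)
    (hTS : T ≤ S) {E : FusionSystem T} (hE : E.IsSaturated p) (hidx : E.HasPPowerIndexIn F p) :
    L.IsResidualLimitOf F p ↔ L.IsResidualLimitOf E p := by
  have := finite_of_le (Ω := Ω) hTS
  have := finite_of_le (Ω := Ω) (hyperfocal_le F p)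
  have hhyp := hyperfocal_eq hS hTS hE hidx
  have hle : F.hyperfocalSubgroup p ≤ T := hidx.2.1
  obtain ⟨D, hD, hDi⟩ := exists_pPowerIndex (hS.to_le hTS) hE hle hhyp.le
  have hDF : D.HasPPowerIndexIn F p := by
    refine ⟨fun P φ hφ => hidx.1 P (hDi.1 P hφ), le_rfl, fun P hP => ?_⟩
    rw [pResidual, MonoidHom.map_closure, Subgroup.closure_le]
    rintro _ ⟨β, hβ, rfl⟩
    have hβE : (β : MulAut P) ∈ E.autGroup P :=
      hidx.2.2 P (hP.trans hle) ⟨β, Subgroup.subset_closure hβ, rfl⟩
    refine hDi.2.2 P hP ⟨⟨β, hβE⟩, Subgroup.subset_closure ?_, rfl⟩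
    show Nat.Coprime (orderOf _) p
    rwa [Subgroup.orderOf_mk, Subgroup.orderOf_coe]
  exact (iff_step hS hF rfl hD hDF).trans (iff_step (hS.to_le hTS) hE hhyp.symm hD hDi).symm

/-- A saturated subsystem of index prime to `p` has the same `p'`-residual. -/
theorem residual_eq [Finite U] [Fact p.Prime] {G G' : FusionSystem U} (hU : IsPGroup p U)
    (hG : G.IsSaturated p) (hG' : G'.IsSaturated p) (hsub : G'.IsSubsystemOf G)
    (hl : IsLargeOnCentric G' G p) :
    PPrimeResidual.residual G' p = PPrimeResidual.residual G p := by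
  set R := PPrimeResidual.residual G p
  set R' := PPrimeResidual.residual G' p
  have hR := PPrimeResidual.isPPrimeResidual_residual hU hG
  have hR' := PPrimeResidual.isPPrimeResidual_residual hU hG'
  have hc := isCentric_iff_of_large hU hG hsub hl
  have h1 : R ≤ R' := hR.2.2 R' hR'.1 (hasPrimeToPIndexIn hU hG
    (fun P φ hφ => hsub P (PPrimeResidual.residual_le P hφ)) fun P hP => by
      rw [Subgroup.map_le_iff_le_comap]
      refine (Subgroup.closure_le _).2 fun a ⟨k, hk⟩ => ?_
      exact pElement_mem_autGroup PPrimeResidual.isLarge_residual ((hc P).2 hP)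
        (pElement_mem_autGroup hl hP a.2 (k := k) ((Subgroup.orderOf_coe a).trans hk)) (k := k)
        ((Subgroup.orderOf_coe a).trans hk))
  have h2 : R' ≤ R := hR'.2.2 R hR.1 (hasPrimeToPIndexIn hU hG'
    (fun P φ hφ => hR.2.2 G' hG' (hasPrimeToPIndexIn hU hG hsub hl) P hφ) fun P hP => by
      rw [Subgroup.map_le_iff_le_comap]
      refine (Subgroup.closure_le _).2 fun a ⟨k, hk⟩ => ?_
      exact pElement_mem_autGroup PPrimeResidual.isLarge_residual ((hc P).1 hP)
        (autGroup_le_of_subsystem hsub hP.1 a.2) (k := k) ((Subgroup.orderOf_coe a).trans hk))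
  exact eq_of_heq (Same.heq ⟨rfl, fun P => Set.Subset.antisymm (h2 P) (h1 P)⟩).2

/-- A system and its `p'`-residual have the same limits. -/
theorem iff_residual [Fact p.Prime] (n : ℕ) :
    ∀ {U : Subgroup Ω} [Finite U] (G : FusionSystem U), Nat.card U = n → IsPGroup p U →
      G.IsSaturated p →
      (L.IsResidualLimitOf G p ↔ L.IsResidualLimitOf (PPrimeResidual.residual G p) p) := by
  induction n using Nat.strong_induction_on with
  | _ n ih =>
  intro U _ G hn hU hG
  set H := G.hyperfocalSubgroup p with hH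
  rcases eq_or_lt_of_le (hyperfocal_le G p) with heq | hlt
  · exact iff_step hU hG heq.symm hG (self_pIndex G)
  have hHU : H ≤ U := hlt.le
  have := finite_of_le (Ω := Ω) hHU
  have hpH := hU.to_le hHU
  have hlt' : Nat.card H < n := hn ▸ card_lt_of_lt le_rfl hlt
  obtain ⟨D, hD, hDi⟩ := exists_pPowerIndex hU hG hHU le_rfl
  set R := PPrimeResidual.residual G p with hRdef
  have hR := PPrimeResidual.isPPrimeResidual_residual hU hG
  have hRinv := PPrimeResidual.isInvariantIn_residual hU hG
  have hcl : G.StronglyClosed H := stronglyClosed_hyperfocal hU hG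
  have hclR : R.StronglyClosed H :=
    ⟨hHU, fun P hP φ hφ => hcl.2 P hP φ (PPrimeResidual.residual_le P hφ)⟩
  obtain ⟨B, hB, hBi⟩ := exists_pPowerIndex hU hR.1 hHU
    (hyperfocal_mono le_rfl PPrimeResidual.residual_le p)
  have hBD : B ≤ D := pPowerIndex_le hU hHU hB
    (fun P φ hφ => PPrimeResidual.residual_le P (hBi.1 P hφ)) hDi
  have hBinv : B.IsInvariantIn G := isInvariantIn_trans hRinv hHU hcl
    (isNormalIn_of_pPowerIndex hU hR.1 hclR hB hBi).1.2.2
    (transports_pIndex_of_invariant hU hRinv hHU hcl hB hBi)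
  have hlarge : IsLargeOnCentric B D p := by
    intro P hP
    rw [Subgroup.map_le_iff_le_comap]
    refine (Subgroup.closure_le _).2 fun a ⟨k, hk⟩ => ?_
    show (a : MulAut P) ∈ B.autGroup P
    obtain ⟨Q, ⟨φ, hφ, hQr⟩, hQn⟩ := exists_fullyNormalized D hP.1
    have hQH := hQn.1
    set e := homEquiv hφ hQr with he
    suffices hb : MulAut.congr e (a : MulAut P) ∈ B.autGroup Q by
      obtain ⟨η, hη, hηr, hηi, -⟩ := exists_inverse hφ hQr
      have h1 := congr_mem_of_invariant hBinv hQH (hDi.1 Q hη) hηr hb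
      have h2 : MulAut.congr (homEquiv (hDi.1 Q hη) hηr) (MulAut.congr e (a : MulAut P)) =
          (a : MulAut P) := by
        have hback : ∀ y : P, homEquiv (hDi.1 Q hη) hηr (e y) = y := fun y =>
          Subtype.ext (hηi y _)
        refine MulEquiv.ext fun y => ?_
        conv_lhs => rw [← hback y, congr_apply, congr_apply, hback]
      exact h2 ▸ h1
    set A := D.autGroup Q with hA
    have hQU := hQH.trans hHU
    have : Finite (MulAut Q) := finite_mulAut hQU
    obtain ⟨-, Y, hY⟩ := isFullyAutomized_of_fullyNormalized hpH hD hQn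
    have hYle : (Y : Subgroup A) ≤ (R.autGroup Q).subgroupOf A := by
      rw [hY]
      intro x hx
      exact autInducedBy_le_autGroup R hQU
        (autInducedBy_mono hHU (Subgroup.mem_subgroupOf.1 hx))
    let Z : Subgroup ((R.autGroup Q).subgroupOf A) :=
      (B.autGroup Q).comap (A.subtype.comp ((R.autGroup Q).subgroupOf A).subtype)
    have hZ : ⊤ ≤ Z := by
      rw [← Transfer.sylow_sup_pResidual_eq_top (Y.subtype hYle)]
      refine sup_le (fun x hx => ?_) ((Subgroup.closure_le _).2 fun x hx => ?_)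
      · have hx' : (x : A) ∈ (Y : Subgroup A) := hx
        rw [hY] at hx'
        exact autInducedBy_le_autGroup B hQH (Subgroup.mem_subgroupOf.1 hx')
      · refine hBi.2.2 Q hQH ⟨⟨_, x.2⟩, Subgroup.subset_closure ?_, rfl⟩
        show (orderOf _).Coprime p
        exact Eq.subst (motive := fun m : ℕ => m.Coprime p) ((Subgroup.orderOf_mk _ _).trans
          ((Subgroup.orderOf_coe (x : A)).trans (Subgroup.orderOf_coe x))).symm hx
    have hbA : MulAut.congr e (a : MulAut P) ∈ A := congr_mem_autGroup hφ hQr a.2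
    have hbR : MulAut.congr e (a : MulAut P) ∈ R.autGroup Q :=
      hR.2.1.2 Q hQU ⟨⟨_, autGroup_le_of_subsystem hDi.1 hQH hbA⟩,
        Subgroup.subset_closure ⟨k, by
          rw [Subgroup.orderOf_mk, MulEquiv.orderOf_eq, Subgroup.orderOf_coe]
          exact hk⟩, rfl⟩
    exact hZ (Subgroup.mem_top ⟨⟨_, hbA⟩, hbR⟩)
  rw [iff_step hU hG rfl hD hDi, ← ih _ hlt' D rfl hpH hD,
    iff_pPowerIndex hU hR.1 hHU hB hBi, ih _ hlt' D rfl hpH hD, ih _ hlt' B rfl hpH hB,
    residual_eq hpH hD hB hBD hlarge]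

/-- A saturated subsystem of index prime to `p` has the same limits. -/
theorem iff_large [Finite U] [Fact p.Prime] {G G' : FusionSystem U} (hU : IsPGroup p U)
    (hG : G.IsSaturated p) (hG' : G'.IsSaturated p) (hsub : G'.IsSubsystemOf G)
    (hl : IsLargeOnCentric G' G p) : L.IsResidualLimitOf G p ↔ L.IsResidualLimitOf G' p := by
  rw [iff_residual _ G rfl hU hG, iff_residual _ G' rfl hU hG', residual_eq hU hG hG' hsub hl]

theorem le {S : Subgroup Ω} {F : FusionSystem S} (h : L.IsResidualLimitOf F p) :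
    L.IsSubsystemOf F := by
  induction h with
  | stable F p => exact fun _ _ hφ => hφ
  | step F p D D' hD hD' _ ih => exact fun P φ hφ => hD.2.1 P (hD'.2.1.1 P (ih P hφ))

end Limit

end Cfsg.Agent.Fusion
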