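import Cfsg.Agent.S5198
import Cfsg.Agent.Lib.Fusion.ResidualLimit
import Cfsg.Agent.Lib.Fusion.PrimeQuotient
import Cfsg.Agent.Lib.Fusion.ProductFactor

/-!
Descent along a normal series of `Aut_F(T)`, `T` carrying a normal subsystem `E`: a normal subgroup
`K` between `Aut_E(T)` and `Aut_F(T)` reached by `p`- and `p'`-steps carries a normal subsystem
over the elements of `S` acting on `T` through `K`, with automiser `K` of `T` and unchanged limits.
-/

set_option autoImplicit false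
set_option linter.unusedSectionVars false

namespace Cfsg.Agent.Fusion.AutomizerStage

open Cfsg Cfsg.FusionSystem Cfsg.Agent.Fusion

variable {Ω : Type*} [Group Ω] {S T U : Subgroup Ω} {F : FusionSystem S} {p : ℕ}

/-- Conjugation on `T`. -/
def conjOn (hn : S ≤ Subgroup.normalizer (T : Set Ω)) : S →* MulAut T :=
  MonoidHom.mk' (fun g => conjAut (hn g.2)) fun g k => MulEquiv.ext fun t => Subtype.ext (by
    show ((g : Ω) * k) * (t : Ω) * ((g : Ω) * k)⁻¹ = (g : Ω) * ((k : Ω) * t * (k : Ω)⁻¹) * (g : Ω)⁻¹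
    group)

/-- The elements of `S` acting on `T` through `K`. -/
def preimage (hn : S ≤ Subgroup.normalizer (T : Set Ω)) (K : Subgroup (MulAut T)) : Subgroup Ω :=
  (K.comap (conjOn hn)).map S.subtype

variable {hn : S ≤ Subgroup.normalizer (T : Set Ω)} {K K' : Subgroup (MulAut T)}

theorem mem_preimage {g : Ω} : g ∈ preimage hn K ↔ ∃ hg : g ∈ S, conjAut (hn hg) ∈ K :=
  ⟨by rintro ⟨⟨g, hg⟩, h, rfl⟩; exact ⟨hg, h⟩, fun ⟨hg, h⟩ => ⟨⟨g, hg⟩, h, rfl⟩⟩

theorem preimage_le : preimage hn K ≤ S := Subgroup.map_subtype_le _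

theorem preimage_mono (h : K ≤ K') : preimage hn K ≤ preimage hn K' :=
  Subgroup.map_mono (Subgroup.comap_mono h)

theorem centralizer_le_preimage : centralizerIn S T ≤ preimage hn K := fun c hc => by
  refine mem_preimage.2 ⟨hc.1, ?_⟩
  rw [show conjAut (hn hc.1) = 1 from MulEquiv.ext fun t => Subtype.ext (by
    show c * (t : Ω) * c⁻¹ = (t : Ω)
    rw [← Subgroup.mem_centralizer_iff.1 hc.2 t t.2, mul_inv_cancel_right])]
  exact one_mem _

theorem le_preimage (hT : T ≤ S) (hK : Inn T ≤ K) : T ≤ preimage hn K := fun t ht =>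
  mem_preimage.2 ⟨hT ht, hK ⟨⟨t, ht⟩, MulEquiv.ext fun _ => Subtype.ext rfl⟩⟩

/-- The elements acting through a normal subgroup of `Aut_F(T)` form a strongly closed subgroup. -/
theorem stronglyClosed_preimage [Finite S] [Fact p.Prime] (hS : IsPGroup p S)
    (hF : F.IsSaturated p) (hT : F.StronglyClosed T) (hK : Inn T ≤ K)
    (hconj : ∀ d ∈ F.autGroup T, ∀ a ∈ K, d * a * d⁻¹ ∈ K) :
    F.StronglyClosed (preimage hn K) := by
  refine ⟨preimage_le, fun P hP φ hφ x => ?_⟩
  have hTS := hT.1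
  have : (K.subgroupOf (F.autGroup T)).Normal := ⟨fun k hk d => hconj _ d.2 _ hk⟩
  let ν : S →* F.autGroup T := (conjOn hn).codRestrict _ fun g =>
    autInducedBy_le_autGroup F hTS (conjAut_mem_autInducedBy g.2 (hn g.2))
  let ψ : S →* F.autGroup T ⧸ K.subgroupOf (F.autGroup T) := (QuotientGroup.mk' _).comp ν
  have hker : ∀ (t : Ω) (ht : t ∈ T), ψ ⟨t, hTS ht⟩ = 1 := fun t ht => by
    obtain ⟨_, h⟩ := mem_preimage.1 (le_preimage (hn := hn) hTS hK ht)
    exact (QuotientGroup.eq_one_iff _).2 h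
  obtain ⟨l, hl⟩ := exists_intertwiner hS hF hT ψ hker (fun R hRS hTR α hα => by
    have hres := restrict_mem ((mem_autGroup_iff hRS).1 hα) hTR
    have := finite_of_le (Ω := Ω) hTS
    have hr := range_eq_of_le hres hTS (fun t => hT.2 T le_rfl _ hres t) le_rfl
    refine ⟨QuotientGroup.mk' _ ⟨_, toAut_mem hres hr⟩, fun y => ?_⟩
    show QuotientGroup.mk' _ (ν _) = _ * QuotientGroup.mk' _ (ν _) * _
    rw [← map_inv, ← map_mul, ← map_mul]
    refine congrArg _ (eq_mul_inv_iff_mul_eq.2 (Subtype.ext (MulEquiv.ext fun t => Subtype.ext ?_)))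
    show ((α y : R) : Ω) * ((α ⟨t, hTR t.2⟩ : R) : Ω) * ((α y : R) : Ω)⁻¹ =
      ((α ⟨(y : Ω) * t * (y : Ω)⁻¹, _⟩ : R) : Ω)
    rw [← Subgroup.coe_mul, ← Subgroup.coe_inv, ← Subgroup.coe_mul, ← map_mul, ← map_inv, ← map_mul]
    rfl) hφ
  obtain ⟨hxS, hxK⟩ := mem_preimage.1 (hP x.2)
  have h1 : ψ ⟨φ x, apply_mem hφ x⟩ = 1 := by
    rw [hl x (apply_mem hφ x) hxS, show ψ ⟨x, hxS⟩ = 1 from (QuotientGroup.eq_one_iff _).2 hxK]
    group
  exact mem_preimage.2 ⟨apply_mem hφ x,
    Subgroup.mem_subgroupOf.1 ((QuotientGroup.eq_one_iff _).1 h1)⟩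

/-! ### The extension condition -/

/-- `β` extends `α` to `T C_S(T)` and moves `C_S(T)` inside `Z(T)`. -/
def IsExt (S : Subgroup Ω) (α : MulAut T) (β : MulAut ↥(T ⊔ centralizerIn S T)) : Prop :=
  (∀ x : T, ((β (Subgroup.inclusion le_sup_left x) : ↥(T ⊔ centralizerIn S T)) : Ω) = ((α x : T) : Ω)) ∧
    ∀ c : ↥(T ⊔ centralizerIn S T), (c : Ω) ∈ centralizerIn S T →
      (c : Ω)⁻¹ * ((β c : ↥(T ⊔ centralizerIn S T)) : Ω) ∈ T ⊓ Subgroup.centralizer (T : Set Ω)

theorem IsExt.mul (hT : T ≤ S) {α α' : MulAut T} {β β' : MulAut ↥(T ⊔ centralizerIn S T)}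
    (h : IsExt S α β) (h' : IsExt S α' β') : IsExt S (α * α') (β * β') := by
  refine ⟨fun x => ?_, fun c hc => ?_⟩
  · rw [MulAut.mul_apply, show β' (Subgroup.inclusion le_sup_left x) =
      Subgroup.inclusion le_sup_left (α' x) from Subtype.ext (h'.1 x), h.1]
    rfl
  · have h1 := h'.2 c hc
    have hγc : ((β' c : ↥(T ⊔ centralizerIn S T)) : Ω) ∈ centralizerIn S T := by
      refine ⟨sup_le hT (centralizerIn_le S T) (β' c).2, ?_⟩
      have h2 := (Subgroup.centralizer (T : Set Ω)).mul_mem hc.2 h1.2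
      rwa [mul_inv_cancel_left] at h2
    have h3 := mul_mem h1 (h.2 _ hγc)
    rw [MulAut.mul_apply]
    simpa [mul_assoc] using h3

theorem IsExt.one : IsExt S (1 : MulAut T) 1 := ⟨fun _ => rfl, fun c _ => by simp⟩

theorem IsExt.pow (hT : T ≤ S) {α : MulAut T} {β : MulAut ↥(T ⊔ centralizerIn S T)}
    (h : IsExt S α β) : ∀ n : ℕ, IsExt S (α ^ n) (β ^ n)
  | 0 => by simpa using IsExt.one
  | n + 1 => by simpa [pow_succ] using (IsExt.pow hT h n).mul hT h

/-- The automorphisms of `T` extending in `D`. -/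
def extGroup [Finite S] (hT : T ≤ S) (D : FusionSystem U) : Subgroup (MulAut T) where
  carrier := {α | ∃ β ∈ D.autGroup (T ⊔ centralizerIn S T), IsExt S α β}
  one_mem' := ⟨1, one_mem _, IsExt.one⟩
  mul_mem' := fun ⟨β, hβ, h⟩ ⟨β', hβ', h'⟩ => ⟨β * β', mul_mem hβ hβ', h.mul hT h'⟩
  inv_mem' := fun {α} ⟨β, hβ, h⟩ => by
    have : Finite (MulAut T) := finite_mulAut hT
    rw [show α⁻¹ = α ^ (orderOf α - 1) from inv_eq_of_mul_eq_one_right (by
      rw [← pow_succ', Nat.sub_add_cancel (orderOf_pos α), pow_orderOf_eq_one])]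
    exact ⟨_, pow_mem hβ _, h.pow hT _⟩

theorem centralizerIn_eq {U : Subgroup Ω} (hC : centralizerIn S T ≤ U) (hU : U ≤ S) :
    centralizerIn U T = centralizerIn S T :=
  le_antisymm (inf_le_inf_right _ hU) (le_inf hC inf_le_right)

theorem ext_congr {C C' : Subgroup Ω} (h : C = C') {G : FusionSystem U} {α : MulAut T}
    (hx : ∃ β ∈ G.autGroup (T ⊔ C),
      (∀ x : T, ((β (Subgroup.inclusion le_sup_left x) : ↥(T ⊔ C)) : Ω) = ((α x : T) : Ω)) ∧
      ∀ c : ↥(T ⊔ C), (c : Ω) ∈ C →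
        (c : Ω)⁻¹ * ((β c : ↥(T ⊔ C)) : Ω) ∈ T ⊓ Subgroup.centralizer (T : Set Ω)) :
    ∃ β ∈ G.autGroup (T ⊔ C'),
      (∀ x : T, ((β (Subgroup.inclusion le_sup_left x) : ↥(T ⊔ C')) : Ω) = ((α x : T) : Ω)) ∧
      ∀ c : ↥(T ⊔ C'), (c : Ω) ∈ C' →
        (c : Ω)⁻¹ * ((β c : ↥(T ⊔ C')) : Ω) ∈ T ⊓ Subgroup.centralizer (T : Set Ω) := by
  subst h
  exact hx

/-- Extensions exist in a system in which `E` is normal. -/
theorem exists_ext {E : FusionSystem T} {G : FusionSystem U} (hC : centralizerIn S T ≤ U)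
    (hU : U ≤ S) (hE : E.IsNormalIn G p) {α : MulAut T} (hα : α ∈ E.autGroup T) :
    ∃ β ∈ G.autGroup (T ⊔ centralizerIn S T), IsExt S α β := by
  exact ext_congr (centralizerIn_eq hC hU) (hE.2 α hα)

/-- Normality of `E` in a saturated subsystem. -/
theorem isNormalIn_sub [Finite S] [Fact p.Prime] (hS : IsPGroup p S) {E : FusionSystem T}
    (hE : E.IsNormalIn F p) {G : FusionSystem U} (hGs : G.IsSaturated p)
    (hG : G.IsSubsystemOf F) (hEG : E.IsSubsystemOf G) (hC : centralizerIn S T ≤ U)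
    (hext : ∀ α ∈ E.autGroup T, ∃ β ∈ G.autGroup (T ⊔ centralizerIn S T), IsExt S α β) :
    E.IsNormalIn G p := by
  have hUS : U ≤ S := dom_le (hG U (subtype_mem G le_rfl))
  have := finite_of_le (Ω := Ω) hUS
  have hTU : T ≤ U := dom_le (hEG T (subtype_mem E le_rfl))
  have hcl : G.StronglyClosed T := ⟨hTU, fun P hP φ hφ => hE.1.2.2.2.1.2 P hP φ (hG P hφ)⟩
  have hinv := isInvariantIn_of_stronglyInvariant (hS.to_le hUS) hGs hEG hcl
    fun P Q hPQ hQT φ hφ hφQ ψ hψ =>
      stronglyInvariant_of_invariant hE.1.2.2 P Q hPQ hQT φ hφ hφQ ψ (hG Q hψ)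
  exact ⟨⟨hE.1.1, hGs, hinv⟩, fun α hα => ext_congr (centralizerIn_eq hC hUS).symm (hext α hα)⟩

/-! ### The steps -/

/-- A normal subsystem with automiser `K` of `T` and the limits of `F`. -/
structure Stage (F : FusionSystem S) (E : FusionSystem T) (p : ℕ)
    (hn : S ≤ Subgroup.normalizer (T : Set Ω)) (K : Subgroup (MulAut T)) (U : Subgroup Ω)
    (G : FusionSystem U) : Prop where
  normal : G.IsNormalIn F p
  sub : E.IsNormalIn G p
  aut : G.autGroup T = K
  carrier : U = preimage hn K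
  limits : ∀ {V : Subgroup Ω} (L : FusionSystem V),
    L.IsResidualLimitOf G p ↔ L.IsResidualLimitOf F p

variable [Finite S] [Fact p.Prime] {E : FusionSystem T}

/-- The step where the elements of order prime to `p` survive. -/
theorem step_p (hS : IsPGroup p S) (hE : E.IsNormalIn F p) {G : FusionSystem U}
    (h : Stage F E p hn K U G) (hle : K' ≤ K) (hEK : E.autGroup T ≤ K')
    (hconj : ∀ d ∈ F.autGroup T, ∀ a ∈ K', d * a * d⁻¹ ∈ K')
    (hp : ∀ a ∈ K, (orderOf a).Coprime p → a ∈ K') :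
    ∃ (U' : Subgroup Ω) (G' : FusionSystem U'), Stage F E p hn K' U' G' := by
  obtain ⟨hGn, hEG, haut, hUeq, hlim⟩ := h
  have hF : F.IsSaturated p := hGn.1.2.1
  have hG := hGn.1.1
  have hGinv := hGn.1.2.2
  have hTc := hE.1.2.2.2.1
  have hTS := hTc.1
  have hUS : U ≤ S := hGinv.2.1.1
  have := finite_of_le (Ω := Ω) hUS
  have := finite_of_le (Ω := Ω) hTS
  have := finite_mulAut (Ω := Ω) hTS
  have hU := hS.to_le hUS
  have hInn : Inn T ≤ K' := (inn_le_autGroup E le_rfl).trans hEK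
  set U' := preimage hn K' with hU'def
  have hU'U : U' ≤ U := hUeq ▸ preimage_mono hle
  have hcl : F.StronglyClosed U' := stronglyClosed_preimage hS hF hTc hInn hconj
  have hclG : G.StronglyClosed U' :=
    ⟨hU'U, fun P hP φ hφ => hcl.2 P hP φ (hGinv.1 P hφ)⟩
  have hTclG : G.StronglyClosed T := hEG.1.2.2.2.1
  have hres : (pResidual p (G.autGroup T)).map (G.autGroup T).subtype ≤ K' := by
    rw [Subgroup.map_le_iff_le_comap]
    refine (Subgroup.closure_le _).2 fun a ha => hp a (haut ▸ a.2) ?_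
    exact Eq.subst (motive := fun m : ℕ => m.Coprime p) (Subgroup.orderOf_coe a).symm ha
  have hhyp : G.hyperfocalSubgroup p ≤ U' := fun x hx => by
    obtain ⟨α, hα, hv⟩ := S5198.result p hU G hG T hTclG x hx
    have hxS : x ∈ S := hUS (hyperfocal_le G p hx)
    refine mem_preimage.2 ⟨hxS, ?_⟩
    rw [show conjAut (hn hxS) = α from MulEquiv.ext fun t => Subtype.ext (hv t).symm]
    exact sup_le hres hInn hα
  obtain ⟨G', hG', hi⟩ := exists_pPowerIndex hU hG hU'U hhyp
  have hG'n : G'.IsNormalIn G p := isNormalIn_of_pPowerIndex hU hG hclG hG' hi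
  have hG'F : G'.IsNormalIn F p := by
    refine isNormalIn_of_centralizer hF hG' (isInvariantIn_trans hGinv hU'U hcl hG'n.1.2.2
      (transports_pIndex_of_invariant hS hGinv hU'U hcl hG' hi)) ?_
    exact le_trans (inf_le_inf_left S (Subgroup.centralizer_le
      (le_preimage (hn := hn) hTS hInn))) centralizer_le_preimage
  have hC : centralizerIn S T ≤ U' := centralizer_le_preimage
  have hX : T ⊔ centralizerIn S T ≤ U' := sup_le (le_preimage hTS hInn) hC
  have hEG' : E.IsSubsystemOf G' :=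
    S5199.result p hU G hG E hEG G' hG'n (sup_le (le_preimage hTS hInn) hhyp) hi
  refine ⟨U', G', hG'F, ?_, ?_, rfl, fun L => ?_⟩
  · refine isNormalIn_sub hS hE hG' hG'F.1.2.2.1 hEG' hC ?_
    show E.autGroup T ≤ extGroup hTS G'
    refine autGroup_le_of_residual (isFullyAutomized_self (hS.to_le hTS) hE.1.1) ?_ ?_
    · rw [Subgroup.map_le_iff_le_comap]
      refine (Subgroup.closure_le _).2 fun a ha => ?_
      show (a : MulAut T) ∈ extGroup hTS G'
      obtain ⟨β, hβ, hext⟩ := exists_ext (hC.trans hU'U) hUS hEG a.2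
      have := finite_autGroup (F := G) (hX.trans hU'U)
      obtain ⟨e, he⟩ := ConstrainedGroup.exists_pow_coprime (p := p)
        (⟨β, hβ⟩ : G.autGroup (T ⊔ centralizerIn S T))
      have hres' : (⟨β, hβ⟩ : G.autGroup (T ⊔ centralizerIn S T)) ^ p ^ e ∈
          pResidual p (G.autGroup (T ⊔ centralizerIn S T)) := Subgroup.subset_closure he
      refine ConstrainedGroup.mem_of_pow_mem_of_coprime _
        (⟨_, hi.2.2 _ hX ⟨_, hres', rfl⟩, hext.pow hTS (p ^ e)⟩ :
          (a : MulAut T) ^ p ^ e ∈ extGroup hTS G') (Nat.Coprime.pow_left _ ?_)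
      rw [Subgroup.orderOf_coe]
      exact Nat.Coprime.symm ha
    · intro α hα
      obtain ⟨t, ht, htx⟩ := mem_autInducedBy_iff.1 hα
      have htX : t ∈ T ⊔ centralizerIn S T := Subgroup.mem_sup_left ht
      refine ⟨conjAut (Subgroup.le_normalizer htX),
        autInducedBy_le_autGroup G' hX (conjAut_mem_autInducedBy (hX htX) _),
        fun x => (htx x).symm, fun c hc => ?_⟩
      rw [coe_conjAut, show t * (c : Ω) * t⁻¹ = c by
        rw [Subgroup.mem_centralizer_iff.1 hc.2 t ht, mul_inv_cancel_right], inv_mul_cancel]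
      exact one_mem _
  · have hTU' : T ≤ U' := le_preimage hTS hInn
    have := finite_of_le (Ω := Ω) hcl.1
    have hTfn := isFullyNormalized_of_stronglyClosed hTclG
    refine le_antisymm (autGroup_le_of_residual (isFullyAutomized_of_fullyNormalized
      (hS.to_le hcl.1) hG' (isFullyNormalized_of_stronglyClosed (F := G')
        ⟨hTU', fun P hP φ hφ => hTclG.2 P hP φ (hi.1 P hφ)⟩)) ?_ ?_) ?_
    · rw [Subgroup.map_le_iff_le_comap]
      refine (Subgroup.closure_le _).2 fun a ha => hp a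
        (haut ▸ autGroup_le_of_subsystem hi.1 hTU' a.2) ?_
      exact Eq.subst (motive := fun m : ℕ => m.Coprime p) (Subgroup.orderOf_coe a).symm ha
    · intro α hα
      obtain ⟨g, hg, hgx⟩ := mem_autInducedBy_iff.1 hα
      obtain ⟨hgS, hgK⟩ := mem_preimage.1 hg
      rwa [show α = conjAut (hn hgS) from MulEquiv.ext fun t => Subtype.ext (hgx t)]
    · obtain ⟨-, Y, hY⟩ := isFullyAutomized_of_fullyNormalized hU hG hTfn
      have hn' : (K'.subgroupOf (G.autGroup T)).Normal :=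
        ⟨fun k hk d => hconj _ (autGroup_le_of_subsystem hGinv.1 hTclG.1 d.2) _ hk⟩
      obtain ⟨Y', hY'⟩ := SylowCount.exists_sylow_inf Y (K'.subgroupOf (G.autGroup T))
      let Z : Subgroup (K'.subgroupOf (G.autGroup T)) := (G'.autGroup T).comap
        ((G.autGroup T).subtype.comp (K'.subgroupOf (G.autGroup T)).subtype)
      have hZ : ⊤ ≤ Z := by
        rw [← Transfer.sylow_sup_pResidual_eq_top Y']
        refine sup_le (fun x hx => ?_) ((Subgroup.closure_le _).2 fun x hx => ?_)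
        · rw [hY', Subgroup.mem_subgroupOf, hY, Subgroup.mem_subgroupOf] at hx
          obtain ⟨g, hg, hgx⟩ := mem_autInducedBy_iff.1 hx
          refine autInducedBy_le_autGroup G' hTU' (mem_autInducedBy_iff.2
            ⟨g, mem_preimage.2 ⟨hUS hg, ?_⟩, hgx⟩)
          rw [show conjAut (hn (hUS hg)) = ((x : G.autGroup T) : MulAut T) from
            MulEquiv.ext fun t => Subtype.ext (hgx t).symm]
          exact x.2
        · refine hi.2.2 T hTU' ⟨(x : G.autGroup T), Subgroup.subset_closure ?_, rfl⟩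
          exact Eq.subst (motive := fun m : ℕ => m.Coprime p) (Subgroup.orderOf_coe x).symm hx
      intro a ha
      exact hZ (Subgroup.mem_top ⟨⟨a, haut.symm ▸ hle ha⟩, ha⟩)
  · exact (Limit.iff_pPowerIndex hU hG hU'U hG' hi).symm.trans (hlim L)

/-- The step where the elements of `p`-power order survive. -/
theorem step_prime (hS : IsPGroup p S) (hE : E.IsNormalIn F p) {G : FusionSystem U}
    (h : Stage F E p hn K U G) (hle : K' ≤ K) (hEK : E.autGroup T ≤ K')
    (hconj : ∀ d ∈ F.autGroup T, ∀ a ∈ K', d * a * d⁻¹ ∈ K')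
    (hp : ∀ a ∈ K, ∀ k : ℕ, a ^ p ^ k = 1 → a ∈ K') :
    ∃ (U' : Subgroup Ω) (G' : FusionSystem U'), Stage F E p hn K' U' G' := by
  obtain ⟨hGn, hEG, haut, hUeq, hlim⟩ := h
  have hF : F.IsSaturated p := hGn.1.2.1
  have hG := hGn.1.1
  have hGinv := hGn.1.2.2
  have hTc := hE.1.2.2.2.1
  have hTS := hTc.1
  have hUS : U ≤ S := hGinv.2.1.1
  have := finite_of_le (Ω := Ω) hUS
  have := finite_of_le (Ω := Ω) hTS
  have hU := hS.to_le hUS
  have hEi := hE.1.2.2
  have hcarrier : U = preimage hn K' := by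
    refine hUeq.trans (le_antisymm (fun g hg => ?_) (preimage_mono hle))
    obtain ⟨hgS, hgK⟩ := mem_preimage.1 hg
    obtain ⟨k, hk⟩ := conjAut_pow_eq_one hS (conjAut_mem_autInducedBy hgS (hn hgS))
    exact mem_preimage.2 ⟨hgS, hp _ hgK k hk⟩
  have hC : centralizerIn S T ≤ U := hUeq ▸ centralizer_le_preimage
  have hTU : T ≤ U := hEG.1.2.2.2.1.1
  have hrel : RelData G E p K' :=
    { sub := hEG.1.2.2.1
      closed := hEG.1.2.2.2.1
      transports := hEG.1.2.2.2.2.1
      frattini := hEG.1.2.2.2.2.2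
      satE := hE.1.1
      satF := hG
      le := haut ▸ hle
      conj := fun d hd a ha => hconj d (autGroup_le_of_subsystem hGinv.1 hTU hd) a ha
      pElt := fun a ha k hk => hp a (haut ▸ ha) k hk
      aut := hEK }
  have hrelF : RelData F E p (F.autGroup T) :=
    { sub := hEi.1
      closed := hTc
      transports := hEi.2.2.1
      frattini := hEi.2.2.2
      satE := hE.1.1
      satF := hF
      le := le_rfl
      conj := fun d hd a ha => mul_mem (mul_mem hd ha) (inv_mem hd)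
      pElt := fun a ha _ _ => ha
      aut := autGroup_le_of_subsystem hEi.1 le_rfl }
  set G' := hrel.quotSystem hU with hG'def
  have hG' : G'.IsSaturated p := hrel.isSaturated_quot hU hEG
  have htr : Transports G' F := by
    intro P hP φ hφ α hα
    suffices hpull : G' ≤ pullSystem G' G' α by
      obtain ⟨-, _, h⟩ := hpull P hφ
      exact h
    refine hrel.quot_le_of_good hU hEG _ fun R hR ψ hψ => ⟨hψ, hR.1.1, ?_⟩
    have hRU := hR.1.1
    obtain ⟨χ, hχ, hχv⟩ := hGinv.2.2.1 R hRU ψ hψ.1 α hα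
    refine ⟨χ, ?_, hχv⟩
    -- `b` is the restriction of `α` to `T`
    have hαT := restrict_mem ((mem_autGroup_iff hUS).1 hα) hTU
    have hαr := range_eq_of_le hαT hTS (fun t => hTc.2 T le_rfl _ hαT t) le_rfl
    set b := toAut hαT hαr with hbdef
    have hb : b ∈ F.autGroup T := toAut_mem hαT hαr
    have hbv : ∀ t : T, ((b t : T) : Ω) = ((α ⟨t, hTU t.2⟩ : U) : Ω) := fun t => rfl
    have hpre : ∀ y ∈ ((R.subgroupOf U).map (U.subtype.comp α.toMonoidHom)) ⊓ T, ∃ r : ↥(R ⊓ T), ((b ⟨r, r.2.2⟩ : T) : Ω) = y := by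
      rintro _ ⟨⟨⟨r, hrU⟩, hr, rfl⟩, hyT⟩
      obtain ⟨⟨t, htT⟩, ht⟩ := b.surjective ⟨_, hyT⟩
      have h1 : (⟨t, hTU htT⟩ : U) = ⟨r, hrU⟩ :=
        α.injective (Subtype.ext ((hbv ⟨t, htT⟩).symm.trans (congrArg Subtype.val ht)))
      have h2 : t = r := congrArg Subtype.val h1
      exact ⟨⟨t, h2 ▸ hr, htT⟩, congrArg Subtype.val ht⟩
    have hres : (T.subtype.comp b.toMonoidHom).comp
        (Subgroup.inclusion (inf_le_right : R ⊓ T ≤ T)) ∈ F.Hom (R ⊓ T) :=
      restrict_mem ((mem_autGroup_iff hTS).1 hb) _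
    have hR'c : E.IsCentric (((R.subgroupOf U).map (U.subtype.comp α.toMonoidHom)) ⊓ T) := by
      convert hrelF.isCentric_image hR.2 hres using 1
      ext y
      constructor
      · intro hy
        obtain ⟨r, hr⟩ := hpre y hy
        exact ⟨r, hr⟩
      · rintro ⟨r, rfl⟩
        exact ⟨⟨⟨r, hRU r.2.1⟩, r.2.1, rfl⟩, (b _).2⟩
    refine hrel.quot_of_kOn hU hR'c hχ fun Q hQR hQT => ?_
    obtain ⟨a, ha, e, he, hev⟩ := hrel.quot_kOn hU hψ (R ⊓ T) inf_le_left inf_le_right
    obtain ⟨e', he', hev'⟩ := hEi.2.2.1 |> fun h => Transports.exists_map (F := F) h he hb (P' := Q)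
      fun y hy => hpre y ⟨hQR hy, hQT hy⟩
    refine ⟨b * a * b⁻¹, hconj b hb a ha, e', he', fun y hy => ?_⟩
    obtain ⟨r, hr⟩ := hpre y ⟨hQR y.2, hQT y.2⟩
    have hψr := apply_mem hψ.1 (Subgroup.inclusion (inf_le_left : R ⊓ T ≤ R) r)
    have hrR' : ((α ⟨r, hRU r.2.1⟩ : U) : Ω) ∈ ((R.subgroupOf U).map (U.subtype.comp α.toMonoidHom)) := ⟨⟨r, hRU r.2.1⟩, r.2.1, rfl⟩
    have h1 := hχv (Subgroup.inclusion inf_le_left r) hψr hrR'
    have h2 := hev' r (apply_mem he r) (hr.symm ▸ y.2)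
    have h3 : (⟨(y : Ω), hQR y.2⟩ : ((R.subgroupOf U).map (U.subtype.comp α.toMonoidHom))) = ⟨_, hrR'⟩ := Subtype.ext hr.symm
    have h4 : (⟨e' y, hy⟩ : T) = b ⟨e r, apply_mem he r⟩ :=
      Subtype.ext ((congrArg e' (Subtype.ext hr.symm)).trans h2)
    rw [h4, MulAut.mul_apply, MulAut.mul_apply, MulAut.inv_apply_self, hbv]
    refine (congrArg χ h3).trans (h1.trans ?_)
    exact congrArg (fun u : U => ((α u : U) : Ω)) (Subtype.ext (hev r (apply_mem he r)))
  have hG'inv : G'.IsInvariantIn F := isInvariantIn_trans hGinv le_rfl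
    hGinv.2.1 (hrel.isInvariantIn_quot hU) htr
  have hG'F : G'.IsNormalIn F p := isNormalIn_of_centralizer hF hG' hG'inv
    (le_trans (inf_le_inf_left S (Subgroup.centralizer_le hTU)) hC)
  have hsubG : G'.IsSubsystemOf G := fun _ _ hφ => hφ.1
  refine ⟨U, G', hG'F, ?_, ?_, hcarrier, fun L => ?_⟩
  · refine isNormalIn_sub hS hE hG' hG'inv.1 (hrel.subsystem_le_quot hU) hC fun α hα => ?_
    obtain ⟨β, hβ, hext⟩ := exists_ext hC hUS hEG hα
    have hX : T ⊔ centralizerIn S T ≤ U := sup_le hTU hC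
    refine ⟨β, (mem_autGroup_iff hX).2 (hrel.quot_of_kOn hU ?_ ((mem_autGroup_iff hX).1 hβ)
      fun Q hQX hQT => ⟨α, hEK hα, Q.subtype, subtype_mem E hQT, fun x hx => ?_⟩), hext⟩
    · rw [inf_eq_right.2 le_sup_left]
      exact isCentric_self E
    · exact hext.1 ⟨x, hQT x.2⟩
  · refine le_antisymm (fun a ha => ?_) fun a ha => ?_
    · obtain ⟨a', ha', e, he, hv⟩ := hrel.quot_kOn hU ((mem_autGroup_iff hTU).1 ha) T le_rfl le_rfl
      have hr : e.range = T := range_eq_of_le he le_rfl (apply_mem he) le_rfl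
      convert mul_mem ha' (hEK (toAut_mem he hr)) using 1
      exact MulEquiv.ext fun x => Subtype.ext (hv x (apply_mem he x))
    · refine (mem_autGroup_iff hTU).2 (hrel.quot_of_kOn hU ?_
        ((mem_autGroup_iff hTU).1 (haut ▸ hle ha)) fun Q hQ hQT =>
          ⟨a, ha, Q.subtype, subtype_mem E hQT, fun x hx => rfl⟩)
      rw [inf_idem]
      exact isCentric_self E
  · exact (Limit.iff_large hU hG hG' hsubG (hrel.isLarge_quot hU)).symm.trans (hlim L)

/-- A limit exists. -/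
theorem exists_limit (n : ℕ) : ∀ {U : Subgroup Ω} [Finite U] (G : FusionSystem U),
    Nat.card U = n → IsPGroup p U → G.IsSaturated p →
    ∃ (V : Subgroup Ω) (L : FusionSystem V), L.IsResidualLimitOf G p := by
  induction n using Nat.strong_induction_on with
  | _ n ih =>
  intro U _ G hn hU hG
  have hR := PPrimeResidual.isPPrimeResidual_residual hU hG
  set R := PPrimeResidual.residual G p
  by_cases hG0 : G.hyperfocalSubgroup p = U
  · by_cases hR0 : R.hyperfocalSubgroup p = U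
    · have hRR := PPrimeResidual.isPPrimeResidual_residual hU hR.1
      rw [Limit.residual_eq hU hG hR.1 PPrimeResidual.residual_le
        PPrimeResidual.isLarge_residual] at hRR
      exact ⟨U, R, Limit.of_step hG0.symm hG (S5203.self_pIndex G) hR (.stable R p hR0 hRR)⟩
    · have hlt := lt_of_le_of_ne (hyperfocal_le R p) hR0
      have := finite_of_le (Ω := Ω) hlt.le
      have hpH := hU.to_le hlt.le
      obtain ⟨D, hD, hDi⟩ := exists_pPowerIndex hU hR.1 hlt.le le_rfl
      have hD' := PPrimeResidual.isPPrimeResidual_residual hpH hD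
      obtain ⟨V, L, hL⟩ := ih _ (hn ▸ card_lt_of_lt le_rfl hlt) _ rfl hpH hD'.1
      exact ⟨V, L, Limit.of_step hG0.symm hG (S5203.self_pIndex G) hR
        (Limit.of_step rfl hD hDi hD' hL)⟩
  · have hlt := lt_of_le_of_ne (hyperfocal_le G p) hG0
    have := finite_of_le (Ω := Ω) hlt.le
    have hpH := hU.to_le hlt.le
    obtain ⟨D, hD, hDi⟩ := exists_pPowerIndex hU hG hlt.le le_rfl
    have hD' := PPrimeResidual.isPPrimeResidual_residual hpH hD
    obtain ⟨V, L, hL⟩ := ih _ (hn ▸ card_lt_of_lt le_rfl hlt) _ rfl hpH hD'.1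
    exact ⟨V, L, Limit.of_step rfl hD hDi hD' hL⟩

end Cfsg.Agent.Fusion.AutomizerStage
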