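import Cfsg.Agent.Lib.Fusion.Basic

/-!
For a subgroup `R₀` and a subsystem `D` of allowed maps: the subsystem of `F` containing every map
whose source is not conjugate to `R₀`, in which the maps between conjugates of `R₀` are composites
of maps in `D` and of maps that extend to a larger source.
-/

set_option autoImplicit false

namespace Cfsg.Agent.Fusion

open Cfsg Cfsg.FusionSystem

variable {Ω : Type*} [Group Ω] {S : Subgroup Ω} {F D : FusionSystem S}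

/-- A map of `F` that lies in `D` or is the restriction of a map with a larger source. -/
def AwayStep (F D : FusionSystem S) (P : Subgroup Ω) (φ : P →* Ω) : Prop :=
  φ ∈ F.Hom P ∧ (φ ∈ D.Hom P ∨
    ∃ (P' : Subgroup Ω) (h : P < P'), ∃ ψ ∈ F.Hom P', ∀ x : P, φ x = ψ ⟨x, h.le x.2⟩)

/-- Composites of steps. -/
inductive AwayChain (F D : FusionSystem S) : ∀ P : Subgroup Ω, (P →* Ω) → Prop
  | single {P : Subgroup Ω} {φ : P →* Ω} : AwayStep F D P φ → AwayChain F D P φ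
  | cons {P Q : Subgroup Ω} {φ : P →* Ω} {ψ : Q →* Ω} {χ : P →* Ω} :
      AwayStep F D P φ → ∀ h : φ.range = Q, AwayChain F D Q ψ →
      (∀ x : P, χ x = ψ ⟨φ x, h.le ⟨x, rfl⟩⟩) → AwayChain F D P χ

theorem AwayChain.mem {P : Subgroup Ω} {φ : P →* Ω} (h : AwayChain F D P φ) : φ ∈ F.Hom P := by
  induction h with
  | single h => exact h.1
  | cons h hr _ hχ ih => exact comp_mem' h.1 ih _ hχ

theorem AwayChain.comp {P Q : Subgroup Ω} {φ : P →* Ω} (h : AwayChain F D P φ)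
    {ψ χ : _ →* Ω} (hr : φ.range = Q) (h' : AwayChain F D Q ψ)
    (hχ : ∀ x : P, χ x = ψ ⟨φ x, hr.le ⟨x, rfl⟩⟩) : AwayChain F D P χ := by
  induction h generalizing Q with
  | single h => exact .cons h hr h' hχ
  | @cons P Q₁ φ₁ ψ₁ χ₁ h hr₁ _ hχ₁ ih =>
    have hr₂ : ψ₁.range = Q := by
      rw [← hr]
      ext y
      constructor
      · rintro ⟨⟨z, hz⟩, rfl⟩
        obtain ⟨x, rfl⟩ := hr₁.ge hz
        exact ⟨x, hχ₁ x⟩
      · rintro ⟨x, rfl⟩
        exact ⟨⟨φ₁ x, hr₁.le ⟨x, rfl⟩⟩, (hχ₁ x).symm⟩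
    refine .cons h hr₁ (ih (χ := ψ.comp (ψ₁.codRestrict Q fun z => hr₂.le ⟨z, rfl⟩)) hr₂ h'
      fun z => rfl) fun x => ?_
    rw [hχ]
    show ψ _ = ψ _
    congr 1
    exact Subtype.ext (hχ₁ x)

theorem AwayStep.exists_inverse {P Q : Subgroup Ω} {φ : P →* Ω} (h : AwayStep F D P φ)
    (hr : φ.range = Q) :
    ∃ ψ : Q →* Ω, AwayStep F D Q ψ ∧ ψ.range = P ∧
      ∀ (x : P) (hx : φ x ∈ Q), ψ ⟨φ x, hx⟩ = (x : Ω) := by
  obtain ⟨ψ, hψ, hψr, hi, -⟩ := Fusion.exists_inverse h.1 hr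
  refine ⟨ψ, ⟨hψ, ?_⟩, hψr, hi⟩
  rcases h.2 with hD | ⟨P', hlt, θ, hθ, hφθ⟩
  · exact Or.inl (inv_mem' hD hr hi)
  · obtain ⟨θ', hθ', -, hθi, -⟩ := Fusion.exists_inverse hθ rfl
    refine Or.inr ⟨θ.range, ?_, θ', hθ', ?_⟩
    · refine lt_of_le_of_ne ?_ fun he => ?_
      · rintro y hy
        obtain ⟨x, rfl⟩ := hr.ge hy
        exact ⟨⟨x, hlt.le x.2⟩, (hφθ x).symm⟩
      · obtain ⟨z, hz, hzP⟩ := Set.exists_of_ssubset (SetLike.coe_ssubset_coe.2 hlt)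
        have h1 : θ ⟨z, hz⟩ ∈ φ.range := hr ▸ he ▸ ⟨⟨z, hz⟩, rfl⟩
        obtain ⟨x, hx⟩ := h1
        rw [hφθ] at hx
        have hxz : (x : Ω) = z := congrArg Subtype.val (F.injective_of_mem hθ hx)
        exact hzP (hxz ▸ x.2 : z ∈ P)
    · intro y
      obtain ⟨x, hx⟩ := hr.ge y.2
      obtain ⟨y, hy⟩ := y
      change φ x = y at hx
      subst hx
      rw [hi]
      have := hθi ⟨x, hlt.le x.2⟩ ⟨_, rfl⟩
      rw [← this]
      congr 1
      exact Subtype.ext (hφθ x).symm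

theorem AwayChain.exists_inverse {P : Subgroup Ω} {φ : P →* Ω} (h : AwayChain F D P φ) :
    ∃ ψ : φ.range →* Ω, AwayChain F D φ.range ψ ∧ ψ.range = P ∧
      ∀ (x : P) (hx : φ x ∈ φ.range), ψ ⟨φ x, hx⟩ = (x : Ω) := by
  induction h with
  | single h =>
    obtain ⟨ψ, hψ, hr, hi⟩ := h.exists_inverse rfl
    exact ⟨ψ, .single hψ, hr, hi⟩
  | @cons P Q φ ψ χ h hr hc hχ ih =>
    obtain ⟨ψ', hψ', hψ'r, hi'⟩ := ih
    obtain ⟨φ', hφ', hφ'r, hi⟩ := h.exists_inverse hr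
    have he : ψ.range = χ.range := by
      ext y
      constructor
      · rintro ⟨⟨z, hz⟩, rfl⟩
        obtain ⟨x, rfl⟩ := hr.ge hz
        exact ⟨x, hχ x⟩
      · rintro ⟨x, rfl⟩
        exact ⟨⟨φ x, hr.le ⟨x, rfl⟩⟩, (hχ x).symm⟩
    let ω : χ.range →* Ω :=
      φ'.comp ((ψ'.comp (Subgroup.inclusion he.ge)).codRestrict Q fun z => hψ'r.le ⟨_, rfl⟩)
    have h1 : AwayChain F D χ.range ω := by
      have : AwayChain F D ψ.range
          (φ'.comp (ψ'.codRestrict Q fun z => hψ'r.le ⟨_, rfl⟩)) :=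
        hψ'.comp hψ'r (.single hφ') fun x => rfl
      have key : ∀ (A : Subgroup Ω) (e : A = ψ.range),
          AwayChain F D A ((φ'.comp (ψ'.codRestrict Q fun z => hψ'r.le ⟨_, rfl⟩)).comp
            (Subgroup.inclusion e.le)) := by
        rintro _ rfl
        exact this
      exact key χ.range he.symm
    have h2 : ∀ (x : P) (hx : χ x ∈ χ.range), ω ⟨χ x, hx⟩ = (x : Ω) := by
      intro x hx
      show φ' _ = _
      rw [← hi x (hr.le ⟨x, rfl⟩)]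
      congr 1
      apply Subtype.ext
      show ψ' _ = φ x
      have := hi' ⟨φ x, hr.le ⟨x, rfl⟩⟩ ⟨_, rfl⟩
      refine Eq.trans ?_ this
      congr 1
      exact Subtype.ext (hχ x)
    refine ⟨ω, h1, ?_, h2⟩
    ext y
    constructor
    · rintro ⟨⟨_, x, rfl⟩, rfl⟩
      rw [h2 x ⟨x, rfl⟩]
      exact x.2
    · exact fun hy => ⟨⟨χ ⟨y, hy⟩, ⟨y, hy⟩, rfl⟩, h2 ⟨y, hy⟩ _⟩

/-- The maps of `F` whose source is not conjugate to `R₀`, and between conjugates of `R₀` only the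
composites of steps. -/
def awayFrom (F D : FusionSystem S) (R₀ : Subgroup Ω) : FusionSystem S where
  Hom P := {φ | φ ∈ F.Hom P ∧ (F.IsConj R₀ P → AwayChain F D P φ)}
  le_of_mem h := F.le_of_mem h.1
  injective_of_mem h := F.injective_of_mem h.1
  conj_mem hP hg := ⟨F.conj_mem hP hg, fun _ => .single ⟨F.conj_mem hP hg, Or.inl (D.conj_mem hP hg)⟩⟩
  comp_mem := by
    intro P Q φ ψ hφ hψ h
    refine ⟨F.comp_mem hφ.1 hψ.1 h, fun hc => ?_⟩
    have hcr : F.IsConj R₀ φ.range := isConj_trans hc ⟨φ, hφ.1, rfl⟩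
    have hle : φ.range ≤ Q := by
      rintro _ ⟨x, rfl⟩
      exact h x
    refine (hφ.2 hc).comp (ψ := ψ.comp (Subgroup.inclusion hle)) rfl ?_ fun x => rfl
    by_cases he : φ.range = Q
    · subst he
      exact hψ.2 hcr
    · exact .single ⟨restrict_mem hψ.1 hle,
        Or.inr ⟨Q, lt_of_le_of_ne hle he, ψ, hψ.1, fun x => rfl⟩⟩
  inv_mem := by
    intro P φ hφ
    by_cases hc : F.IsConj R₀ P
    · obtain ⟨ψ, hψ, -, hi⟩ := (hφ.2 hc).exists_inverse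
      exact ⟨ψ, ⟨hψ.mem, fun _ => hψ⟩, fun x => hi x _⟩
    · obtain ⟨ψ, hψ, hi⟩ := F.inv_mem hφ.1
      exact ⟨ψ, ⟨hψ, fun h => absurd (isConj_trans h (isConj_symm ⟨φ, hφ.1, rfl⟩)) hc⟩, hi⟩

theorem awayFrom_le (F D : FusionSystem S) (R₀ : Subgroup Ω) : awayFrom F D R₀ ≤ F :=
  fun _ _ h => h.1

theorem mem_awayFrom_iff {R₀ P : Subgroup Ω} {φ : P →* Ω} :
    φ ∈ (awayFrom F D R₀).Hom P ↔ φ ∈ F.Hom P ∧ (F.IsConj R₀ P → AwayChain F D P φ) := Iff.rfl

/-- `awayFrom F D R₀` contains the automorphism groups at subgroups not conjugate to `R₀`. -/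
theorem autGroup_le_awayFrom {R₀ R : Subgroup Ω} (hR : ¬ F.IsConj R₀ R) :
    F.autGroup R ≤ (awayFrom F D R₀).autGroup R :=
  (Subgroup.closure_le _).2 fun _ hα => Subgroup.subset_closure ⟨hα, fun h => absurd h hR⟩

/-- ... and at every subgroup where `D` contains them. -/
theorem autGroup_le_awayFrom_of_le {R₀ R : Subgroup Ω} (hR : F.autGroup R ≤ D.autGroup R) :
    F.autGroup R ≤ (awayFrom F D R₀).autGroup R := by
  by_cases hRS : R ≤ S
  · intro α hα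
    exact (mem_autGroup_iff hRS).2 ⟨(mem_autGroup_iff hRS).1 hα, fun _ => .single
      ⟨(mem_autGroup_iff hRS).1 hα, Or.inl ((mem_autGroup_iff hRS).1 (hR hα))⟩⟩
  · rw [autGroup_eq_bot (F := F) hRS]
    exact bot_le

end Cfsg.Agent.Fusion
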