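import Cfsg.Agent.Lib.Fusion.NilpotenceFunctor
import Cfsg.Agent.Lib.ZJControl.AxiomaticFamily

/-!
# An axiomatic Glauberman–Thompson criterion for fusion systems

* `bad_of_constrained_at`: the constrained case for any subgroup normal in `S`;
* `famInv_pushSub`, `famRep_pushSub`: the axioms in the model;
* `inner_iff_normalizer_of_family`: the criterion.
-/

set_option autoImplicit false
set_option linter.unusedSectionVars false

namespace Cfsg.Agent.Fusion.AxiomaticThompson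

open Cfsg Cfsg.FusionSystem Cfsg.Agent.Fusion.Nilpotence
open Cfsg.Agent.ZJControl (FamInv FamRep)

universe u

variable {Ω : Type u} [Group Ω] {S : Subgroup Ω} {p : ℕ} {F : FusionSystem S}
variable [Finite S] [Fact p.Prime]

/-- The constrained case, from a group theorem about the image of `I` in the model. -/
theorem bad_of_constrained_at {I : Subgroup Ω} (hIS : I ≤ S)
    (hIn : S ≤ Subgroup.normalizer (I : Set Ω))
    (hG : ∀ (G : Type u) [Group G] [Finite G] (ι : S →* G) (T : Sylow p G), F.IsRealizedBy ι →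
      (T : Subgroup G) = ι.range →
      Subgroup.centralizer ((pCore p G : Subgroup G) : Set G) ≤ pCore p G →
      HasNormalPComplement p ↥(Subgroup.normalizer ((pushSub ι I : Subgroup G) : Set G)) →
      HasNormalPComplement p G)
    (hS : IsPGroup p S) (hF : F.IsConstrained p) (hbad : Bad F p ⊥) : Bad F p I := by
  by_contra hW
  obtain ⟨hsat, Q, hQn, hQc⟩ := hF
  obtain ⟨G, hGg, ι, hM⟩ := Model.exists_model hS hsat hQn hQc
  have hfin : Finite G := hM.1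
  have hι := hM.2.1
  obtain ⟨T, hT⟩ := hM.2.2.1
  have hTN : (T : Subgroup G) ≤
      Subgroup.normalizer ((pushSub ι I : Subgroup G) : Set G) := by
    rw [hT]
    rintro _ ⟨s, rfl⟩
    refine Subgroup.mem_normalizer_iff_map_conj_eq.2 (Subgroup.eq_of_le_of_card_ge ?_ ?_)
    · rintro _ ⟨_, ⟨x, hx, rfl⟩, rfl⟩
      refine ⟨s * x * s⁻¹, (Subgroup.mem_normalizer_iff.1 (hIn s.2) _).1 hx, ?_⟩
      simp [map_mul, map_inv]
    · rw [Subgroup.card_map_of_injective (MulAut.conj (ι s)).injective]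
  have hcompl : HasNormalPComplement p G := by
    refine @hG G hGg hfin ι T hι hT hM.2.2.2 ?_
    set N := Subgroup.normalizer ((pushSub ι I : Subgroup G) : Set G)
    refine Cfsg.Agent.Transfer.hasNormalPComplement_of_centralizer (T.subtype hTN)
      fun D hD g hg hco => ?_
    have hWT : (pushSub ι I).subgroupOf N ⊔ D ≤ ((T.subtype hTN : Sylow p N) : Subgroup N) :=
      sup_le (fun x hx => hT.ge (pushSub_le ι I hx)) hD
    set WD := (pushSub ι I).subgroupOf N ⊔ D with hWD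
    have hgWD : g ∈ Subgroup.normalizer (WD : Set N) := by
      rw [Subgroup.mem_normalizer_iff_map_conj_eq, hWD, Subgroup.map_sup,
        Subgroup.mem_normalizer_iff_map_conj_eq.1 hg]
      congr 1
      refine Subgroup.mem_normalizer_iff_map_conj_eq.1 (Subgroup.mem_normalizer_iff.2 fun y => ?_)
      exact Subgroup.mem_normalizer_iff.1 g.2 (y : G)
    set R := pullSub ι (WD.map N.subtype)
    have hR : R ≤ S := pullSub_le ι _
    have hWDr : WD.map N.subtype ≤ ι.range := by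
      rintro _ ⟨y, hy, rfl⟩
      exact hT.le (hWT hy)
    have hmem : ∀ x : R, (g : G) * ι ⟨x, hR x.2⟩ * (g : G)⁻¹ ∈ WD.map N.subtype := by
      rintro ⟨_, s, hs, rfl⟩
      obtain ⟨y, hy, hys⟩ := hs
      refine ⟨g * y * g⁻¹, (Subgroup.mem_normalizer_iff.1 hgWD y).1 hy, ?_⟩
      show (g : G) * (y : G) * (g : G)⁻¹ = _
      rw [show (y : G) = ι s from hys]
      rfl
    have hφ := pullHom_mem hι hR (g : G) fun x => hWDr (hmem x)
    have hr : (pullHom hι.1 hR (g : G) fun x => hWDr (hmem x)).range = R :=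
      range_eq_of_le hφ hR (fun x => ⟨⟨_, apply_mem hφ x⟩, by
        show ι _ ∈ WD.map N.subtype
        rw [apply_pullHom]
        exact hmem x, rfl⟩) le_rfl
    set α := toAut hφ hr
    have hαv : ∀ x : R, ι ⟨(α x : R), hR (α x).2⟩ = (g : G) * ι ⟨(x : Ω), hR x.2⟩ * (g : G)⁻¹ := by
      intro x
      rw [← apply_pullHom hι.1 hR (g : G) (fun x => hWDr (hmem x)) x (apply_mem hφ x)]
      exact congrArg ι (Subtype.ext (coe_toAut hφ hr x))
    have hα : α = 1 := by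
      have := finite_mulAut (Ω := Ω) hR
      by_contra hne
      refine hW ⟨R, hR, fun x hx => ?_, fun x hx => ?_, α, toAut_mem hφ hr, fun x hx => ?_, hne, ?_⟩
      · have h1 : ι ⟨x, hIS hx⟩ ∈ pushSub ι I := ⟨⟨x, hIS hx⟩, hx, rfl⟩
        exact ⟨⟨x, hIS hx⟩, ⟨⟨_, hTN (hT.ge (pushSub_le ι I h1))⟩, Subgroup.mem_sup_left h1, rfl⟩, rfl⟩
      · exact hIn (hR hx)
      · have h1 : ι ⟨(α x : R), hR (α x).2⟩ ∈ pushSub ι I := by
          rw [hαv]
          exact (Subgroup.mem_normalizer_iff.1 g.2 _).1 (⟨⟨x, hR x.2⟩, hx, rfl⟩)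
        obtain ⟨s, hs, hse⟩ := h1
        obtain rfl : s = ⟨(α x : R), hR (α x).2⟩ := hι.1 hse
        exact hs
      · refine hco.coprime_dvd_left (orderOf_dvd_of_pow_eq_one (MulEquiv.ext fun x => Subtype.ext ?_))
        have h1 := pow_pullHom hι hR α hαv (orderOf g) x
        rw [← Subgroup.coe_pow, pow_orderOf_eq_one, Subgroup.coe_one, one_mul, inv_one, mul_one] at h1
        exact congrArg (fun y : S => (y : Ω)) (hι.1 h1)
    rw [Subgroup.mem_centralizer_iff]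
    intro d hd
    obtain ⟨s, hs⟩ := hT.le (hD hd : (d : G) ∈ (T : Subgroup G))
    have hsR : (s : Ω) ∈ R := ⟨s, ⟨d, Subgroup.mem_sup_right hd, hs.symm⟩, rfl⟩
    have h1 := hαv ⟨s, hsR⟩
    rw [hα] at h1
    apply Subtype.ext
    show (d : G) * (g : G) = (g : G) * (d : G)
    rw [show (d : G) = ι s from hs.symm]
    exact (mul_inv_eq_iff_eq_mul.1 h1.symm).symm
  -- hence the model is a `p`-group
  obtain ⟨T', N, hNn, hNc⟩ := hcompl
  have hN1 : N = ⊥ := by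
    have hQp : IsPGroup p (pushSub ι Q) := (hS.to_subgroup _).map ι
    have hco : (Nat.card N).Coprime p := by
      refine ((Fact.out : p.Prime).coprime_iff_not_dvd.2 ?_).symm
      rw [show Nat.card N = (T' : Subgroup G).index from hNc.index_eq_card.symm]
      exact T'.not_dvd_index
    have hdisj : ∀ {A : Subgroup G}, A ≤ N → IsPGroup p A → A = ⊥ := fun hA hp =>
      Cfsg.Agent.PCore.eq_bot_of_isPGroup_of_coprime hp
        (hco.coprime_dvd_left (Subgroup.card_dvd_of_le hA))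
    have hle : N ≤ pushSub ι Q := fun g hg => Model.mem_pushSub_of_centralizes hS hsat hM hQn hQc
      fun y hy => Subgroup.commute_of_normal_of_disjoint N (pushSub ι Q) hNn
        ⟨fun z hz h => Model.conj_pushSub_mem hM hQn h hz⟩
        (disjoint_iff.2 (hdisj inf_le_left (hQp.to_le inf_le_right))) g y hg hy
    exact hdisj le_rfl (hQp.to_le hle)
  have hGp : IsPGroup p G := by
    have htop : (T' : Subgroup G) = ⊤ := by
      have := hNc.sup_eq_top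
      rwa [hN1, bot_sup_eq] at this
    exact (htop ▸ T'.2 : IsPGroup p (⊤ : Subgroup G)).of_equiv Subgroup.topEquiv
  obtain ⟨R, hR, α, hα, hne, hco⟩ := bad_bot_iff.1 hbad
  obtain ⟨_h0, _h1, g, hg⟩ := (realized_hom_iff hι).1 ((mem_autGroup_iff hR).1 hα)
  obtain ⟨k, hk⟩ := hGp g
  refine pow_ne_one_of_coprime hne k hco (MulEquiv.ext fun x => Subtype.ext ?_)
  have h1 := pow_pullHom hι hR α hg (p ^ k) x
  rw [hk, one_mul, inv_one, mul_one] at h1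
  exact congrArg (fun y : S => (y : Ω)) (hι.1 h1)

/-- The intersection of the members of `𝒜` inside `Q`. -/
abbrev famInter (𝒜 : Set (Subgroup Ω)) (Q : Subgroup Ω) : Subgroup Ω :=
  ⨅ A ∈ {A : Subgroup Ω | A ∈ 𝒜 ∧ A ≤ Q}, A

theorem mem_famInter {𝒜 : Set (Subgroup Ω)} {Q : Subgroup Ω} {x : Ω} :
    x ∈ famInter 𝒜 Q ↔ ∀ A ∈ 𝒜, A ≤ Q → x ∈ A := by
  simp [famInter, Subgroup.mem_iInf, Set.mem_ofPred_eq]

variable (F) in
/-- Invariance. -/
def FamAut (𝒜 : Set (Subgroup Ω)) : Prop :=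
  ∀ Q : Subgroup Ω, Q ≤ S → (∃ A ∈ 𝒜, A ≤ Q) → ∀ α ∈ F.autGroup Q, ∀ x : Q,
    (x : Ω) ∈ famInter 𝒜 Q → (((α : MulAut Q) x : Q) : Ω) ∈ famInter 𝒜 Q

omit [Fact p.Prime] in
theorem le_normalizer_iInf {𝒜 : Set (Subgroup Ω)} (hle : ∀ A ∈ 𝒜, A ≤ S) (hne : 𝒜.Nonempty)
    (hinv : FamAut F 𝒜) : S ≤ Subgroup.normalizer ((⨅ A ∈ 𝒜, A : Subgroup Ω) : Set Ω) := by
  obtain ⟨A₀, hA₀⟩ := hne
  have key : ∀ s ∈ S, ∀ w ∈ (⨅ A ∈ 𝒜, A : Subgroup Ω), s * w * s⁻¹ ∈ (⨅ A ∈ 𝒜, A : Subgroup Ω) := by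
    intro s hs w hw
    simp only [Subgroup.mem_iInf] at hw ⊢
    have hφ := F.conj_mem (le_refl S) hs
    have hr : (conjHom S s).range = S := range_eq_of_le hφ le_rfl (apply_mem hφ) le_rfl
    have h := hinv S le_rfl ⟨A₀, hA₀, hle A₀ hA₀⟩ _ (toAut_mem hφ hr) ⟨w, hle A₀ hA₀ (hw A₀ hA₀)⟩
      (mem_famInter.2 fun A hA _ => hw A hA)
    rw [coe_toAut, conjHom_apply, mem_famInter] at h
    exact fun A hA => h A hA (hle A hA)
  intro s hs
  rw [Subgroup.mem_normalizer_iff]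
  exact fun w => ⟨key s hs w, fun h => by simpa [mul_assoc] using key s⁻¹ (S.inv_mem hs) _ h⟩

section Model

variable {G : Type u} [Group G] {ι : S →* G} {𝒜 : Set (Subgroup Ω)}

theorem le_pullSub {A : Subgroup Ω} (hA : A ≤ S) {Q : Subgroup G} (h : pushSub ι A ≤ Q) :
    A ≤ pullSub ι Q := fun a ha => ⟨⟨a, hA ha⟩, h ⟨⟨a, hA ha⟩, ha, rfl⟩, rfl⟩

theorem pushSub_le_of_le_pullSub {A : Subgroup Ω} {Q : Subgroup G}
    (h : A ≤ pullSub ι Q) : pushSub ι A ≤ Q := by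
  rintro _ ⟨x, hx, rfl⟩
  obtain ⟨y, hy, hyx⟩ := h hx
  rw [← S.subtype_injective hyx]
  exact hy

theorem pushSub_iInf (hι : Function.Injective ι) (hne : 𝒜.Nonempty) :
    pushSub ι (⨅ A ∈ 𝒜, A) = sInf (pushSub ι '' 𝒜) := by
  refine le_antisymm ?_ fun y hy => ?_
  · rintro _ ⟨x, hx, rfl⟩
    refine Subgroup.mem_sInf.2 ?_
    rintro _ ⟨A, hA, rfl⟩
    have hx' : (x : Ω) ∈ (⨅ A ∈ 𝒜, A : Subgroup Ω) := hx
    simp only [Subgroup.mem_iInf] at hx'
    exact ⟨x, hx' A hA, rfl⟩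
  · obtain ⟨A₀, hA₀⟩ := hne
    obtain ⟨x, -, rfl⟩ := Subgroup.mem_sInf.1 hy _ ⟨A₀, hA₀, rfl⟩
    refine ⟨x, Subgroup.mem_subgroupOf.2 ?_, rfl⟩
    simp only [Subgroup.mem_iInf]
    exact fun A hA => (apply_mem_pushSub hι).1 (Subgroup.mem_sInf.1 hy _ ⟨A, hA, rfl⟩)

theorem famInv_pushSub (hι : F.IsRealizedBy ι) (hle : ∀ A ∈ 𝒜, A ≤ S) (hinv : FamAut F 𝒜) :
    FamInv ι.range (pushSub ι '' 𝒜) := by
  intro Q hQ hex n hn x hx
  obtain ⟨_, ⟨A₀, hA₀, rfl⟩, hA₀Q⟩ := hex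
  set R := pullSub ι Q with hRdef
  have hR : R ≤ S := pullSub_le ι Q
  have hA₀R : A₀ ≤ R := le_pullSub (hle A₀ hA₀) hA₀Q
  have hmem : ∀ y : R, n * ι ⟨y, hR y.2⟩ * n⁻¹ ∈ Q := by
    rintro ⟨_, s, hs, rfl⟩
    exact (Subgroup.mem_normalizer_iff.1 hn _).1 hs
  have hφ := pullHom_mem hι hR n fun y => hQ (hmem y)
  have hr : (pullHom hι.1 hR n fun y => hQ (hmem y)).range = R :=
    range_eq_of_le hφ hR (fun y => ⟨⟨_, apply_mem hφ y⟩, by
      show ι _ ∈ Q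
      rw [apply_pullHom]
      exact hmem y, rfl⟩) le_rfl
  obtain ⟨s, hsA, rfl⟩ := Subgroup.mem_sInf.1 hx _ ⟨⟨A₀, hA₀, rfl⟩, hA₀Q⟩
  have hsR : (s : Ω) ∈ R := hA₀R hsA
  have h := hinv R hR ⟨A₀, hA₀, hA₀R⟩ _ (toAut_mem hφ hr) ⟨s, hsR⟩
    (mem_famInter.2 fun A hA hAR => (apply_mem_pushSub hι.1).1
      (Subgroup.mem_sInf.1 hx _ ⟨⟨A, hA, rfl⟩, pushSub_le_of_le_pullSub hAR⟩))
  rw [coe_toAut, mem_famInter] at h
  refine Subgroup.mem_sInf.2 ?_
  rintro _ ⟨⟨A, hA, rfl⟩, hAQ⟩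
  refine ⟨⟨_, apply_mem hφ ⟨s, hsR⟩⟩, h A hA (le_pullSub (hle A hA) hAQ), ?_⟩
  exact apply_pullHom hι.1 hR n (fun y => hQ (hmem y)) ⟨s, hsR⟩ _

theorem famRep_pushSub (hι : Function.Injective ι)
    (hrep : ∀ B : Subgroup Ω, B ≤ S → ⁅⁅B, B⁆, B⁆ = ⊥ →
      (∃ A ∈ 𝒜, ⁅B, B⁆ ≤ A ∧ ¬ B ≤ A) →
        ∃ A ∈ 𝒜, ⁅B, B⁆ ≤ A ∧ ¬ B ≤ A ∧ B ≤ Subgroup.normalizer (A : Set Ω)) :
    FamRep ι.range (pushSub ι '' 𝒜) := by
  rintro B hB hcl ⟨_, ⟨U, hU, rfl⟩, hBU, hnBU⟩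
  set B₁ := B.comap ι with hB₁
  have hmap : B₁.map ι = B := by rw [hB₁, Subgroup.map_comap_eq, inf_eq_right.2 hB]
  have hcl₁ : ⁅⁅B₁, B₁⁆, B₁⁆ = ⊥ := (Subgroup.map_eq_bot_iff_of_injective _ hι).1
    (by rw [Subgroup.map_commutator, Subgroup.map_commutator, hmap, hcl])
  have hpush : ∀ {A : Subgroup Ω}, B₁.map S.subtype ≤ A ↔ B ≤ pushSub ι A := by
    intro A
    rw [Subgroup.map_le_iff_le_comap, pushSub, ← hmap, Subgroup.map_le_map_iff_of_injective hι]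
    rfl
  have hcom : ∀ {A : Subgroup Ω},
      ⁅B₁.map S.subtype, B₁.map S.subtype⁆ ≤ A ↔ ⁅B, B⁆ ≤ pushSub ι A := by
    intro A
    rw [← Subgroup.map_commutator, Subgroup.map_le_iff_le_comap, pushSub, ← hmap,
      ← Subgroup.map_commutator, Subgroup.map_le_map_iff_of_injective hι]
    rfl
  obtain ⟨A, hA, h1, h2, h3⟩ := hrep (B₁.map S.subtype) (Subgroup.map_subtype_le _)
    (by rw [← Subgroup.map_commutator, ← Subgroup.map_commutator, hcl₁, Subgroup.map_bot])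
    ⟨U, hU, hcom.2 hBU, fun h => hnBU (hpush.1 h)⟩
  refine ⟨_, ⟨A, hA, rfl⟩, hcom.1 h1, fun h => h2 (hpush.2 h), ?_⟩
  rw [← hmap]
  rintro _ ⟨b, hb, rfl⟩
  have hbN := h3 (⟨b, hb, rfl⟩ : (b : Ω) ∈ B₁.map S.subtype)
  refine Subgroup.le_normalizer_map ι ⟨b, ?_, rfl⟩
  refine Subgroup.mem_normalizer_iff.2 fun a => ?_
  exact Subgroup.mem_normalizer_iff.1 hbN (a : Ω)

end Model

/-- A failure of nilpotence is seen by the intersection of the family. -/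
theorem bad_iInf (hp : p ≠ 2) (hS : IsPGroup p S) (hF : F.IsSaturated p)
    (𝒜 : Set (Subgroup Ω)) (h𝒜 : ∀ A ∈ 𝒜, A ≤ S ∧ IsMulCommutative A) (hne : 𝒜.Nonempty)
    (hinv : FamAut F 𝒜)
    (hrep : ∀ B : Subgroup Ω, B ≤ S → ⁅⁅B, B⁆, B⁆ = ⊥ →
      (∃ A ∈ 𝒜, ⁅B, B⁆ ≤ A ∧ ¬ B ≤ A) →
        ∃ A ∈ 𝒜, ⁅B, B⁆ ≤ A ∧ ¬ B ≤ A ∧ B ≤ Subgroup.normalizer (A : Set Ω))
    (hbad : Bad F p ⊥) : Bad F p (⨅ A ∈ 𝒜, A) := by
  have hle : ∀ A ∈ 𝒜, A ≤ S := fun A hA => (h𝒜 A hA).1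
  have hIS : (⨅ A ∈ 𝒜, A : Subgroup Ω) ≤ S := by
    obtain ⟨A₀, hA₀⟩ := hne
    exact (iInf₂_le A₀ hA₀).trans (hle A₀ hA₀)
  have hIn := le_normalizer_iInf hle hne hinv
  have hG := complements_zjA.{u} (p := p) hp
  set Φ := zjA.{u} (p := p) with hΦ
  have hrec : Detects Φ (Nat.card S) := detects Φ hG _
  obtain ⟨W₀, hW₀, hW₀1, hW₀b⟩ := exists_bad_ne_bot hbad
  obtain ⟨Q, ⟨hQS, hQ1, hQb⟩, hmax⟩ := ((finite_le_set S).subset (fun Q hQ => hQ.1) :
    {Q : Subgroup Ω | Q ≤ S ∧ Q ≠ ⊥ ∧ Bad F p Q}.Finite).exists_maximalFor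
      (fun Q => Nat.card (normalizerIn S Q)) _ ⟨W₀, hW₀, hW₀1, hW₀b⟩
  obtain ⟨Q₁, hconj, hQ₁n⟩ := exists_fullyNormalized F hQS
  obtain ⟨ψ, hψ, hψN, hψQ⟩ := exists_hom_fullyNormalized hS hF hQ₁n hconj
  have hQ₁b := bad_transport hψ hψQ hQb
  have hcard : Nat.card (normalizerIn S Q) ≤ Nat.card (normalizerIn S Q₁) := by
    have : Finite ↥(normalizerIn S Q₁) := finite_of_le inf_le_left
    exact Nat.card_le_card_of_injective (fun x => (⟨ψ x, hψN x⟩ : normalizerIn S Q₁))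
      fun a b hab => F.injective_of_mem hψ (congrArg Subtype.val hab)
  have hQ₁1 : Q₁ ≠ ⊥ := fun h0 => hQ1 <| by
    rw [eq_bot_iff]
    intro x hx
    have hxN : x ∈ normalizerIn S Q := le_normalizerIn hQS hx
    have h1 : ψ ⟨x, hxN⟩ ∈ Q₁ := hψQ.le ⟨⟨x, hxN⟩, hx, rfl⟩
    rw [h0, Subgroup.mem_bot] at h1
    exact Subgroup.mem_bot.2 (congrArg Subtype.val
      (F.injective_of_mem hψ (h1.trans (map_one ψ).symm)))
  by_cases hT : normalizerIn S Q₁ = S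
  · have hQ₁N : S ≤ Subgroup.normalizer (Q₁ : Set Ω) := hT.ge.trans inf_le_right
    obtain ⟨E, hEF, hEc, hEb⟩ := exists_constrained Φ hS hF hrec hQ₁n.1 hQ₁N hQ₁1 hQ₁b
    refine bad_mono hEF (bad_of_constrained_at hIS hIn ?_ hS hEc hEb)
    intro G _ _ ι T hι hT hc h
    rw [pushSub_iInf hι.1 hne] at h
    refine ZJControl.hasNormalPComplement_of_family hp T hc _ (hne.image _) ?_ ?_ ?_ ?_ h
    · rintro _ ⟨A, -, rfl⟩
      exact hT.ge.trans' (pushSub_le ι A)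
    · rintro _ ⟨A, hA, rfl⟩
      refine PGroup.isMulCommutative_of_forall ?_
      rintro _ ⟨a, ha, rfl⟩ _ ⟨b, hb, rfl⟩
      rw [← map_mul, ← map_mul]
      exact congrArg ι (Subtype.ext
        (PGroup.mul_comm_of_isMulCommutative (h𝒜 A hA).2 ha hb))
    · rw [hT]
      exact famInv_pushSub hι hle fun R hR hex α hα => hinv R hR hex α
        (bad_mono.autGroup_le_of_subsys hEF hR hα)
    · rw [hT]
      exact famRep_pushSub hι.1 hrep
  · exfalso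
    set T := normalizerIn S Q₁ with hTdef
    have hTS : T < S := lt_of_le_of_ne inf_le_left hT
    have hfinT : Finite T := finite_of_le hTS.le
    have hTp : IsPGroup p T := hS.to_le hTS.le
    have hT1 : T ≠ ⊥ := fun h0 => hQ₁1 (le_bot_iff.1 (h0 ▸ le_normalizerIn hQ₁n.1))
    have hspec := normalizerSystem_spec F Q₁ hQ₁n.1
    have hcT : Nat.card T < Nat.card S := by
      refine lt_of_le_of_ne (Subgroup.card_le_of_le hTS.le) fun h => hT ?_
      exact Subgroup.eq_of_le_of_card_ge hTS.le h.ge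
    have hb := hrec Ω _ T hfinT (normalizerSystem F Q₁ hQ₁n.1) hcT hTp
      (normalizerSystem_saturated hS hF hQ₁n hspec) (bad_normalizerSystem hQ₁n.1 hQ₁b)
    have hWb : Bad F p (Φ.W T) := bad_mono (fun P φ hφ => by rw [hspec] at hφ; exact hφ.1) hb
    have hlt' : T < normalizerIn S (Φ.W T) := by
      refine lt_of_lt_of_le (lt_normalizerIn hS hTS) (le_inf inf_le_left ?_)
      exact inf_le_right.trans (Φ.le_normalizer hTp)
    have hgt : Nat.card T < Nat.card (normalizerIn S (Φ.W T)) := by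
      have : Finite ↥(normalizerIn S (Φ.W T)) := finite_of_le inf_le_left
      refine lt_of_le_of_ne (Subgroup.card_le_of_le hlt'.le) fun h => hlt'.ne ?_
      exact Subgroup.eq_of_le_of_card_ge hlt'.le h.ge
    have h2 : Nat.card (normalizerIn S Q) ≤ Nat.card (normalizerIn S (Φ.W T)) := by omega
    have h3 : Nat.card (normalizerIn S (Φ.W T)) ≤ Nat.card (normalizerIn S Q) :=
      hmax ⟨(Φ.le T).trans hTS.le, Φ.ne_bot T hfinT hTp hT1, hWb⟩ h2
    omega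

/-- **The axiomatic Glauberman–Thompson criterion.** -/
theorem inner_iff_normalizer_of_family (hp : p ≠ 2) (hS : IsPGroup p S) (hF : F.IsSaturated p)
    (𝒜 : Set (Subgroup Ω)) (h𝒜 : ∀ A ∈ 𝒜, A ≤ S ∧ IsMulCommutative A) (hne : 𝒜.Nonempty)
    (hinv : FamAut F 𝒜)
    (hrep : ∀ B : Subgroup Ω, B ≤ S → ⁅⁅B, B⁆, B⁆ = ⊥ →
      (∃ A ∈ 𝒜, ⁅B, B⁆ ≤ A ∧ ¬ B ≤ A) →
        ∃ A ∈ 𝒜, ⁅B, B⁆ ≤ A ∧ ¬ B ≤ A ∧ B ≤ Subgroup.normalizer (A : Set Ω)) :
    (∀ P : Subgroup Ω, F.Hom P = (innerFusionSystem S).Hom P) ↔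
      ∀ N : FusionSystem (normalizerIn S (⨅ A ∈ 𝒜, A)), F.IsNormalizerSystem (⨅ A ∈ 𝒜, A) N →
        ∀ P : Subgroup Ω,
          N.Hom P = (innerFusionSystem (normalizerIn S (⨅ A ∈ 𝒜, A))).Hom P := by
  have hle : ∀ A ∈ 𝒜, A ≤ S := fun A hA => (h𝒜 A hA).1
  have hIS : (⨅ A ∈ 𝒜, A : Subgroup Ω) ≤ S := by
    obtain ⟨A₀, hA₀⟩ := hne
    exact (iInf₂_le A₀ hA₀).trans (hle A₀ hA₀)
  have hIn := le_normalizer_iInf hle hne hinv
  have hT : normalizerIn S (⨅ A ∈ 𝒜, A) = S := normalizerIn_eq_of_le hIn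
  have : Finite ↥(normalizerIn S (⨅ A ∈ 𝒜, A)) := finite_of_le inf_le_left
  have hTp : IsPGroup p ↥(normalizerIn S (⨅ A ∈ 𝒜, A)) := hS.to_le inf_le_left
  constructor
  · intro h N hN P
    by_contra hP
    have hfn : F.IsFullyNormalized (⨅ A ∈ 𝒜, A) := ⟨hIS, fun R _ => by
      rw [hT]
      exact Subgroup.card_le_of_le inf_le_left⟩
    refine not_bad_of_inner hS h (bad_mono (E := N) (fun P φ hφ => ?_)
      (bad_of_ne_inner hTp (normalizerSystem_saturated hS hF hfn hN) ⟨P, hP⟩))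
    rw [hN] at hφ
    exact hφ.1
  · intro h P
    by_contra hP
    have hbad := bad_iInf hp hS hF 𝒜 h𝒜 hne hinv hrep (bad_of_ne_inner hS hF ⟨P, hP⟩)
    exact not_bad_of_inner hTp (h _ (normalizerSystem_spec F _ hIS))
      (bad_normalizerSystem hIS hbad)

end Cfsg.Agent.Fusion.AxiomaticThompson
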