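import Cfsg.Agent.Lib.Fusion.BisetBasic
import Cfsg.Agent.Lib.Fusion.Marks

/-!
Every saturated fusion system over a finite `p`-group has a characteristic biset: a finite
`S × S`-set with graphs of maps of the system as stabilizers, stable on the left, whose order divided
by `|S|` is prime to `p`.
-/

set_option autoImplicit false

universe u

namespace Cfsg.Agent.Fusion.Biset

open Cfsg Cfsg.FusionSystem MulAction

variable {Ω : Type u} [Group Ω] {S : Subgroup Ω} {F : FusionSystem S}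

/-! ### Adding orbits -/

/-- `X` with `m` further orbits with stabilizer `L`. -/
noncomputable def FSet.addOrbits [Finite S] (X : FSet F) (m : ℕ) {L : Subgroup (↥S × ↥S)}
    (hL : IsFGraph F L) : FSet F where
  carrier := X.carrier ⊕ (Σ _ : Fin m, (↥S × ↥S) ⧸ L)
  stab := by
    rintro (x | ⟨i, y⟩)
    · have h : stabilizer (↥S × ↥S) (Sum.inl x : X.carrier ⊕ (Σ _ : Fin m, (↥S × ↥S) ⧸ L)) =
          stabilizer (↥S × ↥S) x := by
        ext g
        rw [mem_stabilizer_iff, mem_stabilizer_iff, Sum.smul_inl, Sum.inl.injEq]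
      rw [h]
      exact X.stab x
    · induction y using QuotientGroup.induction_on with
      | H g =>
        refine isFGraph_le (isFGraph_conj hL g) fun v hv => ?_
        rw [mem_stabilizer_iff, Sum.smul_inr, Sum.inr.injEq, Sigma.smul_mk, Sigma.mk.injEq] at hv
        have h1 : (((v * g : ↥S × ↥S)) : (↥S × ↥S) ⧸ L) = (g : (↥S × ↥S) ⧸ L) := eq_of_heq hv.2
        have h2 := QuotientGroup.eq.1 h1.symm
        refine ⟨g⁻¹ * (v * g), h2, ?_⟩
        simp [mul_assoc]

theorem card_addOrbits [Finite S] (X : FSet F) (m : ℕ) {L : Subgroup (↥S × ↥S)}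
    (hL : IsFGraph F L) :
    Nat.card (X.addOrbits m hL).carrier = Nat.card X.carrier + m * L.index := by
  show Nat.card (X.carrier ⊕ (Σ _ : Fin m, (↥S × ↥S) ⧸ L)) = _
  rw [Nat.card_sum, Nat.card_congr (Equiv.sigmaEquivProd _ _), Nat.card_prod, Nat.card_fin]
  rfl

/-- Fixed points of `K` on one orbit `G ⧸ L`. -/
noncomputable def orbitFix (K L : Subgroup (↥S × ↥S)) : ℕ :=
  Nat.card (fixedPoints K ((↥S × ↥S) ⧸ L))

theorem fix_addOrbits [Finite S] (X : FSet F) (m : ℕ) {L : Subgroup (↥S × ↥S)}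
    (hL : IsFGraph F L) (K : Subgroup (↥S × ↥S)) :
    (X.addOrbits m hL).fix K = X.fix K + m * orbitFix K L := by
  show Nat.card (fixedPoints K (X.carrier ⊕ (Σ _ : Fin m, (↥S × ↥S) ⧸ L))) = _
  rw [show X.fix K + m * orbitFix K L = Nat.card
    (fixedPoints K X.carrier ⊕ (Fin m × fixedPoints K ((↥S × ↥S) ⧸ L))) by
      rw [Nat.card_sum, Nat.card_prod, Nat.card_fin]; rfl]
  refine (Nat.card_congr (Equiv.ofBijective (fun z : fixedPoints K X.carrier ⊕
      (Fin m × fixedPoints K ((↥S × ↥S) ⧸ L)) =>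
    (Sum.elim (fun x => ⟨Sum.inl x.1, fun g => congrArg Sum.inl (x.2 g)⟩)
      (fun y => ⟨Sum.inr ⟨y.1, y.2.1⟩, fun g => congrArg Sum.inr
        (congrArg (Sigma.mk y.1) (y.2.2 g))⟩) z :
      fixedPoints K (X.carrier ⊕ (Σ _ : Fin m, (↥S × ↥S) ⧸ L)))) ⟨?_, ?_⟩)).symm
  · rintro (x | ⟨i, y⟩) (x' | ⟨i', y'⟩) h
    · exact congrArg Sum.inl (Subtype.ext (Sum.inl.inj (congrArg Subtype.val h)))
    · have h' := Subtype.ext_iff.1 h
      simp at h'
    · have h' := Subtype.ext_iff.1 h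
      simp at h'
    · obtain ⟨h1, h2⟩ := Sigma.mk.inj (Sum.inr.inj (congrArg Subtype.val h))
      exact congrArg Sum.inr (Prod.ext h1 (Subtype.ext (eq_of_heq h2)))
  · rintro ⟨x | ⟨i, y⟩, hz⟩
    · exact ⟨Sum.inl ⟨x, fun g => Sum.inl.inj (hz g)⟩, rfl⟩
    · exact ⟨Sum.inr (i, ⟨y, fun g => eq_of_heq (Sigma.mk.inj (Sum.inr.inj (hz g))).2⟩), rfl⟩

/-- A fixed point of `K` on `G ⧸ L` conjugates `K` into `L`. -/
theorem exists_conj_le_of_orbitFix {K L : Subgroup (↥S × ↥S)} (h : orbitFix K L ≠ 0) :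
    ∃ v : ↥S × ↥S, K ≤ L.map (MulAut.conj v).toMonoidHom := by
  obtain ⟨⟨z, hz⟩⟩ := (Nat.card_ne_zero.1 h).1
  induction z using QuotientGroup.induction_on with
  | H g =>
    refine ⟨g, fun k hk => ?_⟩
    have h1 : (((k * g : ↥S × ↥S)) : (↥S × ↥S) ⧸ L) = (g : (↥S × ↥S) ⧸ L) := hz ⟨k, hk⟩
    exact ⟨g⁻¹ * (k * g), QuotientGroup.eq.1 h1.symm, by simp [mul_assoc]⟩

theorem orbitFix_self_mul [Finite S] (L : Subgroup (↥S × ↥S)) :
    orbitFix L L * Nat.card L = Nat.card (Subgroup.normalizer (L : Set (↥S × ↥S))) := by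
  rw [orbitFix, Nat.card_congr (Sylow.fixedPointsMulLeftCosetsEquivQuotient L)]
  rw [Subgroup.card_eq_card_quotient_mul_card_subgroup
    (L.subgroupOf (Subgroup.normalizer (L : Set (↥S × ↥S))))]
  congr 1
  exact (Nat.card_congr (Subgroup.subgroupOfEquivOfLe Subgroup.le_normalizer).toEquiv).symm

theorem orbitFix_self_dvd [Finite S] (L : Subgroup (↥S × ↥S)) :
    orbitFix L L ∣ Nat.card (↥S × ↥S) :=
  Dvd.dvd.trans ⟨Nat.card L, (orbitFix_self_mul L).symm⟩ (Subgroup.card_subgroup_dvd_card _)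

/-! ### Congruences -/

/-- Burnside's lemma for a group mapping into the normalizer of `L`, acting on fixed points. -/
theorem exists_sum_fix_eq {G M X : Type*} [Group G] [Group M] [Fintype M] [MulAction G X]
    [Finite X] (f : M →* G) (L : Subgroup G)
    (hf : ∀ g : M, f g ∈ Subgroup.normalizer (L : Set G)) :
    ∃ c : ℕ, ∑ g : M, Nat.card (fixedPoints (L ⊔ Subgroup.zpowers (f g) : Subgroup G) X) =
      c * Fintype.card M := by
  classical
  let Y := fixedPoints L X
  letI : MulAction M Y :=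
    { smul := fun g y => ⟨f g • y.1, fun l => by
        obtain ⟨l, hl⟩ := l
        show l • f g • y.1 = f g • y.1
        have h1 : (f g)⁻¹ * l * f g ∈ L := by
          have := (Subgroup.mem_normalizer_iff.1 (Subgroup.inv_mem _ (hf g)) l).1 hl
          simpa using this
        have h2 : ((f g)⁻¹ * l * f g) • y.1 = y.1 := y.2 ⟨_, h1⟩
        rw [← mul_smul, show l * f g = f g * ((f g)⁻¹ * l * f g) by group, mul_smul, h2]⟩
      one_smul := fun y => Subtype.ext (show f 1 • y.1 = y.1 by rw [map_one, one_smul])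
      mul_smul := fun g h y => Subtype.ext
        (show f (g * h) • y.1 = f g • f h • y.1 by rw [map_mul, mul_smul]) }
  have : Fintype Y := Fintype.ofFinite _
  refine ⟨Fintype.card (Quotient (MulAction.orbitRel M Y)), ?_⟩
  rw [← MulAction.sum_card_fixedBy_eq_card_orbits_mul_card_group M Y]
  refine Finset.sum_congr rfl fun g _ => ?_
  rw [← Nat.card_eq_fintype_card]
  refine Nat.card_congr
    { toFun := fun x => ⟨⟨x.1, fun l => x.2 ⟨l, Subgroup.mem_sup_left l.2⟩⟩,
        Subtype.ext (x.2 ⟨f g, Subgroup.mem_sup_right (Subgroup.mem_zpowers _)⟩)⟩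
      invFun := fun y => ⟨y.1.1, ?_⟩
      left_inv := fun x => rfl
      right_inv := fun y => rfl }
  rintro ⟨z, hz⟩
  show z • y.1.1 = y.1.1
  have hle : L ⊔ Subgroup.zpowers (f g) ≤ stabilizer G y.1.1 :=
    sup_le (fun l hl => y.1.2 ⟨l, hl⟩)
      (Subgroup.zpowers_le.2 (congrArg Subtype.val y.2 :))
  exact hle hz

/-- Congruence of the fixed point numbers of a graph and of a twist of it, modulo the number of
fixed points of the graph on its own orbit, when stability holds above. -/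
theorem fix_modEq_twist [Finite S] (X : FSet F) {n : ℕ} (hX : X.Stable (n + 1)) {N : Subgroup Ω}
    {ψ : N →* Ω} (hψ : ψ ∈ F.Hom N) (L₀ : Subgroup (↥N × ↥S)) (hn : Nat.card L₀ = n)
    (hN : Subgroup.normalizer ((L₀.map (incl S (dom_le hψ))) : Set (↥S × ↥S)) ≤
      (incl S (dom_le hψ)).range) :
    X.fix (L₀.map (incl S (dom_le hψ))) ≡ X.fix (L₀.map (twist hψ))
      [MOD orbitFix (L₀.map (incl S (dom_le hψ))) (L₀.map (incl S (dom_le hψ)))] := by
  classical
  set ι := incl S (dom_le hψ) with hι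
  set τ := twist hψ with hτ
  set L := L₀.map ι with hL
  set Lt := L₀.map τ with hLt
  set M := (Subgroup.normalizer (L : Set (↥S × ↥S))).comap ι with hM
  have : Finite N := finite_of_le (dom_le hψ)
  have : Fintype M := Fintype.ofFinite M
  have hL₀M : L₀ ≤ M := fun l hl => Subgroup.le_normalizer (⟨l, hl, rfl⟩ : ι l ∈ L)
  have hnorm : ∀ g : M, ∀ l ∈ L₀, (g : ↥N × ↥S) * l * (g : ↥N × ↥S)⁻¹ ∈ L₀ := by
    intro g l hl
    obtain ⟨l', hl', he⟩ := (Subgroup.mem_normalizer_iff.1 g.2 (ι l)).1 ⟨l, hl, rfl⟩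
    rw [← map_inv, ← map_mul, ← map_mul] at he
    exact incl_injective _ he ▸ hl'
  have hgen : ∀ (f : ↥N × ↥S →* ↥S × ↥S), ∀ g : M,
      f g ∈ Subgroup.normalizer ((L₀.map f) : Set (↥S × ↥S)) := by
    intro f g
    refine Subgroup.mem_normalizer_iff.2 fun y => ⟨?_, ?_⟩
    · rintro ⟨l, hl, rfl⟩
      exact ⟨_, hnorm g l hl, by rw [map_mul, map_mul, map_inv]⟩
    · rintro ⟨l, hl, he⟩
      refine ⟨_, hnorm g⁻¹ l hl, ?_⟩
      rw [map_mul, map_mul, map_inv, Subgroup.coe_inv, map_inv, he]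
      group
  obtain ⟨c, hc⟩ := exists_sum_fix_eq (X := X.carrier) (ι.comp M.subtype) L fun g => hgen ι g
  obtain ⟨c', hc'⟩ := exists_sum_fix_eq (X := X.carrier) (τ.comp M.subtype) Lt fun g => hgen τ g
  -- terms outside `L₀` agree by stability
  have houter : ∀ g : M, (g : ↥N × ↥S) ∉ L₀ →
      X.fix (L ⊔ Subgroup.zpowers (ι g)) = X.fix (Lt ⊔ Subgroup.zpowers (τ g)) := by
    intro g hg
    have h1 : ∀ f : ↥N × ↥S →* ↥S × ↥S,
        L₀.map f ⊔ Subgroup.zpowers (f g) = (L₀ ⊔ Subgroup.zpowers (g : ↥N × ↥S)).map f := by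
      intro f
      rw [Subgroup.map_sup, MonoidHom.map_zpowers]
    rw [h1 ι, h1 τ]
    refine (X.fix_twist hX hψ _ ?_).symm
    have hlt : L₀ < L₀ ⊔ Subgroup.zpowers (g : ↥N × ↥S) :=
      lt_of_le_of_ne le_sup_left fun h =>
        hg (h ▸ Subgroup.mem_sup_right (Subgroup.mem_zpowers _))
    have hss := Set.Finite.card_lt_card (Set.toFinite _) (SetLike.coe_ssubset_coe.2 hlt)
    rw [← hn]
    exact hss
  have hinner : ∀ g : M, (g : ↥N × ↥S) ∈ L₀ → ∀ f : ↥N × ↥S →* ↥S × ↥S,
      L₀.map f ⊔ Subgroup.zpowers (f g) = L₀.map f := fun g hg f =>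
    sup_eq_left.2 (Subgroup.zpowers_le.2 ⟨g, hg, rfl⟩)
  set s : Finset M := Finset.univ.filter fun g : M => (g : ↥N × ↥S) ∈ L₀ with hs
  have hscard : s.card = n := by
    rw [hs, ← Fintype.card_subtype, ← Nat.card_eq_fintype_card, ← hn]
    exact Nat.card_congr
      { toFun := fun g => ⟨(g.1 : ↥N × ↥S), g.2⟩
        invFun := fun l => ⟨⟨l.1, hL₀M l.2⟩, l.2⟩
        left_inv := fun g => rfl
        right_inv := fun l => rfl }
  have hsplit : ∀ (f : ↥N × ↥S →* ↥S × ↥S),
      ∑ g : M, X.fix (L₀.map f ⊔ Subgroup.zpowers (f g)) = n * X.fix (L₀.map f) +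
        ∑ g ∈ sᶜ, X.fix (L₀.map f ⊔ Subgroup.zpowers (f g)) := by
    intro f
    rw [← Finset.sum_add_sum_compl s]
    congr 1
    rw [Finset.sum_congr rfl fun g hg => by rw [hinner g (Finset.mem_filter.1 hg).2 f],
      Finset.sum_const, hscard, smul_eq_mul]
  have hR : ∑ g ∈ sᶜ, X.fix (L ⊔ Subgroup.zpowers (ι g)) =
      ∑ g ∈ sᶜ, X.fix (Lt ⊔ Subgroup.zpowers (τ g)) :=
    Finset.sum_congr rfl fun g hg => houter g fun h => (Finset.mem_compl.1 hg)
      (Finset.mem_filter.2 ⟨Finset.mem_univ _, h⟩)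
  have hMc : Fintype.card M = orbitFix L L * n := by
    have h1 : Nat.card L = n := by
      rw [hL, Subgroup.card_map_of_injective (incl_injective _), hn]
    rw [← h1, orbitFix_self_mul, ← Nat.card_eq_fintype_card]
    have h2 : M.map ι = Subgroup.normalizer (L : Set (↥S × ↥S)) :=
      Subgroup.map_comap_eq_self hN
    rw [← h2]
    exact (Subgroup.card_map_of_injective (incl_injective _)).symm
  have e1 : n * X.fix L + ∑ g ∈ sᶜ, X.fix (L ⊔ Subgroup.zpowers (ι g)) = c * Fintype.card M :=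
    (hsplit ι).symm.trans hc
  have e2 : n * X.fix Lt + ∑ g ∈ sᶜ, X.fix (Lt ⊔ Subgroup.zpowers (τ g)) = c' * Fintype.card M :=
    (hsplit τ).symm.trans hc'
  rw [hR, hMc] at e1
  rw [hMc] at e2
  have hn0 : 0 < n := hn ▸ Nat.card_pos
  have key : X.fix L + c' * orbitFix L L = X.fix Lt + c * orbitFix L L := by
    refine Nat.eq_of_mul_eq_mul_left hn0 ?_
    rw [mul_add, mul_add, show n * (c' * orbitFix L L) = c' * (orbitFix L L * n) by ring,
      show n * (c * orbitFix L L) = c * (orbitFix L L * n) by ring, ← e1, ← e2]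
    ring
  show X.fix L % orbitFix L L = X.fix Lt % orbitFix L L
  rw [← Nat.add_mul_mod_self_right (X.fix L) c', key, Nat.add_mul_mod_self_right]

/-- All graphs of a given order with a given range have congruent numbers of fixed points to a
single one. -/
theorem exists_common_residue [Finite S] {p : ℕ} [Fact p.Prime] (hS : IsPGroup p S)
    (hF : F.IsSaturated p) (X : FSet F) {n : ℕ} (hX : X.Stable (n + 1)) {R : Subgroup Ω}
    (hR : R ≤ S) (hn : Nat.card R = n) :
    ∃ f₀ : ℕ, ∀ L, IsFGraph F L → Nat.card L = n → grange L = R →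
      X.fix L ≡ f₀ [MOD orbitFix L L] := by
  obtain ⟨Ps, hconj, hPsn⟩ := exists_fullyNormalized F hR
  obtain ⟨φ₀, hφ₀, hr₀⟩ := hconj
  obtain ⟨a, -, χ, hχ, hχr, -, hle⟩ :=
    exists_twist hS (isFullyAutomized_of_fullyNormalized hS hF hPsn) hφ₀ hr₀
  have hrecv := isReceptive_of_fullyNormalized hS hF hPsn
  obtain ⟨χi, hχi, hχir, hi, hi'⟩ := exists_inverse hχ hχr
  refine ⟨X.fix (graph S Ps χi), ?_⟩
  rintro L ⟨P, φ, hφ, rfl⟩ hcard hrange
  rw [grange_graph hφ] at hrange
  have hφR : ∀ x : P, φ x ∈ R := fun x => hrange.le ⟨x, rfl⟩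
  set α := χ.comp (φ.codRestrict R hφR) with hα
  have hαm : α ∈ F.Hom P := F.comp_mem hφ hχ hφR
  have hαr : α.range = Ps := by
    rw [← hχr]
    ext y
    constructor
    · rintro ⟨x, rfl⟩
      exact ⟨_, rfl⟩
    · rintro ⟨⟨z, hz⟩, rfl⟩
      obtain ⟨x, rfl⟩ := hrange.ge hz
      exact ⟨x, rfl⟩
  set N := extender S P φ with hN
  have hNle : N ≤ extender S P α := by
    intro g hg
    obtain ⟨hgS, hgN, h, hh, hx⟩ := mem_extender_iff.1 hg
    have hhN : h ∈ normalizerIn S R := by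
      refine ⟨hh, Subgroup.mem_normalizer_iff.2 fun y => ⟨fun hy => ?_, fun hy => ?_⟩⟩
      · obtain ⟨x, rfl⟩ := hrange.ge hy
        rw [← hx x ((Subgroup.mem_normalizer_iff.1 hgN x).1 x.2)]
        exact hφR _
      · obtain ⟨x, hxe⟩ := hrange.ge hy
        have hx2 : g⁻¹ * (x : Ω) * g ∈ P := by
          have := (Subgroup.mem_normalizer_iff.1 (Subgroup.inv_mem _ hgN) x).1 x.2
          simpa using this
        have hx3 : g * (g⁻¹ * (x : Ω) * g) * g⁻¹ ∈ P := by
          simpa [mul_assoc] using x.2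
        have h1 := hx ⟨_, hx2⟩ hx3
        rw [show (⟨_, hx3⟩ : P) = x from Subtype.ext (by group), hxe] at h1
        rw [mul_left_cancel (mul_right_cancel h1)]
        exact hφR _
    obtain ⟨-, -, k, hk, hkx⟩ := mem_extender_iff.1 (hle hhN)
    refine mem_extender_iff.2 ⟨hgS, hgN, k, hk, fun x hx' => ?_⟩
    have h2 : h * φ x * h⁻¹ ∈ R := (Subgroup.mem_normalizer_iff.1 hhN.2 _).1 (hφR x)
    refine Eq.trans ?_ (hkx ⟨φ x, hφR x⟩ h2)
    show χ ⟨φ ⟨g * x * g⁻¹, hx'⟩, _⟩ = χ ⟨h * φ x * h⁻¹, h2⟩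
    exact congrArg χ (Subtype.ext (hx x hx'))
  obtain ⟨ψ, hψ, hext⟩ := exists_extension hrecv hαm hαr hNle
  have hPN : P ≤ N := le_extender (dom_le hφ) (apply_mem hφ)
  set L₀ := (graph S P φ).comap (incl S (dom_le hψ)) with hL₀
  have hLrange : graph S P φ ≤ (incl S (dom_le hψ)).range := fun w hw =>
    ⟨(⟨w.1, hPN hw.1⟩, w.2), rfl⟩
  have hmap : L₀.map (incl S (dom_le hψ)) = graph S P φ := Subgroup.map_comap_eq_self hLrange
  have hmapt : L₀.map (twist hψ) = graph S Ps χi := by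
    ext w
    constructor
    · rintro ⟨⟨x, b⟩, ⟨hx, hx'⟩, rfl⟩
      have h1 : ψ x = χ ⟨φ ⟨x, hx⟩, hφR _⟩ := hext x hx x.2
      have h2 : ψ x ∈ Ps := h1 ▸ hχr.le ⟨_, rfl⟩
      refine ⟨h2, ?_⟩
      show χi ⟨ψ x, h2⟩ = (b : Ω)
      rw [show (⟨ψ x, h2⟩ : Ps) = ⟨χ ⟨φ ⟨x, hx⟩, hφR _⟩, h1 ▸ h2⟩ from Subtype.ext h1, hi]
      exact hx'
    · rintro ⟨hw, hw'⟩
      obtain ⟨x, hx⟩ := hαr.ge hw
      have hx' : χ ⟨φ x, hφR x⟩ = (w.1 : Ω) := hx
      have hw2 : χ ⟨φ x, hφR x⟩ ∈ Ps := hx'.symm ▸ hw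
      have hφx : φ x = χi ⟨w.1, hw⟩ := by
        rw [show (⟨(w.1 : Ω), hw⟩ : Ps) = ⟨χ ⟨φ x, hφR x⟩, hw2⟩ from Subtype.ext hx'.symm]
        exact (hi ⟨φ x, hφR x⟩ hw2).symm
      refine ⟨(⟨x, hPN x.2⟩, w.2), ⟨x.2, hφx.trans hw'⟩, Prod.ext (Subtype.ext ?_) rfl⟩
      exact (hext x x.2 (hPN x.2)).trans hx
  have hcN : Nat.card L₀ = n := by
    rw [← hcard, ← hmap, Subgroup.card_map_of_injective (incl_injective _)]
  have hnormle : Subgroup.normalizer ((L₀.map (incl S (dom_le hψ))) : Set (↥S × ↥S)) ≤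
      (incl S (dom_le hψ)).range := by
    rw [hmap]
    rintro v hv
    suffices hvN : (v.1 : Ω) ∈ N from ⟨(⟨v.1, hvN⟩, v.2), rfl⟩
    have key : ∀ v ∈ Subgroup.normalizer ((graph S P φ : Subgroup _) : Set (↥S × ↥S)),
        ∀ x : P, ∃ hx : ((v.1 : S) : Ω) * x * ((v.1 : S) : Ω)⁻¹ ∈ P,
          φ ⟨_, hx⟩ = ((v.2 : S) : Ω) * φ x * ((v.2 : S) : Ω)⁻¹ := fun v hv x =>
      (Subgroup.mem_normalizer_iff.1 hv
        (⟨x, dom_le hφ x.2⟩, ⟨φ x, apply_mem hφ x⟩)).1 ⟨x.2, rfl⟩
    refine mem_extender_iff.2 ⟨v.1.2, Subgroup.mem_normalizer_iff.2 fun y => ⟨?_, ?_⟩,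
      v.2, v.2.2, fun x hx => ?_⟩
    · intro hy
      exact (key v hv ⟨y, hy⟩).1
    · intro hy
      have := (key v⁻¹ (Subgroup.inv_mem _ hv) ⟨_, hy⟩).1
      simpa [mul_assoc] using this
    · exact (key v hv x).2
  have h := fix_modEq_twist X hX hψ L₀ hcN hnormle
  rw [hmap, hmapt] at h
  exact h

/-! ### Stabilization -/

/-- The admissible targets for graphs with range `R`. -/
def targets (X : FSet F) (n : ℕ) (R : Subgroup Ω) : Set ℕ :=
  {t | ∀ L, IsFGraph F L → Nat.card L = n → grange L = R →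
    X.fix L ≤ t ∧ X.fix L ≡ t [MOD orbitFix L L]}

theorem targets_nonempty [Finite S] {p : ℕ} [Fact p.Prime] (hS : IsPGroup p S)
    (hF : F.IsSaturated p) (X : FSet F) {n : ℕ} (hX : X.Stable (n + 1)) (R : Subgroup Ω) :
    (targets X n R).Nonempty := by
  by_cases hex : ∃ L, IsFGraph F L ∧ Nat.card L = n ∧ grange L = R
  · obtain ⟨L, ⟨P, φ, hφ, rfl⟩, hc, hr⟩ := hex
    rw [grange_graph hφ] at hr
    rw [card_graph hφ, ← card_range hφ, hr] at hc
    obtain ⟨f₀, hf₀⟩ := exists_common_residue hS hF X hX (hr ▸ range_le hφ) hc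
    refine ⟨f₀ + Nat.card (↥S × ↥S) * Nat.card X.carrier, fun K hK hKc hKr => ⟨?_, ?_⟩⟩
    · calc X.fix K ≤ Nat.card X.carrier :=
            Nat.card_le_card_of_injective _ Subtype.val_injective
        _ ≤ Nat.card (↥S × ↥S) * Nat.card X.carrier := Nat.le_mul_of_pos_left _ Nat.card_pos
        _ ≤ _ := Nat.le_add_left _ _
    · refine (hf₀ K hK hKc hKr).trans (Nat.ModEq.symm ?_)
      obtain ⟨d, hd⟩ := (orbitFix_self_dvd K).mul_right (Nat.card X.carrier)
      rw [hd, mul_comm]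
      exact Nat.add_mul_mod_self_right f₀ d _
  · exact ⟨0, fun L h1 h2 h3 => absurd ⟨L, h1, h2, h3⟩ hex⟩

theorem grange_map_conj (L : Subgroup (↥S × ↥S)) (v : ↥S × ↥S) :
    grange (L.map (MulAut.conj v).toMonoidHom) =
      (grange L).map (MulAut.conj (v.2 : Ω)).toMonoidHom := by
  ext x
  constructor
  · intro hx
    obtain ⟨_, ⟨w, hw, rfl⟩, rfl⟩ := mem_grange.1 hx
    exact ⟨w.2, mem_grange.2 ⟨w, hw, rfl⟩, rfl⟩
  · rintro ⟨y, hy, rfl⟩
    obtain ⟨w, hw, rfl⟩ := mem_grange.1 hy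
    exact mem_grange.2 ⟨_, ⟨w, hw, rfl⟩, rfl⟩

theorem map_conj_inv {G : Type*} [Group G] (L : Subgroup G) (v : G) :
    (L.map (MulAut.conj v).toMonoidHom).map (MulAut.conj v⁻¹).toMonoidHom = L := by
  rw [Subgroup.map_map]
  have h : (MulAut.conj v⁻¹).toMonoidHom.comp (MulAut.conj v).toMonoidHom = MonoidHom.id G :=
    MonoidHom.ext fun x => by simp [mul_assoc]
  rw [h, Subgroup.map_id]

theorem orbitFix_conj (K L : Subgroup (↥S × ↥S)) (v : ↥S × ↥S) :
    orbitFix (K.map (MulAut.conj v).toMonoidHom) L = orbitFix K L :=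
  fix_conj K v

theorem orbitFix_conj_self [Finite S] (L : Subgroup (↥S × ↥S)) (v : ↥S × ↥S) :
    orbitFix (L.map (MulAut.conj v).toMonoidHom) (L.map (MulAut.conj v).toMonoidHom) =
      orbitFix L L := by
  have h1 := orbitFix_self_mul (L.map (MulAut.conj v).toMonoidHom)
  rw [← Subgroup.map_normalizer_eq_of_bijective L (MulAut.conj v).bijective,
    Subgroup.card_map_of_injective (MulAut.conj v).injective,
    Subgroup.card_map_of_injective (MulAut.conj v).injective, ← orbitFix_self_mul L] at h1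
  exact Nat.eq_of_mul_eq_mul_right Nat.card_pos h1

theorem targets_conj_le [Finite S] (X : FSet F) (n : ℕ) (L : Subgroup (↥S × ↥S))
    (v : ↥S × ↥S) :
    targets X n (grange L) ⊆ targets X n (grange (L.map (MulAut.conj v).toMonoidHom)) := by
  intro t ht K hK hKc hKr
  have h := ht (K.map (MulAut.conj v⁻¹).toMonoidHom) (isFGraph_conj hK v⁻¹)
    ((Subgroup.card_map_of_injective (MulAut.conj v⁻¹).injective).trans hKc) (by
      conv_rhs => rw [← map_conj_inv L v]
      rw [grange_map_conj K, grange_map_conj (L.map (MulAut.conj v).toMonoidHom), hKr])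
  rw [orbitFix_conj_self] at h
  rw [show X.fix (K.map (MulAut.conj v⁻¹).toMonoidHom) = X.fix K from fix_conj K v⁻¹] at h
  exact h

theorem targets_conj [Finite S] (X : FSet F) (n : ℕ) (L : Subgroup (↥S × ↥S))
    (v : ↥S × ↥S) :
    targets X n (grange (L.map (MulAut.conj v).toMonoidHom)) = targets X n (grange L) := by
  refine le_antisymm ?_ (targets_conj_le X n L v)
  have h := targets_conj_le X n (L.map (MulAut.conj v).toMonoidHom) v⁻¹
  rwa [map_conj_inv] at h

/-- The size condition. -/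
def FSet.Good (X : FSet F) (p : ℕ) : Prop :=
  ∃ k : ℕ, Nat.card X.carrier = k * Nat.card S ∧ ¬ p ∣ k

theorem good_addOrbits [Finite S] {p : ℕ} [Fact p.Prime] (hS : IsPGroup p S) (X : FSet F)
    (hX : X.Good p) (m : ℕ) {L : Subgroup (↥S × ↥S)} (hL : IsFGraph F L)
    (hlt : Nat.card L < Nat.card S) : (X.addOrbits m hL).Good p := by
  obtain ⟨k, hk, hpk⟩ := hX
  obtain ⟨a, ha⟩ := IsPGroup.iff_card.1 hS
  have hdvd : Nat.card L ∣ p ^ (a + a) := by
    rw [pow_add, ← ha, ← Nat.card_prod]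
    exact Subgroup.card_subgroup_dvd_card L
  obtain ⟨b, -, hb⟩ := (Nat.dvd_prime_pow (Fact.out : p.Prime)).1 hdvd
  have hba : b < a := by
    rw [hb, ha] at hlt
    exact (Nat.pow_lt_pow_iff_right (Fact.out : p.Prime).one_lt).1 hlt
  have hidx : L.index = Nat.card S * p ^ (a - b) := by
    have h1 := L.card_mul_index
    rw [Nat.card_prod, ha, hb] at h1
    refine Nat.eq_of_mul_eq_mul_left (pow_pos (Fact.out : p.Prime).pos b) ?_
    rw [h1, ha, ← pow_add, ← pow_add, ← pow_add]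
    congr 1
    omega
  refine ⟨k + m * p ^ (a - b), ?_, fun h => hpk ?_⟩
  · rw [card_addOrbits, hidx, hk]
    ring
  · exact (Nat.dvd_add_left (Dvd.dvd.mul_left (dvd_pow_self p (by omega)) m)).1 h

/-- Making a biset stable one level further down. -/
theorem exists_stable_step [Finite S] {p : ℕ} [Fact p.Prime] (hS : IsPGroup p S)
    (hF : F.IsSaturated p) (X : FSet F) {n : ℕ} (hn : n < Nat.card S) (hX : X.Stable (n + 1))
    (hg : X.Good p) : ∃ Y : FSet F, Y.Stable n ∧ Y.Good p := by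
  classical
  let T : Subgroup Ω → ℕ := fun R => sInf (targets X n R)
  have hT : ∀ L, IsFGraph F L → Nat.card L = n →
      X.fix L ≤ T (grange L) ∧ X.fix L ≡ T (grange L) [MOD orbitFix L L] :=
    fun L hL hc => Nat.sInf_mem (targets_nonempty hS hF X hX _) L hL hc rfl
  have hTconj : ∀ (L : Subgroup (↥S × ↥S)) (v : ↥S × ↥S),
      T (grange (L.map (MulAut.conj v).toMonoidHom)) = T (grange L) := fun L v =>
    congrArg sInf (targets_conj X n L v)
  -- descend on the number of graphs missing their target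
  suffices H : ∀ (d : ℕ) (Y : FSet F), Y.Stable (n + 1) → Y.Good p →
      (∀ L, IsFGraph F L → Nat.card L = n →
        Y.fix L ≤ T (grange L) ∧ Y.fix L ≡ T (grange L) [MOD orbitFix L L]) →
      Nat.card {L : Subgroup (↥S × ↥S) //
        IsFGraph F L ∧ Nat.card L = n ∧ Y.fix L ≠ T (grange L)} ≤ d →
      ∃ Z : FSet F, Z.Stable n ∧ Z.Good p from
    H _ X hX hg hT le_rfl
  intro d
  induction d using Nat.strong_induction_on with
  | _ d ih =>
    intro Y hY hYg hYT hd
    by_cases hdone : ∀ L, IsFGraph F L → Nat.card L = n → Y.fix L = T (grange L)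
    · refine ⟨Y, fun P φ hφ hP => ?_, hYg⟩
      rcases hP.lt_or_eq with hP | hP
      · exact hY P φ hφ hP
      · rw [hdone _ ⟨P, φ, hφ, rfl⟩ (by rw [card_graph hφ, hP]),
          hdone _ (isFGraph_range_subtype hφ)
            (by rw [card_graph (subtype_mem F (range_le hφ)), card_range hφ, hP]),
          grange_graph hφ, grange_graph (subtype_mem F (range_le hφ)), Subgroup.range_subtype]
    · push Not at hdone
      obtain ⟨L, hL, hLc, hLne⟩ := hdone
      obtain ⟨hle, hmod⟩ := hYT L hL hLc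
      obtain ⟨m, hm⟩ := (Nat.modEq_iff_dvd' hle).1 hmod
      have hzero : ∀ K : Subgroup (↥S × ↥S), n ≤ Nat.card K →
          (¬ ∃ v : ↥S × ↥S, K = L.map (MulAut.conj v).toMonoidHom) → orbitFix K L = 0 := by
        intro K hK hne
        by_contra h0
        obtain ⟨v, hv⟩ := exists_conj_le_of_orbitFix h0
        exact hne ⟨v, Subgroup.eq_of_le_of_card_ge hv
          (by rw [Subgroup.card_map_of_injective (MulAut.conj v).injective, hLc]; exact hK)⟩
      have hconjval : ∀ v : ↥S × ↥S,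
          (Y.addOrbits m hL).fix (L.map (MulAut.conj v).toMonoidHom) =
            T (grange (L.map (MulAut.conj v).toMonoidHom)) := by
        intro v
        rw [fix_addOrbits, orbitFix_conj, show Y.fix (L.map (MulAut.conj v).toMonoidHom) = Y.fix L
          from fix_conj L v, hTconj, mul_comm m, ← hm]
        omega
      have hother : ∀ K : Subgroup (↥S × ↥S), n ≤ Nat.card K →
          (¬ ∃ v : ↥S × ↥S, K = L.map (MulAut.conj v).toMonoidHom) →
            (Y.addOrbits m hL).fix K = Y.fix K := by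
        intro K hK hne
        rw [fix_addOrbits, hzero K hK hne, mul_zero, add_zero]
      have hbig : ∀ K : Subgroup (↥S × ↥S), n + 1 ≤ Nat.card K →
          (Y.addOrbits m hL).fix K = Y.fix K := by
        intro K hK
        refine hother K (by omega) ?_
        rintro ⟨v, rfl⟩
        rw [Subgroup.card_map_of_injective (MulAut.conj v).injective, hLc] at hK
        omega
      refine ih (Nat.card {K : Subgroup (↥S × ↥S) //
        IsFGraph F K ∧ Nat.card K = n ∧ (Y.addOrbits m hL).fix K ≠ T (grange K)}) ?_ _ ?_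
        (good_addOrbits hS Y hYg m hL (hLc ▸ hn)) ?_ le_rfl
      · refine lt_of_lt_of_le ?_ hd
        refine (Set.Finite.card_lt_card (Set.toFinite _) ?_ :
          Nat.card {K : Subgroup (↥S × ↥S) | IsFGraph F K ∧ Nat.card K = n ∧
              (Y.addOrbits m hL).fix K ≠ T (grange K)} <
            Nat.card {K : Subgroup (↥S × ↥S) |
              IsFGraph F K ∧ Nat.card K = n ∧ Y.fix K ≠ T (grange K)})
        refine ⟨fun K hK => ?_, fun h => ?_⟩
        · obtain ⟨hK1, hK2, hK3⟩ := hK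
          refine ⟨hK1, hK2, ?_⟩
          by_cases hv : ∃ v : ↥S × ↥S, K = L.map (MulAut.conj v).toMonoidHom
          · obtain ⟨v, rfl⟩ := hv
            exact absurd (hconjval v) hK3
          · rwa [hother K hK2.ge hv] at hK3
        · have h2 := (h ⟨hL, hLc, hLne⟩).2.2
          have h3 := hconjval 1
          rw [show L.map (MulAut.conj (1 : ↥S × ↥S)).toMonoidHom = L by
            rw [map_one]; exact Subgroup.map_id L] at h3
          exact h2 h3
      · intro P φ hφ hP
        rw [hbig _ (by rw [card_graph hφ]; exact hP),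
          hbig _ (by rw [card_graph (subtype_mem F (range_le hφ)), card_range hφ]; exact hP)]
        exact hY P φ hφ hP
      · intro K hK hKc
        by_cases hv : ∃ v : ↥S × ↥S, K = L.map (MulAut.conj v).toMonoidHom
        · obtain ⟨v, rfl⟩ := hv
          rw [hconjval v]
          exact ⟨le_rfl, Nat.ModEq.refl _⟩
        · rw [hother K hKc.ge hv]
          exact hYT K hK hKc

/-! ### The top level -/

/-- The action of `S × S` on `S × Out_F(S)`. -/
@[reducible] noncomputable def topAction (F : FusionSystem S) :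
    MulAction (↥S × ↥S) (↥S × (F.autGroup S ⧸ (Inn S).subgroupOf (F.autGroup S))) where
  smul w z := (w.2 * z.1 * ((z.2.out : MulAut S) w.1)⁻¹, z.2)
  one_smul z := by
    refine Prod.ext ?_ rfl
    show (1 : S) * z.1 * ((z.2.out : MulAut S) 1)⁻¹ = z.1
    simp
  mul_smul v w z := by
    refine Prod.ext ?_ rfl
    show v.2 * w.2 * z.1 * ((z.2.out : MulAut S) (v.1 * w.1))⁻¹ =
      v.2 * (w.2 * z.1 * ((z.2.out : MulAut S) w.1)⁻¹) * ((z.2.out : MulAut S) v.1)⁻¹
    rw [map_mul, mul_inv_rev]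
    simp only [mul_assoc]

theorem exists_top [Finite S] {p : ℕ} [Fact p.Prime] (hS : IsPGroup p S) (hF : F.IsSaturated p) :
    ∃ X : FSet F, X.Stable (Nat.card S) ∧ X.Good p := by
  have := finite_mulAut (Ω := Ω) (le_refl S)
  set A := F.autGroup S
  set I := (Inn S).subgroupOf A with hI
  letI act := topAction F
  have hstab : ∀ z : ↥S × (A ⧸ I), ∀ w : ↥S × ↥S,
      w • z = z ↔ w.2 * z.1 * ((z.2.out : MulAut S) w.1)⁻¹ = z.1 := fun z w =>
    ⟨fun h => congrArg Prod.fst h, fun h => Prod.ext h rfl⟩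
  let X : FSet F :=
    { carrier := ↥S × (A ⧸ I)
      stab := fun z => by
        let β : MulAut S := MulAut.conj z.1 * (z.2.out : MulAut S)
        have hβ : β ∈ A := A.mul_mem (inn_le_autGroup F le_rfl ⟨z.1, rfl⟩) z.2.out.2
        refine ⟨S, S.subtype.comp β.toMonoidHom, (mem_autGroup_iff le_rfl).1 hβ, ?_⟩
        ext w
        rw [mem_stabilizer_iff, hstab, mem_graph]
        constructor
        · intro h
          refine ⟨w.1.2, congrArg Subtype.val ?_⟩
          show z.1 * (z.2.out : MulAut S) w.1 * z.1⁻¹ = w.2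
          calc z.1 * (z.2.out : MulAut S) w.1 * z.1⁻¹
              = (w.2 * z.1 * ((z.2.out : MulAut S) w.1)⁻¹) * (z.2.out : MulAut S) w.1 * z.1⁻¹ := by
                rw [h]
            _ = w.2 := by group
        · rintro ⟨_, h⟩
          have h' : z.1 * (z.2.out : MulAut S) w.1 * z.1⁻¹ = w.2 := Subtype.ext h
          rw [← h']
          group }
  refine ⟨X, fun P φ hφ hP => ?_, ?_⟩
  · have hPS : P = S := eq_of_le_of_card_le le_rfl (dom_le hφ) hP
    subst P
    have hr : φ.range = S := range_eq_of_le hφ le_rfl (apply_mem hφ) le_rfl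
    suffices hcount : ∀ (ψ : S →* Ω), ψ ∈ F.Hom S → ψ.range = S →
        X.fix (graph S S ψ) = Nat.card (Subgroup.center S) by
      rw [hcount φ hφ hr]
      have h2 := hcount S.subtype (subtype_mem F le_rfl) S.range_subtype
      rw [show graph S φ.range φ.range.subtype = graph S S S.subtype by rw [hr], h2]
    intro ψ hψ hψr
    set b : A := ⟨toAut hψ hψr, toAut_mem hψ hψr⟩ with hb
    obtain ⟨i, hi⟩ := QuotientGroup.mk_out_eq_mul I b
    obtain ⟨t, ht⟩ := Subgroup.mem_subgroupOf.1 i.2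
    set c : A ⧸ I := (b : A ⧸ I) with hc
    have hout : ∀ x : S, (c.out : MulAut S) x = (b : MulAut S) t * (b : MulAut S) x *
        ((b : MulAut S) t)⁻¹ := by
      intro x
      rw [hc, hi]
      show (b : MulAut S) ((i : MulAut S) x) = _
      rw [← ht, MulAut.conj_apply, map_mul, map_mul, map_inv]
    set s₀ := ((b : MulAut S) t)⁻¹ with hs₀
    have hψb : ∀ x : S, ψ x = ((b : MulAut S) x : S) := fun x => rfl
    refine (Nat.card_congr (Equiv.ofBijective (fun z : Subgroup.center S =>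
      (⟨(s₀ * z, c), ?_⟩ : fixedPoints (graph S S ψ) (↥S × (A ⧸ I)))) ⟨?_, ?_⟩)).symm
    · rintro ⟨w, hw, hw'⟩
      refine (hstab _ w).2 ?_
      have hw2 : w.2 = (b : MulAut S) w.1 := Subtype.ext (by rw [← hw', hψb])
      show w.2 * (s₀ * z) * ((c.out : MulAut S) w.1)⁻¹ = s₀ * z
      rw [hout, hw2, hs₀]
      have hz := Subgroup.mem_center_iff.1 z.2
      rw [hz ((b : MulAut S) t)⁻¹, ← mul_assoc ((b : MulAut S) w.1), hz ((b : MulAut S) w.1)]
      group
    · intro z z' h
      exact Subtype.ext (mul_left_cancel (congrArg Prod.fst (congrArg Subtype.val h)))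
    · rintro ⟨⟨s, d⟩, hfix⟩
      have heq : ∀ x : S, (b : MulAut S) x * s * ((d.out : MulAut S) x)⁻¹ = s := fun x =>
        (hstab (s, d) (x, (b : MulAut S) x)).1 (hfix ⟨(x, (b : MulAut S) x), x.2, rfl⟩)
      have hd : d = c := by
        rw [hc, ← d.out_eq]
        refine QuotientGroup.eq.2 (Subgroup.mem_subgroupOf.2
          ⟨(d.out : MulAut S)⁻¹ s, MulEquiv.ext fun x => ?_⟩)
        apply (d.out : MulAut S).injective
        rw [MulAut.conj_apply, map_mul, map_mul, map_inv, MulAut.apply_inv_self]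
        show s * (d.out : MulAut S) x * s⁻¹ =
          (d.out : MulAut S) ((d.out : MulAut S)⁻¹ ((b : MulAut S) x))
        rw [MulAut.apply_inv_self]
        calc s * (d.out : MulAut S) x * s⁻¹
            = ((b : MulAut S) x * s * ((d.out : MulAut S) x)⁻¹) * (d.out : MulAut S) x * s⁻¹ := by
              rw [heq x]
          _ = (b : MulAut S) x := by group
      subst hd
      have hz : s₀⁻¹ * s ∈ Subgroup.center S := by
        refine Subgroup.mem_center_iff.2 fun y => ?_
        obtain ⟨x, rfl⟩ := (c.out : MulAut S).surjective y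
        have h1 := heq x
        rw [hout] at h1 ⊢
        have h2 : (b : MulAut S) x * s = s * ((b : MulAut S) t * (b : MulAut S) x *
            ((b : MulAut S) t)⁻¹) := by
          rw [← mul_inv_eq_iff_eq_mul, h1]
        rw [hs₀, inv_inv]
        calc (b : MulAut S) t * (b : MulAut S) x * ((b : MulAut S) t)⁻¹ * ((b : MulAut S) t * s)
            = (b : MulAut S) t * ((b : MulAut S) x * s) := by group
          _ = _ := by rw [h2]; group
      exact ⟨⟨_, hz⟩, Subtype.ext (Prod.ext (by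
        show s₀ * (s₀⁻¹ * s) = s
        group) rfl)⟩
  · obtain ⟨-, R, hR⟩ := isFullyAutomized_self hS hF
    rw [autInducedBy_self] at hR
    refine ⟨I.index, ?_, ?_⟩
    · show Nat.card (↥S × (A ⧸ I)) = _
      rw [Nat.card_prod, mul_comm]
      rfl
    · rw [hI, ← hR]
      exact R.not_dvd_index

/-- A saturated fusion system has a characteristic biset. -/
theorem exists_characteristic [Finite S] {p : ℕ} [Fact p.Prime] (hS : IsPGroup p S)
    (hF : F.IsSaturated p) : ∃ X : FSet F, X.Stable 0 ∧ X.Good p := by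
  suffices H : ∀ j ≤ Nat.card S, ∃ X : FSet F, X.Stable (Nat.card S - j) ∧ X.Good p by
    obtain ⟨X, hX, hg⟩ := H _ le_rfl
    exact ⟨X, Nat.sub_self (Nat.card S) ▸ hX, hg⟩
  intro j
  induction j with
  | zero => intro _; exact exists_top hS hF
  | succ j ih =>
    intro hj
    obtain ⟨X, hX, hg⟩ := ih (by omega)
    exact exists_stable_step hS hF X (n := Nat.card S - (j + 1)) (by omega)
      (show X.Stable _ by rwa [show Nat.card S - (j + 1) + 1 = Nat.card S - j by omega]) hg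

/-- In a characteristic biset the left action twisted by a map of the system is isomorphic to the
plain left action. -/
theorem exists_twist_equiv [Finite S] {X : FSet F} (hX : X.Stable 0) {P : Subgroup Ω}
    {φ : P →* Ω} (hφ : φ ∈ F.Hom P) :
    ∃ e : X.carrier ≃ X.carrier, ∀ (w : ↥P × ↥S) (x : X.carrier),
      e (incl S (dom_le hφ) w • x) = twist hφ w • e x := by
  have := finite_of_le (Ω := Ω) (dom_le hφ)
  have key : ∀ H : Subgroup (↥P × ↥S),
      X.fix (H.map (incl S (dom_le hφ))) = X.fix (H.map (twist hφ)) := fun H =>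
    (X.fix_twist hX hφ H (Nat.zero_le _)).symm
  have hcomp : ∀ (f : ↥P × ↥S →* ↥S × ↥S) (H : Subgroup (↥P × ↥S)),
      Nat.card (@fixedPoints H X.carrier _
        (letI := MulAction.compHom X.carrier f; inferInstance)) = X.fix (H.map f) := by
    intro f H
    refine Nat.card_congr (Equiv.subtypeEquivRight fun x => ⟨?_, ?_⟩)
    · rintro h ⟨_, l, hl, rfl⟩
      exact h ⟨l, hl⟩
    · rintro h ⟨l, hl⟩
      exact h ⟨_, l, hl, rfl⟩
  obtain ⟨e, he⟩ := @Marks.exists_equiv_of_card_fixedPoints (↥P × ↥S) X.carrier X.carrier _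
    (MulAction.compHom X.carrier (incl S (dom_le hφ))) (MulAction.compHom X.carrier (twist hφ))
    _ _ _ fun H => by rw [hcomp, hcomp, key H]
  exact ⟨e, he⟩

end Cfsg.Agent.Fusion.Biset
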