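import Cfsg.Agent.Lib.Fusion.Saturated

/-!
Bisets of a fusion system: finite `S × S`-sets all of whose stabilizers are graphs `{(x, φ x)}` of
maps `φ` of the system. Graphs, fixed point counts, and their behaviour under twisting the left
coordinate by a map of the system.
-/

set_option autoImplicit false

universe u

namespace Cfsg.Agent.Fusion.Biset

open Cfsg Cfsg.FusionSystem MulAction

variable {Ω : Type u} [Group Ω] {S : Subgroup Ω} {F : FusionSystem S}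

/-- The graph of a homomorphism inside `S × S`. -/
def graph (S P : Subgroup Ω) (φ : P →* Ω) : Subgroup (↥S × ↥S) where
  carrier := {w | ∃ h : (w.1 : Ω) ∈ P, φ ⟨w.1, h⟩ = (w.2 : Ω)}
  one_mem' := ⟨P.one_mem, by
    show φ 1 = _
    simp⟩
  mul_mem' := by
    rintro a b ⟨ha, ha'⟩ ⟨hb, hb'⟩
    refine ⟨P.mul_mem ha hb, ?_⟩
    show φ (⟨a.1, ha⟩ * ⟨b.1, hb⟩) = _
    rw [map_mul, ha', hb']
    rfl
  inv_mem' := by
    rintro a ⟨ha, ha'⟩
    refine ⟨P.inv_mem ha, ?_⟩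
    show φ (⟨a.1, ha⟩⁻¹) = _
    rw [map_inv, ha']
    rfl

theorem mem_graph {P : Subgroup Ω} {φ : P →* Ω} {w : ↥S × ↥S} :
    w ∈ graph S P φ ↔ ∃ h : (w.1 : Ω) ∈ P, φ ⟨w.1, h⟩ = (w.2 : Ω) := Iff.rfl

/-- The first projection of a subgroup of `S × S`, inside `Ω`. -/
def gdom (L : Subgroup (↥S × ↥S)) : Subgroup Ω := (L.map (MonoidHom.fst S S)).map S.subtype

/-- The second projection of a subgroup of `S × S`, inside `Ω`. -/
def grange (L : Subgroup (↥S × ↥S)) : Subgroup Ω := (L.map (MonoidHom.snd S S)).map S.subtype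

theorem mem_gdom {L : Subgroup (↥S × ↥S)} {x : Ω} :
    x ∈ gdom L ↔ ∃ w ∈ L, (w.1 : Ω) = x := by
  constructor
  · rintro ⟨_, ⟨w, hw, rfl⟩, rfl⟩
    exact ⟨w, hw, rfl⟩
  · rintro ⟨w, hw, rfl⟩
    exact ⟨_, ⟨w, hw, rfl⟩, rfl⟩

theorem mem_grange {L : Subgroup (↥S × ↥S)} {x : Ω} :
    x ∈ grange L ↔ ∃ w ∈ L, (w.2 : Ω) = x := by
  constructor
  · rintro ⟨_, ⟨w, hw, rfl⟩, rfl⟩
    exact ⟨w, hw, rfl⟩
  · rintro ⟨w, hw, rfl⟩
    exact ⟨_, ⟨w, hw, rfl⟩, rfl⟩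

theorem gdom_graph {P : Subgroup Ω} {φ : P →* Ω} (hφ : φ ∈ F.Hom P) :
    gdom (graph S P φ) = P := by
  ext x
  rw [mem_gdom]
  constructor
  · rintro ⟨w, ⟨h, -⟩, rfl⟩
    exact h
  · exact fun hx => ⟨(⟨x, dom_le hφ hx⟩, ⟨φ ⟨x, hx⟩, apply_mem hφ _⟩), ⟨hx, rfl⟩, rfl⟩

theorem grange_graph {P : Subgroup Ω} {φ : P →* Ω} (hφ : φ ∈ F.Hom P) :
    grange (graph S P φ) = φ.range := by
  ext x
  rw [mem_grange]
  constructor
  · rintro ⟨w, ⟨h, h'⟩, rfl⟩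
    exact ⟨_, h'⟩
  · rintro ⟨y, rfl⟩
    exact ⟨(⟨y, dom_le hφ y.2⟩, ⟨φ y, apply_mem hφ _⟩), ⟨y.2, rfl⟩, rfl⟩

theorem card_graph {P : Subgroup Ω} {φ : P →* Ω} (hφ : φ ∈ F.Hom P) :
    Nat.card (graph S P φ) = Nat.card P := by
  refine Nat.card_congr
    { toFun := fun w => ⟨(w : ↥S × ↥S).1, w.2.1⟩
      invFun := fun x => ⟨(⟨x, dom_le hφ x.2⟩, ⟨φ x, apply_mem hφ x⟩), x.2, rfl⟩
      left_inv := ?_
      right_inv := fun x => Subtype.ext rfl }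
  rintro ⟨w, h, h'⟩
  exact Subtype.ext (Prod.ext rfl (Subtype.ext h'))

/-- `L` is the graph of a map of the system. -/
def IsFGraph (F : FusionSystem S) (L : Subgroup (↥S × ↥S)) : Prop :=
  ∃ P : Subgroup Ω, ∃ φ ∈ F.Hom P, L = graph S P φ

theorem isFGraph_of_le {L : Subgroup (↥S × ↥S)} {P : Subgroup Ω} {φ : P →* Ω}
    (hφ : φ ∈ F.Hom P) (hL : L ≤ graph S P φ) : IsFGraph F L := by
  have hle : gdom L ≤ P := by
    intro x hx
    obtain ⟨w, hw, rfl⟩ := mem_gdom.1 hx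
    exact (hL hw).1
  refine ⟨gdom L, φ.comp (Subgroup.inclusion hle), restrict_mem hφ hle, ?_⟩
  ext w
  constructor
  · intro hw
    exact ⟨mem_gdom.2 ⟨w, hw, rfl⟩, (hL hw).2⟩
  · rintro ⟨h, h'⟩
    obtain ⟨v, hv, hvw⟩ := mem_gdom.1 h
    obtain ⟨hv1, hv2⟩ := hL hv
    have : v = w := by
      refine Prod.ext (Subtype.ext hvw) (Subtype.ext ?_)
      rw [← hv2, ← h']
      exact congrArg φ (Subtype.ext hvw)
    exact this ▸ hv

theorem isFGraph_le {L L' : Subgroup (↥S × ↥S)} (h : IsFGraph F L') (hle : L ≤ L') :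
    IsFGraph F L := by
  obtain ⟨P, φ, hφ, rfl⟩ := h
  exact isFGraph_of_le hφ hle

theorem isFGraph_conj {L : Subgroup (↥S × ↥S)} (hL : IsFGraph F L) (v : ↥S × ↥S) :
    IsFGraph F (L.map (MulAut.conj v).toMonoidHom) := by
  obtain ⟨P, φ, hφ, rfl⟩ := hL
  set a : Ω := ((v.1 : S) : Ω) with ha
  set b : Ω := ((v.2 : S) : Ω) with hb
  set P' := P.map (MulAut.conj a).toMonoidHom with hP'
  have hP'S : P' ≤ S := by
    rintro _ ⟨x, hx, rfl⟩
    exact S.mul_mem (S.mul_mem v.1.2 (dom_le hφ hx)) (S.inv_mem v.1.2)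
  have h1 : ∀ y : P', conjHom P' a⁻¹ y ∈ P := by
    rintro ⟨_, x, hx, rfl⟩
    rw [conjHom_apply]
    simpa [mul_assoc] using hx
  have hm := F.comp_mem (F.conj_mem hP'S (S.inv_mem v.1.2)) hφ h1
  have h2 : ∀ y : P', (φ.comp ((conjHom P' a⁻¹).codRestrict P h1)) y ∈ φ.range := fun y => ⟨_, rfl⟩
  refine ⟨P', _, F.comp_mem hm (F.conj_mem (range_le hφ) (show b ∈ S from v.2.2)) h2, ?_⟩
  ext w
  constructor
  · rintro ⟨u, ⟨hu, hu'⟩, rfl⟩
    refine ⟨⟨_, hu, rfl⟩, ?_⟩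
    show b * φ ⟨a⁻¹ * (a * (u.1 : Ω) * a⁻¹) * a⁻¹⁻¹, _⟩ * b⁻¹ = b * (u.2 : Ω) * b⁻¹
    rw [← hu']
    congr 3
    group
  · rintro ⟨hw, hw'⟩
    have hwP := hw
    obtain ⟨x, hx, hxw⟩ := hwP
    refine ⟨v⁻¹ * w * v, ⟨?_, ?_⟩, by simp [mul_assoc]⟩
    · have h3 : ((v⁻¹ * w * v).1 : Ω) = x := by
        show a⁻¹ * (w.1 : Ω) * a = x
        rw [← hxw]
        show a⁻¹ * (a * x * a⁻¹) * a = x
        group
      rw [h3]
      exact hx
    · have h4 : b * φ ⟨a⁻¹ * (w.1 : Ω) * a⁻¹⁻¹, h1 ⟨w.1, hw⟩⟩ * b⁻¹ = (w.2 : Ω) := hw'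
      show φ ⟨a⁻¹ * (w.1 : Ω) * a, _⟩ = b⁻¹ * (w.2 : Ω) * b
      rw [← h4]
      simp only [inv_inv]
      group

theorem isFGraph_range_subtype {P : Subgroup Ω} {φ : P →* Ω} (hφ : φ ∈ F.Hom P) :
    IsFGraph F (graph S φ.range φ.range.subtype) :=
  ⟨_, _, subtype_mem F (range_le hφ), rfl⟩

/-! ### Bundled finite bisets -/

/-- A finite `S × S`-set whose stabilizers are graphs of maps of the system. -/
structure FSet (F : FusionSystem S) : Type (u + 1) where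
  carrier : Type u
  [action : MulAction (↥S × ↥S) carrier]
  [finite : Finite carrier]
  stab : ∀ x : carrier, IsFGraph F (stabilizer (↥S × ↥S) x)

attribute [instance] FSet.action FSet.finite

/-- The number of fixed points of a subgroup. -/
noncomputable def FSet.fix (X : FSet F) (L : Subgroup (↥S × ↥S)) : ℕ :=
  Nat.card (fixedPoints L X.carrier)

theorem FSet.fix_eq_zero (X : FSet F) {L : Subgroup (↥S × ↥S)} (hL : ¬ IsFGraph F L) :
    X.fix L = 0 := by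
  have : IsEmpty (fixedPoints L X.carrier) := ⟨fun x => hL
    (isFGraph_le (X.stab x.1) fun w hw => x.2 ⟨w, hw⟩)⟩
  exact Nat.card_of_isEmpty

theorem fix_conj {G X : Type*} [Group G] [MulAction G X] (L : Subgroup G) (v : G) :
    Nat.card (fixedPoints (L.map (MulAut.conj v).toMonoidHom : Subgroup G) X) =
      Nat.card (fixedPoints L X) := by
  refine Nat.card_congr
    { toFun := fun x => ⟨v⁻¹ • x.1, fun l => ?_⟩
      invFun := fun x => ⟨v • x.1, ?_⟩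
      left_inv := fun x => Subtype.ext (smul_inv_smul v x.1)
      right_inv := fun x => Subtype.ext (inv_smul_smul v x.1) }
  · have h := x.2 ⟨_, ⟨l, l.2, rfl⟩⟩
    rw [Subgroup.smul_def] at h ⊢
    simp only [MulEquiv.coe_toMonoidHom, MulAut.conj_apply, mul_smul] at h
    exact smul_left_cancel v (by rw [smul_inv_smul]; exact h)
  · rintro ⟨_, l, hl, rfl⟩
    rw [Subgroup.smul_def]
    simp only [MulEquiv.coe_toMonoidHom, MulAut.conj_apply, mul_smul, inv_smul_smul]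
    exact congrArg (v • ·) (x.2 ⟨l, hl⟩)

/-- `X` is stable at the level of subgroups of order at least `n`. -/
def FSet.Stable (X : FSet F) (n : ℕ) : Prop :=
  ∀ (P : Subgroup Ω) (φ : P →* Ω), φ ∈ F.Hom P → n ≤ Nat.card P →
    X.fix (graph S P φ) = X.fix (graph S φ.range φ.range.subtype)

/-! ### Twisting the left coordinate -/

/-- The inclusion `N × S → S × S`. -/
def incl (S : Subgroup Ω) {N : Subgroup Ω} (hN : N ≤ S) : ↥N × ↥S →* ↥S × ↥S :=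
  MonoidHom.prodMap (Subgroup.inclusion hN) (MonoidHom.id S)

/-- `(x, b) ↦ (ψ x, b)`. -/
def twist {N : Subgroup Ω} {ψ : N →* Ω} (hψ : ψ ∈ F.Hom N) : ↥N × ↥S →* ↥S × ↥S :=
  MonoidHom.prodMap (ψ.codRestrict S (apply_mem hψ)) (MonoidHom.id S)

theorem incl_injective {N : Subgroup Ω} (hN : N ≤ S) : Function.Injective (incl S hN) := by
  rintro ⟨a, b⟩ ⟨c, d⟩ h
  exact Prod.ext (Subgroup.inclusion_injective hN (congrArg Prod.fst h :))
    (congrArg Prod.snd h :)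

theorem twist_injective {N : Subgroup Ω} {ψ : N →* Ω} (hψ : ψ ∈ F.Hom N) :
    Function.Injective (twist hψ) := by
  rintro ⟨a, b⟩ ⟨c, d⟩ h
  refine Prod.ext (F.injective_of_mem hψ ?_) (congrArg Prod.snd h :)
  exact congrArg (fun w : ↥S × ↥S => (w.1 : Ω)) h

theorem grange_map_twist {N : Subgroup Ω} {ψ : N →* Ω} (hψ : ψ ∈ F.Hom N)
    (L : Subgroup (↥N × ↥S)) :
    grange (L.map (twist hψ)) = grange (L.map (incl S (dom_le hψ))) := by
  ext x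
  rw [mem_grange, mem_grange]
  constructor
  · rintro ⟨_, ⟨l, hl, rfl⟩, rfl⟩
    exact ⟨_, ⟨l, hl, rfl⟩, rfl⟩
  · rintro ⟨_, ⟨l, hl, rfl⟩, rfl⟩
    exact ⟨_, ⟨l, hl, rfl⟩, rfl⟩

theorem isFGraph_incl_of_twist {N : Subgroup Ω} {ψ : N →* Ω} (hψ : ψ ∈ F.Hom N)
    {L : Subgroup (↥N × ↥S)} (h : IsFGraph F (L.map (twist hψ))) :
    IsFGraph F (L.map (incl S (dom_le hψ))) := by
  obtain ⟨P, φ, hφ, he⟩ := h
  set P' : Subgroup Ω := gdom (L.map (incl S (dom_le hψ))) with hP'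
  have hP'N : P' ≤ N := by
    intro x hx
    obtain ⟨_, ⟨l, -, rfl⟩, rfl⟩ := mem_gdom.1 hx
    exact l.1.2
  have hval : ∀ x : P', (ψ.comp (Subgroup.inclusion hP'N)) x ∈ P := by
    rintro ⟨x, hx⟩
    obtain ⟨_, ⟨l, hl, rfl⟩, rfl⟩ := mem_gdom.1 hx
    exact (he.le ⟨l, hl, rfl⟩).1
  refine ⟨P', _, F.comp_mem (restrict_mem hψ hP'N) hφ hval, ?_⟩
  ext w
  constructor
  · rintro ⟨l, hl, rfl⟩
    exact ⟨mem_gdom.2 ⟨_, ⟨l, hl, rfl⟩, rfl⟩, (he.le ⟨l, hl, rfl⟩).2⟩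
  · rintro ⟨hx, hx'⟩
    obtain ⟨_, ⟨l, hl, rfl⟩, hl'⟩ := mem_gdom.1 hx
    obtain ⟨h1, h2⟩ := he.le ⟨l, hl, rfl⟩
    refine ⟨l, hl, Prod.ext (Subtype.ext hl') (Subtype.ext ?_)⟩
    show (l.2 : Ω) = (w.2 : Ω)
    rw [← hx']
    refine h2.symm.trans (congrArg φ (Subtype.ext ?_))
    exact congrArg ψ (Subtype.ext hl')

theorem isFGraph_twist_of_incl {N : Subgroup Ω} {ψ : N →* Ω} (hψ : ψ ∈ F.Hom N)
    {L : Subgroup (↥N × ↥S)} (h : IsFGraph F (L.map (incl S (dom_le hψ)))) :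
    IsFGraph F (L.map (twist hψ)) := by
  obtain ⟨P, φ, hφ, he⟩ := h
  obtain ⟨θ, hθ, -, hi, -⟩ := exists_inverse hψ (rfl : ψ.range = ψ.range)
  set P' : Subgroup Ω := gdom (L.map (twist hψ)) with hP'
  have hP'N : P' ≤ ψ.range := by
    intro x hx
    obtain ⟨_, ⟨l, -, rfl⟩, rfl⟩ := mem_gdom.1 hx
    exact ⟨l.1, rfl⟩
  have hval : ∀ x : P', (θ.comp (Subgroup.inclusion hP'N)) x ∈ P := by
    rintro ⟨x, hx⟩
    obtain ⟨_, ⟨l, hl, rfl⟩, rfl⟩ := mem_gdom.1 hx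
    have e := hi l.1 ⟨l.1, rfl⟩
    show θ ⟨ψ l.1, ⟨l.1, rfl⟩⟩ ∈ P
    exact e.symm ▸ (he.le ⟨l, hl, rfl⟩).1
  refine ⟨P', _, F.comp_mem (restrict_mem hθ hP'N) hφ hval, ?_⟩
  ext w
  constructor
  · rintro ⟨l, hl, rfl⟩
    refine ⟨mem_gdom.2 ⟨_, ⟨l, hl, rfl⟩, rfl⟩, ?_⟩
    obtain ⟨h1, h2⟩ := he.le ⟨l, hl, rfl⟩
    refine Eq.trans (congrArg φ (Subtype.ext ?_)) h2
    exact hi l.1 ⟨l.1, rfl⟩
  · rintro ⟨hx, hx'⟩
    obtain ⟨_, ⟨l, hl, rfl⟩, hl'⟩ := mem_gdom.1 hx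
    obtain ⟨h1, h2⟩ := he.le ⟨l, hl, rfl⟩
    refine ⟨l, hl, Prod.ext (Subtype.ext hl') (Subtype.ext ?_)⟩
    show (l.2 : Ω) = (w.2 : Ω)
    rw [← hx']
    refine h2.symm.trans (congrArg φ (Subtype.ext ?_))
    show (l.1 : Ω) = θ ⟨w.1, _⟩
    rw [show (⟨(w.1 : Ω), hP'N hx⟩ : ψ.range) = ⟨ψ l.1, ⟨l.1, rfl⟩⟩ from Subtype.ext hl'.symm]
    exact (hi l.1 _).symm

/-- In a stable biset twisted subgroups have as many fixed points as the original ones. -/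
theorem FSet.fix_twist (X : FSet F) {m : ℕ} (hX : X.Stable m) {N : Subgroup Ω} {ψ : N →* Ω}
    (hψ : ψ ∈ F.Hom N) (L : Subgroup (↥N × ↥S)) (hL : m ≤ Nat.card L) :
    X.fix (L.map (twist hψ)) = X.fix (L.map (incl S (dom_le hψ))) := by
  by_cases h : IsFGraph F (L.map (incl S (dom_le hψ)))
  · obtain ⟨P, φ, hφ, he⟩ := h
    obtain ⟨P', φ', hφ', he'⟩ := isFGraph_twist_of_incl hψ ⟨P, φ, hφ, he⟩
    have hc : Nat.card P = Nat.card L := by
      rw [← card_graph (S := S) hφ, ← he]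
      exact Subgroup.card_map_of_injective (incl_injective _)
    have hc' : Nat.card P' = Nat.card L := by
      rw [← card_graph (S := S) hφ', ← he']
      exact Subgroup.card_map_of_injective (twist_injective hψ)
    have hr : φ'.range = φ.range := by
      rw [← grange_graph hφ', ← grange_graph hφ, ← he, ← he', grange_map_twist]
    rw [he, he', hX P φ hφ (hc ▸ hL), hX P' φ' hφ' (hc' ▸ hL), hr]
  · rw [X.fix_eq_zero h, X.fix_eq_zero fun h' => h (isFGraph_incl_of_twist hψ h')]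

end Cfsg.Agent.Fusion.Biset
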