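import Cfsg.Agent.Lib.Fusion.ResidualLimit
import Cfsg.Agent.Lib.Fusion.KNormalizer
import Cfsg.Agent.Lib.Fusion.Constrained
import Cfsg.Agent.Lib.Fusion.ProductFactor

/-!
The centralizer system of a subgroup normal in `F` is normal in `F` (Aschbacher).
-/

set_option autoImplicit false
set_option linter.unusedSectionVars false

namespace Cfsg.Agent.Fusion.CoreCentralizer

open Cfsg Cfsg.FusionSystem Cfsg.Agent.Fusion

variable {Ω : Type*} [Group Ω] {S R : Subgroup Ω} {F : FusionSystem S} {p : ℕ}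
variable [Finite S]

/-- A map fixing `R` pointwise commutes with it on what centralizes `R`. -/
theorem apply_mem_centralizerIn {W : Subgroup Ω} {ψ : W →* Ω} (hψ : ψ ∈ F.Hom W) (hRW : R ≤ W)
    (hR : (R.subgroupOf W).map ψ = R) (c : W) (hc : (c : Ω) ∈ centralizerIn S R) :
    ψ c ∈ centralizerIn S R := by
  refine mem_centralizerIn.2 ⟨apply_mem hψ c, fun y hy => ?_⟩
  obtain ⟨w, hw, rfl⟩ := hR.ge hy
  rw [← map_mul, ← map_mul]
  exact congrArg ψ (Subtype.ext ((mem_centralizerIn.1 hc).2 w hw))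

theorem stronglyClosed_centralizer (hR : F.IsNormal R) :
    F.StronglyClosed (centralizerIn S R) := by
  refine ⟨centralizerIn_le S R, fun P hP φ hφ x => ?_⟩
  obtain ⟨ψ, hψ, hψP, hψR⟩ := hR.2 P φ hφ
  rw [← hψP x]
  exact apply_mem_centralizerIn hψ le_sup_right hψR _ (hP x.2)

theorem le_normalizer (hR : F.IsNormal R) : S ≤ Subgroup.normalizer (R : Set Ω) :=
  le_normalizer_of_isNormal hR

theorem stronglyClosed_centralizer_sup (hR : F.IsNormal R) :
    F.StronglyClosed (centralizerIn S R ⊔ R) := by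
  refine ⟨sup_le (centralizerIn_le S R) hR.1, fun P hP φ hφ x => ?_⟩
  obtain ⟨ψ, hψ, hψP, hψR⟩ := hR.2 P φ hφ
  have hx : (x : Ω) ∈ ((centralizerIn S R ⊔ R : Subgroup Ω) : Set Ω) := hP x.2
  rw [Subgroup.coe_mul_of_left_le_normalizer_right (centralizerIn S R) R
    ((centralizerIn_le S R).trans (le_normalizer hR)), Set.mem_mul] at hx
  obtain ⟨c, hc, r, hr, hcr⟩ := hx
  have hcW : c ∈ P ⊔ R := by
    have h := (P ⊔ R).mul_mem (Subgroup.mem_sup_left x.2) (Subgroup.mem_sup_right (R.inv_mem hr))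
    rw [← hcr] at h
    simpa using h
  rw [← hψP x, show Subgroup.inclusion le_sup_left x = (⟨c, hcW⟩ : ↥(P ⊔ R)) *
    ⟨r, Subgroup.mem_sup_right hr⟩ from Subtype.ext hcr.symm, map_mul]
  exact Subgroup.mul_mem_sup (apply_mem_centralizerIn hψ le_sup_right hψR _ hc)
    (hψR.le ⟨⟨r, Subgroup.mem_sup_right hr⟩, hr, rfl⟩)

variable [Fact p.Prime]

theorem isFullyCentralized (hS : IsPGroup p S) (hF : F.IsSaturated p) (hR : F.IsNormal R) :
    F.IsFullyCentralized R :=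
  isFullyCentralized_of_fullyNormalized hS hF
    (isFullyNormalized_of_stronglyClosed (stronglyClosed_of_isNormal hR))

/-- The centralizer system of a normal subgroup is invariant. -/
theorem isInvariantIn (hS : IsPGroup p S) (hF : F.IsSaturated p) (hR : F.IsNormal R) :
    (centralizerSystem F R hR.1).IsInvariantIn F := by
  refine isInvariantIn_of_stronglyInvariant hS hF (fun P φ hφ => hφ.1)
    (stronglyClosed_centralizer hR) ?_
  rintro P Q hPQ hQC φ ⟨hφF, hP, hφC, φ', hφ', hφ'P, hφ'R⟩ hφQ ψ hψ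
  obtain ⟨ψ', hψ', hψ'Q, hψ'R⟩ := hR.2 Q ψ hψ
  obtain ⟨η, hη, -, hηi, -⟩ := exists_inverse hψ' (rfl : ψ'.range = ψ'.range)
  set P' := (P.subgroupOf Q).map ψ with hP'
  have hP'C : P' ≤ centralizerIn S R := by
    rintro _ ⟨y, hy, rfl⟩
    exact (stronglyClosed_centralizer hR).2 Q hQC ψ hψ y
  have hW : P' ⊔ R ≤ ψ'.range := sup_le
    (by rintro _ ⟨y, hy, rfl⟩; exact ⟨_, hψ'Q y⟩)
    (by intro r hr; obtain ⟨w, -, hw⟩ := hψ'R.ge hr; exact ⟨w, hw⟩)
  have hηW : ∀ z, η (Subgroup.inclusion hW z) ∈ P ⊔ R := by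
    refine forall_sup_mem (η.comp (Subgroup.inclusion hW)) ?_ ?_
    · rintro ⟨_, y, hy, rfl⟩
      refine Subgroup.mem_sup_left (Set.mem_of_eq_of_mem ?_ hy)
      exact (congrArg η (Subtype.ext (hψ'Q y).symm)).trans (hηi (Subgroup.inclusion le_sup_left y) ⟨_, rfl⟩)
    · rintro ⟨r, hr⟩
      obtain ⟨w, hw, hwr⟩ := hψ'R.ge hr
      refine Subgroup.mem_sup_right (Set.mem_of_eq_of_mem ?_ hw)
      exact (congrArg η (Subtype.ext hwr.symm)).trans (hηi w ⟨_, rfl⟩)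
  have hφ'W : ∀ z, φ' z ∈ Q ⊔ R := forall_sup_mem φ'
    (fun y => by rw [hφ'P]; exact Subgroup.mem_sup_left (hφQ y))
    (fun r => by rw [hφ'R]; exact Subgroup.mem_sup_right r.2)
  set g := ψ'.comp ((φ'.comp ((η.comp (Subgroup.inclusion hW)).codRestrict (P ⊔ R) hηW)).codRestrict
    (Q ⊔ R) fun z => hφ'W _) with hg
  have hgF : g ∈ F.Hom (P' ⊔ R) :=
    F.comp_mem (F.comp_mem (restrict_mem hη hW) hφ' hηW) hψ' fun z => hφ'W _
  have hval : ∀ (x : P) (h : ψ (Subgroup.inclusion hPQ x) ∈ P'),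
      g ⟨ψ (Subgroup.inclusion hPQ x), Subgroup.mem_sup_left h⟩ = ψ ⟨φ x, hφQ x⟩ := by
    intro x h
    refine Eq.trans ?_ (hψ'Q ⟨φ x, hφQ x⟩)
    refine congrArg ψ' (Subtype.ext (Eq.trans ?_ (hφ'P x)))
    refine congrArg φ' (Subtype.ext ?_)
    exact (congrArg η (Subtype.ext (hψ'Q (Subgroup.inclusion hPQ x)).symm)).trans
      (hηi (Subgroup.inclusion le_sup_left (Subgroup.inclusion hPQ x)) ⟨_, rfl⟩)
  refine ⟨g.comp (Subgroup.inclusion le_sup_left), ⟨restrict_mem hgF _, hP'C, ?_, g, hgF,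
    fun z => rfl, ?_⟩, fun x hx => hval x hx⟩
  · rintro ⟨_, y, hy, rfl⟩
    refine Set.mem_of_eq_of_mem (hval ⟨y, hy⟩ ⟨y, hy, rfl⟩) ?_
    exact (stronglyClosed_centralizer hR).2 Q hQC ψ hψ _
  · rintro ⟨r, hr⟩
    obtain ⟨w, hw, hwr⟩ := hψ'R.ge hr
    refine Eq.trans ?_ hwr
    refine congrArg ψ' (Subtype.ext (Eq.trans ?_ (hφ'R ⟨w, hw⟩)))
    refine congrArg φ' (Subtype.ext ?_)
    exact (congrArg η (Subtype.ext hwr.symm)).trans (hηi w ⟨_, rfl⟩)

/-- The centralizer system of a normal subgroup is normal. -/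
theorem isNormalIn (hS : IsPGroup p S) (hF : F.IsSaturated p) (hR : F.IsNormal R) :
    (centralizerSystem F R hR.1).IsNormalIn F p := by
  have hsat := centralizerSystem_saturated hS hF (isFullyCentralized hS hF hR)
    (centralizerSystem_spec F R hR.1)
  refine ⟨⟨hsat, hF, isInvariantIn hS hF hR⟩, ?_⟩
  set C := centralizerIn S R with hC
  intro α hα
  have hCS := centralizerIn_le S R
  obtain ⟨hαF, -, -, ψ, hψ, hψC, hψR⟩ :=
    (mem_autGroup_iff (F := centralizerSystem F R hR.1) le_rfl).1 hα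
  have hRC : R ≤ centralizerIn S C := fun r hr => mem_centralizerIn.2 ⟨hR.1 hr, fun c hc =>
    ((mem_centralizerIn.1 hc).2 r hr).symm⟩
  have hYS : C ⊔ R ≤ S := sup_le hCS hR.1
  have hYcl := stronglyClosed_centralizer_sup hR
  have := finite_of_le (Ω := Ω) hYS
  have hr : ψ.range = C ⊔ R := range_eq_of_le hψ hYS (fun z => hYcl.2 _ le_rfl ψ hψ z) le_rfl
  set X := C ⊔ centralizerIn S C with hX
  have hXS : X ≤ S := sup_le hCS (centralizerIn_le S C)
  have hYn : S ≤ Subgroup.normalizer ((C ⊔ R : Subgroup Ω) : Set Ω) :=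
    le_normalizer_of_stronglyClosed hYcl
  have hext : X ≤ extender S (C ⊔ R) ψ := by
    refine sup_le (le_sup_left.trans (le_extender hYS fun z => apply_mem hψ z)) fun c hc => ?_
    obtain ⟨hcS, hcC⟩ := mem_centralizerIn.1 hc
    refine mem_extender_iff.2 ⟨hcS, hYn hcS, c, hcS, fun x hx => ?_⟩
    let f₁ : ↥(C ⊔ R) →* Ω := (MulAut.conj c).toMonoidHom.comp ψ
    let f₂ : ↥(C ⊔ R) →* Ω := ψ.comp (conjAut (hYn hcS)).toMonoidHom
    suffices h : f₂ = f₁ by exact DFunLike.congr_fun h x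
    refine MonoidHom.ext fun z => ?_
    have hz : z ∈ MonoidHom.eqLocus f₂ f₁ := by
      have hle : C ⊔ R ≤ (MonoidHom.eqLocus f₂ f₁).map (C ⊔ R).subtype := by
        refine sup_le (fun a ha => ?_) (fun a ha => ?_)
        · refine ⟨⟨a, Subgroup.mem_sup_left ha⟩, ?_, rfl⟩
          show ψ ⟨c * a * c⁻¹, _⟩ = c * ψ ⟨a, _⟩ * c⁻¹
          have h1 : c * a * c⁻¹ = a := by rw [← hcC a ha, mul_inv_cancel_right]
          have h2 : ψ ⟨a, Subgroup.mem_sup_left ha⟩ ∈ C := by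
            rw [show ψ ⟨a, Subgroup.mem_sup_left ha⟩ = ((α ⟨a, ha⟩ : C) : Ω) from hψC ⟨a, ha⟩]
            exact (α ⟨a, ha⟩).2
          rw [← hcC _ h2, mul_inv_cancel_right]
          exact congrArg ψ (Subtype.ext h1)
        · refine ⟨⟨a, Subgroup.mem_sup_right ha⟩, ?_, rfl⟩
          show ψ ⟨c * a * c⁻¹, _⟩ = c * ψ ⟨a, _⟩ * c⁻¹
          rw [show ψ ⟨a, Subgroup.mem_sup_right ha⟩ = a from hψR ⟨a, ha⟩]
          exact hψR ⟨c * a * c⁻¹, (Subgroup.mem_normalizer_iff.1 (le_normalizer hR hcS) a).1 ha⟩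
      obtain ⟨w, hw, hwz⟩ := hle z.2
      rwa [show w = z from Subtype.ext hwz] at hw
    exact hz
  obtain ⟨χ, hχ, hχe⟩ := exists_extension (isReceptive_of_fullyNormalized hS hF
    (isFullyNormalized_of_stronglyClosed hYcl)) hψ hr hext
  have := finite_of_le (Ω := Ω) hXS
  have hYX : C ⊔ R ≤ X := sup_le_sup_left hRC C
  have hχC : ∀ a (ha : a ∈ C), χ ⟨a, Subgroup.mem_sup_left ha⟩ = ((α ⟨a, ha⟩ : C) : Ω) := fun a ha =>
    (hχe a (Subgroup.mem_sup_left ha) _).trans (hψC ⟨a, ha⟩)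
  have hχR : ∀ a (ha : a ∈ R), χ ⟨a, hYX (Subgroup.mem_sup_right ha)⟩ = a := fun a ha =>
    (hχe a (Subgroup.mem_sup_right ha) _).trans (hψR ⟨a, ha⟩)
  have hχX : χ.range = X := by
    refine range_eq_of_le hχ hXS (forall_sup_mem χ (fun a => ?_) fun b => ?_) le_rfl
    · exact Subgroup.mem_sup_left (Set.mem_of_eq_of_mem (hχC a a.2) (α _).2)
    · refine Subgroup.mem_sup_right (mem_centralizerIn.2 ⟨apply_mem hχ _, fun a ha => ?_⟩)
      obtain ⟨⟨a', ha'⟩, hae⟩ := α.surjective ⟨a, ha⟩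
      rw [show a = χ ⟨a', Subgroup.mem_sup_left ha'⟩ by rw [hχC a' ha', hae], ← map_mul, ← map_mul]
      exact congrArg χ (Subtype.ext ((mem_centralizerIn.1 b.2).2 a' ha'))
  refine ⟨toAut hχ hχX, toAut_mem hχ hχX, fun x => hχC x x.2, fun c hc => ?_⟩
  obtain ⟨hcS, hcC⟩ := mem_centralizerIn.1 hc
  rw [coe_toAut]
  have hcR : ∀ a ∈ R, a * ((c : Ω)⁻¹ * χ c) = ((c : Ω)⁻¹ * χ c) * a := by
    intro a ha
    have hconj := (Subgroup.mem_normalizer_iff.1 (le_normalizer hR hcS) a).1 ha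
    have h1 : χ (c * ⟨a, hYX (Subgroup.mem_sup_right ha)⟩ * c⁻¹) = (c : Ω) * a * (c : Ω)⁻¹ :=
      hχR _ hconj
    rw [map_mul, map_mul, map_inv, hχR a ha] at h1
    calc a * ((c : Ω)⁻¹ * χ c) = (c : Ω)⁻¹ * ((c : Ω) * a * (c : Ω)⁻¹) * χ c := by group
      _ = (c : Ω)⁻¹ * χ c * a := by rw [← h1]; group
  refine ⟨mem_centralizerIn.2 ⟨S.mul_mem (S.inv_mem hcS) (apply_mem hχ c), hcR⟩,
    Subgroup.mul_mem _ (Subgroup.inv_mem _ hc.2) ?_⟩
  refine Subgroup.mem_centralizer_iff.2 fun a ha => ?_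
  obtain ⟨⟨a', ha'⟩, hae⟩ := α.surjective ⟨a, ha⟩
  rw [show a = χ ⟨a', Subgroup.mem_sup_left ha'⟩ by rw [hχC a' ha', hae], ← map_mul, ← map_mul]
  exact congrArg χ (Subtype.ext (hcC a' ha'))

end Cfsg.Agent.Fusion.CoreCentralizer
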