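import Cfsg.Agent.Lib.Fusion.NormalCentralizer
import Cfsg.Agent.Lib.Fusion.Factor
import Cfsg.Agent.Lib.PCore.Basic

/-!
`C_S(E)`, the join of the subgroups of `C_S(T)` centralizing a normal subsystem `E` over `T`, is
strongly closed (Aschbacher): Alperin induction on `F`; at a centric radical `Q` not containing `T`
the automorphisms are, by Frattini, extendable ones times ones that act on `T ∩ Q` by `E`.
-/

set_option autoImplicit false

namespace Cfsg.Agent.Fusion.NormalCentralizer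

open Cfsg Cfsg.FusionSystem Cfsg.Agent.Fusion

universe u

variable {Ω : Type u} [Group Ω] {S T : Subgroup Ω} {F : FusionSystem S} {E : FusionSystem T}
  {p : ℕ}
variable [Finite S] [Fact p.Prime]

/-- The maps of `F` defined on `T` permute the subgroups centralizing `E`. -/
theorem image_mem_centralizing (hE : E.IsInvariantIn F) {W : Subgroup Ω} (hTW : T ≤ W)
    {φ : W →* Ω} (hφ : φ ∈ F.Hom W) {Y : Subgroup Ω} (hY : Y ∈ centralizing F E) (hYW : Y ≤ W) :
    (Y.subgroupOf W).map φ ∈ centralizing F E := by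
  obtain ⟨hYC, hYE⟩ := hY
  obtain ⟨hsub, hTcl, hinv, -⟩ := hE
  have hWS := dom_le hφ
  set Y' := (Y.subgroupOf W).map φ with hY'
  have hTim := image_stronglyClosed hTcl hφ hTW
  have hY'C : Y' ≤ centralizerIn S T := by
    rintro _ ⟨y, hy, rfl⟩
    refine mem_centralizerIn.2 ⟨apply_mem hφ _, fun t ht => ?_⟩
    obtain ⟨t₀, ht₀, rfl⟩ := hTim.ge ht
    rw [← map_mul, ← map_mul]
    exact congrArg φ (Subtype.ext ((mem_centralizerIn.1 (hYC hy)).2 _ ht₀))
  refine ⟨hY'C, fun P ψ₀ hψ₀ => ?_⟩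
  have hPT : P ≤ T := dom_le hψ₀
  have hcomm : ∀ t ∈ T, t ∈ centralizerIn S Y' := fun t ht =>
    mem_centralizerIn.2 ⟨hTcl.1 ht, fun y hy => ((mem_centralizerIn.1 (hY'C hy)).2 t ht).symm⟩
  set φT := φ.comp (Subgroup.inclusion hTW) with hφT
  have hφTr : φT.range = T := by
    rw [hφT, MonoidHom.range_comp, Subgroup.inclusion_range, hTim]
  set β := toAut (restrict_mem hφ hTW) hφTr with hβ
  obtain ⟨χ, hχ, hχe⟩ := hinv P hPT ψ₀ hψ₀ β⁻¹ (inv_mem (toAut_mem _ _))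
  have hβe : ∀ t : T, φ ⟨((β⁻¹ t : T) : Ω), hTW (β⁻¹ t).2⟩ = (t : Ω) := fun t =>
    congrArg Subtype.val (MulAut.apply_inv_self _ β t)
  set P₀ := (P.subgroupOf T).map (T.subtype.comp (β⁻¹).toMonoidHom) with hP₀
  have hP₀T : P₀ ≤ T := by
    rintro _ ⟨z, -, rfl⟩
    exact (β⁻¹ z).2
  obtain ⟨-, -, -, ψ, hψ, hψP, hψY⟩ := hYE P₀ hχ
  have hψW : ∀ z, ψ z ∈ W := forall_sup_mem ψ
    (fun z => by rw [hψP]; exact hTW (apply_mem hχ z)) (fun z => by rw [hψY]; exact hYW z.2)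
  obtain ⟨ρ, hρ, -, hρi, -⟩ := exists_inverse hφ (rfl : φ.range = φ.range)
  have hW' : P ⊔ Y' ≤ φ.range := by
    refine sup_le (fun z hz => ?_) ?_
    · obtain ⟨w, -, hw⟩ := hTim.ge (hPT hz)
      exact ⟨w, hw⟩
    · rintro _ ⟨y, -, rfl⟩
      exact ⟨y, rfl⟩
  have hρP : ∀ z : P, ρ (Subgroup.inclusion hW' (Subgroup.inclusion le_sup_left z)) =
      ((β⁻¹ ⟨z, hPT z.2⟩ : T) : Ω) := by
    intro z
    refine Eq.trans (congrArg ρ (Subtype.ext ((hβe ⟨z, hPT z.2⟩).symm) :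
      _ = (⟨φ ⟨((β⁻¹ ⟨z, hPT z.2⟩ : T) : Ω), hTW (β⁻¹ ⟨z, hPT z.2⟩).2⟩, ⟨_, rfl⟩⟩ : φ.range))) ?_
    exact hρi ⟨((β⁻¹ ⟨z, hPT z.2⟩ : T) : Ω), hTW (β⁻¹ ⟨z, hPT z.2⟩).2⟩ ⟨_, rfl⟩
  have hρW : ∀ z, ρ (Subgroup.inclusion hW' z) ∈ P₀ ⊔ Y := by
    refine forall_sup_mem (ρ.comp (Subgroup.inclusion hW')) (fun z => ?_) ?_
    · show ρ _ ∈ _
      rw [hρP]
      exact Subgroup.mem_sup_left ⟨⟨z, hPT z.2⟩, z.2, rfl⟩
    · rintro ⟨_, y, hy, rfl⟩
      exact Subgroup.mem_sup_right (Set.mem_of_eq_of_mem (hρi y ⟨_, rfl⟩) hy)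
  set f := φ.comp ((ψ.comp ((ρ.comp (Subgroup.inclusion hW')).codRestrict (P₀ ⊔ Y) hρW)).codRestrict
    W fun z => hψW _) with hf
  refine ⟨hsub P hψ₀, fun x hx => hcomm x (hPT hx), fun x => hcomm _ (apply_mem hψ₀ x), f,
    F.comp_mem (F.comp_mem (restrict_mem hρ hW') hψ hρW) hφ fun z => hψW _, fun x => ?_, ?_⟩
  · have hαx : ((β⁻¹ ⟨x, hPT x.2⟩ : T) : Ω) ∈ P₀ := ⟨⟨x, hPT x.2⟩, x.2, rfl⟩
    have h1 := hχe x (apply_mem hψ₀ x) hαx
    refine Eq.trans (congrArg φ (Subtype.ext ?_)) (hβe ⟨ψ₀ x, apply_mem hψ₀ x⟩)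
    show ψ ⟨_, _⟩ = _
    rw [← h1, ← hψP ⟨_, hαx⟩]
    exact congrArg ψ (Subtype.ext (hρP x))
  · rintro ⟨_, y, hy, rfl⟩
    refine congrArg φ (Subtype.ext ?_)
    show ψ ⟨_, _⟩ = _
    refine Eq.trans (congrArg ψ (Subtype.ext ?_)) (hψY ⟨y, hy⟩)
    exact hρi y ⟨_, rfl⟩

/-- A map defined on `T` carries the part of `C_S(E)` in its source into `C_S(E)`. -/
theorem apply_mem_sSup (hS : IsPGroup p S) (hE : E.IsNormalIn F p) {W : Subgroup Ω} (hTW : T ≤ W)
    {φ : W →* Ω} (hφ : φ ∈ F.Hom W) (x : W) (hx : (x : Ω) ∈ sSup (centralizing F E)) :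
    φ x ∈ sSup (centralizing F E) := by
  obtain ⟨hXC, hXE⟩ := sSup_mem_centralizing hS hE
  have hY : sSup (centralizing F E) ⊓ W ∈ centralizing F E :=
    ⟨inf_le_left.trans hXC, fun P ψ hψ =>
      centralizerHom_mono inf_le_left (hXC.trans (centralizerIn_le S T)) (hXE P hψ)⟩
  exact le_sSup (image_mem_centralizing hE.1.2.2 hTW hφ hY inf_le_right) ⟨x, ⟨hx, x.2⟩, rfl⟩

/-- A subgroup `D` normalized by `Q` and not contained in `Q` meets `N(Q)` outside `Q`. -/
theorem exists_normalizing (hS : IsPGroup p S) {Q D : Subgroup Ω} (hQS : Q ≤ S) (hDS : D ≤ S)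
    (hQD : Q ≤ Subgroup.normalizer (D : Set Ω)) (h : ¬ D ≤ Q) :
    ∃ d ∈ D, d ∉ Q ∧ d ∈ Subgroup.normalizer (Q : Set Ω) := by
  have hGS : Q ⊔ D ≤ S := sup_le hQS hDS
  have := finite_of_le (Ω := Ω) hGS
  have hlt : Q < Q ⊔ D := lt_of_le_of_ne le_sup_left fun he => h (he ▸ le_sup_right)
  obtain ⟨g, hg, hgQ⟩ := SetLike.exists_of_lt (lt_normalizerIn (hS.to_le hGS) hlt)
  have hg1 : g ∈ ((Q ⊔ D : Subgroup Ω) : Set Ω) := hg.1
  rw [Subgroup.coe_mul_of_left_le_normalizer_right Q D hQD] at hg1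
  obtain ⟨q, hq, d, hd, rfl⟩ := hg1
  refine ⟨d, hd, fun hdQ => hgQ (Q.mul_mem hq hdQ), ?_⟩
  have h1 := (Subgroup.normalizer (Q : Set Ω)).mul_mem
    ((Subgroup.normalizer (Q : Set Ω)).inv_mem (Subgroup.le_normalizer hq)) hg.2
  simpa using h1

theorem le_normalizer_inf (hT : F.StronglyClosed T) {Q : Subgroup Ω} {g : Ω} (hgS : g ∈ S)
    (hg : g ∈ Subgroup.normalizer (Q : Set Ω)) :
    g ∈ Subgroup.normalizer ((T ⊓ Q : Subgroup Ω) : Set Ω) := by
  refine Subgroup.mem_normalizer_iff.2 fun y => ?_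
  exact and_congr (Subgroup.mem_normalizer_iff.1 (le_normalizer_of_stronglyClosed hT hgS) y)
    (Subgroup.mem_normalizer_iff.1 hg y)

/-- At a radical `Q` the automorphisms trivial on `T ∩ Q` and modulo it are inner. -/
theorem fixingTranslations_le_inn (hS : IsPGroup p S) (hT : F.StronglyClosed T) {Q : Subgroup Ω}
    (hQ : F.IsRadical p Q) : fixingTranslations F Q (T ⊓ Q) ≤ Inn Q := by
  intro β hβ
  rw [← hQ.2]
  set N := (fixingTranslations F Q (T ⊓ Q)).subgroupOf (F.autGroup Q) with hN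
  have hmem : ∀ y ∈ F.autGroup Q, ∀ g : Q, (g : Ω) ∈ T ⊓ Q → ((y g : Q) : Ω) ∈ T ⊓ Q :=
    fun y hy g hg => ⟨apply_mem_of_stronglyClosed hT hQ.1 hy hg.1, (y g).2⟩
  have : N.Normal := ⟨fun b hb y =>
    mem_fixingTranslations_conj y.2 (hmem _ y.2) (hmem _ (inv_mem y.2)) hb⟩
  have hNp : IsPGroup p N := (isPGroup_fixingTranslations hS hQ.1).comap_of_injective
    (F.autGroup Q).subtype (Subgroup.subtype_injective _)
  exact ⟨⟨β, hβ.1⟩, PCore.le_pCore hNp hβ, rfl⟩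

/-- Transport of the previous property along a map. -/
theorem fixingTranslations_le_inn_of_map (hT : F.StronglyClosed T) {Q Q' : Subgroup Ω}
    {φ : Q →* Ω} (hφ : φ ∈ F.Hom Q) (hr : φ.range = Q')
    (h : fixingTranslations F Q (T ⊓ Q) ≤ Inn Q) : fixingTranslations F Q' (T ⊓ Q') ≤ Inn Q' := by
  intro β hβ
  set e := homEquiv hφ hr with he
  have hTe : ∀ x : Q, ((e x : Q') : Ω) ∈ T ↔ (x : Ω) ∈ T := by
    refine fun x => ⟨fun hx => ?_, fun hx => apply_mem_closed hT hφ x hx⟩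
    obtain ⟨ρ, hρ, -, hρi, -⟩ := exists_inverse hφ hr
    exact Set.mem_of_eq_of_mem (hρi x (e x).2).symm (apply_mem_closed hT hρ _ hx)
  set b := MulAut.congr e.symm β with hb
  have hbe : ∀ x, e (b x) = β (e x) := fun x => e.apply_symm_apply _
  have hbF : b ∈ F.autGroup Q := by
    obtain ⟨ρ, hρ, hρr, hρi, -⟩ := exists_inverse hφ hr
    have h1 := congr_mem_autGroup hρ hρr hβ.1
    have h2 : homEquiv hρ hρr = e.symm := MulEquiv.ext fun y => by
      obtain ⟨x, rfl⟩ := e.surjective y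
      rw [MulEquiv.symm_apply_apply]
      exact Subtype.ext (hρi x (e x).2)
    rwa [h2] at h1
  have hbfix : b ∈ fixingTranslations F Q (T ⊓ Q) := by
    refine ⟨hbF, fun g hg => e.injective ?_, fun g => ⟨(hTe _).1 ?_, (_ : Q).2⟩⟩
    · rw [hbe]
      exact hβ.2.1 _ ⟨(hTe g).2 hg.1, (e g).2⟩
    · rw [map_mul, map_inv, hbe]
      exact (hβ.2.2 (e g)).1
  obtain ⟨q, hq⟩ := h hbfix
  refine ⟨e q, MulEquiv.ext fun y => ?_⟩
  obtain ⟨x, rfl⟩ := e.surjective y
  rw [← hbe, ← hq]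
  simp

/-- For such `Q`, centric: `C_T(T ∩ Q) ≤ Q`. -/
theorem centralizerIn_inf_le (hS : IsPGroup p S) (hT : F.StronglyClosed T) {Q : Subgroup Ω}
    (hQS : Q ≤ S) (hQ : centralizerIn S Q ≤ Q)
    (h : fixingTranslations F Q (T ⊓ Q) ≤ Inn Q) : centralizerIn T (T ⊓ Q) ≤ Q := by
  by_contra hne
  have hTn := le_normalizer_of_stronglyClosed hT
  have hQD : Q ≤ Subgroup.normalizer ((centralizerIn T (T ⊓ Q) : Subgroup Ω) : Set Ω) := by
    intro q hq
    refine Subgroup.mem_normalizer_iff.2 fun y => ?_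
    have hqP := le_normalizer_inf hT (hQS hq) (Subgroup.le_normalizer hq)
    refine and_congr (Subgroup.mem_normalizer_iff.1 (hTn (hQS hq)) y)
      ⟨fun hy z hz => ?_, fun hy z hz => ?_⟩
    · have h1 := hy _ ((Subgroup.mem_normalizer_iff''.1 hqP z).1 hz)
      calc z * (q * y * q⁻¹) = q * ((q⁻¹ * z * q) * y) * q⁻¹ := by group
        _ = q * (y * (q⁻¹ * z * q)) * q⁻¹ := by rw [h1]
        _ = _ := by group
    · have h1 := hy _ ((Subgroup.mem_normalizer_iff.1 hqP z).1 hz)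
      calc z * y = q⁻¹ * ((q * z * q⁻¹) * (q * y * q⁻¹)) * q := by group
        _ = q⁻¹ * ((q * y * q⁻¹) * (q * z * q⁻¹)) * q := by rw [h1]
        _ = _ := by group
  obtain ⟨d, hd, hdQ, hdN⟩ :=
    exists_normalizing hS hQS ((centralizerIn_le T _).trans hT.1) hQD hne
  obtain ⟨hdT, hdc⟩ := mem_centralizerIn.1 hd
  have hmem : conjAut hdN ∈ fixingTranslations F Q (T ⊓ Q) := by
    refine ⟨autInducedBy_le_autGroup F hQS (conjAut_mem_autInducedBy (hT.1 hdT) hdN),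
      fun g hg => Subtype.ext ?_, fun g => ⟨?_, (_ : Q).2⟩⟩
    · show d * (g : Ω) * d⁻¹ = g
      rw [← hdc _ hg, mul_inv_cancel_right]
    · show (g : Ω)⁻¹ * (d * g * d⁻¹) ∈ T
      have h1 := T.mul_mem ((Subgroup.mem_normalizer_iff''.1 (hTn (hQS g.2)) d).1 hdT)
        (T.inv_mem hdT)
      simpa [mul_assoc] using h1
  obtain ⟨q, hq⟩ := h hmem
  refine hdQ ?_
  have hc : (q : Ω)⁻¹ * d ∈ Q := hQ <| mem_centralizerIn.2
    ⟨S.mul_mem (S.inv_mem (hQS q.2)) (hT.1 hdT), fun y hy => by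
      have h1 : (q : Ω) * y * (q : Ω)⁻¹ = d * y * d⁻¹ :=
        congrArg (fun f : MulAut Q => ((f ⟨y, hy⟩ : Q) : Ω)) hq
      calc y * ((q : Ω)⁻¹ * d) = (q : Ω)⁻¹ * ((q : Ω) * y * (q : Ω)⁻¹) * d := by group
        _ = (q : Ω)⁻¹ * (d * y * d⁻¹) * d := by rw [h1]
        _ = _ := by group⟩
  simpa using Q.mul_mem q.2 hc

/-- The restriction of automorphisms of `Q` to `T ∩ Q`, `T` strongly closed. -/
def restrictClosed (hT : F.StronglyClosed T) {Q : Subgroup Ω} (hQ : Q ≤ S) :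
    F.autGroup Q →* MulAut ↥(T ⊓ Q) where
  toFun a :=
    { toFun := fun x => ⟨((a : MulAut Q) (Subgroup.inclusion inf_le_right x) : Q),
        apply_mem_of_stronglyClosed hT hQ a.2 x.2.1, Subtype.coe_prop _⟩
      invFun := fun x => ⟨((a : MulAut Q)⁻¹ (Subgroup.inclusion inf_le_right x) : Q),
        apply_mem_of_stronglyClosed hT hQ (inv_mem a.2) x.2.1, Subtype.coe_prop _⟩
      left_inv := fun x => Subtype.ext
        (congrArg Subtype.val (MulAut.inv_apply_self _ (a : MulAut Q) (Subgroup.inclusion inf_le_right x)) :)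
      right_inv := fun x => Subtype.ext
        (congrArg Subtype.val (MulAut.apply_inv_self _ (a : MulAut Q) (Subgroup.inclusion inf_le_right x)) :)
      map_mul' := fun x y => Subtype.ext (by
        show ((((a : MulAut Q) (Subgroup.inclusion inf_le_right (x * y))) : Q) : Ω) = _
        rw [map_mul, map_mul]
        rfl) }
  map_one' := rfl
  map_mul' _ _ := rfl

theorem restrictClosed_mem (hT : F.StronglyClosed T) {Q : Subgroup Ω} (hQ : Q ≤ S)
    (a : F.autGroup Q) : restrictClosed hT hQ a ∈ F.autGroup (T ⊓ Q) :=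
  (mem_autGroup_iff (inf_le_right.trans hQ)).2
    (restrict_mem ((mem_autGroup_iff hQ).1 a.2) inf_le_right)

/-- The automorphisms of `Q` preserving `X ∩ Q`. -/
def preserving (Q X : Subgroup Ω) : Subgroup (MulAut Q) where
  carrier := {a | ∀ x : Q, (x : Ω) ∈ X ↔ ((a x : Q) : Ω) ∈ X}
  one_mem' _ := Iff.rfl
  mul_mem' {a b} ha hb x := (hb x).trans (ha (b x))
  inv_mem' {a} ha x := by
    have h := ha (a⁻¹ x)
    rw [MulAut.apply_inv_self] at h
    exact h.symm

/-- The inductive step: `Aut_F(Q)` preserves `C_S(E)`. -/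
theorem autGroup_le_preserving (hS : IsPGroup p S) (hE : E.IsNormalIn F p) {Q : Subgroup Ω}
    (hQn : F.IsFullyNormalized Q) (hQc : F.IsCentric Q) (hQr : F.IsRadical p Q)
    (IH : ∀ W : Subgroup Ω, Nat.card Q < Nat.card W → ∀ ψ ∈ F.Hom W,
      ∀ x : W, (x : Ω) ∈ sSup (centralizing F E) ↔ ψ x ∈ sSup (centralizing F E)) :
    F.autGroup Q ≤ preserving Q (sSup (centralizing F E)) := by
  obtain ⟨hXC, hXE⟩ := sSup_mem_centralizing hS hE
  set X := sSup (centralizing F E) with hX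
  have hF : F.IsSaturated p := hE.1.2.1
  have hEi := hE.1.2.2
  have hT : F.StronglyClosed T := hEi.2.1
  have hTn := le_normalizer_of_stronglyClosed hT
  have hQS := hQn.1
  have := finite_mulAut (Ω := Ω) hQS
  intro a ha
  by_cases hTQ : T ≤ Q
  · intro x
    have h : ∀ b ∈ F.autGroup Q, ∀ y : Q, (y : Ω) ∈ X → ((b y : Q) : Ω) ∈ X := fun b hb y hy =>
      apply_mem_sSup hS hE hTQ ((mem_autGroup_iff hQS).1 hb) y hy
    refine ⟨h a ha x, fun hy => ?_⟩
    have h1 := h _ (inv_mem ha) _ hy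
    rwa [MulAut.inv_apply_self] at h1
  -- a fully normalized conjugate of `P = T ∩ Q`
  set P := T ⊓ Q with hP
  have hPT : P ≤ T := inf_le_left
  have hPS : P ≤ S := inf_le_right.trans hQS
  obtain ⟨P', hPP', hP'⟩ := exists_fullyNormalized F hPS
  obtain ⟨χ, hχ, -, hχR⟩ := exists_hom_fullyNormalized hS hF hP' hPP'
  have hPN : P ≤ normalizerIn S P := le_normalizerIn hPS
  have hr : (χ.comp (Subgroup.inclusion hPN)).range = P' := by
    rw [MonoidHom.range_comp, Subgroup.inclusion_range, hχR]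
  have hFC := isFullyCentralized_of_fullyNormalized hS hF hP'
  have hQN : Q ≤ normalizerIn S P := fun q hq =>
    ⟨hQS hq, le_normalizer_inf hT (hQS hq) (Subgroup.le_normalizer hq)⟩
  set Q' := (χ.comp (Subgroup.inclusion hQN)).range with hQ'
  have hQ'S : Q' ≤ S := range_le (restrict_mem hχ hQN)
  obtain ⟨ρ, hρ, -, hρi, -⟩ := exists_inverse hχ (rfl : χ.range = χ.range)
  have hP'eq : T ⊓ Q' = P' := by
    refine le_antisymm ?_ fun z hz => ?_
    · rintro _ ⟨hzT, q, rfl⟩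
      have hqT : (q : Ω) ∈ T := Set.mem_of_eq_of_mem (hρi (Subgroup.inclusion hQN q) ⟨_, rfl⟩).symm
        (apply_mem_closed hT hρ ⟨χ (Subgroup.inclusion hQN q), _, rfl⟩ hzT)
      exact hr.le ⟨⟨q, hqT, q.2⟩, rfl⟩
    · obtain ⟨x, rfl⟩ := hr.ge hz
      exact ⟨apply_mem_closed hT hχ _ x.2.1, ⟨(x : Ω), x.2.2⟩, rfl⟩
  have hcen : centralizerIn T P' ≤ P' := by
    intro z hz
    rw [← hP'eq]
    refine ⟨hz.1, centralizerIn_inf_le hS hT hQ'S
      (isCentric_centralizerIn_le (isCentric_of_isConj hQc ⟨_, restrict_mem hχ hQN, rfl⟩))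
      (fixingTranslations_le_inn_of_map hT (restrict_mem hχ hQN) rfl
        (fixingTranslations_le_inn hS hT hQr)) (by rwa [hP'eq])⟩
  set res := restrictClosed hT hQS with hres
  set e := homEquiv (restrict_mem hχ hPN) hr with he
  let K : Subgroup (F.autGroup Q) :=
    (E.autGroup P).comap res ⊓ (bExt F P').comap ((MulAut.congr e).toMonoidHom.comp res) ⊓
      modKernel F hT hQS
  have hKn : K.Normal := by
    refine ⟨fun k hk b => ⟨⟨?_, ?_⟩, (modKernel_normal hT hQS).conj_mem k hk.2 b⟩⟩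
    · show res (b * k * b⁻¹) ∈ E.autGroup P
      rw [map_mul, map_mul, map_inv]
      exact conj_mem_autGroup_of_invariant hEi hPT (restrictClosed_mem hT hQS b) hk.1.1
    · show MulAut.congr e (res (b * k * b⁻¹)) ∈ bExt F P'
      rw [map_mul, map_mul, map_inv, map_mul, map_mul, map_inv]
      exact conj_mem_bExt hS hF hFC
        (congr_mem_autGroup (restrict_mem hχ hPN) hr (restrictClosed_mem hT hQS b)) hk.1.2
  -- conjugation by `N_T(Q)` lies in `K`
  have hTK : ∀ g (hgT : g ∈ T) (hgN : g ∈ Subgroup.normalizer (Q : Set Ω))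
      (hc : conjAut hgN ∈ F.autGroup Q), (⟨conjAut hgN, hc⟩ : F.autGroup Q) ∈ K := by
    intro g hgT hgN hc
    refine ⟨⟨?_, ?_⟩, fun x => ?_⟩
    · exact (mem_autGroup_iff hPT).2 (mem_of_conj hPT hgT fun x => rfl)
    · have hgP := le_normalizer_inf hT (hT.1 hgT) hgN
      set s := χ ⟨g, hT.1 hgT, hgP⟩ with hs
      have hsT : s ∈ T := apply_mem_closed hT hχ _ hgT
      have hsx : ∀ x : P', ((MulAut.congr e (res ⟨conjAut hgN, hc⟩) x : P') : Ω) =
          s * x * s⁻¹ := by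
        intro x
        obtain ⟨y, rfl⟩ := e.surjective x
        show ((e (res ⟨conjAut hgN, hc⟩ (e.symm (e y))) : P') : Ω) = _
        rw [MulEquiv.symm_apply_apply]
        show χ _ = χ _ * χ _ * (χ _)⁻¹
        rw [← map_inv, ← map_mul, ← map_mul]
        rfl
      show MulAut.congr e (res _) ∈ bExt F P'
      rw [show MulAut.congr e (res ⟨conjAut hgN, hc⟩) = conjAut (mem_normalizer_of_aut hsx) from
        MulEquiv.ext fun x => Subtype.ext (hsx x)]
      exact conjAut_mem_bExt hP'.1 hT.1 hTn hcen hsT _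
    · show (x : Ω)⁻¹ * (g * x * g⁻¹) ∈ T
      have h1 := T.mul_mem ((Subgroup.mem_normalizer_iff''.1 (hTn (hQS x.2)) g).1 hgT)
        (T.inv_mem hgT)
      simpa [mul_assoc] using h1
  -- automorphisms of order prime to `p` in `K` fix `X ∩ Q`
  have hfix : ∀ b ∈ K, (orderOf b).Coprime p → ∀ x : Q, (x : Ω) ∈ X →
      (b : MulAut Q) x = x := by
    intro b hb hord x hx
    obtain ⟨k, γ, hγ, hγord, hγR, hγC⟩ := exists_coprime_ext (p := p) hP'.1 hb.1.2
    suffices h : ((b ^ p ^ k : F.autGroup Q) : MulAut Q) x = x by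
      have hS' : b ∈ (MulAction.stabilizer (MulAut Q) x).comap (F.autGroup Q).subtype :=
        Subgroup.zpowers_le.2 h (mem_zpowers_pow_iff.2 (hord.pow_right k).symm)
      exact hS'
    set c := b ^ p ^ k with hc
    have hcK : c ∈ K := pow_mem hb _
    have hγR' : ∀ r : P, γ ⟨χ (Subgroup.inclusion hPN r), Subgroup.mem_sup_left (hr.le ⟨r, rfl⟩)⟩
        = Subgroup.inclusion le_sup_left (e (res c r)) := by
      intro r
      refine Eq.trans (congrArg γ (Subtype.ext rfl : _ = Subgroup.inclusion le_sup_left (e r))) ?_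
      rw [hγR]
      congr 1
      rw [← map_pow]
      show MulAut.congr e (res c) (e r) = _
      exact congr_apply e (res c) r
    obtain ⟨-, -, -, ψ, hψ, hψP, hψX⟩ :=
      hXE P ((mem_autGroup_iff hPT).1 (inv_mem hcK.1.1))
    have huP : (x : Ω)⁻¹ * ((c : MulAut Q) x : Q) ∈ P :=
      ⟨hcK.2 x, Q.mul_mem (Q.inv_mem x.2) (_ : Q).2⟩
    set u : P := ⟨_, huP⟩ with hu
    set w := (res c)⁻¹ u with hw
    set x' := χ (Subgroup.inclusion hQN x) with hx'
    have hxC : (x : Ω) ∈ centralizerIn S P := centralizerIn_anti hPT (hXC hx)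
    have hx'C : x' ∈ centralizerIn S P' :=
      apply_mem_centralizer_image hχ hPN hr (Subgroup.inclusion hQN x) hxC
    -- the map `x ↦ x w` of `C_F(P)`
    set W := Subgroup.zpowers (x : Ω) ⊔ P with hW
    have hWQ : W ≤ Q := sup_le (Subgroup.zpowers_le.2 x.2) inf_le_right
    have hWN : W ≤ normalizerIn S P := hWQ.trans hQN
    set cW := (Q.subtype.comp (c : MulAut Q).toMonoidHom).comp (Subgroup.inclusion hWQ) with hcW
    have hcx : ((c : MulAut Q) x : Ω) = (x : Ω) * u := (mul_inv_cancel_left _ _).symm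
    set xW : W := ⟨x, Subgroup.mem_sup_left (Subgroup.mem_zpowers _)⟩ with hxW
    have hpowW : ∀ (f : W →* Ω) (n : ℤ) (hn : (x : Ω) ^ n ∈ W), f ⟨_, hn⟩ = f xW ^ n := by
      intro f n hn
      rw [← map_zpow]
      exact congrArg f (Subtype.ext (Subgroup.coe_zpow W xW n).symm)
    have hcWX : ∀ z : W, cW z ∈ P ⊔ X := by
      refine forall_sup_mem cW ?_ fun z => Subgroup.mem_sup_left ?_
      · rintro ⟨_, n, rfl⟩
        refine Set.mem_of_eq_of_mem (hpowW cW n _) (Subgroup.zpow_mem _ ?_ n)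
        exact Set.mem_of_eq_of_mem hcx
          (Subgroup.mul_mem _ (Subgroup.mem_sup_right hx) (Subgroup.mem_sup_left huP))
      · exact (res c z).2
    set g := ψ.comp (cW.codRestrict (P ⊔ X) hcWX) with hg
    have hgF : g ∈ F.Hom W :=
      F.comp_mem (restrict_mem ((mem_autGroup_iff hQS).1 c.2) hWQ) hψ hcWX
    have hgx : g ⟨x, Subgroup.mem_sup_left (Subgroup.mem_zpowers _)⟩ = (x : Ω) * w := by
      refine Eq.trans (congrArg ψ (Subtype.ext hcx : _ =
        Subgroup.inclusion le_sup_right (⟨x, hx⟩ : X) * Subgroup.inclusion le_sup_left u)) ?_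
      rw [map_mul, hψX, hψP]
      rfl
    have hgP : ∀ z : P, g (Subgroup.inclusion le_sup_right z) = z := by
      intro z
      show ψ ⟨((res c z : P) : Ω), _⟩ = z
      refine Eq.trans (hψP (res c z)) ?_
      exact congrArg Subtype.val (MulAut.inv_apply_self _ (res c) z)
    -- transported by `χ`
    have hgN : ∀ z : W, g z ∈ normalizerIn S P := by
      refine forall_sup_mem g ?_ fun z => ?_
      · rintro ⟨_, n, rfl⟩
        refine Set.mem_of_eq_of_mem (hpowW g n _) (Subgroup.zpow_mem _ ?_ n)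
        rw [hxW, hgx]
        exact Subgroup.mul_mem _ (hQN x.2) (hPN w.2)
      · rw [hgP]
        exact hPN z.2
    have hW' : Subgroup.zpowers x' ⊔ P' ≤ χ.range :=
      sup_le (Subgroup.zpowers_le.2 ⟨_, rfl⟩) (hr ▸ by rintro _ ⟨z, rfl⟩; exact ⟨_, rfl⟩)
    have hρW : ∀ z, ρ (Subgroup.inclusion hW' z) ∈ W := by
      refine forall_sup_mem (ρ.comp (Subgroup.inclusion hW')) ?_ ?_
      · rintro ⟨_, n, rfl⟩
        refine Subgroup.mem_sup_left ⟨n, ?_⟩
        show (x : Ω) ^ n = ρ _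
        rw [← show ρ (⟨x', ⟨_, rfl⟩⟩ : χ.range) = x from hρi _ _, ← map_zpow]
        exact congrArg ρ (Subtype.ext rfl)
      · rintro ⟨_, hz⟩
        obtain ⟨r, rfl⟩ := hr.ge hz
        exact Subgroup.mem_sup_right
          (Set.mem_of_eq_of_mem (hρi (Subgroup.inclusion hPN r) _) r.2)
    set h := χ.comp ((g.comp ((ρ.comp (Subgroup.inclusion hW')).codRestrict W hρW)).codRestrict
      (normalizerIn S P) fun z => hgN _) with hh
    have hhF : h ∈ F.Hom _ := F.comp_mem (F.comp_mem (restrict_mem hρ hW') hgF hρW) hχ fun z => hgN _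
    have hhP : ∀ z : P', h (Subgroup.inclusion le_sup_right z) = z := by
      intro z
      obtain ⟨r, hrz⟩ := hr.ge z.2
      refine Eq.trans (congrArg χ (Subtype.ext ?_)) hrz
      show g ⟨_, _⟩ = _
      refine Eq.trans (congrArg g (Subtype.ext ?_)) (hgP r)
      refine Eq.trans (congrArg ρ (Subtype.ext ?_)) (hρi (Subgroup.inclusion hPN r) ⟨_, rfl⟩)
      exact hrz.symm
    set w' := χ (Subgroup.inclusion hPN w) with hw'
    have hw'P : w' ∈ P' := hr.le ⟨w, rfl⟩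
    have hhx : h ⟨x', Subgroup.mem_sup_left (Subgroup.mem_zpowers _)⟩ = x' * w' := by
      refine Eq.trans (congrArg χ (Subtype.ext ?_ : _ =
        Subgroup.inclusion hQN x * Subgroup.inclusion hPN w)) (map_mul χ _ _)
      show g ⟨_, _⟩ = (x : Ω) * w
      refine Eq.trans (congrArg g (Subtype.ext ?_)) hgx
      exact hρi (Subgroup.inclusion hQN x) ⟨_, rfl⟩
    have hhP' : ∀ (z : ↥(Subgroup.zpowers x' ⊔ P')), (z : Ω) ∈ P' → h z ∈ P' := fun z hz => by
      rw [show z = Subgroup.inclusion le_sup_right (⟨z, hz⟩ : P') from rfl, hhP]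
      exact hz
    have hh₀ : h.comp (Subgroup.inclusion le_sup_left) ∈
        F.centralizerHom P' (Subgroup.zpowers x') :=
      ⟨restrict_mem hhF _, Subgroup.zpowers_le.2 hx'C, fun z =>
        map_centralizerIn le_sup_right hhF hhP' _ (Subgroup.zpowers_le.2 hx'C z.2),
        h, hhF, fun z => rfl, hhP⟩
    have hwfoc : w' ∈ (centralizerSystem F P' hP'.1).focalSubgroup :=
      Subgroup.subset_closure ⟨_, _, ⟨x', Subgroup.mem_zpowers _⟩, hh₀, by
        show w' = x'⁻¹ * h _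
        rw [show Subgroup.inclusion le_sup_left (⟨x', Subgroup.mem_zpowers _⟩ :
          Subgroup.zpowers x') = ⟨x', Subgroup.mem_sup_left (Subgroup.mem_zpowers _)⟩ from rfl,
          hhx, inv_mul_cancel_left]⟩
    have h1 := fixes_focal hS hF hFC hγ hγord (fun y hy => by
      obtain ⟨r, hry⟩ := hr.ge hy
      rw [show y = (⟨χ (Subgroup.inclusion hPN r), Set.mem_of_eq_of_mem hry y.2⟩ : ↥(rc S P')) from
        Subtype.ext hry.symm, hγR']
      exact (e (res c r)).2) hγC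
      (x := ⟨w', Subgroup.mem_sup_left hw'P⟩) hwfoc
    have hcw : res c w = w :=
      e.injective (Subgroup.inclusion_injective _ (((hγR' w).symm.trans h1) :))
    have huw : u = w := by
      rw [← MulAut.apply_inv_self P (res c) u, ← hw, hcw]
    have hcw' : (c : MulAut Q) (Subgroup.inclusion inf_le_right w) =
        Subgroup.inclusion inf_le_right w := Subtype.ext (congrArg Subtype.val hcw :)
    have hcxw : (c : MulAut Q) x = x * Subgroup.inclusion inf_le_right w :=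
      Subtype.ext (by rw [hcx, huw]; rfl)
    obtain ⟨n, hn⟩ := hS.to_le hQS (Subgroup.inclusion inf_le_right w)
    have hcord : (orderOf (c : MulAut Q)).Coprime p := by
      rw [Subgroup.orderOf_coe]
      exact Nat.Coprime.coprime_dvd_left (orderOf_pow_dvd _) hord
    rw [hcxw, eq_one_of_coprime hcord hcxw hcw' hn, mul_one]
  -- `K` preserves `X`
  obtain ⟨-, T₀, hT₀⟩ := isFullyAutomized_of_fullyNormalized hS hF hQn
  obtain ⟨T₁, hT₁⟩ := Cfsg.Agent.SylowCount.exists_sylow_inf T₀ K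
  have hST : ∀ b : F.autGroup Q, b ∈ (T₀ : Subgroup (F.autGroup Q)) →
      (b : MulAut Q) ∈ preserving Q X := by
    intro b hb x
    rw [hT₀] at hb
    obtain ⟨s, hs, hsx⟩ := mem_autInducedBy_iff.1 (Subgroup.mem_subgroupOf.1 hb)
    have h : ∀ g ∈ S, ∀ y ∈ X, g * y * g⁻¹ ∈ X := fun g hg y hy =>
      apply_mem_sSup hS hE hT.1 (F.conj_mem le_rfl hg) ⟨y, (hXC hy).1⟩ hy
    rw [hsx]
    refine ⟨h s hs x, fun hy => ?_⟩
    have h1 := h _ (S.inv_mem hs) _ hy
    simpa [mul_assoc] using h1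
  have hKpres : K ≤ (preserving Q X).comap (F.autGroup Q).subtype := by
    have htop := Transfer.sylow_sup_pResidual_eq_top T₁
    suffices h : ((T₁ : Subgroup K) ⊔ Cfsg.pResidual p K) ≤
        ((preserving Q X).comap (F.autGroup Q).subtype).comap K.subtype by
      rw [htop] at h
      exact fun k hk => h (Subgroup.mem_top ⟨k, hk⟩)
    refine sup_le (fun b hb => ?_) ((Subgroup.closure_le _).2 fun b hb x => ?_)
    · rw [hT₁] at hb
      exact hST b (Subgroup.mem_subgroupOf.1 hb)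
    · have hb' : (orderOf (b : F.autGroup Q)).Coprime p := by rwa [Subgroup.orderOf_coe]
      show (x : Ω) ∈ X ↔ (((b : F.autGroup Q) : MulAut Q) x : Ω) ∈ X
      refine ⟨fun hx => by rw [hfix b b.2 hb' x hx]; exact hx, fun hx => ?_⟩
      have h1 := hfix _ (inv_mem b.2) (by rwa [orderOf_inv]) _ hx
      rw [Subgroup.coe_inv, MulAut.inv_apply_self] at h1
      rw [h1]
      exact hx
  -- Frattini
  have hfr := Sylow.normalizer_sup_eq_top T₁
  rw [hT₁, Subgroup.subgroupOf_map_subtype] at hfr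
  obtain ⟨m, hm, k, hk, hmk⟩ :=
    Subgroup.mem_sup_of_normal_right.1 (hfr ▸ Subgroup.mem_top (⟨a, ha⟩ : F.autGroup Q))
  rw [show a = (m : MulAut Q) * (k : MulAut Q) from (congrArg Subtype.val hmk).symm]
  refine (preserving Q X).mul_mem ?_ (hKpres hk)
  obtain ⟨hmφ, hmr⟩ := hom_of_mem_autGroup hQS m.2
  have hext : Q ⊔ (normalizerIn S Q ⊓ T) ≤
      extender S Q (Q.subtype.comp (m : MulAut Q).toMonoidHom) := by
    refine sup_le (le_extender hQS fun x => apply_mem hmφ x) fun g hg => ?_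
    obtain ⟨⟨hgS, hgN⟩, hgT⟩ := hg
    have hc₁ := autInducedBy_le_autGroup F hQS (conjAut_mem_autInducedBy hgS hgN)
    have hcK : (⟨conjAut hgN, hc₁⟩ : F.autGroup Q) ∈ (T₀ : Subgroup (F.autGroup Q)) ⊓ K := by
      refine ⟨?_, hTK g hgT hgN hc₁⟩
      rw [hT₀]
      exact conjAut_mem_autInducedBy hgS hgN
    have h2 := ((Subgroup.mem_normalizer_iff.1 hm _).1 hcK).1
    rw [hT₀] at h2
    obtain ⟨s, hs, hsx⟩ := mem_autInducedBy_iff.1 (Subgroup.mem_subgroupOf.1 h2)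
    refine mem_extender_iff.2 ⟨hgS, hgN, s, hs, fun x hx => ?_⟩
    have h3 := hsx ((m : MulAut Q) x)
    rw [show ((m * ⟨conjAut hgN, hc₁⟩ * m⁻¹ : F.autGroup Q) : MulAut Q) ((m : MulAut Q) x) =
      (m : MulAut Q) (conjAut hgN ((m : MulAut Q)⁻¹ ((m : MulAut Q) x))) from rfl,
      MulAut.inv_apply_self] at h3
    exact h3
  obtain ⟨ψ, hψ, hψe⟩ := exists_extension (isReceptive_of_fullyNormalized hS hF hQn) hmφ hmr hext
  obtain ⟨d, hdT, hdQ, hdN⟩ :=
    exists_normalizing hS hQS hT.1 (fun q hq => hTn (hQS hq)) hTQ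
  have hlt : Q < Q ⊔ (normalizerIn S Q ⊓ T) := lt_of_le_of_ne le_sup_left fun he =>
    hdQ (he ▸ Subgroup.mem_sup_right ⟨⟨hT.1 hdT, hdN⟩, hdT⟩)
  intro x
  have h1 := IH _ (card_lt_of_lt (sup_le hQS (inf_le_right.trans hT.1)) hlt) ψ hψ
    ⟨x, Subgroup.mem_sup_left x.2⟩
  rw [hψe x x.2 _] at h1
  exact h1

/-- `C_S(E)` is strongly closed. -/
theorem stronglyClosed_sSup (hS : IsPGroup p S) (hE : E.IsNormalIn F p) :
    F.StronglyClosed (sSup (centralizing F E)) := by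
  obtain ⟨hXC, -⟩ := sSup_mem_centralizing hS hE
  have hT : F.StronglyClosed T := hE.1.2.2.2.1
  refine ⟨hXC.trans (centralizerIn_le S T), fun R hR φ hφ x => ?_⟩
  set X := sSup (centralizing F E) with hX
  suffices h : ∀ z : R, (z : Ω) ∈ X ↔ φ z ∈ X from (h x).1 (hR x.2)
  refine alperin_strong_induction (C := fun P ψ => ∀ z : P, (z : Ω) ∈ X ↔ ψ z ∈ X)
    hS hE.1.2.1 ?_ ?_ ?_ ?_ hφ
  · intro P g hP hg z
    have h : ∀ g ∈ S, ∀ y ∈ X, g * y * g⁻¹ ∈ X := fun g hg y hy =>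
      apply_mem_sSup hS hE hT.1 (F.conj_mem le_rfl hg) ⟨y, (hXC hy).1⟩ hy
    show (z : Ω) ∈ X ↔ g * z * g⁻¹ ∈ X
    refine ⟨h g hg z, fun hy => ?_⟩
    have h1 := h _ (S.inv_mem hg) _ hy
    simpa [mul_assoc] using h1
  · exact fun P Q φ ψ _ _ h1 h2 h z => (h1 z).trans (h2 ⟨φ z, h z⟩)
  · rintro P φ ψ _ h1 _ hi ⟨_, z, rfl⟩
    rw [hi z]
    exact (h1 z).symm
  · intro Q hn hc hr hbig a ha
    exact autGroup_le_preserving hS hE hn hc hr hbig ha

end Cfsg.Agent.Fusion.NormalCentralizer
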