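import Cfsg.Agent.Lib.Fusion.Alperin
import Cfsg.Agent.Lib.Fusion.Constructions
import Cfsg.Agent.Lib.Fusion.Group
import Cfsg.Prelude.Def_LocalEven

/-!
`p`-stability of fusion systems: quadratic automorphisms lie in `O_p(Aut_F(Q))`.

* `quadStable_congr`, `quadStable_of_fullyNormalized`, `quadStable_of_le`: the property is
  invariant under conjugation and passes to subsystems.
* `exists_centric_radical_extending`: every subgroup has a conjugate inside a fully normalized
  centric radical subgroup to which all its automorphisms extend.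
* `isNormalizerPStable_iff`: the group form.
-/

set_option autoImplicit false

namespace Cfsg.Agent.Fusion

open Cfsg Cfsg.FusionSystem
open scoped commutatorElement

variable {Ω : Type*} [Group Ω] {S : Subgroup Ω} {F : FusionSystem S} {p : ℕ}

/-- Quadratic automorphisms of `Q` in the system lie in `O_p(Aut_F(Q))`. -/
def QuadStable (p : ℕ) (F : FusionSystem S) (Q : Subgroup Ω) : Prop :=
  ∀ χ : MulAut ↥Q, χ ∈ F.autGroup Q → (∀ a : ↥Q, (χ a⁻¹) * a * (χ a⁻¹) * (χ (χ a)) = 1) →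
    χ ∈ ((Cfsg.pCore p ↥(F.autGroup Q)).map (F.autGroup Q).subtype : Subgroup (MulAut ↥Q))

theorem quad_congr {P Q : Subgroup Ω} (e : P ≃* Q) {χ : MulAut P}
    (h : ∀ a : P, (χ a⁻¹) * a * (χ a⁻¹) * (χ (χ a)) = 1) (b : Q) :
    (MulAut.congr e χ b⁻¹) * b * (MulAut.congr e χ b⁻¹) *
      (MulAut.congr e χ (MulAut.congr e χ b)) = 1 := by
  obtain ⟨a, rfl⟩ := e.surjective b
  simp only [← map_inv, congr_apply, ← map_mul]
  rw [h, map_one]

theorem map_pCore_congr {P Q : Subgroup Ω} {φ : P →* Ω} (hφ : φ ∈ F.Hom P) (hQ : φ.range = Q)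
    {χ : MulAut P} (hχ : χ ∈ (pCore p (F.autGroup P)).map (F.autGroup P).subtype) :
    MulAut.congr (homEquiv hφ hQ) χ ∈
      (pCore p (F.autGroup Q)).map (F.autGroup Q).subtype := by
  obtain ⟨k, hk, rfl⟩ := hχ
  set e : F.autGroup P ≃* F.autGroup Q :=
    ((MulAut.congr (homEquiv hφ hQ)).subgroupMap _).trans
      (MulEquiv.subgroupCongr (map_autGroup hφ hQ)) with he
  refine ⟨e k, (PCore.mem_pCore_congr e).2 hk, ?_⟩
  rfl

theorem quadStable_congr {P Q : Subgroup Ω} (h : F.IsConj P Q) (hP : QuadStable p F P) :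
    QuadStable p F Q := by
  obtain ⟨φ, hφ, hr⟩ := h
  intro χ hχ hq
  obtain ⟨χ', hχ', rfl⟩ := (map_autGroup hφ hr).ge hχ
  refine map_pCore_congr hφ hr (hP χ' hχ' fun a => (homEquiv hφ hr).injective ?_)
  have := hq (homEquiv hφ hr a)
  simpa [← map_inv, congr_apply, ← map_mul] using this

theorem quadStable_of_fullyNormalized [Finite S]
    (h : ∀ Q : Subgroup Ω, F.IsFullyNormalized Q → QuadStable p F Q) {Q : Subgroup Ω}
    (hQ : Q ≤ S) : QuadStable p F Q := by
  obtain ⟨R, hR, hRn⟩ := exists_fullyNormalized F hQ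
  exact quadStable_congr (isConj_symm hR) (h R hRn)

theorem quadStable_of_le [Finite S] {T : Subgroup Ω} {E : FusionSystem T} {Q : Subgroup Ω}
    (hQ : Q ≤ S) (hle : E.autGroup Q ≤ F.autGroup Q) (h : QuadStable p F Q) :
    QuadStable p E Q := by
  intro χ hχ hq
  have := finite_mulAut (Ω := Ω) hQ
  obtain ⟨k, hk, hkχ⟩ := h χ (hle hχ) hq
  set i := Subgroup.inclusion hle with hi
  refine ⟨⟨χ, hχ⟩, ?_, rfl⟩
  refine PCore.le_pCore (N := (pCore p (F.autGroup Q)).comap i) ?_ ?_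
  · exact PCore.isPGroup_pCore.comap_of_injective i (Subgroup.inclusion_injective hle)
  · rw [Subgroup.mem_comap]
    exact (show k = i ⟨χ, hχ⟩ from Subtype.ext hkχ) ▸ hk

/-! ### Normalizer systems -/

theorem autGroup_normalizerSystem_le {R : Subgroup Ω} {N : FusionSystem (normalizerIn S R)}
    (hN : F.IsNormalizerSystem R N) (Q : Subgroup Ω) : N.autGroup Q ≤ F.autGroup Q := by
  refine (Subgroup.closure_le _).2 fun α hα => Subgroup.subset_closure ?_
  have h : Q.subtype.comp α.toMonoidHom ∈ N.Hom Q := hα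
  rw [hN Q] at h
  exact h.1

theorem mem_autGroup_normalizerSystem [Finite S] {R : Subgroup Ω} {N : FusionSystem (normalizerIn S R)}
    (hN : F.IsNormalizerSystem R N) (hRS : R ≤ S) {Q : Subgroup Ω} (hQR : Q ≤ R) {α : MulAut Q}
    (hα : α ∈ F.autGroup Q) {β : MulAut R} (hβ : β ∈ F.autGroup R)
    (h : ∀ x : Q, ((β (Subgroup.inclusion hQR x) : R) : Ω) = (α x : Q)) : α ∈ N.autGroup Q := by
  have hQN : Q ≤ normalizerIn S R := hQR.trans (le_normalizerIn hRS)
  rw [mem_autGroup_iff hQN, hN Q]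
  have hsup : Q ⊔ R ≤ R := sup_le hQR le_rfl
  have hψ := restrict_mem ((mem_autGroup_iff hRS).1 hβ) hsup
  exact ⟨(mem_autGroup_iff (hQR.trans hRS)).1 hα, hQN, fun x => hQN (α x).2, _, hψ,
    fun x => h x, (map_subgroupOf_eq_iff hψ le_sup_right).2 fun x hx => (β ⟨x, hx⟩).2⟩

/-- If stability holds in the normalizer system of `R` and `Q ≤ R` has all its automorphisms
extending to `R`, then `Q` is stable. -/
theorem quadStable_of_normalizer [Finite S] {R : Subgroup Ω}
    {N : FusionSystem (normalizerIn S R)} (hN : F.IsNormalizerSystem R N) (hRS : R ≤ S)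
    (h : ∀ Q : Subgroup Ω, N.IsFullyNormalized Q → QuadStable p N Q) {Q : Subgroup Ω}
    (hQR : Q ≤ R)
    (hext : ∀ α ∈ F.autGroup Q, ∃ β ∈ F.autGroup R,
      ∀ x : Q, ((β (Subgroup.inclusion hQR x) : R) : Ω) = (α x : Q)) :
    QuadStable p F Q := by
  have hQN : Q ≤ normalizerIn S R := hQR.trans (le_normalizerIn hRS)
  have : Finite (normalizerIn S R) := finite_of_le (normalizerIn_le S R)
  have heq : N.autGroup Q = F.autGroup Q := by
    refine le_antisymm (autGroup_normalizerSystem_le hN Q) fun α hα => ?_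
    obtain ⟨β, hβ, hx⟩ := hext α hα
    exact mem_autGroup_normalizerSystem hN hRS hQR hα hβ hx
  have hst := quadStable_of_fullyNormalized h hQN
  unfold QuadStable at hst ⊢
  rw [← heq]
  exact hst

/-! ### Cyclic subgroups -/

theorem quad_iterate {Q : Subgroup Ω} {χ : MulAut Q}
    (h : ∀ a : Q, (χ a⁻¹) * a * (χ a⁻¹) * (χ (χ a)) = 1) (a : Q) (n : ℕ) :
    (χ ^ n) a = a * (a⁻¹ * χ a) ^ n := by
  induction n with
  | zero => simp
  | succ n ih =>
    have hfix : χ (a⁻¹ * χ a) = a⁻¹ * χ a := by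
      have h1 := h a
      rw [map_inv] at h1
      rw [map_mul, map_inv]
      calc (χ a)⁻¹ * χ (χ a)
          = (a⁻¹ * χ a) * ((χ a)⁻¹ * a * (χ a)⁻¹ * χ (χ a)) := by group
        _ = _ := by rw [h1, mul_one]
    rw [pow_succ', MulAut.mul_apply, ih, map_mul, map_pow, hfix, pow_succ' (a⁻¹ * χ a),
      ← mul_assoc (a : Q), mul_inv_cancel_left]

theorem quad_isPGroup_zpowers [Fact p.Prime] {Q : Subgroup Ω} [Finite Q] (hQ : IsPGroup p Q)
    {χ : MulAut Q} (h : ∀ a : Q, (χ a⁻¹) * a * (χ a⁻¹) * (χ (χ a)) = 1) :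
    IsPGroup p (Subgroup.zpowers χ) := by
  obtain ⟨k, hk⟩ := hQ.exists_card_eq
  have hone : χ ^ p ^ k = 1 := MulEquiv.ext fun a => by
    rw [quad_iterate h, ← hk, pow_card_eq_one', mul_one]
    rfl
  rintro ⟨x, hx⟩
  obtain ⟨m, rfl⟩ := Subgroup.mem_zpowers_iff.1 hx
  refine ⟨k, Subtype.ext ?_⟩
  show (χ ^ m) ^ p ^ k = 1
  rw [← zpow_natCast, ← zpow_mul, mul_comm, zpow_mul, zpow_natCast, hone, one_zpow]

theorem quadStable_of_isCyclic [Finite S] [Fact p.Prime] (hS : IsPGroup p S) {Q : Subgroup Ω}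
    (hQ : Q ≤ S) [IsCyclic Q] : QuadStable p F Q := by
  have := finite_of_le (Ω := Ω) hQ
  intro χ hχ hq
  have hcomm : ∀ a b : MulAut Q, a * b = b * a := by
    intro a b
    obtain ⟨g, hg⟩ := IsCyclic.exists_generator (α := Q)
    obtain ⟨i, hi⟩ := Subgroup.mem_zpowers_iff.1 (hg (a g))
    obtain ⟨j, hj⟩ := Subgroup.mem_zpowers_iff.1 (hg (b g))
    refine MulEquiv.ext fun x => ?_
    obtain ⟨m, rfl⟩ := Subgroup.mem_zpowers_iff.1 (hg x)
    simp only [MulAut.mul_apply, map_zpow, ← hi, ← hj, ← zpow_mul]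
    rw [mul_comm i j]
  set c : F.autGroup Q := ⟨χ, hχ⟩ with hc
  have : (Subgroup.zpowers c).Normal :=
    ⟨fun n hn g => by
      have : g * n = n * g := Subtype.ext (hcomm g n)
      rwa [this, mul_inv_cancel_right]⟩
  refine ⟨c, PCore.le_pCore ?_ (Subgroup.mem_zpowers c), rfl⟩
  have h1 := quad_isPGroup_zpowers (hS.to_le hQ) hq
  refine IsPGroup.of_injective h1
    (((F.autGroup Q).subtype.comp (Subgroup.zpowers c).subtype).codRestrict (Subgroup.zpowers χ)
      fun x => ?_) ?_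
  · obtain ⟨m, hm⟩ := Subgroup.mem_zpowers_iff.1 x.2
    exact Subgroup.mem_zpowers_iff.2 ⟨m, congrArg Subtype.val hm⟩
  · intro x y hxy
    exact Subtype.ext (Subtype.ext (congrArg Subtype.val hxy :))

/-! ### Centric radical subgroups -/

/-- All automorphisms of `Q` extend to `R ≥ Q`. -/
def AutExtends (F : FusionSystem S) (Q R : Subgroup Ω) : Prop :=
  ∃ h : Q ≤ R, ∀ α ∈ F.autGroup Q, ∃ β ∈ F.autGroup R,
    ∀ x : Q, ((β (Subgroup.inclusion h x) : R) : Ω) = (α x : Q)

/-- `Q C_S(Q)` is centric for `Q` fully centralized. -/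
theorem isCentric_sup_centralizerIn [Finite S] {Q : Subgroup Ω} (hQ : F.IsFullyCentralized Q) :
    F.IsCentric (Q ⊔ centralizerIn S Q) := by
  have hle : Q ⊔ centralizerIn S Q ≤ S := sup_le hQ.1 (centralizerIn_le S Q)
  refine ⟨hle, ?_⟩
  rintro T ⟨φ, hφ, rfl⟩
  set φ₀ := φ.comp (Subgroup.inclusion (le_sup_left : Q ≤ Q ⊔ centralizerIn S Q)) with hφ₀
  have hφ₀m : φ₀ ∈ F.Hom Q := restrict_mem hφ le_sup_left
  have hC : ((centralizerIn S Q).subgroupOf (Q ⊔ centralizerIn S Q)).map φ ≤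
      centralizerIn S φ₀.range := by
    rintro _ ⟨y, hy, rfl⟩
    refine mem_centralizerIn.2 ⟨apply_mem hφ y, ?_⟩
    rintro _ ⟨x, rfl⟩
    show φ (Subgroup.inclusion le_sup_left x) * φ y = φ y * φ (Subgroup.inclusion le_sup_left x)
    rw [← map_mul, ← map_mul]
    exact congrArg φ (Subtype.ext ((mem_centralizerIn.1 hy).2 x x.2))
  have hcard : Nat.card (centralizerIn S φ₀.range) ≤
      Nat.card (((centralizerIn S Q).subgroupOf (Q ⊔ centralizerIn S Q)).map φ) := by
    rw [Subgroup.card_map_of_injective (F.injective_of_mem hφ),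
      Nat.card_congr (Subgroup.subgroupOfEquivOfLe le_sup_right).toEquiv]
    exact hQ.2 _ ⟨φ₀, hφ₀m, rfl⟩
  have heq := eq_of_le_of_card_le (centralizerIn_le S φ₀.range) hC hcard
  have hsub : φ₀.range ≤ φ.range := by
    rintro _ ⟨x, rfl⟩
    exact ⟨_, rfl⟩
  refine (centralizerIn_anti hsub).trans (heq.ge.trans ?_)
  rintro _ ⟨y, -, rfl⟩
  exact ⟨y, rfl⟩

theorem autExtends_sup_centralizerIn [Finite S] [Fact p.Prime] (hS : IsPGroup p S)
    (hF : F.IsSaturated p) {Q : Subgroup Ω} (hQ : F.IsFullyCentralized Q) :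
    AutExtends F Q (Q ⊔ centralizerIn S Q) := by
  refine ⟨le_sup_left, fun α hα => ?_⟩
  obtain ⟨hφ, hr⟩ := hom_of_mem_autGroup hQ.1 hα
  have hle : Q ⊔ centralizerIn S Q ≤ extender S Q (Q.subtype.comp α.toMonoidHom) :=
    sup_le (le_extender hQ.1 (apply_mem hφ)) (centralizerIn_le_extender _)
  obtain ⟨ψ, hψ, he⟩ :=
    exists_extension (isReceptive_of_fullyCentralized hS hF hQ) hφ hr hle
  have hin : ∀ z, ψ z ∈ Q ⊔ centralizerIn S Q := by
    refine forall_sup_mem ψ (fun x => ?_) fun y => ?_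
    · rw [show ψ (Subgroup.inclusion le_sup_left x) = (α x : Ω) from he x x.2 _]
      exact Subgroup.mem_sup_left (α x).2
    · refine Subgroup.mem_sup_right (mem_centralizerIn.2 ⟨apply_mem hψ _, fun z hz => ?_⟩)
      obtain ⟨x, hx⟩ := α.surjective ⟨z, hz⟩
      have hzx : z = ψ (Subgroup.inclusion le_sup_left x) := by
        rw [show ψ (Subgroup.inclusion le_sup_left x) = (α x : Ω) from he x x.2 _, hx]
      rw [hzx, ← map_mul, ← map_mul]
      exact congrArg ψ (Subtype.ext ((mem_centralizerIn.1 y.2).2 x x.2))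
  have hr' := range_eq_of_le hψ (sup_le hQ.1 (centralizerIn_le S Q)) hin le_rfl
  exact ⟨_, toAut_mem hψ hr', fun x => he x x.2 _⟩

theorem autExtends_transport {Q R R' : Subgroup Ω} (hQR : AutExtends F Q R)
    (h : F.IsConj R R') : ∃ Q', F.IsConj Q Q' ∧ AutExtends F Q' R' := by
  obtain ⟨hle, hext⟩ := hQR
  obtain ⟨φ, hφ, hr⟩ := h
  set φ₀ := φ.comp (Subgroup.inclusion hle) with hφ₀
  have hφ₀m : φ₀ ∈ F.Hom Q := restrict_mem hφ hle
  have hle' : φ₀.range ≤ R' := by
    rintro _ ⟨x, rfl⟩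
    exact hr ▸ ⟨_, rfl⟩
  refine ⟨φ₀.range, ⟨φ₀, hφ₀m, rfl⟩, hle', fun α hα => ?_⟩
  obtain ⟨α₀, hα₀, rfl⟩ := (map_autGroup hφ₀m rfl).ge hα
  obtain ⟨β, hβ, hx⟩ := hext α₀ hα₀
  refine ⟨_, congr_mem_autGroup hφ hr hβ, fun y => ?_⟩
  obtain ⟨x, rfl⟩ := (homEquiv hφ₀m rfl).surjective y
  have he : Subgroup.inclusion hle' (homEquiv hφ₀m rfl x) =
      homEquiv hφ hr (Subgroup.inclusion hle x) := Subtype.ext rfl
  rw [he, congr_apply, MulEquiv.toMonoidHom_eq_coe, MonoidHom.coe_coe, congr_apply,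
    coe_homEquiv, coe_homEquiv]
  exact congrArg φ (Subtype.ext (hx x))

/-- The preimage of `O_p(Aut_F(P))` in `N_S(P)`. -/
noncomputable def pCorePreimage (p : ℕ) (F : FusionSystem S) (P : Subgroup Ω) : Subgroup Ω :=
  (((pCore p (F.autGroup P)).map (F.autGroup P).subtype).comap (normalizerAut S P)).map
    (normalizerIn S P).subtype

theorem mem_pCorePreimage {P : Subgroup Ω} {g : Ω} :
    g ∈ pCorePreimage p F P ↔ ∃ hg : g ∈ normalizerIn S P,
      normalizerAut S P ⟨g, hg⟩ ∈ (pCore p (F.autGroup P)).map (F.autGroup P).subtype :=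
  ⟨fun ⟨y, hy, he⟩ => he ▸ ⟨y.2, hy⟩, fun ⟨hg, h⟩ => ⟨⟨g, hg⟩, h, rfl⟩⟩

theorem pCorePreimage_le (P : Subgroup Ω) : pCorePreimage p F P ≤ normalizerIn S P :=
  Subgroup.map_subtype_le _

theorem autExtends_pCorePreimage [Finite S] [Fact p.Prime] (hS : IsPGroup p S)
    {P : Subgroup Ω} (hP : F.IsReceptive P) (hPa : F.IsFullyAutomized p P) :
    AutExtends F P (pCorePreimage p F P) := by
  have hle : P ≤ pCorePreimage p F P := fun g hg =>
    mem_pCorePreimage.2 ⟨le_normalizerIn hP.1 hg,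
      inn_le_map_pCore hS hP.1 ⟨⟨g, hg⟩, MulEquiv.ext fun _ => Subtype.ext rfl⟩⟩
  refine ⟨hle, fun α hα => ?_⟩
  obtain ⟨hφ, hr⟩ := hom_of_mem_autGroup hP.1 hα
  have hKn : ∀ k ∈ (pCore p (F.autGroup P)).map (F.autGroup P).subtype,
      α * k * α⁻¹ ∈ (pCore p (F.autGroup P)).map (F.autGroup P).subtype := by
    rintro _ ⟨k, hk, rfl⟩
    exact ⟨⟨α, hα⟩ * k * ⟨α, hα⟩⁻¹,
      (inferInstance : (pCore p (F.autGroup P)).Normal).conj_mem k hk ⟨α, hα⟩, rfl⟩
  obtain ⟨ψ, hψ, he⟩ := exists_extension hP hφ hr (le_refl (extender S P _))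
  have hfa : ∀ (g : Ω) (hg : g ∈ pCorePreimage p F P), ∀ h ∈ S,
      (∀ x : P, ((α * normalizerAut S P ⟨g, pCorePreimage_le P hg⟩ * α⁻¹) x : Ω) =
        h * (x : Ω) * h⁻¹) → h ∈ pCorePreimage p F P := by
    intro g hg h hh hx
    have hn := mem_normalizer_of_aut hx
    refine mem_pCorePreimage.2 ⟨⟨hh, hn⟩, ?_⟩
    obtain ⟨_, hg2⟩ := mem_pCorePreimage.1 hg
    have heq : normalizerAut S P ⟨h, hh, hn⟩ =
        α * normalizerAut S P ⟨g, pCorePreimage_le P hg⟩ * α⁻¹ :=
      MulEquiv.ext fun x => Subtype.ext (by rw [coe_normalizerAut]; exact (hx x).symm)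
    rw [heq]
    exact hKn _ hg2
  have hsub : pCorePreimage p F P ≤ extender S P (P.subtype.comp α.toMonoidHom) →
      ∃ β ∈ F.autGroup (pCorePreimage p F P),
        ∀ x : P, ((β (Subgroup.inclusion hle x) : pCorePreimage p F P) : Ω) = (α x : P) := by
    intro hx
    set χ := ψ.comp (Subgroup.inclusion hx) with hχ
    have hχm : χ ∈ F.Hom (pCorePreimage p F P) := restrict_mem hψ hx
    have hval : ∀ x : P, χ (Subgroup.inclusion hle x) = (α x : Ω) := fun x => he x x.2 _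
    have hin : ∀ z, χ z ∈ pCorePreimage p F P := by
      intro z
      refine hfa z z.2 _ (apply_mem hχm z) fun x => ?_
      obtain ⟨x, rfl⟩ := α.surjective x
      rw [MulAut.mul_apply, MulAut.mul_apply, MulAut.inv_apply_self, ← hval x, ← hval, ← map_inv,
        ← map_mul, ← map_mul]
      exact congrArg χ (Subtype.ext rfl)
    have hr' := range_eq_of_le hχm ((pCorePreimage_le P).trans (normalizerIn_le S P)) hin le_rfl
    exact ⟨_, toAut_mem hχm hr', hval⟩
  refine hsub fun g hg => ?_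
  obtain ⟨hgN, hg2⟩ := mem_pCorePreimage.1 hg
  refine mem_extender_iff.2 ⟨hgN.1, hgN.2, ?_⟩
  obtain ⟨h, hh, hx⟩ := mem_autInducedBy_iff.1
    (map_pCore_le_autInducedBy hPa (hKn _ hg2))
  refine ⟨h, hh, fun x hx' => ?_⟩
  have h2 := hx (α x)
  rw [MulAut.mul_apply, MulAut.mul_apply, MulAut.inv_apply_self] at h2
  exact h2

/-- Every subgroup has a conjugate in a fully normalized centric radical subgroup to which all its
automorphisms extend. -/
theorem exists_centric_radical_extending [Finite S] [Fact p.Prime] (hS : IsPGroup p S)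
    (hF : F.IsSaturated p) {Q : Subgroup Ω} (hQ : Q ≤ S) :
    ∃ R Q' : Subgroup Ω, F.IsFullyNormalized R ∧ F.IsCentric R ∧ F.IsRadical p R ∧
      F.IsConj Q Q' ∧ AutExtends F Q' R := by
  classical
  set C : Set (Subgroup Ω) :=
    {R | F.IsCentric R ∧ ∃ Q', F.IsConj Q Q' ∧ AutExtends F Q' R} with hC
  have hne : C.Nonempty := by
    obtain ⟨Q', hQ', hfn⟩ := exists_fullyNormalized F hQ
    have hfc := isFullyCentralized_of_fullyNormalized hS hF hfn
    exact ⟨_, isCentric_sup_centralizerIn hfc, Q', hQ', autExtends_sup_centralizerIn hS hF hfc⟩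
  have hfin : C.Finite := (Set.finite_range fun T : Subgroup S => T.map S.subtype).subset
    fun R hR => ⟨R.subgroupOf S, Subgroup.map_subgroupOf_eq_of_le hR.1.1⟩
  obtain ⟨R₀, hR₀, hmax⟩ := hfin.exists_maximalFor (fun R : Subgroup Ω => Nat.card R) _ hne
  obtain ⟨hR₀c, Q₀, hQ₀, hext₀⟩ := hR₀
  obtain ⟨R, hR₀R, hRn⟩ := exists_fullyNormalized F hR₀c.1
  obtain ⟨Q', hQ', hext⟩ := autExtends_transport hext₀ hR₀R
  have hRc := isCentric_of_isConj hR₀c hR₀R
  refine ⟨R, Q', hRn, hRc, Classical.byContradiction fun hrad => ?_, isConj_trans hQ₀ hQ', hext⟩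
  have hRr := isReceptive_of_fullyNormalized hS hF hRn
  have hRa := isFullyAutomized_of_fullyNormalized hS hF hRn
  have hlt : ¬ (pCore p (F.autGroup R)).map (F.autGroup R).subtype ≤ Inn R := fun h =>
    hrad ⟨hRn.1, le_antisymm h (inn_le_map_pCore hS hRn.1)⟩
  obtain ⟨k, hk, hkI⟩ := SetLike.not_le_iff_exists.1 hlt
  obtain ⟨g, hgS, hgx⟩ := mem_autInducedBy_iff.1 (map_pCore_le_autInducedBy hRa hk)
  have hgN := mem_normalizer_of_aut hgx
  obtain ⟨hle, hext'⟩ := autExtends_pCorePreimage hS hRr hRa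
  have hgm : g ∈ pCorePreimage p F R := by
    refine mem_pCorePreimage.2 ⟨⟨hgS, hgN⟩, ?_⟩
    have : normalizerAut S R ⟨g, hgS, hgN⟩ = k :=
      MulEquiv.ext fun x => Subtype.ext (by rw [coe_normalizerAut]; exact (hgx x).symm)
    rwa [this]
  have hgR : g ∉ R := fun h => hkI ⟨⟨g, h⟩, MulEquiv.ext fun x => Subtype.ext (hgx x).symm⟩
  have hPS : pCorePreimage p F R ≤ S := (pCorePreimage_le R).trans (normalizerIn_le S R)
  have hbig : R < pCorePreimage p F R := lt_of_le_of_ne hle fun h => hgR (h.ge hgm)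
  have hmem : pCorePreimage p F R ∈ C := by
    refine ⟨isCentric_of_le hRc hle hPS, Q', isConj_trans hQ₀ hQ', hext.1.trans hle, fun α hα => ?_⟩
    obtain ⟨β, hβ, hx⟩ := hext.2 α hα
    obtain ⟨γ, hγ, hy⟩ := hext' β hβ
    exact ⟨γ, hγ, fun x => (hy (Subgroup.inclusion hext.1 x)).trans (hx x)⟩
  have h1 := card_lt_of_lt hPS hbig
  have h2 := isConj_card hR₀R
  have h3 : Nat.card (pCorePreimage p F R) ≤ Nat.card R₀ := hmax hmem (by dsimp only; omega)
  omega

/-! ### The group form -/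

section GroupForm

variable {G : Type*} [Group G] [Finite G]

omit [Finite G] in
theorem conj_zpow_apply (V : Subgroup G) (g : Subgroup.normalizer (V : Set G)) (n : ℤ) (x : V) :
    (((V.normalizerMonoidHom g) ^ n) x : G) = (g : G) ^ n * x * ((g : G) ^ n)⁻¹ := by
  rw [← map_zpow]
  rfl

omit [Finite G] in
/-- Element form of `[V, ⟨g⟩, ⟨g⟩] = 1`. -/
theorem commutator_commutator_eq_bot_iff (V : Subgroup G) {g : G}
    (hg : g ∈ Subgroup.normalizer (V : Set G)) :
    ⁅⁅V, Subgroup.zpowers g⁆, Subgroup.zpowers g⁆ = ⊥ ↔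
      ∀ a : V, (V.normalizerMonoidHom ⟨g, hg⟩ a⁻¹) * a * (V.normalizerMonoidHom ⟨g, hg⟩ a⁻¹) *
        (V.normalizerMonoidHom ⟨g, hg⟩ (V.normalizerMonoidHom ⟨g, hg⟩ a)) = 1 := by
  rw [Subgroup.commutator_eq_bot_iff_le_centralizer]
  set χ := V.normalizerMonoidHom ⟨g, hg⟩ with hχ
  have hval : ∀ x : V, ((χ x : V) : G) = g * x * g⁻¹ := fun x => rfl
  constructor
  · intro h a
    have hc : ⁅(a : G), g⁆ * g = g * ⁅(a : G), g⁆ :=
      (Subgroup.mem_centralizer_iff.1
        (h (Subgroup.commutator_mem_commutator a.2 (Subgroup.mem_zpowers g))) g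
        (Subgroup.mem_zpowers g)).symm
    apply Subtype.ext
    simp only [Subgroup.coe_mul, Subgroup.coe_inv, hval, Subgroup.coe_one, commutatorElement_def]
      at hc ⊢
    have hc' : (a : G) * g * (a : G)⁻¹ = g * a * g * (a : G)⁻¹ * g⁻¹ := by
      calc (a : G) * g * (a : G)⁻¹ = a * g * (a : G)⁻¹ * g⁻¹ * g := by group
        _ = _ := hc
        _ = _ := by group
    calc g * (a : G)⁻¹ * g⁻¹ * a * (g * (a : G)⁻¹ * g⁻¹) * (g * (g * a * g⁻¹) * g⁻¹)
        = g * (a : G)⁻¹ * g⁻¹ * (a * g * (a : G)⁻¹) * g * a * g⁻¹ * g⁻¹ := by group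
      _ = 1 := by rw [hc']; group
  · intro h
    rw [Subgroup.commutator_le]
    intro v hv x hx
    obtain ⟨n, rfl⟩ := Subgroup.mem_zpowers_iff.1 hx
    have hfix : ∀ a : V, χ (a⁻¹ * χ a) = a⁻¹ * χ a := fun a => by
      have h1 := h a
      rw [map_inv] at h1
      rw [map_mul, map_inv]
      calc (χ a)⁻¹ * χ (χ a)
          = (a⁻¹ * χ a) * ((χ a)⁻¹ * a * (χ a)⁻¹ * χ (χ a)) := by group
        _ = _ := by rw [h1, mul_one]
    have hall : ∀ (a : V) (n : ℤ), χ (a⁻¹ * (χ ^ n) a) = a⁻¹ * (χ ^ n) a := by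
      intro a n
      induction n with
      | zero => simp
      | succ i hi =>
        rw [add_comm, zpow_add, zpow_one, MulAut.mul_apply]
        rw [show a⁻¹ * χ ((χ ^ (i : ℤ)) a) = (a⁻¹ * χ a) * (χ (a⁻¹ * (χ ^ (i : ℤ)) a)) by
          rw [map_mul, map_inv]; group, map_mul, hfix, hi, hi]
      | pred i hi =>
        have hinv : ∀ b : V, χ b = b → χ⁻¹ b = b := fun b hb => by
          conv_lhs => rw [← hb, MulAut.inv_apply_self]
        rw [sub_eq_neg_add, zpow_add, zpow_neg_one, MulAut.mul_apply]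
        have e1 : a⁻¹ * χ⁻¹ ((χ ^ (-(i : ℤ))) a) =
            (χ⁻¹ (a⁻¹ * χ a))⁻¹ * χ⁻¹ (a⁻¹ * (χ ^ (-(i : ℤ))) a) := by
          rw [map_mul, map_mul, MulAut.inv_apply_self, map_inv]; group
        rw [e1, hinv _ (hfix a), hinv _ hi, map_mul, map_inv, hfix, hi]
    rw [Subgroup.mem_centralizer_iff]
    intro y hy
    obtain ⟨m, rfl⟩ := Subgroup.mem_zpowers_iff.1 hy
    refine Commute.zpow_left ?_ m
    have h1 := congrArg Subtype.val (hall (⟨v, hv⟩ : V)⁻¹ n)
    simp only [inv_inv] at h1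
    rw [hval] at h1
    simp only [Subgroup.coe_mul, hχ, conj_zpow_apply, Subgroup.coe_inv] at h1
    have h2 : ⁅v, g ^ n⁆ = v * (g ^ n * v⁻¹ * (g ^ n)⁻¹) := by
      rw [commutatorElement_def]; group
    rw [h2]
    show g * _ = _ * g
    calc g * (v * (g ^ n * v⁻¹ * (g ^ n)⁻¹))
        = g * (v * (g ^ n * v⁻¹ * (g ^ n)⁻¹)) * g⁻¹ * g := by group
      _ = _ := by rw [h1]

/-- The definition at one subgroup, in the fusion language. -/
theorem quadStable_top_iff [Fact p.Prime] (V : Subgroup G) :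
    QuadStable p (groupFusionSystem (⊤ : Subgroup G)) V ↔
      ∀ (g : G) (hg : g ∈ Subgroup.normalizer (V : Set G)),
        ⁅⁅V, Subgroup.zpowers g⁆, Subgroup.zpowers g⁆ = ⊥ →
        (QuotientGroup.mk (s := (Subgroup.centralizer (V : Set G)).subgroupOf
            (Subgroup.normalizer (V : Set G))) (⟨g, hg⟩ : ↥(Subgroup.normalizer (V : Set G)))) ∈
          pCore p (↥(Subgroup.normalizer (V : Set G)) ⧸
            (Subgroup.centralizer (V : Set G)).subgroupOf (Subgroup.normalizer (V : Set G))) := by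
  set A := (groupFusionSystem (⊤ : Subgroup G)).autGroup V with hA
  have hA' : A = V.normalizerMonoidHom.range := by
    rw [hA, group_autGroup (le_top : V ≤ ⊤), autInducedBy_eq_map, Subgroup.top_subgroupOf,
      MonoidHom.range_eq_map]
  let f : Subgroup.normalizer (V : Set G) →* A :=
    V.normalizerMonoidHom.codRestrict A fun g => hA' ▸ ⟨g, rfl⟩
  have hf : Function.Surjective f := by
    rintro ⟨α, hα⟩
    obtain ⟨g, hg⟩ : α ∈ V.normalizerMonoidHom.range := hA' ▸ hα
    exact ⟨g, Subtype.ext hg⟩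
  have hker : f.ker =
      (Subgroup.centralizer (V : Set G)).subgroupOf (Subgroup.normalizer (V : Set G)) := by
    rw [← Subgroup.normalizerMonoidHom_ker]
    ext g
    exact ⟨fun h => congrArg Subtype.val h, fun h => Subtype.ext h⟩
  have : ((Subgroup.centralizer (V : Set G)).subgroupOf
      (Subgroup.normalizer (V : Set G))).Normal := hker ▸ f.normal_ker
  let e := (QuotientGroup.quotientMulEquivOfEq hker.symm).trans
    (QuotientGroup.quotientKerEquivOfSurjective f hf)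
  have he : ∀ g, e (QuotientGroup.mk g) = f g := fun g => rfl
  constructor
  · intro h g hg hq
    obtain ⟨k, hk, hkg⟩ := h (V.normalizerMonoidHom ⟨g, hg⟩) (f ⟨g, hg⟩).2
      ((commutator_commutator_eq_bot_iff V hg).1 hq)
    have : k = f ⟨g, hg⟩ := Subtype.ext hkg
    refine (PCore.mem_pCore_congr e).1 ?_
    rw [he, ← this]
    exact hk
  · intro h χ hχ hq
    obtain ⟨⟨g, hg⟩, rfl⟩ : χ ∈ V.normalizerMonoidHom.range := hA' ▸ hχ
    have := (PCore.mem_pCore_congr e).2 (h g hg ((commutator_commutator_eq_bot_iff V hg).2 hq))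
    rw [he] at this
    exact ⟨_, this, rfl⟩

/-- `p`-stability in the normalizer form is stability of the fusion system on a Sylow subgroup. -/
theorem isNormalizerPStable_iff [Fact p.Prime] (P : Sylow p G) :
    IsNormalizerPStable p G ↔ ∀ Q : Subgroup G,
      (groupFusionSystem (P : Subgroup G)).IsFullyNormalized Q →
        QuadStable p (groupFusionSystem (P : Subgroup G)) Q := by
  have haut : ∀ Q : Subgroup G, Q ≤ (P : Subgroup G) →
      (groupFusionSystem (P : Subgroup G)).autGroup Q =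
        (groupFusionSystem (⊤ : Subgroup G)).autGroup Q := fun Q hQ => by
    rw [group_autGroup hQ, group_autGroup le_top]
  constructor
  · intro h Q hQ
    unfold QuadStable
    rw [haut Q hQ.1]
    exact (quadStable_top_iff Q).2 (h Q (P.2.to_le hQ.1))
  · intro h V hV
    obtain ⟨g, hg⟩ := exists_conj_le P hV
    have hst : QuadStable p (groupFusionSystem (⊤ : Subgroup G))
        (V.map (MulAut.conj g).toMonoidHom) := by
      have := quadStable_of_fullyNormalized h hg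
      unfold QuadStable at this ⊢
      rw [← haut _ hg]
      exact this
    exact (quadStable_top_iff V).1 (quadStable_congr
      (isConj_symm (group_isConj_iff.2 ⟨le_top, le_top, g, rfl⟩)) hst)

end GroupForm

end Cfsg.Agent.Fusion
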