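import Cfsg.Agent.Lib.Fusion.PPrimeResidual

/-!
Two weakly normal subsystems `E`, `D` on the same strongly closed subgroup have the same
automorphisms of `p`-power order, and `O^{p'}(E) ≤ D`.
-/

set_option autoImplicit false
set_option linter.unusedSectionVars false

namespace Cfsg.Agent.Fusion.SameBase

open Cfsg Cfsg.FusionSystem Cfsg.Agent.Fusion

variable {Ω : Type*} [Group Ω] {S T : Subgroup Ω} {F : FusionSystem S} {E D : FusionSystem T}
  {p : ℕ}

theorem relData_top (hE : E.IsWeaklyNormalIn F p) : RelData F E p (F.autGroup T) where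
  sub := hE.2.2.1
  closed := hE.2.2.2.1
  transports := hE.2.2.2.2.1
  frattini := hE.2.2.2.2.2
  satE := hE.1
  satF := hE.2.1
  le := le_rfl
  conj := fun _ hd _ ha => mul_mem (mul_mem hd ha) (inv_mem hd)
  pElt := fun _ ha _ _ => ha
  aut := autGroup_le_of_subsystem hE.2.2.1 le_rfl

variable [Finite S] [Fact p.Prime]

/-- The automorphisms of `p`-power order of the two systems coincide. -/
theorem pElement_mem (hS : IsPGroup p S) (hE : E.IsWeaklyNormalIn F p)
    (hD : D.IsWeaklyNormalIn F p) {P : Subgroup Ω} (hP : P ≤ T) {γ : MulAut P}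
    (hγ : γ ∈ E.autGroup P) {k : ℕ} (hk : γ ^ p ^ k = 1) : γ ∈ D.autGroup P := by
  have hTS := hE.2.2.2.1.1
  have := finite_of_le (Ω := Ω) hTS
  obtain ⟨θ, hθ, c, hc, hθc⟩ := exists_conj_of_pElement (hS.to_le hTS) hE.1 hP hγ hk
  obtain ⟨η, hη, hηr, hηi, -⟩ :=
    exists_inverse (hE.2.2.1 P hθ) (rfl : θ.range = θ.range)
  have hmem : ∀ y : θ.range, conjHom θ.range c y ∈ θ.range := by
    rintro ⟨_, x, rfl⟩
    exact ⟨γ x, hθc x⟩
  obtain ⟨χ, hχ, hχv⟩ := stronglyInvariant_of_invariant hD.2.2 θ.range θ.range le_rfl (range_le hθ)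
    _ (D.conj_mem (range_le hθ) hc) hmem η hη
  have heq : (θ.range.subgroupOf θ.range).map η = P := by
    rw [Subgroup.subgroupOf_self, ← MonoidHom.range_eq_map, hηr]
  refine (mem_autGroup_iff hP).2 (mem_of_le hχ heq.ge fun x => ?_)
  have hx : η ⟨θ x, x, rfl⟩ = (x : Ω) := hηi x _
  have hsub : η (Subgroup.inclusion le_rfl ⟨θ x, x, rfl⟩) ∈
      (θ.range.subgroupOf θ.range).map η := by
    rw [heq]
    exact hx.symm ▸ x.2
  refine ((congrArg η (Subtype.ext (hθc x)) :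
    η ⟨θ (γ x), γ x, rfl⟩ = η ⟨conjHom θ.range c ⟨θ x, x, rfl⟩, hmem _⟩).symm.trans
      (hηi (γ x) _)).symm.trans ?_
  refine (hχv ⟨θ x, x, rfl⟩ hsub).symm.trans ?_
  exact congrArg χ (Subtype.ext hx)

theorem isLargeOnCentric (hS : IsPGroup p S) (hE : E.IsWeaklyNormalIn F p)
    (hD : D.IsWeaklyNormalIn F p) : IsLargeOnCentric D E p := fun P hP => by
  rw [Subgroup.map_le_iff_le_comap]
  refine (Subgroup.closure_le _).2 fun a ⟨k, hk⟩ => ?_
  exact pElement_mem hS hE hD hP.1 a.2 (k := k) (show (a : MulAut P) ^ p ^ k = 1 by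
    rw [← SubgroupClass.coe_pow, ← hk, pow_orderOf_eq_one]; rfl)

/-- A subgroup centric in one is centric in the other. -/
theorem isCentric_of_centric (hE : E.IsWeaklyNormalIn F p) (hD : D.IsWeaklyNormalIn F p)
    {P : Subgroup Ω} (hP : E.IsCentric P) : D.IsCentric P := by
  refine ⟨hP.1, ?_⟩
  rintro Q ⟨φ, hφ, rfl⟩
  exact isCentric_centralizerIn_le ((relData_top hE).isCentric_image hP (hD.2.2.1 _ hφ))

/-! ### Maps that are an automorphism in `D` composed with a map in `E` -/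

/-- `φ` is an element of `Aut_D(T)` after a map of `E`. -/
def Form (E D : FusionSystem T) (P : Subgroup Ω) (φ : P →* Ω) : Prop :=
  ∃ β ∈ D.autGroup T, ∃ φ₀ ∈ E.Hom P, ∀ (x : P) (hx : φ₀ x ∈ T),
    φ x = ((β ⟨φ₀ x, hx⟩ : T) : Ω)

theorem form_of_left {P : Subgroup Ω} {φ : P →* Ω} (hφ : φ ∈ E.Hom P) : Form E D P φ :=
  ⟨1, one_mem _, φ, hφ, fun _ _ => rfl⟩

theorem form_of_right (hS : IsPGroup p S) (hE : E.IsWeaklyNormalIn F p)
    (hD : D.IsWeaklyNormalIn F p) {P : Subgroup Ω} {φ : P →* Ω} (hφ : φ ∈ D.Hom P) :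
    Form E D P φ := by
  have hTS := hE.2.2.2.1.1
  have := finite_of_le (Ω := Ω) hTS
  obtain ⟨β, hβ, φ₀, hφ₀, he⟩ :=
    frattini_minimalPrimeToP (hS.to_le hTS) hD.1 hφ P le_rfl (dom_le hφ)
  exact ⟨β, hβ, φ₀, minimalPrimeToP_le (isLargeOnCentric hS hD hE) P hφ₀, he⟩

theorem form_mem (hE : E.IsWeaklyNormalIn F p) (hD : D.IsWeaklyNormalIn F p) {P : Subgroup Ω}
    {φ : P →* Ω} (h : Form E D P φ) : φ ∈ F.Hom P := by
  obtain ⟨β, hβ, φ₀, hφ₀, he⟩ := h
  have hβF := (mem_autGroup_iff hE.2.2.2.1.1).1 (autGroup_le_of_subsystem hD.2.2.1 le_rfl hβ)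
  exact comp_mem' (hE.2.2.1 P hφ₀) hβF (apply_mem hφ₀) fun x => he x _

theorem form_comp (hE : E.IsWeaklyNormalIn F p) (hD : D.IsWeaklyNormalIn F p)
    {P Q : Subgroup Ω} {φ : P →* Ω} {ψ : Q →* Ω} (hφ : Form E D P φ) (hψ : Form E D Q ψ)
    (h : ∀ x : P, φ x ∈ Q) {χ : P →* Ω} (hχ : ∀ x : P, χ x = ψ ⟨φ x, h x⟩) : Form E D P χ := by
  obtain ⟨β, hβ, φ₀, hφ₀, he⟩ := hφ
  obtain ⟨β', hβ', ψ₀, hψ₀, he'⟩ := hψ
  have hback : ∀ x : P, β⁻¹ ⟨φ x, dom_le hψ₀ (h x)⟩ = ⟨φ₀ x, apply_mem hφ₀ x⟩ := fun x => by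
    rw [show (⟨φ x, dom_le hψ₀ (h x)⟩ : T) = β ⟨φ₀ x, apply_mem hφ₀ x⟩ from
      Subtype.ext (he x (apply_mem hφ₀ x)), MulAut.inv_apply_self]
  obtain ⟨γ, hγ, hγv⟩ := hE.2.2.2.2.1 |> fun htr =>
    Transports.exists_map (F := F) htr hψ₀
      (inv_mem (autGroup_le_of_subsystem hD.2.2.1 le_rfl hβ)) (P' := φ₀.range) (by
      rintro _ ⟨x, rfl⟩
      exact ⟨⟨φ x, h x⟩, congrArg Subtype.val (hback x)⟩)
  refine ⟨β' * β, mul_mem hβ' hβ, _, E.comp_mem hφ₀ hγ fun x => ⟨x, rfl⟩, fun x hx => ?_⟩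
  have hz := apply_mem hψ₀ (⟨φ x, h x⟩ : Q)
  have h1 := hγv ⟨φ x, h x⟩ hz
    (show ((β⁻¹ ⟨φ x, dom_le hψ₀ (h x)⟩ : T) : Ω) ∈ φ₀.range by rw [hback]; exact ⟨x, rfl⟩)
  have h2 : (⟨γ.comp (φ₀.codRestrict φ₀.range fun x => ⟨x, rfl⟩) x, hx⟩ : T) =
      β⁻¹ ⟨ψ₀ ⟨φ x, h x⟩, hz⟩ :=
    Subtype.ext ((congrArg γ (Subtype.ext (congrArg Subtype.val (hback x)).symm)).trans h1)
  rw [hχ, he' _ hz, MulAut.mul_apply, h2, MulAut.apply_inv_self]

/-- The automorphisms of `R` of that form. -/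
def formAut (E D : FusionSystem T) (R : Subgroup Ω) : Subgroup (MulAut R) :=
  Subgroup.closure {γ | Form E D R (R.subtype.comp γ.toMonoidHom)}

theorem form_of_mem_formAut (hE : E.IsWeaklyNormalIn F p) (hD : D.IsWeaklyNormalIn F p)
    {R : Subgroup Ω} (hR : R ≤ T) {γ : MulAut R} (hγ : γ ∈ formAut E D R) :
    Form E D R (R.subtype.comp γ.toMonoidHom) := by
  have := finite_mulAut (Ω := Ω) (hR.trans hE.2.2.2.1.1)
  have hone : Form E D R (R.subtype.comp (1 : MulAut R).toMonoidHom) :=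
    form_of_left (mem_of_le (subtype_mem E hR) le_rfl fun _ => rfl)
  induction hγ using Subgroup.closure_induction with
  | mem x hx => exact hx
  | one => exact hone
  | mul a b _ _ ha hb => exact form_comp hE hD hb ha (fun x => (b x).2) fun x => rfl
  | inv a _ ha =>
    have hp : ∀ j : ℕ, Form E D R (R.subtype.comp (a ^ j).toMonoidHom) := by
      intro j
      induction j with
      | zero => rw [pow_zero]; exact hone
      | succ j ih =>
        exact form_comp hE hD ha ih (fun x => (a x).2) fun x => by rw [pow_succ]; rfl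
    have h1 : a⁻¹ = a ^ (orderOf a - 1) := by
      rw [inv_eq_iff_mul_eq_one, ← pow_succ',
        Nat.sub_add_cancel (orderOf_pos a), pow_orderOf_eq_one]
    rw [h1]
    exact hp _

omit [Finite S] in
theorem mem_of_pow_coprime {X : Type*} [Group X] (A : Subgroup X) {x : X} {a b : ℕ}
    (hab : a.Coprime b) (ha : x ^ a ∈ A) (hb : x ^ b ∈ A) : x ∈ A := by
  have h1 := Nat.gcd_eq_gcd_ab a b
  rw [hab.gcd_eq_one] at h1
  rw [← zpow_one x, show (1 : ℤ) = a * a.gcdA b + b * a.gcdB b by exact_mod_cast h1, zpow_add,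
    zpow_mul, zpow_mul, zpow_natCast, zpow_natCast]
  exact mul_mem (Subgroup.zpow_mem _ ha _) (Subgroup.zpow_mem _ hb _)

/-- At the top: a `p`-element `β a` with `β ∈ Aut_D(T)`, `a ∈ Aut_E(T)` lies in `Aut_E(T)`. -/
theorem mem_of_form_top (hS : IsPGroup p S) (hE : E.IsWeaklyNormalIn F p)
    (hD : D.IsWeaklyNormalIn F p) {γ : MulAut T} (hf : Form E D T (T.subtype.comp γ.toMonoidHom))
    {k : ℕ} (hk : γ ^ p ^ k = 1) : γ ∈ E.autGroup T := by
  have hTS := hE.2.2.2.1.1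
  have := finite_of_le (Ω := Ω) hTS
  have := finite_mulAut (Ω := Ω) hTS
  obtain ⟨β, hβ, φ₀, hφ₀, he⟩ := hf
  have hr : φ₀.range = T := range_eq_of_le hφ₀ le_rfl (apply_mem hφ₀) le_rfl
  set a := toAut hφ₀ hr with ha
  have haE : a ∈ E.autGroup T := toAut_mem hφ₀ hr
  have hγ : γ = β * a := MulEquiv.ext fun x => Subtype.ext (he x (apply_mem hφ₀ x))
  have hβF := autGroup_le_of_subsystem hD.2.2.1 le_rfl hβ
  have hpow : ∀ n : ℕ, ∃ a' ∈ E.autGroup T, γ ^ n = β ^ n * a' := by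
    intro n
    induction n with
    | zero => exact ⟨1, one_mem _, by simp⟩
    | succ n ih =>
      obtain ⟨a', ha', h⟩ := ih
      refine ⟨β⁻¹ * a' * β * a, mul_mem ?_ haE, ?_⟩
      · simpa using conj_mem_autGroup_of_invariant hE.2.2 le_rfl (inv_mem hβF) ha'
      · rw [pow_succ, h, hγ, pow_succ]
        group
  obtain ⟨a', ha', h⟩ := hpow (p ^ k)
  rw [hk] at h
  have h1 : β ^ p ^ k ∈ E.autGroup T := by
    rw [eq_inv_of_mul_eq_one_left h.symm]
    exact inv_mem ha'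
  obtain ⟨e, m, hm, hord⟩ := Nat.exists_eq_pow_mul_and_not_dvd (orderOf_pos β).ne' p
    (Fact.out : p.Prime).ne_one
  have h2 : β ^ m ∈ E.autGroup T := pElement_mem hS hD hE le_rfl (pow_mem hβ m) (k := e) (by
    rw [← pow_mul, mul_comm, ← hord, pow_orderOf_eq_one])
  have hcop : (p ^ k).Coprime m :=
    ((Fact.out : p.Prime).coprime_iff_not_dvd.2 hm).pow_left k
  rw [hγ]
  exact mul_mem (mem_of_pow_coprime _ hcop h1 h2) haE

/-- A `p`-element of the form `β φ₀` is in `E`. -/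
theorem mem_of_form (hS : IsPGroup p S) (hE : E.IsWeaklyNormalIn F p)
    (hD : D.IsWeaklyNormalIn F p) :
    ∀ (n : ℕ) (R : Subgroup Ω), Nat.card T ≤ Nat.card R + n → E.IsCentric R →
      ∀ (γ : MulAut R), Form E D R (R.subtype.comp γ.toMonoidHom) →
        ∀ k : ℕ, γ ^ p ^ k = 1 → γ ∈ E.autGroup R := by
  have hTS := hE.2.2.2.1.1
  have hpT : IsPGroup p T := hS.to_le hTS
  have := finite_of_le (Ω := Ω) hTS
  intro n
  induction n with
  | zero =>
    intro R hn hR γ hf k hk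
    obtain rfl : R = T := eq_of_le_of_card_le le_rfl hR.1 (by omega)
    exact mem_of_form_top hS hE hD hf hk
  | succ n ih =>
    intro R₀ hn hR₀ γ₀ hf₀ k hk₀
    by_cases hRe : R₀ = T
    · subst hRe
      exact mem_of_form_top hS hE hD hf₀ hk₀
    -- move to a fully normalized conjugate
    obtain ⟨R, ⟨θ, hθ, hθr⟩, hRn⟩ := exists_fullyNormalized E hR₀.1
    obtain ⟨η, hη, hηr, hηi, -⟩ := exists_inverse hθ hθr
    set γ : MulAut R := MulAut.congr (homEquiv hθ hθr) γ₀ with hγdef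
    suffices hmain : γ ∈ E.autGroup R by
      have h1 := congr_mem_autGroup hη hηr hmain
      convert h1 using 1
      refine MulEquiv.ext fun x => ?_
      obtain ⟨y, hy⟩ : ∃ y, homEquiv hη hηr y = x := (homEquiv hη hηr).surjective x
      obtain ⟨z, rfl⟩ := (homEquiv hθ hθr).surjective y
      have hz : x = z := Subtype.ext (by rw [← hy]; exact hηi z _)
      subst hz
      rw [hγdef, ← hy, congr_apply, congr_apply, hy]
      exact Subtype.ext (hηi (γ₀ x) _).symm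
    have hRc : E.IsCentric R := isCentric_of_isConj hR₀ ⟨θ, hθ, hθr⟩
    have hRT := hRn.1
    have hk : γ ^ p ^ k = 1 := by rw [hγdef, ← map_pow, hk₀, map_one]
    have hcard : Nat.card R = Nat.card R₀ := by rw [← hθr]; exact card_range hθ
    have hf : Form E D R (R.subtype.comp γ.toMonoidHom) := by
      have hηR₀ : ∀ y, η y ∈ R₀ := fun y => hηr.le ⟨y, rfl⟩
      refine form_comp hE hD (form_comp hE hD (form_of_left hη) hf₀ hηR₀ (χ :=
          (R₀.subtype.comp γ₀.toMonoidHom).comp (η.codRestrict R₀ hηR₀)) fun _ => rfl)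
        (form_of_left hθ) (fun y => (γ₀ _).2) fun y => ?_
      obtain ⟨z, rfl⟩ := (homEquiv hθ hθr).surjective y
      show ((MulAut.congr (homEquiv hθ hθr) γ₀ (homEquiv hθ hθr z) : R) : Ω) =
        θ (γ₀ ⟨η (homEquiv hθ hθr z), _⟩)
      rw [congr_apply, coe_homEquiv]
      exact congrArg (fun w => θ (γ₀ w)) (Subtype.ext (hηi z _).symm)
    have hne : R ≠ T := fun h => hRe (eq_of_le_of_card_le le_rfl hR₀.1 (by rw [← hcard, h]))
    set A := E.autGroup R with hA
    set U := autInducedBy T R with hU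
    obtain ⟨-, Y, hY⟩ := isFullyAutomized_of_fullyNormalized hpT hE.1 hRn
    have hUA : U ≤ A := autInducedBy_le_autGroup E hRT
    have := finite_mulAut (Ω := Ω) (hRT.trans hTS)
    set G := formAut E D R with hG
    have hAG : A ≤ G := fun a ha =>
      Subgroup.subset_closure (form_of_left ((mem_autGroup_iff hRT).1 ha))
    -- elements of `p`-power order normalizing `U`
    have key : ∀ g ∈ G, ∀ j : ℕ, g ^ p ^ j = 1 → (∀ u ∈ U, g * u * g⁻¹ ∈ U) → g ∈ A := by
      intro g hg j hj hgU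
      obtain ⟨β, hβ, φ₀, hφ₀, he⟩ := form_of_mem_formAut hE hD hRT hg
      set N := normalizerIn T R with hN
      have hNT : N ≤ T := normalizerIn_le T R
      have hlt : R < N := lt_normalizerIn hpT (lt_of_le_of_ne hRT hne)
      have hv : ∀ x : R, (⟨((g x : R) : Ω), hRT (g x).2⟩ : T) = β ⟨φ₀ x, apply_mem hφ₀ x⟩ :=
        fun x => Subtype.ext (he x (apply_mem hφ₀ x))
      have hext : N ≤ extender T R φ₀ := fun t ht => by
        obtain ⟨s, hs, hsx⟩ :=
          mem_autInducedBy_iff.1 (hgU _ (conjAut_mem_autInducedBy ht.1 ht.2))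
        refine mem_extender_iff.2
          ⟨ht.1, ht.2, ((β⁻¹ ⟨s, hs⟩ : T) : Ω), Subtype.property _, fun x hx => ?_⟩
        refine congrArg Subtype.val (show (⟨φ₀ ⟨t * x * t⁻¹, hx⟩, apply_mem hφ₀ _⟩ : T) =
          β⁻¹ ⟨s, hs⟩ * ⟨φ₀ x, apply_mem hφ₀ x⟩ * (β⁻¹ ⟨s, hs⟩)⁻¹ from β.injective ?_)
        rw [map_mul, map_mul, map_inv, MulAut.apply_inv_self, ← hv, ← hv]
        refine Subtype.ext ?_
        have h1 := hsx (g x)
        rw [MulAut.mul_apply, MulAut.mul_apply, MulAut.inv_apply_self] at h1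
        exact h1
      obtain ⟨ψ, hψ, hψe⟩ := exists_extension
        (isReceptive_of_centric hpT hE.1 (isCentric_of_isConj hRc ⟨φ₀, hφ₀, rfl⟩)) hφ₀ rfl hext
      set gh : N →* Ω := (T.subtype.comp β.toMonoidHom).comp (ψ.codRestrict T (apply_mem hψ))
        with hghdef
      have hghf : Form E D N gh := ⟨β, hβ, ψ, hψ, fun x hx => rfl⟩
      have hghF := form_mem hE hD hghf
      have hres : ∀ (x : R) (hx : (x : Ω) ∈ N), gh ⟨x, hx⟩ = ((g x : R) : Ω) := fun x hx => by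
        refine Eq.trans ?_ (congrArg Subtype.val (hv x)).symm
        exact congrArg (fun t : T => ((β t : T) : Ω)) (Subtype.ext (hψe x x.2 hx))
      have hmap : (R.subgroupOf N).map gh = R := by
        ext z
        constructor
        · rintro ⟨⟨w, hw⟩, hwR, rfl⟩
          rw [hres ⟨w, hwR⟩ hw]
          exact (g _).2
        · intro hz
          refine ⟨⟨(g⁻¹ ⟨z, hz⟩ : R), hlt.le (g⁻¹ ⟨z, hz⟩).2⟩, (g⁻¹ ⟨z, hz⟩).2, ?_⟩
          rw [hres (g⁻¹ ⟨z, hz⟩), MulAut.apply_inv_self]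
      have hghN : ∀ y, gh y ∈ N := fun y =>
        ⟨(β _).2, (Criterion.mem_normalizerIn_of_map hghF inf_le_right hmap y).2⟩
      have hghr : gh.range = N := range_eq_of_le hghF (hNT.trans hTS) hghN le_rfl
      set d : MulAut N := toAut hghF hghr with hddef
      have hdres : ∀ x : R, ((d (Subgroup.inclusion hlt.le x) : N) : Ω) = ((g x : R) : Ω) :=
        fun x => hres x (hlt.le x.2)
      have := finite_mulAut (Ω := Ω) (hNT.trans hTS)
      have hdG : d ∈ formAut E D N :=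
        Subgroup.subset_closure (show Form E D N (N.subtype.comp d.toMonoidHom) from hghf)
      obtain ⟨e, m, hm, hord⟩ := Nat.exists_eq_pow_mul_and_not_dvd (orderOf_pos d).ne' p
        (Fact.out : p.Prime).ne_one
      have hcop : (p ^ j).Coprime m :=
        ((Fact.out : p.Prime).coprime_iff_not_dvd.2 hm).pow_left j
      obtain ⟨i, hi1, hi0⟩ := Nat.chineseRemainder hcop 1 0
      obtain ⟨c, rfl⟩ := Nat.modEq_zero_iff_dvd.1 hi0
      have hgpow : g ^ (m * c) = g := by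
        conv_rhs => rw [← pow_one g]
        exact pow_eq_pow_iff_modEq.2 (hi1.of_dvd (orderOf_dvd_of_pow_eq_one hj))
      have hcardlt : Nat.card R < Nat.card N := card_lt_of_lt hNT hlt
      have hdA : d ^ (m * c) ∈ E.autGroup N :=
        ih N (by omega) (isCentric_of_le hRc hlt.le hNT) _
          (form_of_mem_formAut hE hD hNT (pow_mem hdG _)) e (by
            rw [← pow_mul, show m * c * p ^ e = p ^ e * m * c by ring, ← hord, pow_mul,
              pow_orderOf_eq_one, one_pow])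
      refine (mem_autGroup_iff hRT).2 (mem_of_le ((mem_autGroup_iff hNT).1 hdA) hlt.le fun x => ?_)
      have h1 := hom_aut_pow hlt.le hdres (m * c) x
      rw [hgpow] at h1
      exact h1.symm
    -- a Sylow subgroup of `G` over `U`
    have hUp : IsPGroup p (U.subgroupOf G) :=
      (isPGroup_autInducedBy hpT R).of_equiv (Subgroup.subgroupOfEquivOfLe (hUA.trans hAG)).symm
    obtain ⟨W, hW⟩ := hUp.exists_le_sylow
    set W' := (W : Subgroup G).map G.subtype with hW'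
    have hW'p : IsPGroup p W' := W.2.map _
    have hUW : U ≤ W' := fun u hu => ⟨⟨u, hAG (hUA hu)⟩, hW hu, rfl⟩
    have hW'G : W' ≤ G := Subgroup.map_subtype_le _
    have hinter : W' ⊓ A ≤ U := by
      have h1 : IsPGroup p ((W' ⊓ A).subgroupOf A) :=
        (hW'p.to_le inf_le_left).of_equiv (Subgroup.subgroupOfEquivOfLe inf_le_right).symm
      have h2 := Y.3 h1 (by
        rw [hY]
        exact fun a ha => ⟨hUW ha, a.2⟩)
      intro a ha
      have h3 : (⟨a, ha.2⟩ : A) ∈ (W' ⊓ A).subgroupOf A := ha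
      rw [h2, hY] at h3
      exact h3
    have hWU : W' ≤ U := by
      by_contra hnle
      have hlt' : U < W' := lt_of_le_not_ge hUW hnle
      obtain ⟨g, hg, hgU⟩ := SetLike.exists_of_lt (lt_normalizerIn hW'p hlt')
      obtain ⟨j, hj⟩ := hW'p ⟨g, hg.1⟩
      exact hgU (hinter ⟨hg.1, key g (hW'G hg.1) j (congrArg Subtype.val hj)
        fun u hu => (Subgroup.mem_normalizer_iff.1 hg.2 u).1 hu⟩)
    have hγG : γ ∈ G := Subgroup.subset_closure hf
    have hγp : IsPGroup p (Subgroup.zpowers (⟨γ, hγG⟩ : G)) :=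
      ConstrainedGroup.isPGroup_zpowers_of_pow_eq_one (k := k) (Subtype.ext hk)
    obtain ⟨W₂, hW₂⟩ := hγp.exists_le_sylow
    obtain ⟨q, hq⟩ := MulAction.exists_smul_eq G W₂ W
    have hqγ : q * ⟨γ, hγG⟩ * q⁻¹ ∈ (W : Subgroup G) := by
      rw [← hq, Sylow.coe_subgroup_smul]
      exact Subgroup.smul_mem_pointwise_smul _ (MulAut.conj q) _ (hW₂ (Subgroup.mem_zpowers _))
    have hqA : (q : MulAut R) * γ * (q : MulAut R)⁻¹ ∈ A := hUA (hWU ⟨_, hqγ, rfl⟩)
    have hqF : (q : MulAut R) ∈ F.autGroup R := (mem_autGroup_iff (hRT.trans hTS)).2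
      (form_mem hE hD (form_of_mem_formAut hE hD hRT q.2))
    simpa [mul_assoc] using conj_mem_autGroup_of_invariant hE.2.2 hRT (inv_mem hqF) hqA

/-- An automorphism of `T` in `E` agreeing on an `E`-centric subgroup with a map of `D` is in `D`. -/
theorem mem_autGroup_of_agree (hS : IsPGroup p S) (hE : E.IsWeaklyNormalIn F p)
    (hD : D.IsWeaklyNormalIn F p) :
    ∀ (n : ℕ) (R : Subgroup Ω), Nat.card T ≤ Nat.card R + n → E.IsCentric R →
      ∀ α ∈ E.autGroup T, ∀ e ∈ D.Hom R, (∀ (x : R) (hx : (x : Ω) ∈ T),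
        e x = ((α ⟨x, hx⟩ : T) : Ω)) → α ∈ D.autGroup T := by
  have hTS := hE.2.2.2.1.1
  have hpT : IsPGroup p T := hS.to_le hTS
  have := finite_of_le (Ω := Ω) hTS
  intro n
  induction n with
  | zero =>
    intro R hn hR α hα e he hv
    obtain rfl : R = T := eq_of_le_of_card_le le_rfl hR.1 (by omega)
    exact (mem_autGroup_iff le_rfl).2 (mem_of_le he le_rfl fun x => (hv x x.2).symm)
  | succ n ih =>
    intro R hn hR α hα e he hv
    have hRT := hR.1
    by_cases hRe : R = T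
    · exact ih R (by rw [hRe]; omega) hR α hα e he hv
    set N := normalizerIn T R with hN
    have hNT : N ≤ T := normalizerIn_le T R
    have hlt : R < N := lt_normalizerIn hpT (lt_of_le_of_ne hRT hRe)
    have hcard : Nat.card R < Nat.card N := card_lt_of_lt hNT hlt
    have hrec : D.IsReceptive e.range := isReceptive_of_centric hpT hD.1
      (isCentric_of_isConj (isCentric_of_centric hE hD hR) ⟨e, he, rfl⟩)
    have hext : N ≤ extender T R e := fun g hg => by
      refine mem_extender_iff.2 ⟨hg.1, hg.2, (α ⟨g, hg.1⟩ : T), Subtype.property _, fun x hx => ?_⟩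
      rw [hv _ (hRT hx), hv x (hRT x.2), ← Subgroup.coe_inv, ← map_inv, ← Subgroup.coe_mul,
        ← Subgroup.coe_mul, ← map_mul, ← map_mul]
      rfl
    obtain ⟨ψ, hψ, hψe⟩ := exists_extension hrec he rfl hext
    have hαH := (mem_autGroup_iff le_rfl).1 (inv_mem hα)
    -- `α⁻¹ ψ` is an automorphism of `N` fixing `R`
    set g0 : N →* Ω := (T.subtype.comp (α⁻¹).toMonoidHom).comp (ψ.codRestrict T (apply_mem hψ))
      with hg0
    have hg0f : Form E D N g0 := form_comp hE hD (form_of_right hS hE hD hψ)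
      (form_of_left hαH) (apply_mem hψ) fun x => rfl
    have hg0F := form_mem hE hD hg0f
    have hfixR : ∀ (x : R) (hx : (x : Ω) ∈ N), g0 ⟨x, hx⟩ = (x : Ω) := fun x hx => by
      show ((α⁻¹ ⟨ψ ⟨x, hx⟩, _⟩ : T) : Ω) = _
      rw [show (⟨ψ ⟨(x : Ω), hx⟩, apply_mem hψ _⟩ : T) = α ⟨x, hRT x.2⟩ from
        Subtype.ext ((hψe x x.2 hx).trans (hv x (hRT x.2))), MulAut.inv_apply_self]
    have hmap : (R.subgroupOf N).map g0 = R := by
      ext z
      constructor
      · rintro ⟨⟨w, hw⟩, hwR, rfl⟩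
        rw [hfixR ⟨w, hwR⟩ hw]
        exact hwR
      · intro hz
        exact ⟨⟨z, hlt.le hz⟩, hz, hfixR ⟨z, hz⟩ _⟩
    have hg0N : ∀ y, g0 y ∈ N := fun y =>
      ⟨(α⁻¹ _).2, (Criterion.mem_normalizerIn_of_map hg0F inf_le_right hmap y).2⟩
    have hg0r : g0.range = N := range_eq_of_le hg0F (hNT.trans hTS) hg0N le_rfl
    set γ : MulAut N := toAut hg0F hg0r with hγdef
    have hγfix : ∀ x : N, (x : Ω) ∈ R → γ x = x := fun x hx => Subtype.ext (hfixR ⟨x, hx⟩ x.2)
    have hγp : γ ∈ fixingTranslations F N R := by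
      refine ⟨toAut_mem hg0F hg0r, hγfix, fun g => ?_⟩
      refine isCentric_centralizerIn_le hR
        ⟨hNT (g⁻¹ * γ g).2, Subgroup.mem_centralizer_iff.2 fun r hr => ?_⟩
      have hr' : (g : Ω) * r * (g : Ω)⁻¹ ∈ R := (Subgroup.mem_normalizer_iff.1 g.2.2 r).1 hr
      have e1 := hγfix (g * ⟨r, hlt.le hr⟩ * g⁻¹) hr'
      rw [map_mul, map_mul, map_inv, hγfix ⟨r, hlt.le hr⟩ hr] at e1
      have e3 := congrArg Subtype.val e1
      simp only [Subgroup.coe_mul, Subgroup.coe_inv] at e3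
      show r * ((g : Ω)⁻¹ * ((γ g : N) : Ω)) = (g : Ω)⁻¹ * ((γ g : N) : Ω) * r
      calc r * ((g : Ω)⁻¹ * ((γ g : N) : Ω))
          = (g : Ω)⁻¹ * ((g : Ω) * r * (g : Ω)⁻¹) * ((γ g : N) : Ω) := by group
        _ = (g : Ω)⁻¹ * ((γ g : Ω) * r * (γ g : Ω)⁻¹) * ((γ g : N) : Ω) := by rw [e3]
        _ = (g : Ω)⁻¹ * ((γ g : N) : Ω) * r := by group
    obtain ⟨k, hk⟩ := isPGroup_fixingTranslations (R := R) hS (hNT.trans hTS) ⟨γ, hγp⟩
    have hk' : γ ^ p ^ k = 1 := congrArg Subtype.val hk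
    have hNc : E.IsCentric N := isCentric_of_le hR hlt.le hNT
    have hγE : γ ∈ E.autGroup N :=
      mem_of_form hS hE hD (Nat.card T) N (by omega) hNc γ hg0f k hk'
    have hγD : γ ∈ D.autGroup N := pElement_mem hS hE hD hNT hγE hk'
    have hαN : (T.subtype.comp α.toMonoidHom).comp (Subgroup.inclusion hNT) ∈ D.Hom N := by
      refine comp_mem' ((mem_autGroup_iff hNT).1 (inv_mem hγD)) hψ (fun y => (γ⁻¹ y).2) fun y => ?_
      have h1 : (⟨((γ (γ⁻¹ y) : N) : Ω), hNT (γ (γ⁻¹ y)).2⟩ : T) =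
          α⁻¹ ⟨ψ (γ⁻¹ y), apply_mem hψ _⟩ := Subtype.ext rfl
      show ((α ⟨(y : Ω), _⟩ : T) : Ω) = ψ (γ⁻¹ y)
      conv_lhs => rw [← MulAut.apply_inv_self _ γ y]
      rw [h1, MulAut.apply_inv_self]
    exact ih N (by omega) hNc α hα _ hαN fun x hx => rfl

/-- `O^{p'}(E)` is contained in every weakly normal subsystem over `T`. -/
theorem residual_isSubsystemOf [Finite T] (hS : IsPGroup p S) (hE : E.IsWeaklyNormalIn F p)
    (hD : D.IsWeaklyNormalIn F p) : (PPrimeResidual.residual E p).IsSubsystemOf D := by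
  intro P φ hφ
  obtain ⟨-, α, hα, φ₀, hφ₀, he⟩ := PPrimeResidual.mem_residual hφ
  have hmin : minimalPrimeToP E p ≤ D := minimalPrimeToP_le (isLargeOnCentric hS hE hD)
  have hγ : PPrimeResidual.gamma E p ≤ D.autGroup T :=
    (Subgroup.closure_le _).2 fun b ⟨hb, R, hR, ψ, hψ, hv⟩ =>
      mem_autGroup_of_agree hS hE hD (Nat.card T) R (by omega) hR b hb ψ (hmin R hψ) hv
  exact comp_mem' (hmin P hφ₀) ((mem_autGroup_iff le_rfl).1 (hγ hα)) (apply_mem hφ₀) fun x => he x _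

/-- A `p'`-residual of `E` is contained in every weakly normal subsystem over `T`. -/
theorem pPrimeResidual_le (hS : IsPGroup p S) (hE : E.IsWeaklyNormalIn F p)
    (hD : D.IsWeaklyNormalIn F p) {R : FusionSystem T} (hR : E.IsPPrimeResidual p R) :
    R.IsSubsystemOf D := by
  have hTS := hE.2.2.2.1.1
  have := finite_of_le (Ω := Ω) hTS
  intro P φ hφ
  rw [PPrimeResidual.hom_eq_residual (hS.to_le hTS) hE.1 hR P] at hφ
  exact residual_isSubsystemOf hS hE hD P hφ

end Cfsg.Agent.Fusion.SameBase
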