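import Cfsg.Agent.Lib.Fusion.NormalCentralizerClosed
import Cfsg.Agent.Lib.Fusion.SameBase
import Cfsg.Agent.Lib.Fusion.CentricUnique
import Cfsg.Agent.Lib.Fusion.PStable
import Cfsg.Agent.Lib.Fusion.Criterion

/-!
For a normal subsystem `E` over `T` every automorphism in `E` of a fully normalized `E`-centric
`R ≤ T` extends to `R C_S(R)` moving `C_S(R)` inside `R` (Aschbacher): by induction, the extension
condition passes from `N_T(R)` down to `R`.
-/

set_option autoImplicit false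

namespace Cfsg.Agent.Fusion.NormalExtensions

open Cfsg Cfsg.FusionSystem Cfsg.Agent.Fusion Cfsg.Agent.Fusion.NormalCentralizer

universe u

variable {Ω : Type u} [Group Ω] {S T : Subgroup Ω} {F : FusionSystem S} {E : FusionSystem T}
  {p : ℕ}
variable [Finite S] [Fact p.Prime]

/-- An invariant subsystem has the same automorphism groups up to conjugation in the ambient
system. -/
theorem congr_mem_E (hE : E.IsInvariantIn F) {R R' : Subgroup Ω} (hRT : R ≤ T) {φ : R →* Ω}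
    (hφ : φ ∈ F.Hom R) (hr : φ.range = R') {x : MulAut R} (hx : x ∈ E.autGroup R) :
    MulAut.congr (homEquiv hφ hr) x ∈ E.autGroup R' := by
  obtain ⟨-, hTcl, hinv, hfrat⟩ := hE
  subst hr
  obtain ⟨a, ha, φ₀, hφ₀, hdec⟩ := hfrat R hRT φ hφ
  have hdec' : ∀ v : R, φ v = ((a ⟨φ₀ v, apply_mem hφ₀ v⟩ : T) : Ω) := fun v =>
    hdec v (apply_mem hφ₀ v)
  have hP₀ : φ₀.range ≤ T := range_le hφ₀
  obtain ⟨hx₀, -⟩ := hom_of_mem_autGroup hP₀ (congr_mem_autGroup hφ₀ rfl hx)
  obtain ⟨χ, hχ, hχe⟩ := hinv φ₀.range hP₀ _ hx₀ a ha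
  have hR'T : φ.range ≤ T := by
    rintro _ ⟨v, rfl⟩
    rw [hdec']
    exact (a _).2
  have hsrc : (φ₀.range.subgroupOf T).map (T.subtype.comp a.toMonoidHom) = φ.range := by
    ext z
    constructor
    · rintro ⟨⟨w, hw⟩, ⟨v, hv⟩, rfl⟩
      refine ⟨v, ?_⟩
      rw [hdec']
      exact congrArg (fun t : T => ((a t : T) : Ω)) (Subtype.ext hv)
    · rintro ⟨v, rfl⟩
      exact ⟨⟨φ₀ v, hP₀ ⟨v, rfl⟩⟩, ⟨v, rfl⟩, (hdec' v).symm⟩
  refine (mem_autGroup_iff hR'T).2 (mem_congr hχ hsrc.symm ?_)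
  rintro _ ⟨v, rfl⟩
  have hmem : ((a ⟨φ₀ v, hP₀ ⟨v, rfl⟩⟩ : T) : Ω) ∈
      (φ₀.range.subgroupOf T).map (T.subtype.comp a.toMonoidHom) := ⟨_, ⟨v, rfl⟩, rfl⟩
  have hxm : ∀ w : φ₀.range,
      (φ₀.range.subtype.comp (MulAut.congr (homEquiv hφ₀ rfl) x).toMonoidHom) w ∈ T := fun w =>
    hP₀ (MulAut.congr (homEquiv hφ₀ rfl) x w).2
  have h1 := hχe ⟨φ₀ v, ⟨v, rfl⟩⟩ (hxm _) hmem
  have h2 : (MulAut.congr (homEquiv hφ₀ rfl) x) ⟨φ₀ v, ⟨v, rfl⟩⟩ = homEquiv hφ₀ rfl (x v) := by
    rw [show (⟨φ₀ v, ⟨v, rfl⟩⟩ : φ₀.range) = homEquiv hφ₀ rfl v from Subtype.ext rfl, congr_apply]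
  show (((MulAut.congr (homEquiv hφ rfl) x) ⟨φ v, v, rfl⟩ : φ.range) : Ω) = _
  rw [show (⟨φ v, hsrc.ge ⟨v, rfl⟩⟩ :
      ↥((φ₀.range.subgroupOf T).map (T.subtype.comp a.toMonoidHom))) = ⟨_, hmem⟩ from
    Subtype.ext (hdec' v), h1,
    show (⟨φ v, v, rfl⟩ : φ.range) = homEquiv hφ rfl v from Subtype.ext rfl, congr_apply]
  show φ (x v) = _
  rw [hdec']
  congr 2
  exact Subtype.ext (congrArg Subtype.val h2).symm

/-- The image of an `E`-centric subgroup is `E`-centric. -/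
theorem isCentric_map (hE : E.IsWeaklyNormalIn F p) {R R' : Subgroup Ω} (hR : E.IsCentric R)
    {φ : R →* Ω} (hφ : φ ∈ F.Hom R) (hr : φ.range = R') : E.IsCentric R' :=
  hr ▸ (SameBase.relData_top hE).isCentric_image hR hφ

/-- A subgroup of `T` fully normalized in `F` is fully normalized in `E`. -/
theorem isFullyNormalized_sub (hS : IsPGroup p S) (hF : F.IsSaturated p)
    (hsub : E.IsSubsystemOf F) (hT : F.StronglyClosed T) {R : Subgroup Ω} (hRT : R ≤ T)
    (hR : F.IsFullyNormalized R) : E.IsFullyNormalized R := by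
  refine ⟨hRT, fun R₁ h => ?_⟩
  obtain ⟨φ, hφ, hφr⟩ := h
  obtain ⟨χ, hχ, hχN, -⟩ :=
    exists_hom_fullyNormalized hS hF hR (isConj_symm ⟨φ, hsub R hφ, hφr⟩)
  have hle : normalizerIn T R₁ ≤ normalizerIn S R₁ := inf_le_inf_right _ hT.1
  have := finite_of_le (Ω := Ω) ((normalizerIn_le T R).trans hT.1)
  refine Nat.card_le_card_of_injective (fun g =>
    (⟨χ (Subgroup.inclusion hle g), apply_mem_closed hT hχ _ g.2.1, (hχN _).2⟩ :
      normalizerIn T R)) fun a b h => ?_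
  exact Subgroup.inclusion_injective hle (F.injective_of_mem hχ (congrArg Subtype.val h))

/-- An automorphism of `N` fixing `R` pointwise, `N ≤ N(R)` in `T` and `C_T(R) ≤ R`, moves `N`
inside `R`. -/
theorem inv_mul_mem_of_fixes {R N : Subgroup Ω} (hNT : N ≤ T) (hRN : R ≤ N)
    (hNn : N ≤ Subgroup.normalizer (R : Set Ω)) (hc : centralizerIn T R ≤ R) {κ : MulAut N}
    (hfix : ∀ x : N, (x : Ω) ∈ R → κ x = x) (g : N) : ((g⁻¹ * κ g : N) : Ω) ∈ R := by
  refine hc ⟨hNT (g⁻¹ * κ g).2, Subgroup.mem_centralizer_iff.2 fun r hr => ?_⟩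
  have hr' : (g : Ω) * r * (g : Ω)⁻¹ ∈ R := (Subgroup.mem_normalizer_iff.1 (hNn g.2) r).1 hr
  have e1 := hfix (g * ⟨r, hRN hr⟩ * g⁻¹) hr'
  rw [map_mul, map_mul, map_inv, hfix ⟨r, hRN hr⟩ hr] at e1
  have e3 := congrArg Subtype.val e1
  simp only [Subgroup.coe_mul, Subgroup.coe_inv] at e3
  show r * ((g : Ω)⁻¹ * ((κ g : N) : Ω)) = (g : Ω)⁻¹ * ((κ g : N) : Ω) * r
  calc r * ((g : Ω)⁻¹ * ((κ g : N) : Ω))
      = (g : Ω)⁻¹ * ((g : Ω) * r * (g : Ω)⁻¹) * ((κ g : N) : Ω) := by group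
    _ = (g : Ω)⁻¹ * ((κ g : Ω) * r * (κ g : Ω)⁻¹) * ((κ g : N) : Ω) := by rw [e3]
    _ = (g : Ω)⁻¹ * ((κ g : N) : Ω) * r := by group

/-- Membership in `bExt` comes back along a map defined on `R C_S(R)`. -/
theorem bExt_of_map {R R' X : Subgroup Ω} (hR : F.IsFullyCentralized R)
    (hR' : F.IsFullyCentralized R') {ω : X →* Ω} (hω : ω ∈ F.Hom X) (hX : rc S R ≤ X)
    (hr : (ω.comp (Subgroup.inclusion (le_sup_left.trans hX : R ≤ X))).range = R') {α : MulAut R}
    (hb : MulAut.congr (homEquiv (restrict_mem hω (le_sup_left.trans hX : R ≤ X)) hr) α ∈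
      bExt F R') : α ∈ bExt F R := by
  set e := homEquiv (restrict_mem hω (le_sup_left.trans hX : R ≤ X)) hr with he
  set ω₁ := ω.comp (Subgroup.inclusion hX) with hω₁
  have hω₁F : ω₁ ∈ F.Hom (rc S R) := restrict_mem hω hX
  have hC : ∀ c : ↥(rc S R), (c : Ω) ∈ centralizerIn S R → ω₁ c ∈ centralizerIn S R' := by
    intro c hc
    refine mem_centralizerIn.2 ⟨apply_mem hω₁F c, fun y hy => ?_⟩
    obtain ⟨r, rfl⟩ := hr.ge hy
    show ω₁ (Subgroup.inclusion le_sup_left r) * ω₁ c = ω₁ c * ω₁ (Subgroup.inclusion le_sup_left r)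
    rw [← map_mul, ← map_mul]
    exact congrArg ω₁ (Subtype.ext ((mem_centralizerIn.1 hc).2 r r.2))
  have := finite_of_le (Ω := Ω) (centralizerIn_le S R)
  have := finite_of_le (Ω := Ω) (centralizerIn_le S R')
  have hCeq : ((centralizerIn S R).subgroupOf (rc S R)).map ω₁ = centralizerIn S R' := by
    refine Subgroup.eq_of_le_of_card_ge ?_ ?_
    · rintro _ ⟨c, hc, rfl⟩
      exact hC c hc
    · rw [Subgroup.card_map_of_injective (F.injective_of_mem hω₁F),
        Nat.card_congr (Subgroup.subgroupOfEquivOfLe le_sup_right).toEquiv]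
      exact hR.2 _ ⟨_, restrict_mem hω (le_sup_left.trans hX), hr⟩
  have hr₁ : ω₁.range = rc S R' := by
    refine (range_sup_eq (φ := ω₁.comp (Subgroup.inclusion le_sup_left)) (fun x => rfl) hCeq).trans ?_
    rw [show (ω₁.comp (Subgroup.inclusion le_sup_left)).range = R' from hr]
  set E₁ := homEquiv hω₁F hr₁ with hE₁
  obtain ⟨γ', hγ', hγ'R, hγ'C⟩ := hb
  have hγ : MulAut.congr E₁.symm γ' ∈ F.autGroup (rc S R) := by
    obtain ⟨ρ, hρ, hρr, hρi, -⟩ := exists_inverse hω₁F hr₁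
    have h1 := congr_mem_autGroup hρ hρr hγ'
    have h2 : homEquiv hρ hρr = E₁.symm := MulEquiv.ext fun y => by
      obtain ⟨x, rfl⟩ := E₁.surjective y
      rw [MulEquiv.symm_apply_apply]
      exact Subtype.ext (hρi x (E₁ x).2)
    rwa [h2] at h1
  have hγe : ∀ x, E₁ (MulAut.congr E₁.symm γ' x) = γ' (E₁ x) := fun x => E₁.apply_symm_apply _
  refine ⟨_, hγ, fun x => E₁.injective ?_, fun c hc => ?_⟩
  · rw [hγe, show E₁ (Subgroup.inclusion le_sup_left x) = Subgroup.inclusion le_sup_left (e x) from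
      Subtype.ext rfl, hγ'R, congr_apply]
    exact Subtype.ext rfl
  · have h1 := hγ'C (E₁ c) (hC c hc)
    rw [← hγe, ← Subgroup.coe_inv, ← map_inv, ← Subgroup.coe_mul, ← map_mul] at h1
    obtain ⟨r, hr₂⟩ := hr.ge h1
    have h2 : c⁻¹ * MulAut.congr E₁.symm γ' c = Subgroup.inclusion le_sup_left r :=
      E₁.injective (Subtype.ext hr₂.symm)
    exact Set.mem_of_eq_of_mem (congrArg Subtype.val h2) r.2

/-- Elements of `N_S(A)` normalize `C_S(A)`. -/
theorem mem_normalizer_centralizerIn {A : Subgroup Ω} {g : Ω} (hgS : g ∈ S)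
    (hg : g ∈ Subgroup.normalizer (A : Set Ω)) :
    g ∈ Subgroup.normalizer (centralizerIn S A : Set Ω) := by
  refine Subgroup.mem_normalizer_iff.2 fun c => ?_
  refine and_congr ⟨fun h => S.mul_mem (S.mul_mem hgS h) (S.inv_mem hgS), fun h => ?_⟩
    ⟨fun h z hz => ?_, fun h z hz => ?_⟩
  · simpa [mul_assoc] using S.mul_mem (S.mul_mem (S.inv_mem hgS) h) hgS
  · have h1 := h _ ((Subgroup.mem_normalizer_iff''.1 hg z).1 hz)
    calc z * (g * c * g⁻¹) = g * ((g⁻¹ * z * g) * c) * g⁻¹ := by group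
      _ = g * (c * (g⁻¹ * z * g)) * g⁻¹ := by rw [h1]
      _ = _ := by group
  · have h1 := h _ ((Subgroup.mem_normalizer_iff.1 hg z).1 hz)
    calc z * c = g⁻¹ * ((g * z * g⁻¹) * (g * c * g⁻¹)) * g := by group
      _ = g⁻¹ * ((g * c * g⁻¹) * (g * z * g⁻¹)) * g := by rw [h1]
      _ = _ := by group

/-- The inductive step: the extension condition passes from `N = N_T(R)` to `R`. -/
theorem bExt_step (hS : IsPGroup p S) (hE : E.IsNormalIn F p) {R N : Subgroup Ω}
    (hRc : E.IsCentric R) (hRn : F.IsFullyNormalized R) (hNdef : N = normalizerIn T R)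
    (hYn : F.IsFullyNormalized (rc S N)) (hN : E.autGroup N ≤ bExt F N)
    {α : MulAut R} (hcop : (orderOf α).Coprime p) {ψ : MulAut N} (hψ : ψ ∈ E.autGroup N)
    (hψR : ∀ (r : R) (h : (r : Ω) ∈ N), ((ψ ⟨r, h⟩ : N) : Ω) = α r) : α ∈ bExt F R := by
  obtain ⟨⟨hEs, hF, hEi⟩, -⟩ := hE
  have hT : F.StronglyClosed T := hEi.2.1
  have hTS := hT.1
  have hTn := le_normalizer_of_stronglyClosed hT
  have hRT : R ≤ T := hRc.1
  have hRS : R ≤ S := hRT.trans hTS
  have hcen : centralizerIn T R ≤ R := hRc.2 R (isConj_refl E hRT)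
  have := finite_of_le (Ω := Ω) hTS
  have hTp : IsPGroup p T := hS.to_le hTS
  have hNT : N ≤ T := hNdef ▸ normalizerIn_le T R
  have hRN : R ≤ N := hNdef ▸ le_normalizerIn hRT
  have hNn : N ≤ Subgroup.normalizer (R : Set Ω) := hNdef ▸ inf_le_right
  have hNS : N ≤ S := hNT.trans hTS
  set Y := rc S N with hY
  have hYS : Y ≤ S := sup_le hNS (centralizerIn_le S N)
  have hCNR : centralizerIn S N ≤ centralizerIn S R := centralizerIn_anti hRN
  have hTY : T ⊓ Y = N := by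
    refine le_antisymm ?_ (le_inf hNT le_sup_left)
    rintro x ⟨hxT, hxY⟩
    have hY' : Y = N ⊔ centralizerIn S N := rfl
    have hx1 : x ∈ ((N ⊔ centralizerIn S N : Subgroup Ω) : Set Ω) := hxY
    rw [Subgroup.coe_mul_of_left_le_normalizer_right N _ ?_] at hx1
    · obtain ⟨n, hn, c, hc, rfl⟩ := hx1
      have hcT : c ∈ T := by
        simpa using T.mul_mem (T.inv_mem (hNT hn)) hxT
      exact N.mul_mem hn (hRN (hcen ⟨hcT, (hCNR hc).2⟩))
    · exact fun n hn => mem_normalizer_centralizerIn (hNS hn) (Subgroup.le_normalizer hn)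
  obtain ⟨k, γ, hγ, hγord, hγN, hγC⟩ := exists_coprime_ext (p := p) hNS (hN hψ)
  have hψ₁ : ψ ^ p ^ k ∈ E.autGroup N := pow_mem hψ _
  -- every element of `C_S(R)` normalizes `N` and `Y`
  have hdN : ∀ d ∈ centralizerIn S R, d ∈ Subgroup.normalizer (N : Set Ω) := by
    intro d hd
    rw [hNdef]
    refine Subgroup.mem_normalizer_iff.2 fun y => and_congr
      (Subgroup.mem_normalizer_iff.1 (hTn hd.1) y) ?_
    exact Subgroup.mem_normalizer_iff.1 (Subgroup.le_normalizer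
      (centralizerIn_le_normalizerIn S R hd).2) y
  have hdY : ∀ d ∈ centralizerIn S R, d ∈ Subgroup.normalizer (Y : Set Ω) := fun d hd =>
    KNorm.normalizer_inf_normalizer_le_normalizer_sup
      ⟨hdN d hd, mem_normalizer_centralizerIn hd.1 (hdN d hd)⟩
  -- commutators of maps of `E` on `N` with `C_S(R)`
  have hX : ∀ χ ∈ E.autGroup N, (∀ r : N, (r : Ω) ∈ R → ((χ r : N) : Ω) ∈ R) →
      (∀ r : N, (r : Ω) ∈ R → ((χ⁻¹ r : N) : Ω) ∈ R) →
      ∀ d (hd : d ∈ centralizerIn S R), ∃ z ∈ R, z ∈ centralizerIn S R ∧ ∀ y : N,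
        ((χ (conjAut (hdN d hd) (χ⁻¹ ((conjAut (hdN d hd))⁻¹ y))) : N) : Ω) = z * y * z⁻¹ := by
    intro χ hχ hχR hχR' d hd
    set δ := conjAut (hdN d hd) with hδ
    have hδF : δ ∈ F.autGroup N :=
      autInducedBy_le_autGroup F hNS (conjAut_mem_autInducedBy hd.1 _)
    have hδR : ∀ r : N, (r : Ω) ∈ R → δ r = r := fun r hr => Subtype.ext (by
      show d * (r : Ω) * d⁻¹ = r
      rw [← (mem_centralizerIn.1 hd).2 _ hr, mul_inv_cancel_right])
    have hXE : χ * (δ * χ⁻¹ * δ⁻¹) ∈ E.autGroup N :=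
      mul_mem hχ (conj_mem_autGroup_of_invariant hEi hNT hδF (inv_mem hχ))
    have hfix : ∀ r : N, (r : Ω) ∈ R → (χ * (δ * χ⁻¹ * δ⁻¹)) r = r := by
      intro r hr
      have h1 : δ⁻¹ r = r := by
        conv_lhs => rw [← hδR r hr]
        exact MulAut.inv_apply_self _ _ _
      rw [MulAut.mul_apply, MulAut.mul_apply, MulAut.mul_apply, h1, hδR _ (hχR' r hr),
        MulAut.apply_inv_self]
    obtain ⟨z, hzR, hzC, hz⟩ := exists_conj_of_agree hTp hEs hRN hRc (subtype_mem E hNT)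
      ((mem_autGroup_iff hNT).1 hXE) (fun x hx => (congrArg Subtype.val (hfix x hx)).symm)
    exact ⟨z, hzR, ⟨hRS hzR, hzC⟩, fun y => hz y⟩
  have hγNpres : ∀ (g : MulAut Y), g ∈ F.autGroup Y → ∀ y : Y, (y : Ω) ∈ N → ((g y : Y) : Ω) ∈ N :=
    fun g hg y hy => hTY.le ⟨apply_mem_of_stronglyClosed hT hYS hg (hNT hy), (g y).2⟩
  have hY1 : Y ≤ N ⊔ centralizerIn S N := le_rfl
  -- the automorphisms of `Y` trivial on `N` and modulo `N` are induced by `S`
  have hO : fixingTranslations F Y N ≤ autInducedBy S Y := by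
    intro β hβ
    refine map_pCore_le_autInducedBy (isFullyAutomized_of_fullyNormalized hS hF hYn) ?_
    set O := (fixingTranslations F Y N).subgroupOf (F.autGroup Y) with hOdef
    have : O.Normal := ⟨fun b hb y => mem_fixingTranslations_conj y.2 (hγNpres _ y.2)
      (hγNpres _ (inv_mem y.2)) hb⟩
    have hOp : IsPGroup p O := (isPGroup_fixingTranslations hS hYS).comap_of_injective
      (F.autGroup Y).subtype (Subgroup.subtype_injective _)
    exact ⟨⟨β, hβ.1⟩, PCore.le_pCore hOp hβ, rfl⟩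
  have hψ₁R : ∀ n : ℕ, ∀ r : N, (r : Ω) ∈ R → (((ψ ^ n) r : N) : Ω) ∈ R := by
    intro n
    induction n with
    | zero => exact fun r hr => hr
    | succ n ih =>
      intro r hr
      have h1 := ih r hr
      rw [pow_succ', MulAut.mul_apply,
        show ((ψ ^ n) r) = ⟨((⟨_, h1⟩ : R) : Ω), hRN h1⟩ from rfl, hψR]
      exact (α ⟨_, h1⟩).2
  have := finite_mulAut (Ω := Ω) hNS
  have hinvpow : ∀ χ : MulAut N, χ ∈ Subgroup.zpowers ψ → ∀ r : N, (r : Ω) ∈ R →
      ((χ r : N) : Ω) ∈ R := by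
    intro χ hχ r hr
    obtain ⟨n, hn⟩ := mem_powers_iff_mem_zpowers.2 hχ
    rw [← hn]
    exact hψ₁R n r hr
  -- `γ` extends to `Y C_S(R)`
  obtain ⟨hγφ, hγr⟩ := hom_of_mem_autGroup hYS hγ
  have hext : Y ⊔ centralizerIn S R ≤ extender S Y (Y.subtype.comp γ.toMonoidHom) := by
    refine sup_le (le_extender hYS fun x => apply_mem hγφ x) fun d hd => ?_
    refine (mem_extender_iff_congr hγφ hγr).2 ⟨hd.1, hdY d hd, ?_⟩
    set δ := conjAut (hdY d hd) with hδ
    have hδF : δ ∈ F.autGroup Y :=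
      autInducedBy_le_autGroup F hYS (conjAut_mem_autInducedBy hd.1 _)
    rw [show MulAut.congr (homEquiv hγφ hγr) δ = γ * δ * γ⁻¹ from MulEquiv.ext fun y => by
      obtain ⟨x, rfl⟩ := (homEquiv hγφ hγr).surjective y
      rw [congr_apply, show homEquiv hγφ hγr x = γ x from Subtype.ext rfl,
        show homEquiv hγφ hγr (δ x) = γ (δ x) from Subtype.ext rfl, MulAut.mul_apply,
        MulAut.mul_apply, MulAut.inv_apply_self]]
    obtain ⟨z, hzR, hzC, hz⟩ := hX _ hψ₁
      (hinvpow _ (Subgroup.pow_mem _ (Subgroup.mem_zpowers ψ) _))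
      (hinvpow _ (inv_mem (Subgroup.pow_mem _ (Subgroup.mem_zpowers ψ) _))) d hd
    set ζ : MulAut Y := MulAut.conj (⟨z, Subgroup.mem_sup_left (hRN hzR)⟩ : Y) with hζ
    have hζS : ζ ∈ autInducedBy S Y :=
      mem_autInducedBy_iff.2 ⟨z, hzC.1, fun y => rfl⟩
    have hζF := autInducedBy_le_autGroup F hYS hζS
    suffices h : ζ⁻¹ * (γ * δ * γ⁻¹ * δ⁻¹) ∈ fixingTranslations F Y N by
      have h1 := mul_mem (mul_mem hζS (hO h)) (conjAut_mem_autInducedBy hd.1 (hdY d hd))
      rwa [mul_inv_cancel_left, inv_mul_cancel_right] at h1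
    have hχF : γ * δ * γ⁻¹ * δ⁻¹ ∈ F.autGroup Y :=
      mul_mem (mul_mem (mul_mem hγ hδF) (inv_mem hγ)) (inv_mem hδF)
    refine ⟨mul_mem (inv_mem hζF) hχF, fun y hy => ?_, fun y => ?_⟩
    · -- on `N`
      have hincl : ∀ w : N, γ (Subgroup.inclusion le_sup_left w) =
          Subgroup.inclusion le_sup_left ((ψ ^ p ^ k) w) := hγN
      have hincl' : ∀ w : N, γ⁻¹ (Subgroup.inclusion le_sup_left w) =
          Subgroup.inclusion le_sup_left ((ψ ^ p ^ k)⁻¹ w) := by
        intro w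
        conv_lhs => rw [← MulAut.apply_inv_self _ (ψ ^ p ^ k) w, ← hincl]
        exact MulAut.inv_apply_self _ _ _
      set w : N := ⟨y, hy⟩ with hw
      have hδi : ∀ v : N, δ (Subgroup.inclusion le_sup_left v) =
          Subgroup.inclusion le_sup_left (conjAut (hdN d hd) v) := fun v => Subtype.ext rfl
      have hδi' : δ⁻¹ (Subgroup.inclusion le_sup_left w) =
          Subgroup.inclusion le_sup_left ((conjAut (hdN d hd))⁻¹ w) := by
        conv_lhs => rw [← MulAut.apply_inv_self _ (conjAut (hdN d hd)) w, ← hδi]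
        exact MulAut.inv_apply_self _ _ _
      rw [show y = Subgroup.inclusion le_sup_left w from Subtype.ext rfl, MulAut.mul_apply,
        MulAut.mul_apply, MulAut.mul_apply, MulAut.mul_apply, hδi', hincl', hδi, hincl]
      refine ζ.injective ?_
      rw [MulAut.apply_inv_self]
      exact Subtype.ext (hz w)
    · -- modulo `N`
      have hmod : (⟨_, hζF⟩ : F.autGroup Y)⁻¹ * ((⟨γ, hγ⟩ : F.autGroup Y) * (⟨δ, hδF⟩ *
          (⟨γ, hγ⟩ : F.autGroup Y)⁻¹ * (⟨δ, hδF⟩ : F.autGroup Y)⁻¹)) ∈ modKernel F hT hYS := by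
        have hγm : (⟨γ, hγ⟩ : F.autGroup Y) ∈ modKernel F hT hYS := by
          intro y
          have hgen : ∀ y : ↥(N ⊔ centralizerIn S N), (y : Ω)⁻¹ * ((γ y : Y) : Ω) ∈ T := by
            rintro ⟨x, hx⟩
            have hxm : x ∈ ((N ⊔ centralizerIn S N : Subgroup Ω) : Set Ω) := hx
            rw [sup_comm, Subgroup.coe_mul_of_left_le_normalizer_right _ N ?_] at hxm
            · obtain ⟨c, hc, n, hn, rfl⟩ := hxm
              have hc' := hγC ⟨c, Subgroup.mem_sup_right hc⟩ hc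
              rw [show (⟨c * n, hx⟩ : Y) = ⟨c, Subgroup.mem_sup_right hc⟩ *
                ⟨n, Subgroup.mem_sup_left hn⟩ from rfl, map_mul, Subgroup.coe_mul, mul_inv_rev]
              have h2 : ((γ ⟨n, Subgroup.mem_sup_left hn⟩ : Y) : Ω) ∈ T :=
                hNT (hγNpres γ hγ _ hn)
              have h3 := T.mul_mem (T.mul_mem (T.inv_mem (hNT hn)) (hNT hc')) h2
              simpa [mul_assoc] using h3
            · intro c hc
              refine Subgroup.mem_normalizer_iff.2 fun n => ⟨fun hn => ?_, fun hn => ?_⟩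
              · rw [← (mem_centralizerIn.1 hc).2 n hn, mul_inv_cancel_right]
                exact hn
              · have h1 : c * n * c⁻¹ = c * (c⁻¹ * (c * n * c⁻¹) * c) * c⁻¹ := by group
                have h2 := (mem_centralizerIn.1 ((centralizerIn S N).inv_mem hc)).2 _ hn
                have h3 : n = c * n * c⁻¹ := by
                  calc n = c⁻¹ * (c * n * c⁻¹) * c := by group
                    _ = _ := by rw [← h2, inv_mul_cancel_right]
                rw [h3]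
                exact hn
          exact hgen y
        have hn := modKernel_normal hT hYS
        refine mul_mem (inv_mem ?_) (mul_mem hγm (hn.conj_mem _ (inv_mem hγm) _))
        intro y
        show (y : Ω)⁻¹ * (z * y * z⁻¹) ∈ T
        exact T.mul_mem ((Subgroup.mem_normalizer_iff''.1 (hTn (hYS y.2)) z).1 (hRT hzR))
          (T.inv_mem (hRT hzR)) |> fun h => by simpa [mul_assoc] using h
      have h1 := hmod y
      rw [Subgroup.coe_mul, Subgroup.coe_mul, Subgroup.coe_mul, Subgroup.coe_mul, Subgroup.coe_inv,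
        Subgroup.coe_inv, Subgroup.coe_inv] at h1
      refine hTY.le ⟨?_, (_ : Y).2⟩
      show (y : Ω)⁻¹ * ((ζ⁻¹ * (γ * δ * γ⁻¹ * δ⁻¹)) y : Y) ∈ T
      simpa [mul_assoc] using h1
  -- the extension as an automorphism `Φ` of `D = Y C_S(R)`
  set D := Y ⊔ centralizerIn S R with hD
  obtain ⟨φ₀, hφ₀, hφ₀e⟩ := exists_extension (isReceptive_of_fullyNormalized hS hF hYn) hγφ hγr hext
  have hDS : D ≤ S := sup_le hYS (centralizerIn_le S R)
  have hYD : Y ≤ D := le_sup_left
  have hCD : centralizerIn S R ≤ D := le_sup_right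
  have hRY : R ≤ Y := hRN.trans le_sup_left
  have hφR : ∀ x : D, (x : Ω) ∈ R → φ₀ x ∈ R := by
    intro x hx
    rw [show x = ⟨(x : Ω), hYD (hRY hx)⟩ from rfl, hφ₀e x (hRY hx) _]
    show ((γ (Subgroup.inclusion le_sup_left (⟨(x : Ω), hRN hx⟩ : N)) : Y) : Ω) ∈ R
    rw [hγN]
    exact hψ₁R _ _ hx
  have hφC : ∀ c : D, (c : Ω) ∈ centralizerIn S R → φ₀ c ∈ centralizerIn S R := fun c hc =>
    map_centralizerIn (hRY.trans hYD) hφ₀ hφR c hc
  have hφD : ∀ x, φ₀ x ∈ D := forall_sup_mem φ₀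
    (fun y => by rw [show Subgroup.inclusion le_sup_left y = ⟨(y : Ω), hYD y.2⟩ from rfl,
      hφ₀e y y.2 _]; exact hYD (γ _).2)
    (fun c => hCD (hφC _ c.2))
  set Φ₀ := toAut hφ₀ (range_eq_of_le hφ₀ hDS hφD le_rfl) with hΦ₀
  have := finite_mulAut (Ω := Ω) hDS
  obtain ⟨a, m, hm, hordΦ⟩ := Nat.exists_eq_pow_mul_and_not_dvd (orderOf_pos Φ₀).ne' p
    (Fact.out : p.Prime).ne_one
  set Φ := Φ₀ ^ p ^ a with hΦ
  have hΦF : Φ ∈ F.autGroup D := pow_mem (toAut_mem hφ₀ _) _
  have hΦord : (orderOf Φ).Coprime p := Nat.Coprime.coprime_dvd_left (k := m)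
    (orderOf_dvd_of_pow_eq_one (by rw [← pow_mul, ← hordΦ, pow_orderOf_eq_one]))
    ((Fact.out : p.Prime).coprime_iff_not_dvd.2 hm).symm
  set γ' := γ ^ p ^ a with hγ'
  set ψ' := (ψ ^ p ^ k) ^ p ^ a with hψ'
  have hγΦ : ∀ (n : ℕ) (y : Y), ((Φ₀ ^ n) (Subgroup.inclusion hYD y)) =
      Subgroup.inclusion hYD ((γ ^ n) y) := by
    intro n
    induction n with
    | zero => exact fun y => rfl
    | succ n ih =>
      intro y
      rw [pow_succ', MulAut.mul_apply, ih, pow_succ', MulAut.mul_apply]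
      exact Subtype.ext (hφ₀e _ ((γ ^ n) y).2 _)
  have hγψ : ∀ (n : ℕ) (w : N), (γ ^ n) (Subgroup.inclusion le_sup_left w) =
      Subgroup.inclusion le_sup_left (((ψ ^ p ^ k) ^ n) w) := by
    intro n
    induction n with
    | zero => exact fun w => rfl
    | succ n ih =>
      intro w
      rw [pow_succ', MulAut.mul_apply, ih, hγN, ← MulAut.mul_apply, ← pow_succ']
  have hΦN : ∀ w : N, Φ (Subgroup.inclusion (le_sup_left.trans hYD : N ≤ D) w) =
      Subgroup.inclusion (le_sup_left.trans hYD : N ≤ D) (ψ' w) := fun w =>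
    (hγΦ _ (Subgroup.inclusion le_sup_left w)).trans (Subtype.ext (congrArg Subtype.val (hγψ _ w) :))
  -- `Φ` is trivial on `C_S(N)` modulo `R`
  have hΦC : ∀ c : D, (c : Ω) ∈ centralizerIn S N → (c : Ω)⁻¹ * ((Φ c : D) : Ω) ∈ R := by
    intro c hc
    have hγ'b : ∀ n : ℕ, ∀ e : Y, (e : Ω) ∈ centralizerIn S N →
        (e : Ω)⁻¹ * (((γ ^ n) e : Y) : Ω) ∈ N := by
      intro n
      induction n with
      | zero => exact fun e _ => by simp
      | succ n ih =>
        intro e he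
        have h1 := ih e he
        have he' : (γ ^ n) e = e * Subgroup.inclusion le_sup_left (⟨_, h1⟩ : N) :=
          Subtype.ext (mul_inv_cancel_left _ _).symm
        rw [pow_succ', MulAut.mul_apply, he', map_mul, hγN, Subgroup.coe_mul, ← mul_assoc]
        exact N.mul_mem (hγC e he) (SetLike.coe_mem _)
    have hcY : (c : Ω) ∈ Y := Subgroup.mem_sup_right hc
    have h1 := hγ'b (p ^ a) ⟨c, hcY⟩ hc
    rw [hΦ, show c = Subgroup.inclusion hYD ⟨(c : Ω), hcY⟩ from rfl, hγΦ]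
    refine hcen ⟨hNT h1, ?_⟩
    have hcR : (c : Ω) ∈ centralizerIn S R := hCNR hc
    have h2 : (((γ ^ p ^ a) ⟨c, hcY⟩ : Y) : Ω) ∈ centralizerIn S R := by
      obtain ⟨hb, -⟩ := hom_of_mem_autGroup hDS hΦF
      have h3 := map_centralizerIn (hRY.trans hYD) hb (fun x hx => by
        rw [show x = Subgroup.inclusion (le_sup_left.trans hYD : N ≤ D) ⟨(x : Ω), hRN hx⟩ from rfl]
        show ((Φ _ : D) : Ω) ∈ R
        rw [hΦN]
        exact hψ₁R (p ^ k * p ^ a) _ hx |> fun h => by rw [hψ', ← pow_mul]; exact h) c hcR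
      have h4 : (Φ c : D) = Subgroup.inclusion hYD ((γ ^ p ^ a) ⟨c, hcY⟩) := hγΦ _ ⟨c, hcY⟩
      rw [show ((D.subtype.comp Φ.toMonoidHom) c : Ω) = ((Φ c : D) : Ω) from rfl, h4] at h3
      exact h3
    exact (Subgroup.centralizer (R : Set Ω)).mul_mem (Subgroup.inv_mem _ hcR.2) h2.2
  -- `Φ` moves `C_S(R)` inside `R`
  have hψ'E : ψ' ∈ E.autGroup N := pow_mem hψ₁ _
  have hψ'z : ψ' ∈ Subgroup.zpowers ψ :=
    Subgroup.pow_mem _ (Subgroup.pow_mem _ (Subgroup.mem_zpowers ψ) _) _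
  have hΦRC : ∀ d : D, (d : Ω) ∈ centralizerIn S R → (d : Ω)⁻¹ * ((Φ d : D) : Ω) ∈ R := by
    intro d hd
    obtain ⟨hb, -⟩ := hom_of_mem_autGroup hDS hΦF
    obtain ⟨z, hzR, hzC, hz⟩ := hX ψ' hψ'E (hinvpow _ hψ'z) (hinvpow _ (inv_mem hψ'z)) d hd
    set zD : D := ⟨z, hCD hzC⟩ with hzD
    set e : D := d⁻¹ * zD⁻¹ * Φ d with he
    have heN : (e : Ω) ∈ centralizerIn S N := by
      have heS : (e : Ω) ∈ S := hDS e.2
      refine mem_centralizerIn.2 ⟨heS, fun y hy => ?_⟩
      -- conjugation by `Φ d` on `N`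
      set w : N := ψ'⁻¹ ⟨y, hy⟩ with hw
      have h1 : Φ (d * Subgroup.inclusion (le_sup_left.trans hYD : N ≤ D) w * d⁻¹) =
          Φ d * Subgroup.inclusion (le_sup_left.trans hYD : N ≤ D) ⟨y, hy⟩ * (Φ d)⁻¹ := by
        rw [map_mul, map_mul, map_inv, hΦN, hw, MulAut.apply_inv_self]
      have h2 : d * Subgroup.inclusion (le_sup_left.trans hYD : N ≤ D) w * d⁻¹ =
          Subgroup.inclusion (le_sup_left.trans hYD : N ≤ D) (conjAut (hdN d hd) w) :=
        Subtype.ext rfl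
      rw [h2, hΦN] at h1
      have h3 := hz (conjAut (hdN d hd) ⟨y, hy⟩)
      rw [MulAut.inv_apply_self, ← hw] at h3
      have h4 := congrArg (fun v : D => (v : Ω)) h1
      simp only [Subgroup.coe_mul, Subgroup.coe_inv, Subgroup.coe_inclusion] at h4
      rw [h3, coe_conjAut] at h4
      show y * (e : Ω) = (e : Ω) * y
      rw [he]
      simp only [Subgroup.coe_mul, Subgroup.coe_inv, hzD]
      calc y * ((d : Ω)⁻¹ * z⁻¹ * ((Φ d : D) : Ω))
          = (d : Ω)⁻¹ * z⁻¹ * (z * ((d : Ω) * y * (d : Ω)⁻¹) * z⁻¹) * ((Φ d : D) : Ω) := by group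
        _ = (d : Ω)⁻¹ * z⁻¹ * (((Φ d : D) : Ω) * y * (((Φ d : D) : Ω))⁻¹) * ((Φ d : D) : Ω) := by
            rw [h4]
        _ = _ := by group
    set u : D := d⁻¹ * Φ d with hu
    have hzd : zD * d = d * zD := Subtype.ext ((mem_centralizerIn.1 hd).2 z hzR).symm.symm
    have hue : u = zD * e := by
      rw [he, hu]
      have h1 : zD * d⁻¹ * zD⁻¹ = d⁻¹ := by
        calc zD * d⁻¹ * zD⁻¹ = (zD * d * zD⁻¹)⁻¹ := by group
          _ = d⁻¹ := by rw [hzd]; group
      calc d⁻¹ * Φ d = zD * d⁻¹ * zD⁻¹ * Φ d := by rw [h1]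
        _ = _ := by group
    have hφzR : ((Φ zD : D) : Ω) ∈ R := by
      rw [show zD = Subgroup.inclusion (le_sup_left.trans hYD : N ≤ D) ⟨z, hRN hzR⟩ from rfl, hΦN]
      exact hinvpow _ hψ'z _ hzR
    have hur : ((u⁻¹ * Φ u : D) : Ω) ∈ R := by
      rw [hue, map_mul, mul_inv_rev]
      simp only [Subgroup.coe_mul, Subgroup.coe_inv]
      have h1 := hΦC e heN
      have h2 := R.mul_mem (R.inv_mem (show (zD : Ω) ∈ R from hzR)) hφzR
      have heR : (e : Ω) ∈ centralizerIn S R := hCNR heN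
      have h3 := (mem_centralizerIn.1 heR).2 _ h2
      have := R.mul_mem h2 h1
      refine Set.mem_of_eq_of_mem ?_ this
      calc ((e : Ω))⁻¹ * (zD : Ω)⁻¹ * (((Φ zD : D) : Ω) * ((Φ e : D) : Ω))
          = (e : Ω)⁻¹ * (((zD : Ω)⁻¹ * ((Φ zD : D) : Ω)) * (e : Ω)) *
              ((e : Ω)⁻¹ * ((Φ e : D) : Ω)) := by group
        _ = ((zD : Ω)⁻¹ * ((Φ zD : D) : Ω)) * ((e : Ω)⁻¹ * ((Φ e : D) : Ω)) := by rw [h3]; group
    have huC : (u : Ω) ∈ centralizerIn S R :=
      Subgroup.mul_mem _ (Subgroup.inv_mem _ hd) (map_centralizerIn (hRY.trans hYD) hb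
        (fun x hx => by
          rw [show x = Subgroup.inclusion (le_sup_left.trans hYD : N ≤ D) ⟨(x : Ω), hRN hx⟩ from rfl]
          show ((Φ _ : D) : Ω) ∈ R
          rw [hΦN]
          exact hinvpow _ hψ'z _ hx) d hd)
    have hRN' : ∀ r : D, (r : Ω) ∈ R → ((Φ r : D) : Ω) ∈ R := fun r hr => by
      rw [show r = Subgroup.inclusion (le_sup_left.trans hYD : N ≤ D) ⟨(r : Ω), hRN hr⟩ from rfl,
        hΦN]
      exact hinvpow _ hψ'z _ hr
    have hiter : ∀ n : ℕ, ∃ r : D, (r : Ω) ∈ R ∧ (Φ ^ n) d = d * u ^ n * r := by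
      intro n
      induction n with
      | zero => exact ⟨1, R.one_mem, by simp⟩
      | succ n ih =>
        obtain ⟨r, hrR, hr⟩ := ih
        set s := u⁻¹ * Φ u with hs
        have hcomm : Commute u s := Subtype.ext ((mem_centralizerIn.1 huC).2 _ hur).symm
        refine ⟨s ^ n * Φ r, ?_, ?_⟩
        · rw [Subgroup.coe_mul, Subgroup.coe_pow]
          exact R.mul_mem (R.pow_mem hur n) (hRN' r hrR)
        · rw [pow_succ' Φ, MulAut.mul_apply, hr, map_mul, map_mul, map_pow,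
            show Φ u = u * s from (mul_inv_cancel_left _ _).symm,
            show Φ d = d * u from (mul_inv_cancel_left _ _).symm, hcomm.mul_pow]
          rw [pow_succ' u]
          simp only [mul_assoc]
    obtain ⟨r, hrR, hr⟩ := hiter (orderOf Φ)
    rw [pow_orderOf_eq_one, MulAut.one_apply, mul_assoc, left_eq_mul] at hr
    have hun : ((u ^ orderOf Φ : D) : Ω) ∈ R := by
      rw [eq_inv_of_mul_eq_one_left hr, Subgroup.coe_inv]
      exact R.inv_mem hrR
    obtain ⟨j, hj⟩ := hS.to_le hDS u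
    have hco : (orderOf u).Coprime (orderOf Φ) :=
      ((hΦord.pow_right j).symm).coprime_dvd_left (orderOf_dvd_of_pow_eq_one hj)
    have hmem : u ∈ Subgroup.zpowers (u ^ orderOf Φ) := mem_zpowers_pow_iff.2 hco.symm
    exact Subgroup.zpowers_le.2 (show u ^ orderOf Φ ∈ R.subgroupOf D from hun) hmem
  -- restrict to `R C_S(R)`
  have hQD : rc S R ≤ D := sup_le (hRY.trans hYD) hCD
  have hQpres : ∀ x, (D.subtype.comp Φ.toMonoidHom).comp (Subgroup.inclusion hQD) x ∈ rc S R := by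
    refine forall_sup_mem _ (fun r => Subgroup.mem_sup_left ?_) fun c => ?_
    · show ((Φ (Subgroup.inclusion (le_sup_left.trans hYD : N ≤ D) ⟨r, hRN r.2⟩) : D) : Ω) ∈ R
      rw [hΦN]
      exact hinvpow _ hψ'z _ r.2
    · have h1 := hΦRC (Subgroup.inclusion hCD c) c.2
      show ((Φ (Subgroup.inclusion hCD c) : D) : Ω) ∈ _
      have h2 := (rc S R).mul_mem (Subgroup.mem_sup_right c.2) (Subgroup.mem_sup_left h1)
      rwa [Subgroup.coe_inclusion, mul_inv_cancel_left] at h2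
  have hΦQ := restrict_mem ((mem_autGroup_iff hDS).1 hΦF) hQD
  have hrQ := range_eq_of_le hΦQ (sup_le hRS (centralizerIn_le S R)) hQpres le_rfl
  have hαpow : ∀ (n : ℕ) (r : R), ((ψ ^ n) (Subgroup.inclusion hRN r)) =
      Subgroup.inclusion hRN ((α ^ n) r) := by
    intro n
    induction n with
    | zero => exact fun r => rfl
    | succ n ih =>
      intro r
      rw [pow_succ', MulAut.mul_apply, ih, pow_succ', MulAut.mul_apply]
      exact Subtype.ext (hψR ((α ^ n) r) _)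
  have h1 : α ^ (p ^ k * p ^ a) ∈ bExt F R := by
    refine ⟨toAut hΦQ hrQ, toAut_mem hΦQ hrQ, fun r => Subtype.ext ?_, fun c hc =>
      hΦRC (Subgroup.inclusion hQD c) hc⟩
    show ((Φ (Subgroup.inclusion (le_sup_left.trans hYD : N ≤ D) ⟨r, hRN r.2⟩) : D) : Ω) = _
    rw [hΦN, hψ', ← pow_mul]
    exact congrArg Subtype.val (hαpow _ r)
  refine Subgroup.zpowers_le.2 h1 (mem_zpowers_pow_iff.2 ?_)
  exact (Nat.Coprime.mul_right (hcop.pow_right k) (hcop.pow_right a)).symm

/-- **Aschbacher**: for a normal subsystem every automorphism in `E` of a fully normalized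
`E`-centric `R` extends to `R C_S(R)` moving `C_S(R)` inside `R`. -/
theorem autGroup_le_bExt (hS : IsPGroup p S) (hE : E.IsNormalIn F p) {R : Subgroup Ω}
    (hRc : E.IsCentric R) (hRn : F.IsFullyNormalized R) : E.autGroup R ≤ bExt F R := by
  have hE' := hE
  obtain ⟨hEw, hext⟩ := hE'
  obtain ⟨hEs, hF, hEi⟩ := id hEw
  have hsub := hEi.1
  have hT : F.StronglyClosed T := hEi.2.1
  have hTS := hT.1
  have hTn := le_normalizer_of_stronglyClosed hT
  have := finite_of_le (Ω := Ω) hTS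
  have hTp : IsPGroup p T := hS.to_le hTS
  induction hd : Nat.card T - Nat.card R using Nat.strong_induction_on generalizing R with
  | _ d IH =>
  have hRT := hRc.1
  have hRS := hRn.1
  by_cases hRT' : R = T
  · subst hRT'
    intro α hα
    obtain ⟨β, hβ, hβR, hβC⟩ := hext α hα
    exact ⟨β, hβ, fun x => Subtype.ext (hβR x), fun c hc => (hβC c hc).1⟩
  have hAE : E.autGroup R ≤ F.autGroup R := autGroup_le_of_subsystem hsub hRT
  have hFC := isFullyCentralized_of_fullyNormalized hS hF hRn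
  have hEn := isFullyNormalized_sub hS hF hsub hT hRT hRn
  have hcen : centralizerIn T R ≤ R := hRc.2 R (isConj_refl E hRT)
  obtain ⟨-, U, hU⟩ := isFullyAutomized_of_fullyNormalized hTp hEs hEn
  have := finite_autGroup (F := E) hRT
  let K : Subgroup (E.autGroup R) := (bExt F R).subgroupOf (E.autGroup R)
  have hKn : K.Normal := ⟨fun k hk a => conj_mem_bExt hS hF hFC (hAE a.2) hk⟩
  have hUK : (U : Subgroup (E.autGroup R)) ≤ K := by
    intro u hu
    rw [hU] at hu
    obtain ⟨t, ht, hut⟩ := mem_autInducedBy_iff.1 (Subgroup.mem_subgroupOf.1 hu)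
    show (u : MulAut R) ∈ bExt F R
    rw [show (u : MulAut R) = conjAut (mem_normalizer_of_aut hut) from
      MulEquiv.ext fun x => Subtype.ext (hut x)]
    exact conjAut_mem_bExt hRS hTS hTn hcen ht _
  -- automorphisms of order prime to `p` normalizing `Aut_T(R)`
  have hkey : ∀ m : E.autGroup R, (orderOf m).Coprime p →
      m ∈ Subgroup.normalizer ((U : Subgroup (E.autGroup R)) : Set (E.autGroup R)) → m ∈ K := by
    intro m hord hm
    obtain ⟨hφm, hφmr⟩ := hom_of_mem_autGroup hRT m.2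
    set N := normalizerIn T R with hN
    have hext' : N ≤ extender T R (R.subtype.comp (m : MulAut R).toMonoidHom) := by
      rintro g ⟨hgT, hgN⟩
      have hc₁ := autInducedBy_le_autGroup E hRT (conjAut_mem_autInducedBy hgT hgN)
      have hcU : (⟨conjAut hgN, hc₁⟩ : E.autGroup R) ∈ (U : Subgroup (E.autGroup R)) := by
        rw [hU]
        exact conjAut_mem_autInducedBy hgT hgN
      have h2 := (Subgroup.mem_normalizer_iff.1 hm _).1 hcU
      rw [hU] at h2
      obtain ⟨h, hhT, hh⟩ := mem_autInducedBy_iff.1 (Subgroup.mem_subgroupOf.1 h2)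
      refine mem_extender_iff.2 ⟨hgT, hgN, h, hhT, fun x hx => ?_⟩
      have h3 := hh ((m : MulAut R) x)
      rw [show ((m * ⟨conjAut hgN, hc₁⟩ * m⁻¹ : E.autGroup R) : MulAut R) ((m : MulAut R) x) =
        (m : MulAut R) (conjAut hgN ((m : MulAut R)⁻¹ ((m : MulAut R) x))) from rfl,
        MulAut.inv_apply_self] at h3
      exact h3
    obtain ⟨ψ, hψ, hψe⟩ :=
      exists_extension (isReceptive_of_fullyNormalized hTp hEs hEn) hφm hφmr hext'
    have hRN : R ≤ N := le_normalizerIn hRT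
    have hψm : (R.subgroupOf N).map ψ = R := (map_subgroupOf_eq_iff hψ hRN).2 fun x hx => by
      rw [hψe x hx _]
      exact ((m : MulAut R) ⟨x, hx⟩).2
    have hψN : ψ.range = N := range_eq_of_le hψ (normalizerIn_le T R)
      (Criterion.mem_normalizerIn_of_map hψ inf_le_right hψm) le_rfl
    set ψa := toAut hψ hψN with hψa
    -- move to fully normalized `N` and `N C_S(N)`
    have hNS : N ≤ S := (normalizerIn_le T R).trans hTS
    obtain ⟨N₁, hNN₁, hN₁⟩ := exists_fullyNormalized F hNS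
    obtain ⟨χ₁, hχ₁, hχ₁N, hχ₁m⟩ := exists_hom_fullyNormalized hS hF hN₁ hNN₁
    have hN₁C := isFullyCentralized_of_fullyNormalized hS hF hN₁
    set Y₁ := rc S N₁ with hY₁
    have hY₁c : F.IsCentric Y₁ := Fusion.isCentric_sup_centralizerIn hN₁C
    obtain ⟨Y₂, hYY₂, hY₂⟩ := exists_fullyNormalized F hY₁c.1
    obtain ⟨χ₂, hχ₂, hχ₂N, hχ₂m⟩ := exists_hom_fullyNormalized hS hF hY₂ hYY₂
    have hRNS : normalizerIn S R ≤ normalizerIn S N := by
      rintro g ⟨hgS, hgN⟩
      refine ⟨hgS, Subgroup.mem_normalizer_iff.2 fun y => and_congr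
        (Subgroup.mem_normalizer_iff.1 (hTn hgS) y) ?_⟩
      exact Subgroup.mem_normalizer_iff.1 (Subgroup.le_normalizer hgN) y
    have hN₁Y : normalizerIn S N₁ ≤ normalizerIn S Y₁ := fun g hg =>
      ⟨hg.1, KNorm.normalizer_inf_normalizer_le_normalizer_sup
        ⟨hg.2, mem_normalizer_centralizerIn hg.1 hg.2⟩⟩
    set ω₁ := χ₁.comp (Subgroup.inclusion hRNS) with hω₁
    have hω₁Y : ∀ g, ω₁ g ∈ normalizerIn S Y₁ := fun g => hN₁Y (hχ₁N _)
    set ω := χ₂.comp (ω₁.codRestrict (normalizerIn S Y₁) hω₁Y) with hω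
    have hωF : ω ∈ F.Hom (normalizerIn S R) :=
      F.comp_mem (restrict_mem hχ₁ hRNS) hχ₂ hω₁Y
    have hRNR : R ≤ normalizerIn S R := le_normalizerIn hRS
    set R₂ := (ω.comp (Subgroup.inclusion hRNR)).range with hR₂
    have hωR : (R.subgroupOf (normalizerIn S R)).map ω = R₂ := by
      rw [hR₂, MonoidHom.range_comp, Subgroup.inclusion_range]
    have hR₂F : F.IsFullyNormalized R₂ := by
      refine ⟨range_le (restrict_mem hωF hRNR), fun Q hQ => (hRn.2 Q (isConj_trans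
        ⟨_, restrict_mem hωF hRNR, rfl⟩ hQ)).trans (card_normalizerIn_le_of_map hωF
          (apply_mem_normalizerIn hRS hωF hωR))⟩
    set N₂ := (N₁.subgroupOf (normalizerIn S Y₁)).map χ₂ with hN₂
    have hN₁S := hN₁.1
    have hN₁le : N₁ ≤ normalizerIn S Y₁ := (le_normalizerIn hN₁S).trans hN₁Y
    have hNle : N ≤ normalizerIn S R := inf_le_inf_right _ hTS
    have hωN : (N.subgroupOf (normalizerIn S R)).map ω = N₂ := by
      ext z
      constructor
      · rintro ⟨g, hg, rfl⟩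
        exact ⟨⟨ω₁ g, hω₁Y g⟩, hχ₁m.le ⟨Subgroup.inclusion hRNS g, hg, rfl⟩, rfl⟩
      · rintro ⟨g, hg, rfl⟩
        obtain ⟨x, hx, hxg⟩ := hχ₁m.ge (Subgroup.mem_subgroupOf.1 hg)
        refine ⟨⟨(x : Ω), hNle hx⟩, hx, congrArg χ₂ (Subtype.ext ?_)⟩
        exact hxg
    have hN₂eq : N₂ = normalizerIn T R₂ := by
      have h2T : normalizerIn T R₂ ≤ normalizerIn S R₂ := inf_le_inf_right _ hTS
      obtain ⟨χ₃, hχ₃, hχ₃N, -⟩ := exists_hom_fullyNormalized hS hF hRn
        (isConj_symm ⟨_, restrict_mem hωF hRNR, rfl⟩ : F.IsConj R₂ R)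
      have := finite_of_le (Ω := Ω) (normalizerIn_le T R₂)
      refine Subgroup.eq_of_le_of_card_ge ?_ ?_
      · rw [← hωN]
        rintro _ ⟨g, hg, rfl⟩
        exact ⟨apply_mem_closed hT hωF g hg.1,
          (apply_mem_normalizerIn hRS hωF hωR g).2⟩
      · rw [← hωN, Subgroup.card_map_of_injective (F.injective_of_mem hωF),
          Nat.card_congr (Subgroup.subgroupOfEquivOfLe hNle).toEquiv]
        have := finite_of_le (Ω := Ω) hNS
        refine Nat.card_le_card_of_injective (fun g =>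
          (⟨χ₃ (Subgroup.inclusion h2T g), apply_mem_closed hT hχ₃ _ g.2.1, (hχ₃N _).2⟩ : N))
          fun a b h => ?_
        exact Subgroup.inclusion_injective h2T (F.injective_of_mem hχ₃ (congrArg Subtype.val h))
    -- `N₂` and `N₂ C_S(N₂)` are fully normalized
    have hN₂S : N₂ ≤ S := hN₂eq ▸ (normalizerIn_le T R₂).trans hTS
    have hconjN : F.IsConj N₁ N₂ := ⟨_, restrict_mem hχ₂ hN₁le, by
      rw [MonoidHom.range_comp, Subgroup.inclusion_range]⟩
    have hN₂F : F.IsFullyNormalized N₂ := by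
      refine ⟨hN₂S, fun Q hQ => (hN₁.2 Q (isConj_trans hconjN hQ)).trans ?_⟩
      have := finite_of_le (Ω := Ω) (normalizerIn_le S N₂)
      have hmem := Criterion.mem_normalizerIn_of_map (restrict_mem hχ₂ hN₁Y)
        (inf_le_right : normalizerIn S N₁ ≤ Subgroup.normalizer (N₁ : Set Ω)) (Q' := N₂) (by
          rw [← Subgroup.map_map]
          congr 1
          ext z
          exact ⟨fun ⟨w, hw, hwz⟩ => hwz ▸ hw, fun hz => ⟨⟨z, le_normalizerIn hN₁S hz⟩, hz, rfl⟩⟩)
      refine Nat.card_le_card_of_injective (fun g => (⟨_, hmem g⟩ : normalizerIn S N₂))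
        fun a b h => ?_
      exact Subgroup.inclusion_injective hN₁Y (F.injective_of_mem hχ₂ (congrArg Subtype.val h))
    have hY₂eq : Y₂ = rc S N₂ := by
      have hC₁le : centralizerIn S N₁ ≤ normalizerIn S Y₁ :=
        (centralizerIn_le_normalizerIn S N₁).trans hN₁Y
      have := finite_of_le (Ω := Ω) (centralizerIn_le S N₂)
      have h2 : ((centralizerIn S N₁).subgroupOf (normalizerIn S Y₁)).map χ₂ =
          centralizerIn S N₂ := by
        refine Subgroup.eq_of_le_of_card_ge ?_ ?_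
        · rintro _ ⟨c, hc, rfl⟩
          refine mem_centralizerIn.2 ⟨apply_mem hχ₂ c, ?_⟩
          rintro _ ⟨n, hn, rfl⟩
          rw [← map_mul, ← map_mul]
          exact congrArg χ₂ (Subtype.ext ((mem_centralizerIn.1 hc).2 _ hn))
        · rw [Subgroup.card_map_of_injective (F.injective_of_mem hχ₂),
            Nat.card_congr (Subgroup.subgroupOfEquivOfLe hC₁le).toEquiv]
          exact hN₁C.2 _ hconjN
      rw [← hχ₂m]
      show ((N₁ ⊔ centralizerIn S N₁).subgroupOf (normalizerIn S Y₁)).map χ₂ = _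
      rw [Subgroup.subgroupOf_sup hN₁le hC₁le, Subgroup.map_sup, h2]
    -- transport the automorphisms
    have hR₂c : E.IsCentric R₂ := isCentric_map hEw hRc (restrict_mem hωF hRNR) rfl
    set e := homEquiv (restrict_mem hωF hRNR) (rfl : _ = R₂) with he
    have hωNr : (ω.comp (Subgroup.inclusion hNle)).range = N₂ := by
      rw [MonoidHom.range_comp, Subgroup.inclusion_range, hωN]
    set eN := homEquiv (restrict_mem hωF hNle) hωNr with heN
    have hψ₂ := congr_mem_E hEi (normalizerIn_le T R) (restrict_mem hωF hNle) hωNr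
      (toAut_mem hψ hψN)
    have hlt : Nat.card R < Nat.card N₂ := by
      rw [← hωN, Subgroup.card_map_of_injective (F.injective_of_mem hωF),
        Nat.card_congr (Subgroup.subgroupOfEquivOfLe hNle).toEquiv]
      exact card_lt_of_lt (normalizerIn_le T R) (lt_normalizerIn hTp (lt_of_le_of_ne hRT hRT'))
    have hN₂T : N₂ ≤ T := hN₂eq ▸ normalizerIn_le T R₂
    have hN₂c : E.IsCentric N₂ := by
      refine isCentric_of_le hR₂c ?_ hN₂T
      rw [hN₂eq]
      exact le_normalizerIn hR₂c.1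
    have hd' : Nat.card T - Nat.card N₂ < d := by
      have h2 : Nat.card N₂ ≤ Nat.card T := card_le_of_le le_rfl hN₂T
      omega
    have hb := bExt_step hS hE hR₂c hR₂F hN₂eq (hY₂eq ▸ hY₂) (IH _ hd' hN₂c hN₂F rfl)
      (α := MulAut.congr e (m : MulAut R))
      (by rw [MulEquiv.orderOf_eq, Subgroup.orderOf_coe]; exact hord) hψ₂ (fun r h => by
        obtain ⟨x, rfl⟩ := e.surjective r
        rw [congr_apply, show (⟨((e x : R₂) : Ω), h⟩ : N₂) = eN (Subgroup.inclusion hRN x) from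
          Subtype.ext rfl, congr_apply]
        exact congrArg ω (Subtype.ext (hψe x x.2 _)))
    exact bExt_of_map hFC (isFullyCentralized_of_fullyNormalized hS hF hR₂F) hωF
      (sup_le hRNR (centralizerIn_le_normalizerIn S R)) rfl hb
  -- conclude
  intro α hα
  have hfr := Sylow.normalizer_sup_eq_top (U.subtype hUK)
  rw [Sylow.coe_subtype, Subgroup.subgroupOf_map_subtype, inf_eq_left.2 hUK] at hfr
  suffices hM : Subgroup.normalizer ((U : Subgroup (E.autGroup R)) : Set (E.autGroup R)) ≤ K by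
    have h1 := hfr.ge (Subgroup.mem_top (⟨α, hα⟩ : E.autGroup R))
    rw [sup_eq_right.2 hM] at h1
    exact h1
  set M := Subgroup.normalizer ((U : Subgroup (E.autGroup R)) : Set (E.autGroup R)) with hMdef
  have htop := Transfer.sylow_sup_pResidual_eq_top (U.subtype (Subgroup.le_normalizer :
    (U : Subgroup (E.autGroup R)) ≤ M))
  suffices h : ((U.subtype (Subgroup.le_normalizer : (U : Subgroup (E.autGroup R)) ≤ M) :
      Subgroup M) ⊔ Cfsg.pResidual p M) ≤ K.comap M.subtype by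
    rw [htop] at h
    exact fun x hx => h (Subgroup.mem_top ⟨x, hx⟩)
  refine sup_le (fun u hu => ?_) ((Subgroup.closure_le _).2 fun b hb =>
    hkey b (by rwa [Subgroup.orderOf_coe]) b.2)
  rw [Sylow.coe_subtype, Subgroup.mem_subgroupOf] at hu
  exact hUK hu

end Cfsg.Agent.Fusion.NormalExtensions
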