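import Cfsg.Agent.S5136
import Cfsg.Agent.S5137
import Cfsg.Agent.S5144
import Cfsg.Agent.Lib.Fusion.Factor
import Cfsg.Agent.Lib.Fusion.Invariant
import Cfsg.Agent.Lib.Fusion.NormalCentralizerClosed
import Cfsg.Agent.Lib.Fusion.NormalExtensions
import Cfsg.Agent.Lib.Fusion.Stabilizer
import Cfsg.Agent.Lib.Fusion.CoreCentralizer
import Cfsg.Agent.Lib.Fusion.NormalCriteria

/-!
The product of two normal subsystems on commuting subgroups (Aschbacher): if `[T₁, T₂] = 1` and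
`T₁ ⊓ T₂` is central in `E₁` and in `E₂`, their central product is normal in `F`.
-/

set_option autoImplicit false
set_option linter.unusedSectionVars false

namespace Cfsg.Agent.Fusion.CentralProductSystem

open Cfsg Cfsg.FusionSystem Cfsg.Agent.Fusion Cfsg.Agent.Fusion.NormalCentralizer

universe u

/-! ### Factor systems modulo a central subgroup -/

section Quot

variable {Λ : Type*} [Group Λ] {Ω' : Type*} [Group Ω'] {U : Subgroup Λ}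

/-- Maps fix the central elements of their sources. -/
theorem apply_center [Finite U] {G : FusionSystem U} {R : Subgroup Λ} {φ : R →* Λ}
    (hφ : φ ∈ G.Hom R) (z : R) (hz : (z : Λ) ∈ G.center) : φ z = z := by
  obtain ⟨ψ, -, h1, h2⟩ := (S5144.result G).2 R φ hφ
  rw [← h1 z]
  exact h2 ⟨z, hz⟩

/-- Automorphisms in the system fix the central elements. -/
theorem aut_apply_center [Finite U] {G : FusionSystem U} {R : Subgroup Λ} (hR : R ≤ U) {α : MulAut R}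
    (hα : α ∈ G.autGroup R) (z : R) (hz : (z : Λ) ∈ G.center) : α z = z :=
  Subtype.ext (apply_center ((mem_autGroup_iff hR).1 hα) z hz)

theorem center_le_preimage [Finite U] {G : FusionSystem U} {θ : U →* Ω'}
    (hker : θ.ker.map U.subtype ≤ G.center) {P' : Subgroup Ω'} {z : U} (hz : θ z = 1) :
    (z : Λ) ∈ preimageAlong θ P' ∧ (z : Λ) ∈ G.center :=
  ⟨mem_preimageAlong.2 ⟨z.2, by rw [hz]; exact one_mem _⟩, hker ⟨z, hz, rfl⟩⟩

theorem induced_injective [Finite U] {G : FusionSystem U} {θ : U →* Ω'}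
    (hker : θ.ker.map U.subtype ≤ G.center) {P' : Subgroup Ω'} (hP' : P' ≤ θ.range)
    {φ : preimageAlong θ P' →* Λ} (hφ : φ ∈ G.Hom _) {φ' : P' →* Ω'}
    (hind : InducedAlong θ φ φ') : Function.Injective φ' := by
  obtain ⟨hP, hφS, hm, hi⟩ := hind
  rw [injective_iff_map_eq_one]
  intro y hy
  obtain ⟨x, hx⟩ := hP' y.2
  have hxP : (x : Λ) ∈ preimageAlong θ P' := mem_preimageAlong.2 ⟨x.2, hx ▸ y.2⟩
  have h1 := hi ⟨x, hxP⟩
  rw [show (⟨θ ⟨(x : Λ), hP hxP⟩, hm ⟨x, hxP⟩⟩ : P') = y from Subtype.ext hx, hy] at h1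
  obtain ⟨hzP, hzc⟩ := center_le_preimage (G := G) hker (P' := P') h1.symm
  have h2 : φ ⟨φ ⟨x, hxP⟩, hzP⟩ = φ ⟨x, hxP⟩ := apply_center hφ _ hzc
  have h3 : φ ⟨x, hxP⟩ = x := congrArg Subtype.val (G.injective_of_mem hφ h2)
  refine Subtype.ext (hx.symm.trans (Eq.trans ?_ h1.symm))
  exact congrArg θ (Subtype.ext h3.symm)

/-- The factor system modulo the central kernel of `θ`. -/
def quotientSystem [Finite U] (G : FusionSystem U) (θ : U →* Ω') {U' : Subgroup Ω'}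
    (hr : θ.range = U') (hker : θ.ker.map U.subtype ≤ G.center) : FusionSystem U' where
  Hom P' := {φ' | P' ≤ U' ∧ ∃ φ ∈ G.Hom (preimageAlong θ P'), InducedAlong θ φ φ'}
  le_of_mem := by
    rintro P' φ' ⟨hP', φ, hφ, hP, hφS, hm, hi⟩
    refine ⟨hP', fun y => ?_⟩
    obtain ⟨x, hx⟩ := hr.ge (hP' y.2)
    have hxP : (x : Λ) ∈ preimageAlong θ P' := mem_preimageAlong.2 ⟨x.2, hx ▸ y.2⟩
    rw [show y = ⟨θ ⟨(x : Λ), hP hxP⟩, hm ⟨x, hxP⟩⟩ from Subtype.ext hx.symm, hi ⟨x, hxP⟩]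
    exact hr.le ⟨_, rfl⟩
  injective_of_mem := by
    rintro P' φ' ⟨hP', φ, hφ, hind⟩
    exact induced_injective hker (hr.symm ▸ hP') hφ hind
  conj_mem := by
    intro P' g hP' hg
    obtain ⟨g, rfl⟩ := hr.ge hg
    have hP := preimageAlong_le θ P'
    refine ⟨hP', _, G.conj_mem hP g.2, hP,
      fun x => U.mul_mem (U.mul_mem g.2 (hP x.2)) (U.inv_mem g.2),
      fun x => (mem_preimageAlong.1 x.2).2, fun x => ?_⟩
    show θ g * θ _ * (θ g)⁻¹ = θ _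
    rw [← map_inv, ← map_mul, ← map_mul]
    exact congrArg θ (Subtype.ext rfl)
  comp_mem := by
    rintro P' Q' φ' ψ' ⟨hP', φ, hφ, hP, hφS, hm, hi⟩ ⟨-, ψ, hψ, hQ, hψS, hn, hi'⟩ hQ'
    have hmem : ∀ x, φ x ∈ preimageAlong θ Q' := fun x =>
      mem_preimageAlong.2 ⟨hφS x, hi x ▸ hQ' _⟩
    refine ⟨hP', _, G.comp_mem hφ hψ hmem, hP, fun x => hψS _, hm, fun x => ?_⟩
    refine Eq.trans ?_ (hi' ⟨φ x, hmem x⟩)
    exact congrArg ψ' (Subtype.ext (hi x))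
  inv_mem := by
    intro P' φ' hφ'
    obtain ⟨hP', φ, hφ, hind⟩ := hφ'
    have hinj := induced_injective hker (hr.symm ▸ hP') hφ hind
    obtain ⟨hP, hφS, hm, hi⟩ := hind
    have hrange : φ.range = preimageAlong θ φ'.range := by
      refine le_antisymm ?_ fun y hy => ?_
      · rintro _ ⟨x, rfl⟩
        exact mem_preimageAlong.2 ⟨hφS x, ⟨_, hi x⟩⟩
      · obtain ⟨hyS, w, hw⟩ := mem_preimageAlong.1 hy
        obtain ⟨x, hx⟩ := hr.ge (hP' w.2)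
        have hxP : (x : Λ) ∈ preimageAlong θ P' := mem_preimageAlong.2 ⟨x.2, hx ▸ w.2⟩
        have h1 := hi ⟨x, hxP⟩
        rw [show (⟨θ ⟨(x : Λ), hP hxP⟩, hm ⟨x, hxP⟩⟩ : P') = w from Subtype.ext hx, hw] at h1
        have hz : θ ((⟨φ ⟨x, hxP⟩, hφS _⟩ : U)⁻¹ * ⟨y, hyS⟩) = 1 := by
          rw [map_mul, map_inv, ← h1, inv_mul_cancel]
        obtain ⟨hzP, hzc⟩ := center_le_preimage (G := G) hker (P' := P') hz
        refine ⟨⟨x, hxP⟩ * ⟨_, hzP⟩, ?_⟩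
        exact (map_mul φ _ _).trans ((congrArg (φ ⟨x, hxP⟩ * ·) (apply_center hφ ⟨_, hzP⟩ hzc)).trans
          (mul_inv_cancel_left _ _))
    obtain ⟨ψ, hψ, hψr, hψi, -⟩ := exists_inverse hφ hrange
    let e := MonoidHom.ofInjective hinj
    have he : ∀ x : P', e.symm ⟨φ' x, x, rfl⟩ = x :=
      fun x => e.injective (by rw [e.apply_symm_apply]; rfl)
    refine ⟨P'.subtype.comp e.symm.toMonoidHom, ⟨?_, ψ, hψ, preimageAlong_le θ _,
      fun y => hP (hψr.le ⟨y, rfl⟩), fun y => (mem_preimageAlong.1 y.2).2, fun y => ?_⟩,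
      fun x => congrArg Subtype.val (he x)⟩
    · rintro _ ⟨y, rfl⟩
      obtain ⟨x, hx⟩ := hr.ge (hP' y.2)
      have hxP : (x : Λ) ∈ preimageAlong θ P' := mem_preimageAlong.2 ⟨x.2, hx ▸ y.2⟩
      rw [show y = ⟨θ ⟨(x : Λ), hP hxP⟩, hm ⟨x, hxP⟩⟩ from Subtype.ext hx.symm, hi ⟨x, hxP⟩]
      exact hr.le ⟨_, rfl⟩
    · obtain ⟨x, hx⟩ := hrange.ge y.2
      have hx' : φ x ∈ preimageAlong θ φ'.range := hx ▸ y.2
      obtain rfl : y = ⟨φ x, hx'⟩ := Subtype.ext hx.symm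
      refine ((congrArg (P'.subtype.comp e.symm.toMonoidHom) (Subtype.ext (hi x).symm)).trans
        (congrArg Subtype.val (he ⟨_, hm x⟩))).trans ?_
      exact congrArg θ (Subtype.ext (hψi x hx').symm)

theorem quotientSystem_isFactor [Finite U] (G : FusionSystem U) (θ : U →* Ω') {U' : Subgroup Ω'}
    (hr : θ.range = U') (hker : θ.ker.map U.subtype ≤ G.center) :
    G.IsFactorSystem (θ.ker.map U.subtype) θ (quotientSystem G θ hr hker) := by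
  refine ⟨Subgroup.map_subtype_le _, fun s => ⟨fun h => ⟨s, h, rfl⟩, ?_⟩, hr, fun _ _ => Iff.rfl⟩
  rintro ⟨z, hz, hzs⟩
  exact (Subtype.ext hzs : z = s) ▸ hz

/-- A central subgroup is strongly closed. -/
theorem stronglyClosed_of_le_center [Finite U] {G : FusionSystem U} {Z : Subgroup Λ}
    (hZ : Z ≤ G.center) : G.StronglyClosed Z :=
  ⟨hZ.trans (S5144.result G).1, fun R hR φ hφ x => by
    rw [apply_center hφ x (hZ (hR x.2))]
    exact hR x.2⟩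

end Quot

/-! ### The central product -/

variable {Ω : Type u} [Group Ω] {S T₁ T₂ : Subgroup Ω} {F : FusionSystem S}
  {E₁ : FusionSystem T₁} {E₂ : FusionSystem T₂} {p : ℕ}

/-- Normal subsystems on commuting subgroups meeting in both centres. -/
structure Pair (F : FusionSystem S) (E₁ : FusionSystem T₁) (E₂ : FusionSystem T₂) (p : ℕ) :
    Prop where
  pgroup : IsPGroup p S
  normal₁ : E₁.IsNormalIn F p
  normal₂ : E₂.IsNormalIn F p
  comm : ∀ a ∈ T₁, ∀ b ∈ T₂, a * b = b * a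
  le_center₁ : T₁ ⊓ T₂ ≤ E₁.center
  le_center₂ : T₁ ⊓ T₂ ≤ E₂.center

variable (h : Pair F E₁ E₂ p)
include h

theorem Pair.swap : Pair F E₂ E₁ p :=
  ⟨h.pgroup, h.normal₂, h.normal₁, fun a ha b hb => (h.comm b hb a ha).symm,
    inf_comm T₁ T₂ ▸ h.le_center₂, inf_comm T₁ T₂ ▸ h.le_center₁⟩

theorem Pair.saturated : F.IsSaturated p := h.normal₁.1.2.1

theorem Pair.closed₁ : F.StronglyClosed T₁ := h.normal₁.1.2.2.2.1

theorem Pair.closed₂ : F.StronglyClosed T₂ := h.normal₂.1.2.2.2.1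

theorem Pair.le₁ : T₁ ≤ S := h.closed₁.1

theorem Pair.le₂ : T₂ ≤ S := h.closed₂.1

theorem Pair.le_centralizer : T₂ ≤ centralizerIn S T₁ := fun b hb =>
  mem_centralizerIn.2 ⟨h.le₂ hb, fun a ha => h.comm a ha b hb⟩

theorem Pair.sup_le_normalizer : T₁ ⊔ T₂ ≤ Subgroup.normalizer (T₂ : Set Ω) :=
  (sup_le h.le₁ h.le₂).trans (le_normalizer_of_stronglyClosed h.closed₂)

theorem Pair.exists_decomp {x : Ω} (hx : x ∈ T₁ ⊔ T₂) : ∃ a ∈ T₁, ∃ b ∈ T₂, a * b = x := by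
  have hx' : x ∈ ((T₁ ⊔ T₂ : Subgroup Ω) : Set Ω) := hx
  rw [Subgroup.coe_mul_of_left_le_normalizer_right T₁ T₂
    (h.le₁.trans (le_normalizer_of_stronglyClosed h.closed₂))] at hx'
  exact hx'

omit h in
/-- The projection of `P ≤ T₁ T₂` to `T₁`. -/
abbrev proj (T₁ T₂ P : Subgroup Ω) : Subgroup Ω := (P ⊔ T₂) ⊓ T₁

omit h in
theorem mem_proj {P : Subgroup Ω} {a b : Ω} (ha : a ∈ T₁) (hb : b ∈ T₂) (hab : a * b ∈ P) :
    a ∈ proj T₁ T₂ P := by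
  refine ⟨?_, ha⟩
  have h1 := Subgroup.mul_mem (P ⊔ T₂) (Subgroup.mem_sup_left hab)
    (Subgroup.mem_sup_right (T₂.inv_mem hb))
  rwa [mul_inv_cancel_right] at h1

theorem Pair.exists_of_mem_proj {P : Subgroup Ω} (hP : P ≤ T₁ ⊔ T₂) {a : Ω}
    (ha : a ∈ proj T₁ T₂ P) : ∃ b ∈ T₂, a * b ∈ P := by
  have ha' : a ∈ ((P ⊔ T₂ : Subgroup Ω) : Set Ω) := ha.1
  rw [Subgroup.coe_mul_of_left_le_normalizer_right P T₂ (hP.trans h.sup_le_normalizer)] at ha'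
  obtain ⟨x, hx, b, hb, rfl⟩ := ha'
  exact ⟨b⁻¹, T₂.inv_mem hb, by show x * b * b⁻¹ ∈ P; rwa [mul_inv_cancel_right]⟩

theorem Pair.mem_proj₂ {P : Subgroup Ω} {a b : Ω} (ha : a ∈ T₁) (hb : b ∈ T₂) (hab : a * b ∈ P) :
    b ∈ proj T₂ T₁ P :=
  mem_proj hb ha (by rwa [← h.comm a ha b hb])

/-- The multiplication map. -/
def Pair.mul : ↥(T₁.prod T₂) →* Ω :=
  MonoidHom.mk' (fun x => (x : Ω × Ω).1 * (x : Ω × Ω).2) fun x y => by
    show (x : Ω × Ω).1 * (y : Ω × Ω).1 * ((x : Ω × Ω).2 * (y : Ω × Ω).2) = _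
    have hc := h.comm _ y.2.1 _ x.2.2
    calc _ = (x : Ω × Ω).1 * ((y : Ω × Ω).1 * (x : Ω × Ω).2) * (y : Ω × Ω).2 := by group
      _ = _ := by rw [hc]; group

theorem Pair.mul_range : h.mul.range = T₁ ⊔ T₂ := by
  refine le_antisymm ?_ fun x hx => ?_
  · rintro _ ⟨x, rfl⟩
    exact Subgroup.mul_mem_sup x.2.1 x.2.2
  · obtain ⟨a, ha, b, hb, rfl⟩ := h.exists_decomp hx
    exact ⟨⟨(a, b), ha, hb⟩, rfl⟩

variable [Finite S]

theorem Pair.finite₁ : Finite T₁ := finite_of_le (Ω := Ω) h.le₁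

theorem Pair.finite₂ : Finite T₂ := finite_of_le (Ω := Ω) h.le₂

theorem Pair.finite_prod : Finite ↥(T₁.prod T₂) :=
  have := h.finite₁
  have := h.finite₂
  Finite.of_equiv _ (Subgroup.prodEquiv T₁ T₂).symm.toEquiv

/-- The kernel of multiplication is central in the product system. -/
theorem Pair.ker_le :
    h.mul.ker.map (T₁.prod T₂).subtype ≤ (S5136.prodSystem E₁ E₂).center := by
  have := h.finite₁
  have := h.finite₂
  set Z := h.mul.ker.map (T₁.prod T₂).subtype with hZ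
  have hmem : ∀ z ∈ Z, z.1 ∈ T₁ ⊓ T₂ ∧ z.2 ∈ T₁ ⊓ T₂ := by
    rintro _ ⟨⟨⟨a, b⟩, ha, hb⟩, hab, rfl⟩
    have hab' : a * b = 1 := hab
    have e : a = b⁻¹ := eq_inv_of_mul_eq_one_left hab'
    have ha' : a ∈ T₂ := e ▸ T₂.inv_mem hb
    have hb' : b ∈ T₁ := by rw [show b = a⁻¹ by rw [e, inv_inv]]; exact T₁.inv_mem ha
    exact ⟨⟨ha, ha'⟩, ⟨hb', hb⟩⟩
  refine le_sSup ⟨Subgroup.map_subtype_le _, fun P φ hφ => ?_⟩
  obtain ⟨hP, φ₁, hφ₁, φ₂, hφ₂, hv⟩ := hφ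
  obtain ⟨ψ₁, hψ₁, e₁, f₁⟩ := (S5144.result E₁).2 _ φ₁ hφ₁
  obtain ⟨ψ₂, hψ₂, e₂, f₂⟩ := (S5144.result E₂).2 _ φ₂ hφ₂
  have hle : P ⊔ Z ≤ (P.map (MonoidHom.fst Ω Ω) ⊔ E₁.center).prod
      (P.map (MonoidHom.snd Ω Ω) ⊔ E₂.center) :=
    sup_le (fun x hx => ⟨Subgroup.mem_sup_left ⟨x, hx, rfl⟩, Subgroup.mem_sup_left ⟨x, hx, rfl⟩⟩)
      fun z hz => ⟨Subgroup.mem_sup_right (h.le_center₁ (hmem z hz).1),
        Subgroup.mem_sup_right (h.le_center₂ (hmem z hz).2)⟩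
  refine ⟨S5137.prodMap ψ₁ ψ₂ hle,
    S5137.prodMap_mem (fun _ _ => Iff.rfl) hψ₁ hψ₂ hle, fun x => ?_, fun z => ?_⟩
  · rw [S5136.val hv x]
    exact Prod.ext (e₁ ⟨_, S5136.m1 x⟩) (e₂ ⟨_, S5136.m2 x⟩)
  · exact Prod.ext (f₁ ⟨_, h.le_center₁ (hmem z z.2).1⟩) (f₂ ⟨_, h.le_center₂ (hmem z z.2).2⟩)

/-- The central product of `E₁` and `E₂`. -/
def Pair.sys : FusionSystem (T₁ ⊔ T₂) :=
  have := h.finite_prod
  quotientSystem (S5136.prodSystem E₁ E₂) h.mul h.mul_range h.ker_le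

theorem Pair.isCentralProductOf : IsCentralProductOf E₁ E₂ h.sys := by
  have := h.finite_prod
  refine ⟨S5136.prodSystem E₁ E₂, fun _ _ => Iff.rfl, _, h.mul, h.ker_le, ?_, ?_,
    fun x hx => mul_one x, fun y hy => one_mul y,
    quotientSystem_isFactor (S5136.prodSystem E₁ E₂) h.mul h.mul_range h.ker_le⟩
  · rw [Subgroup.eq_bot_iff_forall]
    rintro _ ⟨⟨⟨⟨a, b⟩, hab⟩, hk, rfl⟩, -, hb⟩
    have hb' : b = 1 := hb
    have hk' : a * b = 1 := hk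
    subst hb'
    rw [mul_one] at hk'
    exact Prod.ext hk' rfl
  · rw [Subgroup.eq_bot_iff_forall]
    rintro _ ⟨⟨⟨⟨a, b⟩, hab⟩, hk, rfl⟩, ha, -⟩
    have ha' : a = 1 := ha
    have hk' : a * b = 1 := hk
    subst ha'
    rw [one_mul] at hk'
    exact Prod.ext rfl hk'

variable [Fact p.Prime]

theorem Pair.isSaturated : h.sys.IsSaturated p := by
  have := h.finite₁
  have := h.finite₂
  have := h.finite_prod
  have hp : IsPGroup p ↥(T₁.prod T₂) := by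
    obtain ⟨a, ha⟩ := IsPGroup.iff_card.mp (h.pgroup.to_le h.le₁)
    obtain ⟨b, hb⟩ := IsPGroup.iff_card.mp (h.pgroup.to_le h.le₂)
    exact IsPGroup.of_card (n := a + b) (by
      rw [Nat.card_congr (Subgroup.prodEquiv T₁ T₂).toEquiv, Nat.card_prod, ha, hb, pow_add])
  exact isSaturated_factorSystem hp (S5137.result p (h.pgroup.to_le h.le₁) (h.pgroup.to_le h.le₂)
    E₁ E₂ h.normal₁.1.1 h.normal₂.1.1 _ fun _ _ => Iff.rfl)
    (stronglyClosed_of_le_center h.ker_le)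
    (quotientSystem_isFactor (S5136.prodSystem E₁ E₂) h.mul h.mul_range h.ker_le)

omit [Fact p.Prime] in
/-- The maps of the central product. -/
theorem Pair.mem_sys {P A B : Subgroup Ω} (hP : P ≤ T₁ ⊔ T₂) {φ : P →* Ω} {φ₁ : A →* Ω}
    (hφ₁ : φ₁ ∈ E₁.Hom A) {φ₂ : B →* Ω} (hφ₂ : φ₂ ∈ E₂.Hom B)
    (hv : ∀ (x : P) (a b : Ω), a ∈ T₁ → b ∈ T₂ → a * b = (x : Ω) →
      ∃ (ha : a ∈ A) (hb : b ∈ B), φ x = φ₁ ⟨a, ha⟩ * φ₂ ⟨b, hb⟩) :
    φ ∈ h.sys.Hom P := by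
  refine ⟨hP, ?_⟩
  have hle : preimageAlong h.mul P ≤ A.prod B := by
    intro x hx
    obtain ⟨hxT, hxP⟩ := mem_preimageAlong.1 hx
    obtain ⟨ha, hb, -⟩ := hv ⟨_, hxP⟩ x.1 x.2 hxT.1 hxT.2 rfl
    exact ⟨ha, hb⟩
  refine ⟨S5137.prodMap φ₁ φ₂ hle, S5137.prodMap_mem (fun _ _ => Iff.rfl) hφ₁ hφ₂ hle,
    preimageAlong_le _ _, fun x => ⟨apply_mem hφ₁ _, apply_mem hφ₂ _⟩,
    fun x => (mem_preimageAlong.1 x.2).2, fun x => ?_⟩
  obtain ⟨ha, hb, he⟩ := hv ⟨_, (mem_preimageAlong.1 x.2).2⟩ (x : Ω × Ω).1 (x : Ω × Ω).2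
    (preimageAlong_le _ _ x.2).1 (preimageAlong_le _ _ x.2).2 rfl
  exact he

omit [Fact p.Prime] in
/-- Decomposition of a map of the central product. -/
theorem Pair.exists_split {P : Subgroup Ω} {φ : P →* Ω} (hφ : φ ∈ h.sys.Hom P) :
    ∃ φ₁ ∈ E₁.Hom (proj T₁ T₂ P), ∃ φ₂ ∈ E₂.Hom (proj T₂ T₁ P),
      ∀ (x : P) (a b : Ω) (ha : a ∈ proj T₁ T₂ P) (hb : b ∈ proj T₂ T₁ P),
        a * b = (x : Ω) → φ x = φ₁ ⟨a, ha⟩ * φ₂ ⟨b, hb⟩ := by
  obtain ⟨hP, ψ, ⟨-, ψ₁, hψ₁, ψ₂, hψ₂, hv⟩, hpre, hψS, hm, hi⟩ := hφ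
  have hin : ∀ (a b : Ω), a ∈ T₁ → b ∈ T₂ → a * b ∈ P → ((a, b) : Ω × Ω) ∈ preimageAlong h.mul P :=
    fun a b ha hb hab => mem_preimageAlong.2 ⟨⟨ha, hb⟩, hab⟩
  have h₁ : proj T₁ T₂ P ≤ (preimageAlong h.mul P).map (MonoidHom.fst Ω Ω) := fun a ha => by
    obtain ⟨b, hb, hab⟩ := h.exists_of_mem_proj hP ha
    exact ⟨(a, b), hin a b ha.2 hb hab, rfl⟩
  have h₂ : proj T₂ T₁ P ≤ (preimageAlong h.mul P).map (MonoidHom.snd Ω Ω) := fun b hb => by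
    obtain ⟨a, ha, hba⟩ := h.swap.exists_of_mem_proj (hP.trans (sup_comm T₁ T₂).le) hb
    exact ⟨(a, b), hin a b ha hb.2 (by rwa [h.comm a ha b hb.2]), rfl⟩
  refine ⟨_, restrict_mem hψ₁ h₁, _, restrict_mem hψ₂ h₂, fun x a b ha hb hab => ?_⟩
  have hp : ((a, b) : Ω × Ω) ∈ preimageAlong h.mul P := hin a b ha.2 hb.2 (hab ▸ x.2)
  have h3 := hi ⟨_, hp⟩
  rw [show (⟨_, hm ⟨_, hp⟩⟩ : P) = x from Subtype.ext hab] at h3
  rw [h3]
  show (ψ ⟨_, hp⟩).1 * (ψ ⟨_, hp⟩).2 = _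
  rw [hv ⟨_, hp⟩ (S5136.m1 (⟨_, hp⟩ : ↥(preimageAlong h.mul P))) (S5136.m2 (⟨_, hp⟩ : ↥(preimageAlong h.mul P)))]
  rfl

/-- `T₂` centralizes `E₁`. -/
theorem Pair.hom_subset_centralizerHom (P : Subgroup Ω) :
    E₁.Hom P ⊆ F.centralizerHom T₂ P := by
  refine hom_subset_centralizerHom_of_fixed h.pgroup h.normal₁ h.le₁ h.le_centralizer ?_ P
  intro R R' hRT hR' χ hχ hRN hr α hα γ hγ hord hγR hγC x hx hxN hmem
  have := h.finite₁
  have hQS : rc S R' ≤ S := sup_le hR'.1 (centralizerIn_le S R')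
  obtain ⟨hg, -⟩ := hom_of_mem_autGroup hQS hγ
  set y : ↥(rc S R') := ⟨χ ⟨x, hxN⟩, hmem⟩ with hy
  have hy₂ : (y : Ω) ∈ T₂ := h.closed₂.2 (normalizerIn S R ⊓ T₂) inf_le_right _
    (restrict_mem hχ inf_le_left) ⟨x, hxN, hx⟩
  have hγy₂ : ((γ y : ↥(rc S R')) : Ω) ∈ T₂ := h.closed₂.2 (rc S R' ⊓ T₂) inf_le_right _
    (restrict_mem hg inf_le_left) ⟨y, y.2, hy₂⟩
  have hyC : (y : Ω) ∈ centralizerIn S R' := apply_mem_centralizer_image hχ hRN hr ⟨x, hxN⟩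
    (centralizerIn_anti hRT (h.le_centralizer hx))
  have hu : (((y⁻¹ * γ y : ↥(rc S R')) : Ω)) ∈ R' ⊓ T₂ :=
    ⟨hγC y hyC, T₂.mul_mem (T₂.inv_mem hy₂) hγy₂⟩
  set u := y⁻¹ * γ y with hudef
  obtain ⟨r, hr'⟩ := hr.ge hu.1
  have hr₀ : (r : Ω) ∈ T₁ ⊓ T₂ := by
    refine ⟨hRT r.2, ?_⟩
    obtain ⟨ρ, hρ, -, hρi, -⟩ := exists_inverse (restrict_mem hχ hRN) hr
    have h1 := h.closed₂.2 (R' ⊓ T₂) inf_le_right _ (restrict_mem hρ inf_le_left) ⟨u, hu⟩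
    refine Set.mem_of_eq_of_mem ?_ h1
    refine ((hρi r (hr' ▸ hu.1)).symm.trans (congrArg ρ (Subtype.ext hr')))
  have hγu : γ u = u := Subtype.ext (by
    have h1 := hγR r (hr'.symm ▸ u.2)
    rw [aut_apply_center hRT hα r (h.le_center₁ hr₀),
      show (⟨χ (Subgroup.inclusion hRN r), hr'.symm ▸ u.2⟩ : ↥(rc S R')) = u from Subtype.ext hr']
      at h1
    exact h1.trans hr')
  exact congrArg Subtype.val (eq_self_of_translate (h.pgroup.to_le hQS) hord hγu)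

/-- The central product is a subsystem. -/
theorem Pair.isSubsystemOf : h.sys.IsSubsystemOf F := by
  intro P φ hφ
  have hP := dom_le hφ
  obtain ⟨φ₁, hφ₁, φ₂, hφ₂, hv⟩ := h.exists_split hφ
  obtain ⟨-, -, -, ψ₁, hψ₁, e₁, f₁⟩ := h.hom_subset_centralizerHom _ hφ₁
  obtain ⟨-, -, -, ψ₂, hψ₂, e₂, f₂⟩ := h.swap.hom_subset_centralizerHom _ hφ₂
  have hP₁ : P ≤ proj T₁ T₂ P ⊔ T₂ := fun x hx => by
    obtain ⟨a, ha, b, hb, rfl⟩ := h.exists_decomp (hP hx)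
    exact Subgroup.mul_mem_sup (mem_proj ha hb hx) hb
  have hval₁ : ∀ (x : P) (a b : Ω) (ha : a ∈ proj T₁ T₂ P) (hb : b ∈ T₂), a * b = (x : Ω) →
      ψ₁ (Subgroup.inclusion hP₁ x) = φ₁ ⟨a, ha⟩ * b := by
    intro x a b ha hb hab
    rw [show Subgroup.inclusion hP₁ x = Subgroup.inclusion le_sup_left (⟨a, ha⟩ : proj T₁ T₂ P) *
      Subgroup.inclusion le_sup_right (⟨b, hb⟩ : T₂) from Subtype.ext hab.symm, map_mul, e₁, f₁]
  have hmem : ∀ x : P, ψ₁ (Subgroup.inclusion hP₁ x) ∈ proj T₂ T₁ P ⊔ T₁ := fun x => by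
    obtain ⟨a, ha, b, hb, hab⟩ := h.exists_decomp (hP x.2)
    rw [hval₁ x a b (mem_proj ha hb (hab ▸ x.2)) hb hab]
    exact Subgroup.mul_mem _ (Subgroup.mem_sup_right (apply_mem hφ₁ _))
      (Subgroup.mem_sup_left (h.mem_proj₂ ha hb (hab ▸ x.2)))
  have hF := F.comp_mem (restrict_mem hψ₁ hP₁) hψ₂ hmem
  refine mem_congr hF rfl fun z hz => ?_
  obtain ⟨a, ha, b, hb, hab⟩ := h.exists_decomp (hP hz)
  have hA := mem_proj ha hb (hab ▸ hz)
  have hB := h.mem_proj₂ ha hb (hab ▸ hz)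
  rw [hv ⟨z, hz⟩ a b hA hB hab]
  show _ = ψ₂ ⟨ψ₁ (Subgroup.inclusion hP₁ ⟨z, hz⟩), _⟩
  have ha₁ : φ₁ ⟨a, hA⟩ ∈ T₁ := apply_mem hφ₁ _
  rw [show (⟨ψ₁ (Subgroup.inclusion hP₁ ⟨z, hz⟩), hmem _⟩ : ↥(proj T₂ T₁ P ⊔ T₁)) =
    Subgroup.inclusion le_sup_right (⟨_, ha₁⟩ : T₁) *
      Subgroup.inclusion le_sup_left (⟨b, hB⟩ : proj T₂ T₁ P) from
    Subtype.ext (hval₁ ⟨z, hz⟩ a b hA hb hab), map_mul, e₂, f₂]

theorem Pair.stronglyClosed : F.StronglyClosed (T₁ ⊔ T₂) :=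
  stronglyClosed_sup h.pgroup h.saturated h.closed₁ h.closed₂

/-- Invariance on subgroups containing the factors of their elements. -/
theorem Pair.conj_mem_full {P Q : Subgroup Ω} (hPQ : P ≤ Q) (hQT : Q ≤ T₁ ⊔ T₂)
    (hQ : ∀ a ∈ T₁, ∀ b ∈ T₂, a * b ∈ Q → a ∈ Q) {φ : P →* Ω} (hφ : φ ∈ h.sys.Hom P)
    (hφQ : ∀ x : P, φ x ∈ Q) {ψ : Q →* Ω} (hψ : ψ ∈ F.Hom Q) :
    ∃ χ ∈ h.sys.Hom ((P.subgroupOf Q).map ψ),
      ∀ (x : P) (hx : ψ (Subgroup.inclusion hPQ x) ∈ (P.subgroupOf Q).map ψ),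
        χ ⟨ψ (Subgroup.inclusion hPQ x), hx⟩ = ψ ⟨φ x, hφQ x⟩ := by
  obtain ⟨φ₁, hφ₁, φ₂, hφ₂, hv⟩ := h.exists_split hφ
  have hPT := hPQ.trans hQT
  have hQb : ∀ a ∈ T₁, ∀ b ∈ T₂, a * b ∈ Q → b ∈ Q := fun a ha b hb hab => by
    have h1 := Q.mul_mem (Q.inv_mem (hQ a ha b hb hab)) hab
    rwa [inv_mul_cancel_left] at h1
  have hT₀ : T₁ ⊓ T₂ ≤ Q := fun z hz => hQ z hz.1 z⁻¹ (T₂.inv_mem hz.2) (by
    rw [mul_inv_cancel]; exact Q.one_mem)
  have hA : proj T₁ T₂ P ≤ Q ⊓ T₁ := fun a ha => by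
    obtain ⟨b, hb, hab⟩ := h.exists_of_mem_proj hPT ha
    exact ⟨hQ a ha.2 b hb (hPQ hab), ha.2⟩
  have hB : proj T₂ T₁ P ≤ Q ⊓ T₂ := fun b hb => by
    obtain ⟨a, ha, hba⟩ := h.swap.exists_of_mem_proj (hPT.trans (sup_comm T₁ T₂).le) hb
    exact ⟨hQb a ha b hb.2 (hPQ (by rwa [h.comm a ha b hb.2])), hb.2⟩
  have hAQ : ∀ a : proj T₁ T₂ P, φ₁ a ∈ Q ⊓ T₁ := fun a => by
    obtain ⟨b, hb, hab⟩ := h.exists_of_mem_proj hPT a.2
    have hB' := h.mem_proj₂ a.2.2 hb hab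
    have h1 := hφQ ⟨_, hab⟩
    rw [hv ⟨_, hab⟩ a b a.2 hB' rfl] at h1
    exact ⟨hQ _ (apply_mem hφ₁ _) _ (apply_mem hφ₂ _) h1, apply_mem hφ₁ _⟩
  have hBQ : ∀ b : proj T₂ T₁ P, φ₂ b ∈ Q ⊓ T₂ := fun b => by
    obtain ⟨a, ha, hba⟩ := h.swap.exists_of_mem_proj (hPT.trans (sup_comm T₁ T₂).le) b.2
    have hab : a * b ∈ P := by rwa [h.comm a ha b b.2.2]
    have hA' := mem_proj ha b.2.2 hab
    have h1 := hφQ ⟨_, hab⟩
    rw [hv ⟨_, hab⟩ a b hA' b.2 rfl] at h1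
    exact ⟨hQb _ (apply_mem hφ₁ _) _ (apply_mem hφ₂ _) h1, apply_mem hφ₂ _⟩
  obtain ⟨χ₁, hχ₁, e₁⟩ := stronglyInvariant_of_invariant h.normal₁.1.2.2 _ (Q ⊓ T₁) hA inf_le_right
    φ₁ hφ₁ hAQ _ (restrict_mem hψ inf_le_left)
  obtain ⟨χ₂, hχ₂, e₂⟩ := stronglyInvariant_of_invariant h.normal₂.1.2.2 _ (Q ⊓ T₂) hB inf_le_right
    φ₂ hφ₂ hBQ _ (restrict_mem hψ inf_le_left)
  -- the transported map
  have hres := restrict_mem hψ hPQ
  have hrr : (ψ.comp (Subgroup.inclusion hPQ)).range = (P.subgroupOf Q).map ψ := by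
    rw [MonoidHom.range_comp, Subgroup.inclusion_range]
  obtain ⟨η, hη, hηr, hηi, -⟩ := exists_inverse hres hrr
  have hηP : ∀ y, η y ∈ P := fun y => hηr.le ⟨y, rfl⟩
  set χ := ψ.comp ((φ.comp (η.codRestrict P hηP)).codRestrict Q fun y => hφQ _) with hχdef
  have hχe : ∀ (x : P) (hx : ψ (Subgroup.inclusion hPQ x) ∈ (P.subgroupOf Q).map ψ),
      χ ⟨ψ (Subgroup.inclusion hPQ x), hx⟩ = ψ ⟨φ x, hφQ x⟩ := fun x hx =>
    congrArg ψ (Subtype.ext (congrArg φ (Subtype.ext (hηi x hx))))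
  refine ⟨χ, h.mem_sys ?_ hχ₁ hχ₂ ?_, hχe⟩
  · rintro _ ⟨x, -, rfl⟩
    exact h.stronglyClosed.2 Q hQT ψ hψ x
  rintro ⟨y, hy⟩ a' b' ha' hb' hab'
  obtain ⟨x, hxP, hxy⟩ := hy
  obtain ⟨a, ha, b, hb, hab⟩ := h.exists_decomp (hQT x.2)
  have haQ := hQ a ha b hb (hab ▸ x.2)
  have hbQ := hQb a ha b hb (hab ▸ x.2)
  have hψab : ψ x = ψ ⟨a, haQ⟩ * ψ ⟨b, hbQ⟩ := by
    rw [← map_mul]
    exact congrArg ψ (Subtype.ext hab.symm)
  have hψa : ψ ⟨a, haQ⟩ ∈ T₁ :=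
    h.closed₁.2 (Q ⊓ T₁) inf_le_right _ (restrict_mem hψ inf_le_left) ⟨a, haQ, ha⟩
  have hψb : ψ ⟨b, hbQ⟩ ∈ T₂ :=
    h.closed₂.2 (Q ⊓ T₂) inf_le_right _ (restrict_mem hψ inf_le_left) ⟨b, hbQ, hb⟩
  have hprod : a' * b' = ψ ⟨a, haQ⟩ * ψ ⟨b, hbQ⟩ := hab'.trans (hxy.symm.trans hψab)
  have hz : (ψ ⟨a, haQ⟩)⁻¹ * a' ∈ T₁ ⊓ T₂ := by
    refine ⟨T₁.mul_mem (T₁.inv_mem hψa) ha', ?_⟩
    have e : (ψ ⟨a, haQ⟩)⁻¹ * a' = ψ ⟨b, hbQ⟩ * b'⁻¹ :=
      calc (ψ ⟨a, haQ⟩)⁻¹ * a' = (ψ ⟨a, haQ⟩)⁻¹ * (a' * b') * b'⁻¹ := by group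
        _ = _ := by rw [hprod]; group
    rw [e]
    exact T₂.mul_mem hψb (T₂.inv_mem hb')
  obtain ⟨w, hw, hwz⟩ := ((map_subgroupOf_eq_iff hψ hT₀).2 fun v hv =>
    ⟨h.closed₁.2 (Q ⊓ T₁) inf_le_right _ (restrict_mem hψ inf_le_left) ⟨v, hT₀ hv, hv.1⟩,
      h.closed₂.2 (Q ⊓ T₂) inf_le_right _ (restrict_mem hψ inf_le_left) ⟨v, hT₀ hv, hv.2⟩⟩).ge hz
  set a₁ := a * (w : Ω) with ha₁def
  set b₁ := (w : Ω)⁻¹ * b with hb₁def
  have ha₁ : a₁ ∈ T₁ := T₁.mul_mem ha hw.1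
  have hb₁ : b₁ ∈ T₂ := T₂.mul_mem (T₂.inv_mem hw.2) hb
  have hab₁ : a₁ * b₁ = (x : Ω) := by rw [← hab, ha₁def, hb₁def]; group
  have hA₁ := mem_proj ha₁ hb₁ (Set.mem_of_eq_of_mem hab₁ hxP)
  have hB₁ := h.mem_proj₂ ha₁ hb₁ (Set.mem_of_eq_of_mem hab₁ hxP)
  have hψa₁ : ψ ⟨a₁, (hA hA₁).1⟩ = a' := by
    rw [show (⟨a₁, (hA hA₁).1⟩ : Q) = ⟨a, haQ⟩ * w from Subtype.ext rfl, map_mul, hwz,
      mul_inv_cancel_left]
  have hψb₁ : ψ ⟨b₁, (hB hB₁).1⟩ = b' := by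
    have h1 : ψ x = ψ ⟨a₁, (hA hA₁).1⟩ * ψ ⟨b₁, (hB hB₁).1⟩ := by
      rw [← map_mul]
      exact congrArg ψ (Subtype.ext hab₁.symm)
    rw [hψa₁, hxy] at h1
    exact (mul_left_cancel (hab'.trans h1)).symm
  subst hψa₁ hψb₁
  refine ⟨⟨⟨a₁, hA hA₁⟩, hA₁, rfl⟩, ⟨⟨b₁, hB hB₁⟩, hB₁, rfl⟩, ?_⟩
  have hx' : ψ (Subgroup.inclusion hPQ ⟨x, hxP⟩) ∈ (P.subgroupOf Q).map ψ := ⟨x, hxP, rfl⟩
  refine Eq.trans (congrArg χ (Subtype.ext hxy.symm : _ = (⟨_, hx'⟩ : ↥((P.subgroupOf Q).map ψ)))) ?_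
  rw [hχe ⟨x, hxP⟩ hx']
  have e := hv ⟨x, hxP⟩ a₁ b₁ hA₁ hB₁ hab₁
  rw [show (⟨φ ⟨x, hxP⟩, hφQ _⟩ : Q) = ⟨φ₁ ⟨a₁, hA₁⟩, (hAQ _).1⟩ * ⟨φ₂ ⟨b₁, hB₁⟩, (hBQ _).1⟩ from
    Subtype.ext e, map_mul]
  exact congrArg₂ (· * ·) (e₁ ⟨a₁, hA₁⟩ _).symm (e₂ ⟨b₁, hB₁⟩ _).symm

/-- A centric radical subgroup contains the factors of its elements of `T₁ T₂`. -/
theorem Pair.mem_of_radical {R : Subgroup Ω} (hRc : F.IsCentric R) (hRr : F.IsRadical p R) :
    ∀ a ∈ T₁, ∀ b ∈ T₂, a * b ∈ R → a ∈ R := by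
  have hRS := hRc.1
  have hT : F.StronglyClosed (T₁ ⊔ T₂) := h.stronglyClosed
  set R₀ := R ⊓ (T₁ ⊔ T₂) with hR₀
  set A := proj T₁ T₂ R₀ with hA
  suffices hAR : A ≤ R from fun a ha b hb hab =>
    hAR (mem_proj ha hb ⟨hab, Subgroup.mul_mem_sup ha hb⟩)
  by_contra hAR
  have hAS : A ≤ S := inf_le_right.trans h.le₁
  have hTn := le_normalizer_of_stronglyClosed hT
  have hRA : R ≤ Subgroup.normalizer (A : Set Ω) := by
    have h0 : ∀ r ∈ R, ∀ a ∈ A, r * a * r⁻¹ ∈ A := by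
      intro r hr a ha
      obtain ⟨b, hb, hab⟩ := h.exists_of_mem_proj inf_le_right ha
      refine mem_proj ((Subgroup.mem_normalizer_iff.1
        (le_normalizer_of_stronglyClosed h.closed₁ (hRS hr)) a).1 ha.2)
        ((Subgroup.mem_normalizer_iff.1
        (le_normalizer_of_stronglyClosed h.closed₂ (hRS hr)) b).1 hb) ?_
      rw [show r * a * r⁻¹ * (r * b * r⁻¹) = r * (a * b) * r⁻¹ by group]
      exact ⟨R.mul_mem (R.mul_mem hr hab.1) (R.inv_mem hr),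
        (Subgroup.mem_normalizer_iff.1 (hTn (hRS hr)) _).1 hab.2⟩
    intro r hr
    refine Subgroup.mem_normalizer_iff.2 fun a => ⟨h0 r hr a, fun ha => ?_⟩
    simpa [mul_assoc] using h0 r⁻¹ (R.inv_mem hr) _ ha
  have hsup : R ⊔ A ≤ S := sup_le hRS hAS
  have := finite_of_le (Ω := Ω) hsup
  have hlt : R < R ⊔ A := lt_of_le_of_ne le_sup_left fun he => hAR (le_sup_right.trans he.ge)
  obtain ⟨g, ⟨hgm, hgN⟩, hgR⟩ := SetLike.exists_of_lt (lt_normalizerIn (h.pgroup.to_le hsup) hlt)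
  have hgm' : g ∈ ((R ⊔ A : Subgroup Ω) : Set Ω) := hgm
  rw [Subgroup.coe_mul_of_left_le_normalizer_right R A hRA] at hgm'
  obtain ⟨r, hr, a, ha, rfl⟩ := hgm'
  have haN : a ∈ Subgroup.normalizer (R : Set Ω) := by
    have h1 := Subgroup.mul_mem _ (Subgroup.inv_mem _ (Subgroup.le_normalizer hr)) hgN
    simpa using h1
  refine hgR (R.mul_mem hr ?_)
  obtain ⟨b, hb, hab⟩ := h.exists_of_mem_proj inf_le_right ha
  -- an invariant series
  let L : ℕ → Subgroup Ω := fun i =>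
    match i with
    | 0 => R
    | 1 => R₀
    | (j + 2) => (fun K => ⁅K, R₀⁆)^[j] (R ⊓ T₁)
  have hLsucc : ∀ j, L (j + 3) = ⁅L (j + 2), R₀⁆ := fun j => Function.iterate_succ_apply' _ j _
  have hcomm : ∀ (V W X : Subgroup Ω), (∀ v ∈ V, ∀ w ∈ W, v * w * v⁻¹ * w⁻¹ ∈ X) → ⁅V, W⁆ ≤ X :=
    fun V W X hX => Subgroup.commutator_le.2 fun v hv w hw => hX v hv w hw
  have hLle : ∀ j, L (j + 2) ≤ R ⊓ T₁ := by
    intro j
    induction j with
    | zero => exact le_rfl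
    | succ j ih =>
      rw [hLsucc]
      refine hcomm _ _ _ fun v hv w hw => ⟨?_, ?_⟩
      · exact R.mul_mem (R.mul_mem (R.mul_mem (ih hv).1 hw.1) (R.inv_mem (ih hv).1)) (R.inv_mem hw.1)
      · have h1 := (Subgroup.mem_normalizer_iff.1
          (le_normalizer_of_stronglyClosed h.closed₁ (hRS hw.1)) _).1 (T₁.inv_mem (ih hv).2)
        rw [show v * w * v⁻¹ * w⁻¹ = v * (w * v⁻¹ * w⁻¹) by group]
        exact T₁.mul_mem (ih hv).2 h1
  have hLR : ∀ i, L i ≤ R := fun i =>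
    match i with
    | 0 => le_rfl
    | 1 => inf_le_left
    | (j + 2) => (hLle j).trans inf_le_left
  have hLc : ∀ j, L (j + 3) ≤ L (j + 2) := by
    intro j
    induction j with
    | zero => exact hLle 1
    | succ j ih =>
      exact (hLsucc (j + 1)).le.trans ((Subgroup.commutator_mono ih le_rfl).trans (hLsucc j).ge)
  have hLmono : ∀ i, L (i + 1) ≤ L i := fun i =>
    match i with
    | 0 => inf_le_left
    | 1 => fun x hx => ⟨hx.1, Subgroup.mem_sup_left hx.2⟩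
    | (j + 2) => hLc j
  have hinv : ∀ (i : ℕ) (c : MulAut R), c ∈ F.autGroup R → ∀ x : R, (x : Ω) ∈ L i →
      ((c x : R) : Ω) ∈ L i := by
    intro i
    match i with
    | 0 => exact fun c _ x _ => (c x).2
    | 1 => exact fun c hc x hx => ⟨(c x).2, apply_mem_of_stronglyClosed hT hRS hc hx.2⟩
    | (j + 2) =>
      induction j with
      | zero => exact fun c hc x hx => ⟨(c x).2, apply_mem_of_stronglyClosed h.closed₁ hRS hc hx.2⟩
      | succ j ih =>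
        intro c hc x hx
        have h1 : L (j + 3) ≤ (((L (j + 3)).subgroupOf R).comap c.toMonoidHom).map R.subtype := by
          refine (hLsucc j).le.trans (hcomm _ _ _ fun v hv w hw => ?_)
          have hvR : v ∈ R := ((hLle j) hv).1
          refine ⟨⟨v, hvR⟩ * ⟨w, hw.1⟩ * ⟨v, hvR⟩⁻¹ * ⟨w, hw.1⟩⁻¹, ?_, rfl⟩
          show ((c (⟨v, hvR⟩ * ⟨w, hw.1⟩ * ⟨v, hvR⟩⁻¹ * ⟨w, hw.1⟩⁻¹) : R) : Ω) ∈ L (j + 3)
          rw [map_mul, map_mul, map_mul, map_inv, map_inv, hLsucc]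
          exact Subgroup.commutator_mem_commutator (ih c hc ⟨v, hvR⟩ hv)
            ⟨(c ⟨w, hw.1⟩).2, apply_mem_of_stronglyClosed hT hRS hc hw.2⟩
        obtain ⟨x', hx', hxx⟩ := h1 hx
        obtain rfl : x' = x := Subtype.ext hxx
        exact hx'
  have hTS : T₁ ⊔ T₂ ≤ S := sup_le h.le₁ h.le₂
  obtain ⟨N, hN⟩ : ∃ N, L N = ⊥ := by
    have := finite_of_le (Ω := Ω) hTS
    have := (h.pgroup.to_le hTS).isNilpotent
    obtain ⟨n, hn⟩ := Subgroup.nilpotent_iff_lowerCentralSeries.1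
      (this : Group.IsNilpotent ↥(T₁ ⊔ T₂))
    refine ⟨n + 2, ?_⟩
    suffices hj : ∀ j, L (j + 2) ≤ (Subgroup.lowerCentralSeries (⊤ : Subgroup ↥(T₁ ⊔ T₂)) j).map
        (T₁ ⊔ T₂).subtype by
      rw [eq_bot_iff]
      exact (hj n).trans (by rw [hn, Subgroup.map_bot])
    intro j
    induction j with
    | zero =>
      rw [Subgroup.lowerCentralSeries_zero, ← MonoidHom.range_eq_map, Subgroup.range_subtype]
      exact fun x hx => Subgroup.mem_sup_left hx.2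
    | succ j ih =>
      rw [hLsucc]
      refine le_trans (Subgroup.commutator_mono ih (inf_le_right.trans
        (le_of_eq (Subgroup.range_subtype _).symm))) ?_
      rw [MonoidHom.range_eq_map, ← Subgroup.map_commutator, Subgroup.lowerCentralSeries_succ]
  let K : Subgroup (F.autGroup R) :=
    { carrier := {c | ∀ (i : ℕ) (x : R), (x : Ω) ∈ L i →
        (x : Ω)⁻¹ * (((c : MulAut R) x : R) : Ω) ∈ L (i + 1)}
      one_mem' := fun i x _ => by simp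
      mul_mem' := fun {c d} hc hd i x hx => by
        have h1 := hd i x hx
        set u : R := x⁻¹ * (d : MulAut R) x with hu
        have h1 : (u : Ω) ∈ L (i + 1) := h1
        have h2 := hc (i + 1) u h1
        have h3 := Subgroup.mul_mem (L (i + 1)) (hc i x hx)
          (Subgroup.mul_mem (L (i + 1)) h1 (hLmono (i + 1) h2))
        rw [mul_inv_cancel_left] at h3
        have he : (d : MulAut R) x = x * u := (mul_inv_cancel_left _ _).symm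
        show (x : Ω)⁻¹ * (((c : MulAut R) ((d : MulAut R) x) : R) : Ω) ∈ L (i + 1)
        rw [he, map_mul, Subgroup.coe_mul, ← mul_assoc]
        exact h3
      inv_mem' := fun {c} hc i x hx => by
        have hy := hinv i _ (F.autGroup R |>.inv_mem c.2) x hx
        have h1 := (L (i + 1)).inv_mem (hc i _ hy)
        rw [MulAut.apply_inv_self, mul_inv_rev, inv_inv] at h1
        exact h1 }
  have hKn : K.Normal := ⟨fun k hk c i x hx => by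
    have hy := hinv i _ (F.autGroup R |>.inv_mem c.2) x hx
    set y := (c : MulAut R)⁻¹ x with hydef
    have h1 := hinv (i + 1) _ c.2 (y⁻¹ * (k : MulAut R) y) (hk i y hy)
    rw [map_mul, map_inv, hydef, MulAut.apply_inv_self, Subgroup.coe_mul, Subgroup.coe_inv] at h1
    exact h1⟩
  have hKp : IsPGroup p K := by
    have := finite_of_le (Ω := Ω) hRS
    have := finite_mulAut (Ω := Ω) hRS
    intro k
    obtain ⟨e, m, hm, hord⟩ := Nat.exists_eq_pow_mul_and_not_dvd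
      (orderOf_pos ((k : F.autGroup R) : MulAut R)).ne' p (Fact.out : p.Prime).ne_one
    refine ⟨e, Subtype.ext (Subtype.ext ?_)⟩
    set c := ((k : F.autGroup R) : MulAut R) ^ p ^ e with hc
    show c = 1
    have hcK : ∀ (i : ℕ) (x : R), (x : Ω) ∈ L i → (x : Ω)⁻¹ * ((c x : R) : Ω) ∈ L (i + 1) :=
      (pow_mem k.2 (p ^ e) : (k : F.autGroup R) ^ p ^ e ∈ K)
    have hcop : (orderOf c).Coprime p := Nat.Coprime.coprime_dvd_left (k := m)
      (orderOf_dvd_of_pow_eq_one (by rw [hc, ← pow_mul, ← hord, pow_orderOf_eq_one]))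
      ((Fact.out : p.Prime).coprime_iff_not_dvd.2 hm).symm
    refine MulEquiv.ext fun x => eq_self_of_series (h.pgroup.to_le hRS) hcop
      (T := fun i => (L (N - i)).subgroupOf R) (m := N)
      (by simp [hN]) (fun i hi y hy => ?_) x (by simp [L])
    show ((y⁻¹ * c y : R) : Ω) ∈ L (N - i)
    have hy' : (y : Ω) ∈ L (N - (i + 1)) := hy
    have h1 := hcK _ y hy'
    rwa [show N - (i + 1) + 1 = N - i by omega] at h1
  have haS : a ∈ S := hAS ha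
  have hain := autInducedBy_le_autGroup F hRS (conjAut_mem_autInducedBy haS haN)
  have haK : (⟨conjAut haN, hain⟩ : F.autGroup R) ∈ K := by
    intro i x hx
    show (x : Ω)⁻¹ * (a * x * a⁻¹) ∈ L (i + 1)
    have haT : a ∈ T₁ ⊔ T₂ := Subgroup.mem_sup_left ha.2
    have hmR : (x : Ω)⁻¹ * (a * x * a⁻¹) ∈ R :=
      R.mul_mem (R.inv_mem x.2) ((Subgroup.mem_normalizer_iff.1 haN x).1 x.2)
    have hmT : (x : Ω)⁻¹ * (a * x * a⁻¹) ∈ T₁ := by
      rw [show (x : Ω)⁻¹ * (a * x * a⁻¹) = (x : Ω)⁻¹ * a * (x : Ω) * a⁻¹ by group]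
      refine T₁.mul_mem ?_ (T₁.inv_mem ha.2)
      have h1 := (Subgroup.mem_normalizer_iff.1
        (le_normalizer_of_stronglyClosed h.closed₁ (S.inv_mem (hRS x.2))) a).1 ha.2
      simpa using h1
    rcases i with _ | _ | j
    · exact ⟨hmR, Subgroup.mem_sup_left hmT⟩
    · exact ⟨hmR, hmT⟩
    · have hxT : (x : Ω) ∈ T₁ := (hLle j hx).2
      have hc := h.comm _ hxT b hb
      have he : (x : Ω)⁻¹ * (a * x * a⁻¹) =
          (x : Ω)⁻¹ * (a * b) * ((x : Ω)⁻¹)⁻¹ * (a * b)⁻¹ := by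
        calc (x : Ω)⁻¹ * (a * x * a⁻¹) = (x : Ω)⁻¹ * a * ((x : Ω) * b) * b⁻¹ * a⁻¹ := by group
          _ = (x : Ω)⁻¹ * a * (b * (x : Ω)) * b⁻¹ * a⁻¹ := by rw [hc]
          _ = _ := by group
      rw [he, hLsucc]
      exact Subgroup.commutator_mem_commutator ((L (j + 2)).inv_mem hx) hab
  have hinn : conjAut haN ∈ Inn R :=
    hRr.2.le ⟨_, (le_sSup ⟨hKn, hKp⟩ : K ≤ pCore p (F.autGroup R)) haK, rfl⟩
  obtain ⟨⟨r', hr'⟩, hr'e⟩ := hinn
  have hC : r'⁻¹ * a ∈ centralizerIn S R := mem_centralizerIn.2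
    ⟨S.mul_mem (S.inv_mem (hRS hr')) haS, fun y hy => by
      have h1 : a * y * a⁻¹ = r' * y * r'⁻¹ :=
        (congrArg Subtype.val (DFunLike.congr_fun hr'e (⟨y, hy⟩ : R))).symm
      calc y * (r'⁻¹ * a) = r'⁻¹ * (r' * y * r'⁻¹) * a := by group
        _ = r'⁻¹ * (a * y * a⁻¹) * a := by rw [h1]
        _ = _ := by group⟩
  have h1 := R.mul_mem hr' (hRc.2 R (isConj_refl F hRS) hC)
  rwa [mul_inv_cancel_left] at h1

theorem Pair.transports : Transports h.sys F := by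
  intro P hPT φ hφ α hα
  obtain ⟨χ, hχ, he⟩ := h.conj_mem_full hPT le_rfl (fun a ha _ _ _ => Subgroup.mem_sup_left ha) hφ
    (fun x => apply_mem hφ x) ((mem_autGroup_iff h.stronglyClosed.1).1 hα)
  exact ⟨χ, hχ, fun x hx hy => he x hy⟩

/-- The trace kernel at a centric radical subgroup is normal. -/
theorem Pair.traceKernel_normal {R : Subgroup Ω} (hRc : F.IsCentric R) (hRr : F.IsRadical p R) :
    (traceKernel h.sys F R).Normal := by
  have hT := h.stronglyClosed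
  have hR := hRc.1
  set T := T₁ ⊔ T₂ with hTdef
  refine ⟨fun k hk a => ?_⟩
  obtain ⟨β, hβ, hb⟩ := mem_traceKernel.1 hk
  have hR₀T : R ⊓ T ≤ T := inf_le_right
  have := finite_of_le (Ω := Ω) hT.1
  set ψ := (R.subtype.comp (a : MulAut R).toMonoidHom).comp
    (Subgroup.inclusion (inf_le_left : R ⊓ T ≤ R)) with hψdef
  have hψ : ψ ∈ F.Hom (R ⊓ T) := restrict_mem ((mem_autGroup_iff hR).1 a.2) _
  have hψmem : ∀ x, ψ x ∈ R ⊓ T := fun x =>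
    ⟨((a : MulAut R) _).2, apply_mem_of_stronglyClosed hT hR a.2 x.2.2⟩
  have := finite_of_le (Ω := Ω) (inf_le_left.trans hR : R ⊓ T ≤ S)
  have hψr : ψ.range = R ⊓ T := range_eq_of_le hψ (inf_le_left.trans hR) hψmem le_rfl
  obtain ⟨χ, hχ, he⟩ := h.conj_mem_full (P := R ⊓ T) (Q := R ⊓ T) le_rfl hR₀T
    (fun a' ha' b hb hab => ⟨h.mem_of_radical hRc hRr a' ha' b hb hab.1, Subgroup.mem_sup_left ha'⟩)
    ((mem_autGroup_iff hR₀T).1 hβ) (fun x => (β x).2) hψ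
  have himg : ((R ⊓ T).subgroupOf (R ⊓ T)).map ψ = R ⊓ T := by
    rw [Subgroup.subgroupOf_self, ← MonoidHom.range_eq_map, hψr]
  set χ' := χ.comp (Subgroup.inclusion himg.ge) with hχ'def
  have hχ' : χ' ∈ h.sys.Hom (R ⊓ T) := restrict_mem hχ _
  have hval : ∀ (x : ↥(R ⊓ T)) (y : ↥(R ⊓ T)), (y : Ω) = ψ x →
      χ' y = ψ ⟨(β x : ↥(R ⊓ T)), (β x).2⟩ := by
    intro x y hy
    have h2 : ψ (Subgroup.inclusion le_rfl x) ∈ ((R ⊓ T).subgroupOf (R ⊓ T)).map ψ :=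
      ⟨x, x.2, rfl⟩
    exact (congrArg χ (Subtype.ext hy)).trans (he x h2)
  have hχ'mem : ∀ y, χ' y ∈ R ⊓ T := fun y => by
    obtain ⟨x, hx⟩ := hψr.ge y.2
    rw [hval x y hx.symm]
    exact hψmem _
  have hχ'r : χ'.range = R ⊓ T :=
    range_eq_of_le (F := h.sys) hχ' hR₀T hχ'mem le_rfl
  refine mem_traceKernel.2 ⟨toAut hχ' hχ'r, toAut_mem hχ' hχ'r, fun y => ?_⟩
  obtain ⟨x, hx⟩ := hψr.ge y.2
  rw [coe_toAut, hval x y hx.symm,
    show (⟨y, y.2.1⟩ : R) = (a : MulAut R) ⟨x, x.2.1⟩ from Subtype.ext hx.symm]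
  show (((a : MulAut R) ((k : MulAut R) ((a : MulAut R)⁻¹ ((a : MulAut R) _))) : R) : Ω) = _
  rw [MulAut.inv_apply_self]
  exact congrArg (fun r : R => (((a : MulAut R) r : R) : Ω)) (Subtype.ext (hb x))

/-- The central product is invariant. -/
theorem Pair.isInvariantIn : h.sys.IsInvariantIn F := by
  have hT := h.stronglyClosed
  refine isInvariantIn_of_frattiniOn h.isSubsystemOf hT h.transports fun P φ hφ =>
    frattiniOn_of_step h.pgroup h.saturated hT h.transports ?_ hφ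
  set T := T₁ ⊔ T₂ with hTdef
  intro R hRn hRc hRr hbig α hα Q hQR hQT
  by_cases hTR : T ≤ R
  · obtain ⟨hαφ, -⟩ := hom_of_mem_autGroup hRn.1 hα
    have h1 := restrict_mem hαφ hTR
    have hr : ((R.subtype.comp α.toMonoidHom).comp (Subgroup.inclusion hTR)).range = T :=
      range_eq_of_le h1 hT.1 (fun x => hT.2 T le_rfl _ h1 x) le_rfl
    exact ⟨toAut h1 hr, toAut_mem h1 hr, Q.subtype, subtype_mem h.sys hQT, fun x hx => rfl⟩
  have := h.traceKernel_normal hRc hRr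
  obtain ⟨m, k, hk, hmk, R', hRR', hlt, χ, hχ, hχe⟩ := exists_frattini_extension h.pgroup
    h.saturated hT.1 (le_normalizer_of_stronglyClosed hT) hRn hTR (traceKernel h.sys F R)
    (fun g hgT hgN a ha => by
      have hg₀ : g ∈ Subgroup.normalizer ((R ⊓ T : Subgroup Ω) : Set Ω) := by
        rw [Subgroup.mem_normalizer_iff]
        intro y
        exact ⟨fun hy => ⟨(Subgroup.mem_normalizer_iff.1 hgN y).1 hy.1,
          (Subgroup.mem_normalizer_iff.1 (Subgroup.le_normalizer hgT) y).1 hy.2⟩,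
          fun hy => ⟨(Subgroup.mem_normalizer_iff.1 hgN y).2 hy.1,
          (Subgroup.mem_normalizer_iff.1 (Subgroup.le_normalizer hgT) y).2 hy.2⟩⟩
      exact mem_traceKernel.2 ⟨conjAut hg₀,
        autInducedBy_le_autGroup h.sys inf_le_right (conjAut_mem_autInducedBy hgT hg₀),
        fun x => ha _⟩) ⟨α, hα⟩
  obtain ⟨β, hβ, hkβ⟩ := mem_traceKernel.1 hk
  have hQ₀ : Q ≤ R ⊓ T := le_inf hQR hQT
  have hkQ := restrict_mem ((mem_autGroup_iff (inf_le_right : R ⊓ T ≤ T)).1 hβ) hQ₀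
  set k₀ := ((R ⊓ T).subtype.comp β.toMonoidHom).comp (Subgroup.inclusion hQ₀) with hk₀
  have hk₀R' : k₀.range ≤ R' := by
    rintro _ ⟨x, rfl⟩
    exact hRR' (β _).2.1
  obtain ⟨δ, hδ, φ₀, hφ₀, he⟩ := hbig R' hlt χ hχ k₀.range hk₀R' (range_le hkQ)
  refine ⟨δ, hδ, _, h.sys.comp_mem hkQ hφ₀ (fun x => ⟨x, rfl⟩), fun x hx => ?_⟩
  have h1 := he ⟨k₀ x, x, rfl⟩ hx
  refine Eq.trans ?_ h1
  have h2 := hχe ⟨k₀ x, (β _).2.1⟩
  refine Eq.trans ?_ (h2.symm.trans (congrArg χ (Subtype.ext rfl)))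
  show ((α (Subgroup.inclusion hQR x) : R) : Ω) = _
  rw [show α = (m : MulAut R) * (k : MulAut R) from congrArg Subtype.val hmk, MulAut.mul_apply]
  exact congrArg (fun r : R => (((m : MulAut R) r : R) : Ω))
    (Subtype.ext (hkβ (Subgroup.inclusion hQ₀ x)))

/-- An automorphism of `T₁` in `E₁`, extended to `T₁ T₂` by the identity, has a good extension. -/
theorem Pair.exists_bExt {U : Subgroup Ω} (hU : U = T₁ ⊔ T₂) {a₁ : MulAut T₁}
    (ha₁ : a₁ ∈ E₁.autGroup T₁) :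
    ∃ k : ℕ, ∃ c ∈ bExt F U,
      (∀ (x : T₁) (hx : (x : Ω) ∈ U), ((c ⟨x, hx⟩ : U) : Ω) = (((a₁ ^ p ^ k) x : T₁) : Ω)) ∧
      ∀ (y : T₂) (hy : (y : Ω) ∈ U), ((c ⟨y, hy⟩ : U) : Ω) = y := by
  subst hU
  have := h.finite₁
  have hT₁S := h.le₁
  have hb : a₁ ∈ bExt F T₁ := by
    obtain ⟨β, hβ, hβR, hβC⟩ := h.normal₁.2 a₁ ha₁
    exact ⟨β, hβ, fun x => Subtype.ext (hβR x), fun c hc => (hβC c hc).1⟩
  set W := rc S T₁ with hW
  set W' := rc S (T₁ ⊔ T₂) with hW'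
  obtain ⟨k, γ, hγ, hγord, hγR, hγC⟩ := exists_coprime_ext (p := p) hT₁S hb
  refine ⟨k, ?_⟩
  have hWS : W ≤ S := sup_le hT₁S (centralizerIn_le S T₁)
  have hCC : centralizerIn S (T₁ ⊔ T₂) ≤ centralizerIn S T₁ := centralizerIn_anti le_sup_left
  have hW'W : W' ≤ W := sup_le (sup_le_sup_left h.le_centralizer _) (hCC.trans le_sup_right)
  have hW'S : W' ≤ S := hW'W.trans hWS
  obtain ⟨hg, -⟩ := hom_of_mem_autGroup hWS hγ
  have hγ₁ : ∀ (x : Ω) (hx : x ∈ T₁) (hxW : x ∈ W),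
      ((γ ⟨x, hxW⟩ : W) : Ω) = (((a₁ ^ p ^ k) ⟨x, hx⟩ : T₁) : Ω) :=
    fun x hx hxW => congrArg Subtype.val (hγR ⟨x, hx⟩)
  have hγ₂ : ∀ (y : Ω) (hy : y ∈ T₂) (hyW : y ∈ W), ((γ ⟨y, hyW⟩ : W) : Ω) = y := by
    intro y hy hyW
    have hyC : y ∈ centralizerIn S T₁ := h.le_centralizer hy
    have hγy : ((γ ⟨y, hyW⟩ : W) : Ω) ∈ T₂ := h.closed₂.2 (W ⊓ T₂) inf_le_right _
      (restrict_mem hg inf_le_left) ⟨y, hyW, hy⟩
    set u : W := (⟨y, hyW⟩ : W)⁻¹ * γ ⟨y, hyW⟩ with hu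
    have hu₀ : (u : Ω) ∈ T₁ ⊓ T₂ := ⟨hγC ⟨y, hyW⟩ hyC, T₂.mul_mem (T₂.inv_mem hy) hγy⟩
    have hγu : γ u = u := Subtype.ext (by
      rw [show u = ⟨(u : Ω), u.2⟩ from rfl, hγ₁ _ hu₀.1 u.2,
        aut_apply_center le_rfl (pow_mem ha₁ _) _ (h.le_center₁ hu₀)])
    exact congrArg Subtype.val (eq_self_of_translate (h.pgroup.to_le hWS) hγord hγu)
  have hγC' : ∀ (c : Ω) (hc : c ∈ centralizerIn S (T₁ ⊔ T₂)) (hcW : c ∈ W),
      c⁻¹ * ((γ ⟨c, hcW⟩ : W) : Ω) ∈ T₁ := fun c hc hcW => hγC ⟨c, hcW⟩ (hCC hc)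
  -- the restriction to `U`
  have hUW : T₁ ⊔ T₂ ≤ W := le_sup_left.trans hW'W
  have hcF := restrict_mem hg hUW
  set cU := (W.subtype.comp γ.toMonoidHom).comp (Subgroup.inclusion hUW) with hcU
  have hcr : cU.range = T₁ ⊔ T₂ := range_eq_of_le hcF (sup_le h.le₁ h.le₂)
    (fun z => h.stronglyClosed.2 _ le_rfl _ hcF z) le_rfl
  have hW'mem : ∀ z : W', ((γ (Subgroup.inclusion hW'W z) : W) : Ω) ∈ W' := forall_sup_mem
    (((W.subtype.comp γ.toMonoidHom).comp (Subgroup.inclusion hW'W)))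
    (fun z => Subgroup.mem_sup_left (hcr.le ⟨z, rfl⟩))
    (fun c => by
      show ((γ ⟨(c : Ω), _⟩ : W) : Ω) ∈ W'
      have h1 := hγC' c c.2 (hW'W (Subgroup.mem_sup_right c.2))
      have h2 := Subgroup.mul_mem W' (Subgroup.mem_sup_right c.2 : (c : Ω) ∈ W')
        (Subgroup.mem_sup_left (Subgroup.mem_sup_left h1))
      rwa [mul_inv_cancel_left] at h2)
  have hg' := restrict_mem hg hW'W
  have hg'r : ((W.subtype.comp γ.toMonoidHom).comp (Subgroup.inclusion hW'W)).range = W' :=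
    range_eq_of_le hg' hW'S hW'mem le_rfl
  refine ⟨toAut hcF hcr, ⟨toAut hg' hg'r, toAut_mem hg' hg'r, fun z => Subtype.ext rfl,
    fun c hc => Subgroup.mem_sup_left (hγC' c hc (hW'W c.2))⟩, fun x hx => hγ₁ x x.2 (hUW hx),
    fun y hy => hγ₂ y y.2 (hUW hy)⟩

/-- The restriction of an automorphism of the central product to `T₁`. -/
theorem Pair.exists_restrict {a : MulAut ↥(T₁ ⊔ T₂)} (ha : a ∈ h.sys.autGroup (T₁ ⊔ T₂)) :
    ∃ a₁ ∈ E₁.autGroup T₁, ∀ x : T₁,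
      ((a (Subgroup.inclusion le_sup_left x) : ↥(T₁ ⊔ T₂)) : Ω) = ((a₁ x : T₁) : Ω) := by
  have := h.finite₁
  obtain ⟨φ₁, hφ₁, φ₂, hφ₂, hv⟩ := h.exists_split ((mem_autGroup_iff le_rfl).1 ha)
  have hp : T₁ ≤ proj T₁ T₂ (T₁ ⊔ T₂) :=
    le_inf (le_sup_left.trans le_sup_left) le_rfl
  have h1 := restrict_mem hφ₁ hp
  have hr : (φ₁.comp (Subgroup.inclusion hp)).range = T₁ :=
    range_eq_of_le h1 le_rfl (fun x => apply_mem h1 x) le_rfl
  refine ⟨toAut h1 hr, toAut_mem h1 hr, fun x => ?_⟩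
  have h2 := hv (Subgroup.inclusion le_sup_left x) x 1 (hp x.2) (one_mem _) (mul_one _)
  rw [show (⟨1, one_mem _⟩ : proj T₂ T₁ (T₁ ⊔ T₂)) = 1 from rfl, map_one, mul_one] at h2
  exact h2

/-- The central product of normal subsystems is normal. -/
theorem Pair.isNormalIn : h.sys.IsNormalIn F p := by
  refine ⟨⟨h.isSaturated, h.saturated, h.isInvariantIn⟩, ?_⟩
  set T := T₁ ⊔ T₂ with hTdef
  have hTS : T ≤ S := sup_le h.le₁ h.le₂
  have := finite_of_le (Ω := Ω) hTS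
  have hTp : IsPGroup p T := h.pgroup.to_le hTS
  suffices hB : h.sys.autGroup T ≤ bExt F T by
    intro α hα
    obtain ⟨γ, hγ, hγT, hγC⟩ := hB hα
    have hWS : rc S T ≤ S := sup_le hTS (centralizerIn_le S T)
    refine ⟨γ, hγ, fun x => congrArg Subtype.val (hγT x), fun c hc => ⟨hγC c hc, ?_⟩⟩
    refine (mem_centralizerIn.1 (Subgroup.mul_mem _ (Subgroup.inv_mem _ hc)
      (map_centralizerIn le_sup_left ((mem_autGroup_iff hWS).1 hγ) (fun y hy => ?_) c hc))).2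
    show ((γ y : ↥(rc S T)) : Ω) ∈ T
    rw [show y = Subgroup.inclusion le_sup_left (⟨(y : Ω), hy⟩ : T) from rfl, hγT]
    exact (α ⟨_, hy⟩).2
  refine autGroup_le_of_residual (p := p) (isFullyAutomized_self hTp h.isSaturated) ?_ ?_
  swap
  · intro a ha
    obtain ⟨y, hy, hay⟩ := mem_autInducedBy_iff.1 ha
    rw [show a = conjAut (mem_normalizer_of_aut hay) from
      MulEquiv.ext fun x => Subtype.ext (hay x)]
    exact conjAut_mem_bExt hTS hTS (le_normalizer_of_stronglyClosed h.stronglyClosed)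
      (centralizerIn_le T T) hy _
  rw [pResidual, MonoidHom.map_closure, Subgroup.closure_le]
  rintro _ ⟨a, ha, rfl⟩
  obtain ⟨a₁, ha₁, e₁⟩ := h.exists_restrict a.2
  obtain ⟨k, c, hc, hc₁, hc₂⟩ := h.exists_bExt rfl ha₁
  -- the same on the other side
  obtain ⟨φ₁, hφ₁, φ₂, hφ₂, hv⟩ := h.exists_split ((mem_autGroup_iff le_rfl).1 a.2)
  have := h.finite₂
  have hp₂ : T₂ ≤ proj T₂ T₁ T := le_inf (le_sup_right.trans le_sup_left) le_rfl
  have h1 := restrict_mem hφ₂ hp₂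
  have hr₂ : (φ₂.comp (Subgroup.inclusion hp₂)).range = T₂ :=
    range_eq_of_le h1 le_rfl (fun x => apply_mem h1 x) le_rfl
  set a₂ := toAut h1 hr₂ with ha₂
  have e₂ : ∀ y : T₂, (((a : MulAut T) (Subgroup.inclusion le_sup_right y) : T) : Ω) =
      ((a₂ y : T₂) : Ω) := fun y => by
    have h2 := hv (Subgroup.inclusion le_sup_right y) 1 y (one_mem _) (hp₂ y.2) (one_mul _)
    rw [show (⟨1, one_mem _⟩ : proj T₁ T₂ T) = 1 from rfl, map_one, one_mul] at h2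
    exact h2
  obtain ⟨l, d, hd, hd₂, hd₁⟩ := h.swap.exists_bExt (sup_comm T₁ T₂) (toAut_mem h1 hr₂)
  -- powers
  have hpa : ∀ (n : ℕ) (x : T₁), ((((a : MulAut T) ^ n) (Subgroup.inclusion le_sup_left x) : T) : Ω) =
      (((a₁ ^ n) x : T₁) : Ω) := by
    intro n
    induction n with
    | zero => exact fun x => rfl
    | succ n ih =>
      intro x
      rw [pow_succ, MulAut.mul_apply,
        show (a : MulAut T) (Subgroup.inclusion le_sup_left x) = Subgroup.inclusion le_sup_left (a₁ x)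
          from Subtype.ext (e₁ x), ih, pow_succ, MulAut.mul_apply]
  have hpb : ∀ (n : ℕ) (y : T₂), ((((a : MulAut T) ^ n) (Subgroup.inclusion le_sup_right y) : T) : Ω) =
      (((a₂ ^ n) y : T₂) : Ω) := by
    intro n
    induction n with
    | zero => exact fun x => rfl
    | succ n ih =>
      intro y
      rw [pow_succ, MulAut.mul_apply,
        show (a : MulAut T) (Subgroup.inclusion le_sup_right y) = Subgroup.inclusion le_sup_right (a₂ y)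
          from Subtype.ext (e₂ y), ih, pow_succ, MulAut.mul_apply]
  have hpc : ∀ (n : ℕ), (∀ x : T₁, (((c ^ n) (Subgroup.inclusion le_sup_left x) : T) : Ω) =
      ((((a₁ ^ p ^ k) ^ n) x : T₁) : Ω)) ∧ ∀ y : T₂,
      (((c ^ n) (Subgroup.inclusion le_sup_right y) : T) : Ω) = y := by
    intro n
    induction n with
    | zero => exact ⟨fun x => rfl, fun y => rfl⟩
    | succ n ih =>
      refine ⟨fun x => ?_, fun y => ?_⟩
      · rw [pow_succ, MulAut.mul_apply, show c (Subgroup.inclusion le_sup_left x) =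
          Subgroup.inclusion le_sup_left ((a₁ ^ p ^ k) x) from Subtype.ext (hc₁ x _), ih.1,
          pow_succ (a₁ ^ p ^ k), MulAut.mul_apply]
      · rw [pow_succ, MulAut.mul_apply, show c (Subgroup.inclusion le_sup_right y) =
          Subgroup.inclusion le_sup_right y from Subtype.ext (hc₂ y _), ih.2]
  have hpd : ∀ (n : ℕ), (∀ y : T₂, (((d ^ n) (Subgroup.inclusion le_sup_right y) : T) : Ω) =
      ((((a₂ ^ p ^ l) ^ n) y : T₂) : Ω)) ∧ ∀ x : T₁,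
      (((d ^ n) (Subgroup.inclusion le_sup_left x) : T) : Ω) = x := by
    intro n
    induction n with
    | zero => exact ⟨fun x => rfl, fun y => rfl⟩
    | succ n ih =>
      refine ⟨fun x => ?_, fun y => ?_⟩
      · rw [pow_succ, MulAut.mul_apply, show d (Subgroup.inclusion le_sup_right x) =
          Subgroup.inclusion le_sup_right ((a₂ ^ p ^ l) x) from Subtype.ext (hd₂ x _), ih.1,
          pow_succ (a₂ ^ p ^ l), MulAut.mul_apply]
      · rw [pow_succ, MulAut.mul_apply, show d (Subgroup.inclusion le_sup_left y) =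
          Subgroup.inclusion le_sup_left y from Subtype.ext (hd₁ y _), ih.2]
  have heq : c ^ p ^ l * d ^ p ^ k = (a : MulAut T) ^ p ^ (k + l) := by
    have hhom : (T.subtype.comp (c ^ p ^ l * d ^ p ^ k).toMonoidHom) =
        T.subtype.comp ((a : MulAut T) ^ p ^ (k + l)).toMonoidHom := by
      refine hom_sup_ext (fun x => ?_) fun y => ?_
      · show (((c ^ p ^ l) ((d ^ p ^ k) _) : T) : Ω) = _
        rw [show (d ^ p ^ k) (Subgroup.inclusion le_sup_left x) = Subgroup.inclusion le_sup_left x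
          from Subtype.ext ((hpd _).2 x), (hpc _).1, ← pow_mul, ← pow_add]
        exact (hpa _ x).symm
      · show (((c ^ p ^ l) ((d ^ p ^ k) _) : T) : Ω) = _
        rw [show (d ^ p ^ k) (Subgroup.inclusion le_sup_right y) = Subgroup.inclusion le_sup_right
          (((a₂ ^ p ^ l) ^ p ^ k) y) from Subtype.ext ((hpd _).1 y), (hpc _).2, ← pow_mul,
          ← pow_add, add_comm l k]
        exact (hpb _ y).symm
    exact MulEquiv.ext fun z => Subtype.ext (DFunLike.congr_fun hhom z)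
  have hmem : (a : MulAut T) ^ p ^ (k + l) ∈ bExt F T :=
    heq ▸ mul_mem (pow_mem hc _) (pow_mem hd _)
  have hacop : (orderOf (a : MulAut T)).Coprime p := by rwa [Subgroup.orderOf_coe]
  exact Subgroup.zpowers_le.2 hmem (mem_zpowers_pow_iff.2 (hacop.pow_right (k + l)).symm)

omit h

/-- The centralizer of a central strongly closed subgroup in a normal subsystem is normal. -/
theorem exists_normal_central (hS : IsPGroup p S) {T : Subgroup Ω} {E : FusionSystem T}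
    (hE : E.IsNormalIn F p) {Z : Subgroup Ω} (hZ : F.StronglyClosed Z) (hZT : Z ≤ T)
    (hc : ∀ z ∈ Z, ∀ t ∈ T, z * t = t * z) :
    ∃ E' : FusionSystem T, E'.IsNormalIn F p ∧ Z ≤ E'.center := by
  obtain ⟨⟨hEs, hF, hEi⟩, hext⟩ := id hE
  have hTS := hEi.2.1.1
  have := finite_of_le (Ω := Ω) hTS
  have hTp : IsPGroup p T := hS.to_le hTS
  have hab : IsMulCommutative Z := ⟨⟨fun a b => Subtype.ext (hc a a.2 b (hZT b.2))⟩⟩
  have hZn : F.IsNormal Z := isNormal_of_abelian hS hF hZ hab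
  have hZE : E.StronglyClosed Z := ⟨hZT, fun R hR φ hφ x => hZ.2 R hR φ (hEi.1 R hφ) x⟩
  have hZEn : E.IsNormal Z := isNormal_of_abelian hTp hEs hZE hab
  set C := centralizerSystem E Z hZT with hC
  have hCs : C.IsSaturated p := centralizerSystem_saturated hTp hEs
    (CoreCentralizer.isFullyCentralized hTp hEs hZEn) (centralizerSystem_spec E Z hZT)
  have hCT : centralizerIn T Z = T :=
    le_antisymm (centralizerIn_le T Z) fun t ht => mem_centralizerIn.2 ⟨ht, fun z hz => hc z hz t ht⟩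
  have hsub : C.IsSubsystemOf F := fun P φ hφ => hEi.1 P hφ.1
  have hTcl : F.StronglyClosed (centralizerIn T Z) := by rw [hCT]; exact hEi.2.1
  have hinv : StronglyInvariant C F := by
    intro P Q hPQ hQT φ hφ hφQ ψ hψ
    obtain ⟨hφE, -, hφC, φ', hφ', hφ'P, hφ'Z⟩ := hφ
    obtain ⟨ψ', hψ', hψ'Q, hψ'Z⟩ := hZn.2 Q ψ hψ
    have hle : P ⊔ Z ≤ Q ⊔ Z := sup_le_sup_right hPQ Z
    have hQT' : Q ⊔ Z ≤ T := sup_le (hQT.trans (centralizerIn_le T Z)) hZT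
    have hφ'Q : ∀ z, φ' z ∈ Q ⊔ Z := forall_sup_mem φ'
      (fun x => Subgroup.mem_sup_left (by rw [hφ'P]; exact hφQ x))
      fun z => Subgroup.mem_sup_right (by rw [hφ'Z]; exact z.2)
    set P₁ := (P.subgroupOf Q).map ψ with hP₁
    set P₂ := ((P ⊔ Z).subgroupOf (Q ⊔ Z)).map ψ' with hP₂
    obtain ⟨χ, hχ, hχe⟩ :=
      stronglyInvariant_of_invariant hEi (P ⊔ Z) (Q ⊔ Z) hle hQT' φ' hφ' hφ'Q ψ' hψ'
    have h12 : P₁ ≤ P₂ := by
      rintro _ ⟨x, hx, rfl⟩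
      exact ⟨Subgroup.inclusion le_sup_left x, Subgroup.mem_sup_left hx, hψ'Q x⟩
    have hZ2 : ∀ (z : Ω) (hz : z ∈ Z) (hz' : z ∈ P₂), χ ⟨z, hz'⟩ = z := by
      intro z hz hz'
      obtain ⟨w, hw, hwz⟩ := hψ'Z.ge hz
      have hw' : (w : Ω) ∈ P ⊔ Z := Subgroup.mem_sup_right hw
      have h1 := hχe ⟨w, hw'⟩ ⟨w, hw', rfl⟩
      refine (congrArg χ (Subtype.ext hwz.symm : (⟨z, hz'⟩ : P₂) = ⟨ψ' w, ⟨w, hw', rfl⟩⟩)).trans
        (h1.trans ?_)
      rw [← hwz]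
      exact congrArg ψ' (Subtype.ext (hφ'Z ⟨w, hw⟩))
    have hP₂Z : P₁ ⊔ Z ≤ P₂ := sup_le h12 fun z hz => by
      obtain ⟨w, hw, hwz⟩ := hψ'Z.ge hz
      exact ⟨w, Subgroup.mem_sup_right hw, hwz⟩
    have hval : ∀ (x : P) (hx : ψ (Subgroup.inclusion hPQ x) ∈ P₂),
        χ ⟨ψ (Subgroup.inclusion hPQ x), hx⟩ = ψ ⟨φ x, hφQ x⟩ := by
      intro x hx
      have hm : ψ' (Subgroup.inclusion hle (Subgroup.inclusion le_sup_left x)) ∈ P₂ :=
        ⟨_, Subgroup.mem_sup_left x.2, rfl⟩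
      refine (congrArg χ (Subtype.ext (hψ'Q (Subgroup.inclusion hPQ x)).symm :
        (⟨_, hx⟩ : P₂) = ⟨_, hm⟩)).trans ((hχe _ hm).trans ?_)
      refine Eq.trans ?_ (hψ'Q ⟨φ x, hφQ x⟩)
      exact congrArg ψ' (Subtype.ext (hφ'P x))
    have hP₁T : P₁ ≤ T := h12.trans (dom_le hχ)
    refine ⟨χ.comp (Subgroup.inclusion h12), ⟨restrict_mem hχ h12, hCT.symm ▸ hP₁T,
      fun y => hCT.symm ▸ apply_mem hχ _, χ.comp (Subgroup.inclusion hP₂Z), restrict_mem hχ hP₂Z,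
      fun y => rfl, fun z => hZ2 z z.2 _⟩, fun x hx => hval x (h12 hx)⟩
  have hnorm : C.IsNormalIn F p := by
    refine ⟨⟨hCs, hF, isInvariantIn_of_stronglyInvariant hS hF hsub hTcl hinv⟩, fun α hα => ?_⟩
    have hgen : ∀ (U : Subgroup Ω), U = T → ∀ α : MulAut U, α ∈ E.autGroup U →
        ∃ β ∈ F.autGroup (U ⊔ centralizerIn S U),
          (∀ x : U, ((β (Subgroup.inclusion le_sup_left x) : ↥(U ⊔ centralizerIn S U)) : Ω) =
            ((α x : U) : Ω)) ∧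
          ∀ c : ↥(U ⊔ centralizerIn S U), (c : Ω) ∈ centralizerIn S U →
            (c : Ω)⁻¹ * ((β c : ↥(U ⊔ centralizerIn S U)) : Ω) ∈
              U ⊓ Subgroup.centralizer (U : Set Ω) := by
      rintro U rfl α hα
      exact hext α hα
    exact hgen _ hCT α (Subgroup.closure_mono (fun β hβ => hβ.1) hα)
  have hcen : Z ≤ C.center := by
    refine le_sSup ⟨hCT.symm ▸ hZT, fun P φ hφ => ?_⟩
    obtain ⟨hφE, hP, hφC, ψ, hψ, hψP, hψZ⟩ := hφ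
    have hPZ : P ⊔ Z ≤ T := dom_le hψ
    refine ⟨ψ, ⟨hψ, hCT.symm ▸ hPZ, fun x => hCT.symm ▸ apply_mem hψ x,
      ψ.comp (Subgroup.inclusion (sup_le le_rfl le_sup_right)), restrict_mem hψ _, fun x => rfl,
      fun z => hψZ z⟩, hψP, hψZ⟩
  exact transfer hCT C hnorm hcen
where
  transfer {U T : Subgroup Ω} {F : FusionSystem S} {Z : Subgroup Ω} (e : U = T) (C : FusionSystem U)
      (h1 : C.IsNormalIn F p) (h2 : Z ≤ C.center) :
      ∃ E' : FusionSystem T, E'.IsNormalIn F p ∧ Z ≤ E'.center := by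
    subst e
    exact ⟨C, h1, h2⟩

end Cfsg.Agent.Fusion.CentralProductSystem
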