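import Cfsg.Agent.Lib.Fusion.ModelTransfer
import Cfsg.Agent.Lib.Fusion.ModelFacts
import Mathlib.Data.Int.GCD

/-!
Uniqueness of models, by averaging over the cosets of the Sylow subgroup.
-/

set_option autoImplicit false
set_option linter.unusedSectionVars false

namespace Cfsg.Agent.Fusion.Model

open Cfsg Cfsg.FusionSystem Cfsg.Agent.Fusion.ModelTransfer

variable {Ω : Type*} [Group Ω] {S : Subgroup Ω} {p : ℕ} {F : FusionSystem S}
variable [Finite S] [Fact p.Prime] {Q : Subgroup Ω}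
variable {G : Type*} [Group G] {ι : S →* G}

/-- The action of a model on `Q`. -/
theorem exists_act (hS : IsPGroup p S) (hF : F.IsSaturated p) (h : F.IsModel p G ι)
    (hn : F.IsNormal Q) (hc : F.IsCentric Q) :
    ∃ π : G →* MulAut Q,
      (∀ g (q : Q), ι ⟨((π g q : Q) : Ω), hn.1 (π g q).2⟩ = g * ι ⟨(q : Ω), hn.1 q.2⟩ * g⁻¹) ∧
      (∀ g, π g = 1 → g ∈ pushSub ι Q) ∧
      ∀ α, α ∈ F.autGroup Q ↔ ∃ g, π g = α := by
  obtain ⟨hfin, hι, -⟩ := id h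
  have hmem : ∀ (g : G) (q : Q), g * ι ⟨(q : Ω), hn.1 q.2⟩ * g⁻¹ ∈ ι.range := fun g q =>
    pushSub_le ι Q (conj_pushSub_mem h hn g ⟨_, q.2, rfl⟩)
  have hφ := fun g => pullHom_mem hι hn.1 g (hmem g)
  have hr : ∀ g, (pullHom hι.1 hn.1 g (hmem g)).range = Q := fun g =>
    range_eq_of_le (hφ g) hn.1
      (fun q => (stronglyClosed_of_isNormal hn).2 Q le_rfl _ (hφ g) q) le_rfl
  let a : G → MulAut Q := fun g => toAut (hφ g) (hr g)
  have hv : ∀ g (q : Q),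
      ι ⟨((a g q : Q) : Ω), hn.1 (a g q).2⟩ = g * ι ⟨(q : Ω), hn.1 q.2⟩ * g⁻¹ := by
    intro g q
    rw [← apply_pullHom hι.1 hn.1 g (hmem g) q (apply_mem (hφ g) q)]
    exact congrArg ι (Subtype.ext (coe_toAut (hφ g) (hr g) q))
  have hext : ∀ α β : MulAut Q,
      (∀ q : Q, ι ⟨((α q : Q) : Ω), hn.1 (α q).2⟩ = ι ⟨((β q : Q) : Ω), hn.1 (β q).2⟩) → α = β :=
    fun α β he => MulEquiv.ext fun q =>
      Subtype.ext (congrArg (fun s : S => (s : Ω)) (hι.1 (he q)))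
  refine ⟨MonoidHom.mk' a fun g h => hext _ _ fun q => ?_, hv, fun g hg => ?_, fun α => ⟨fun hα => ?_, ?_⟩⟩
  · rw [hv, MulAut.mul_apply, hv, hv]
    group
  · refine mem_pushSub_of_centralizes hS hF h hn hc fun y hy => ?_
    obtain ⟨s, hs, rfl⟩ := hy
    have h1 := hv g ⟨(s : Ω), hs⟩
    rw [show a g = 1 from hg] at h1
    exact mul_inv_eq_iff_eq_mul.1 h1.symm
  · obtain ⟨_hP, _hφ, g, hg⟩ := (realized_hom_iff hι).1 ((mem_autGroup_iff hn.1).1 hα)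
    exact ⟨g, hext _ _ fun q => (hv g q).trans (hg q).symm⟩
  · rintro ⟨g, rfl⟩
    exact toAut_mem (hφ g) (hr g)

/-- There is an injective homomorphism between two models compatible with the embeddings. -/
theorem exists_hom {G₁ G₂ : Type*} [Group G₁] [Group G₂] {ι₁ : S →* G₁} {ι₂ : S →* G₂}
    (hS : IsPGroup p S) (hF : F.IsSaturated p) (h₁ : F.IsModel p G₁ ι₁) (h₂ : F.IsModel p G₂ ι₂)
    (hn : F.IsNormal Q) (hc : F.IsCentric Q) :
    ∃ φ : G₁ →* G₂, Function.Injective φ ∧ ∀ x, φ (ι₁ x) = ι₂ x := by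
  classical
  obtain ⟨π₁, hv₁, hk₁, hA₁⟩ := exists_act hS hF h₁ hn hc
  obtain ⟨π₂, hv₂, hk₂, hA₂⟩ := exists_act hS hF h₂ hn hc
  obtain ⟨hfin₁, hι₁, ⟨T, hT⟩, -⟩ := h₁
  obtain ⟨hfin₂, hι₂, -, -⟩ := h₂
  have : Finite (MulAut Q) := finite_mulAut (Ω := Ω) hn.1
  -- the two actions agree on `S`
  have hS12 : ∀ s : S, π₁ (ι₁ s) = π₂ (ι₂ s) := by
    intro s
    refine MulEquiv.ext fun q => Subtype.ext ?_
    have e1 := hv₁ (ι₁ s) q
    have e2 := hv₂ (ι₂ s) q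
    rw [← map_inv, ← map_mul, ← map_mul] at e1 e2
    exact (congrArg Subtype.val (hι₁.1 e1)).trans (congrArg Subtype.val (hι₂.1 e2)).symm
  have : IsMulCommutative ↥π₂.ker := ⟨⟨fun a b => Subtype.ext <| by
    obtain ⟨s, hs, hb⟩ := hk₂ (b : G₂) (MonoidHom.mem_ker.1 b.2)
    have h1 := hv₂ a ⟨(s : Ω), hs⟩
    rw [MonoidHom.mem_ker.1 a.2] at h1
    show (a : G₂) * b = b * a
    rw [← hb]
    exact mul_inv_eq_iff_eq_mul.1 h1.symm⟩⟩
  let X := G₁ ⧸ ι₁.range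
  obtain ⟨k, hk⟩ := IsPGroup.iff_card.1 hS
  obtain ⟨m, hm⟩ : ∃ m : ℕ, ∀ z : π₂.ker, (z ^ Nat.card X) ^ m = z := by
    have hco : (Nat.card X).Coprime (p ^ k) := by
      refine ((Fact.out : p.Prime).coprime_iff_not_dvd.2 ?_).symm.pow_right k
      show ¬ p ∣ ι₁.range.index
      rw [← hT]
      exact T.not_dvd_index
    obtain ⟨m, -, hm⟩ := Nat.exists_mul_mod_eq_of_coprime 1 hco
      (pow_ne_zero k (Fact.out : p.Prime).ne_zero)
    refine ⟨m, fun z => ?_⟩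
    have hz : z ^ p ^ k = 1 := by
      apply Subtype.ext
      obtain ⟨s, -, hs⟩ := hk₂ (z : G₂) (MonoidHom.mem_ker.1 z.2)
      rw [Subgroup.coe_pow, ← hs, ← map_pow, ← hk, pow_card_eq_one', map_one, Subgroup.coe_one]
    rw [← pow_mul, pow_eq_pow_mod _ hz, hm, ← pow_eq_pow_mod _ hz, pow_one]
  have hA : ∀ g : G₁, ∃ y : G₂, π₂ y = π₁ g := fun g => (hA₂ _).1 ((hA₁ _).2 ⟨g, rfl⟩)
  choose lift hlift using hA
  have hcomp : ∀ (g : G₁) (c : X), ∃ s : S, ι₁ s = (g • c).out⁻¹ * g * c.out := by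
    intro g c
    have h1 : (g • c).out⁻¹ * g * c.out ∈ ι₁.range := by
      rw [mul_assoc]
      refine QuotientGroup.eq.1 ?_
      rw [QuotientGroup.out_eq']
      conv_lhs => rw [← QuotientGroup.out_eq' c]
      rfl
    exact h1
  choose sc hsc using hcomp
  have hsc_mul : ∀ g h c, sc (g * h) c = sc g (h • c) * sc h c := fun g h c => hι₁.1 (by
    rw [map_mul, hsc, hsc, hsc, mul_smul]
    group)
  let C : G₁ → X → G₂ := fun g c => lift (g • c).out * ι₂ (sc g c) * (lift c.out)⁻¹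
  have hC : ∀ g c, π₂ (C g c) = π₂ (lift g) := by
    intro g c
    rw [map_mul, map_mul, map_inv, hlift, hlift, hlift, ← hS12, hsc, map_mul, map_mul, map_inv]
    group
  have hC_mul : ∀ g h c, C (g * h) c = C g (h • c) * C h c := by
    intro g h c
    simp only [C]
    rw [hsc_mul, map_mul, mul_smul]
    group
  let φ : G₁ →* G₂ := MonoidHom.mk' (fun g => avg π₂ m (C g) (lift g)) fun g h => by
    rw [avg_congr (π := π₂) m (hC_mul g h)]
    have h1 := avg_mul (π := π₂) m (MulAction.toPerm h : X ≃ X) (hC g) (hC h)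
    rw [← h1]
    refine avg_base m hm (fun c => ?_) ?_
    · exact (map_mul π₂ (C g _) (C h c)).trans
        ((congrArg₂ (· * ·) (hC g _) (hC h c)).trans (map_mul π₂ _ _).symm)
    · rw [map_mul, hlift, hlift, hlift, map_mul]
  have hπφ : ∀ g, π₂ (φ g) = π₁ g := fun g => by
    show π₂ (avg π₂ m _ _) = _
    rw [map_avg, hlift]
  -- compare with `ι₂` on `S`
  let _ : MulAction S X := MulAction.compHom X ι₁
  obtain ⟨e, he, hec⟩ := exists_cohomologous π₂.ker (fun (w : S) (_ : X) => ι₂ w)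
    (fun (w : S) (c : X) => C (ι₁ w) c) (fun v w _ => map_mul ι₂ v w)
    (fun v w c => by
      show C (ι₁ (v * w)) c = _
      rw [map_mul, hC_mul]
      rfl)
    (fun w c z hz => by
      rw [MonoidHom.mem_ker, map_mul, map_mul, map_inv, hC, MonoidHom.mem_ker.1 hz, hlift, hS12,
        mul_one, mul_inv_cancel])
    (fun c => by
      set D : Subgroup Ω := (MulAction.stabilizer S c).map S.subtype
      have hDS : D ≤ S := Subgroup.map_subtype_le _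
      have hstab : ∀ x : D, ι₁ ⟨(x : Ω), hDS x.2⟩ • c = c := by
        rintro ⟨_, s, hs, rfl⟩
        exact hs
      have hmem₁ : ∀ x : D, c.out⁻¹ * ι₁ ⟨x, hDS x.2⟩ * (c.out⁻¹)⁻¹ ∈ ι₁.range := fun x => by
        refine ⟨sc (ι₁ ⟨x, hDS x.2⟩) c, ?_⟩
        rw [hsc, hstab, inv_inv]
      have hφ₁ := pullHom_mem hι₁ hDS c.out⁻¹ hmem₁
      set D' := (pullHom hι₁.1 hDS c.out⁻¹ hmem₁).range with hD'
      have hD'S : D' ≤ S := range_le hφ₁
      have hval : ∀ x : D, (⟨pullHom hι₁.1 hDS c.out⁻¹ hmem₁ x, apply_mem hφ₁ x⟩ : S) =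
          sc (ι₁ ⟨x, hDS x.2⟩) c := fun x => hι₁.1 (by rw [apply_pullHom, hsc, hstab, inv_inv])
      have hker : π₂.ker ≤ ι₂.range := fun z hz => pushSub_le ι₂ Q (hk₂ z hz)
      have hmem₂ : ∀ y : D', lift c.out * ι₂ ⟨y, hD'S y.2⟩ * (lift c.out)⁻¹ ∈ ι₂.range := by
        rintro ⟨_, x, rfl⟩
        have h1 : C (ι₁ ⟨x, hDS x.2⟩) c * (ι₂ ⟨x, hDS x.2⟩)⁻¹ ∈ ι₂.range :=
          hker (mem_ker_of_eq (by rw [hC, hlift, hS12]))
        have h2 := mul_mem h1 (MonoidHom.mem_range.2 ⟨⟨x, hDS x.2⟩, rfl⟩)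
        rw [inv_mul_cancel_right] at h2
        rw [hval]
        convert h2 using 1
        simp only [C, hstab]
      have hφ₂ := pullHom_mem hι₂ hD'S (lift c.out) hmem₂
      have hψ : ∀ x : D, ι₂ ⟨_, apply_mem hφ₂ ⟨_, ⟨x, rfl⟩⟩⟩ = C (ι₁ ⟨x, hDS x.2⟩) c := fun x => by
        rw [apply_pullHom, hval]
        simp only [C, hstab]
      have hψmem := F.comp_mem hφ₁ hφ₂ fun x => ⟨x, rfl⟩
      have hQD : Q ≤ D := fun x hx => by
        refine ⟨⟨x, hn.1 hx⟩, ?_, rfl⟩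
        show ι₁ ⟨x, hn.1 hx⟩ • c = c
        obtain ⟨s, hs⟩ : c.out⁻¹ * ι₁ ⟨x, hn.1 hx⟩ * c.out ∈ ι₁.range := by
          have h1 := hv₁ c.out⁻¹ ⟨x, hx⟩
          rw [inv_inv] at h1
          exact ⟨_, h1⟩
        have hkey : (QuotientGroup.mk (ι₁ ⟨x, hn.1 hx⟩ * c.out) : X) = QuotientGroup.mk c.out :=
          QuotientGroup.eq.2 ⟨s⁻¹, by rw [map_inv, hs]; group⟩
        have hsm : ι₁ ⟨x, hn.1 hx⟩ • c = (QuotientGroup.mk (ι₁ ⟨x, hn.1 hx⟩ * c.out) : X) := by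
          conv_lhs => rw [← QuotientGroup.out_eq' c]
          rfl
        rw [hsm, hkey, QuotientGroup.out_eq']
      obtain ⟨z, hzQ, hzc, hzy⟩ := exists_conj_of_agree hS hF hQD hc (subtype_mem F hDS) hψmem
        (fun x hx => by
          refine congrArg Subtype.val (?_ : (⟨(x : Ω), hDS x.2⟩ : S) = ⟨_, apply_mem hψmem x⟩)
          refine hι₂.1 (Eq.trans ?_ (hψ x).symm)
          simp only [C, hstab]
          obtain ⟨s, hs⟩ : ∃ s : S, s = sc (ι₁ ⟨(x : Ω), hDS x.2⟩) c := ⟨_, rfl⟩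
          rw [← hs]
          have h1 := hsc (ι₁ ⟨(x : Ω), hDS x.2⟩) c
          rw [hstab, ← hs] at h1
          have h2 := hv₁ c.out⁻¹ ⟨(x : Ω), hx⟩
          rw [inv_inv, ← h1] at h2
          rw [← hι₁.1 h2, hv₂ (lift c.out) |> fun f => (f (π₁ c.out⁻¹ ⟨(x : Ω), hx⟩)).symm, hlift,
            ← MulAut.mul_apply, ← map_mul, mul_inv_cancel, map_one]
          rfl)
      refine ⟨ι₂ ⟨(z : Ω), hDS z.2⟩, ?_, fun w hw => ?_⟩
      · rw [MonoidHom.mem_ker]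
        refine MulEquiv.ext fun q => Subtype.ext ?_
        have h1 := hv₂ (ι₂ ⟨(z : Ω), hDS z.2⟩) q
        rw [← map_inv, ← map_mul, ← map_mul] at h1
        refine (congrArg Subtype.val (hι₂.1 h1)).trans ?_
        show (z : Ω) * (q : Ω) * (z : Ω)⁻¹ = q
        rw [← Subgroup.mem_centralizer_iff.1 hzc q q.2, mul_inv_cancel_right]
      · have hwD : (w : Ω) ∈ D := ⟨w, hw, rfl⟩
        show C (ι₁ w) c * _ = _ * ι₂ w
        rw [← hψ ⟨(w : Ω), hwD⟩, ← map_mul, ← map_mul]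
        refine congrArg ι₂ (Subtype.ext ?_)
        show _ * (z : Ω) = (z : Ω) * (w : Ω)
        exact eq_mul_inv_iff_mul_eq.1 (hzy ⟨(w : Ω), hwD⟩))
  set E := avg π₂ m e 1
  have hφS : ∀ x : S, φ (ι₁ x) = E * ι₂ x * E⁻¹ := by
    intro x
    show avg π₂ m (C (ι₁ x)) (lift (ι₁ x)) = _
    rw [avg_congr (π := π₂) m (C' := fun c => e (x • c) * ι₂ x * (e c)⁻¹)
      (fun c => eq_mul_inv_of_mul_eq (hec x c))]
    have h1 := avg_conj (π := π₂) m (C := fun _ : X => ι₂ x) (a := ι₂ x) (fun _ => rfl)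
      (MulAction.toPerm x) e he
    rw [avg_const] at h1
    rw [← h1]
    refine avg_base m hm (fun c => ?_) (by rw [hlift, hS12])
    rw [map_mul, map_mul, map_inv, MonoidHom.mem_ker.1 (he _), MonoidHom.mem_ker.1 (he _), one_mul,
      inv_one, mul_one]
  refine ⟨(MulAut.conj E⁻¹).toMonoidHom.comp φ, (MulAut.conj E⁻¹).injective.comp ?_, fun x => ?_⟩
  · rw [injective_iff_map_eq_one]
    intro g hg
    obtain ⟨s, -, rfl⟩ := hk₁ g (by rw [← hπφ, hg, map_one])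
    rw [hφS, mul_inv_eq_one, mul_eq_left] at hg
    rw [hι₂.1 (hg.trans (map_one ι₂).symm), map_one]
  · show E⁻¹ * φ (ι₁ x) * (E⁻¹)⁻¹ = _
    rw [hφS]
    group

/-- Models are unique. -/
theorem exists_equiv {G₁ G₂ : Type*} [Group G₁] [Group G₂] {ι₁ : S →* G₁} {ι₂ : S →* G₂}
    (hS : IsPGroup p S) (hF : F.IsSaturated p) (h₁ : F.IsModel p G₁ ι₁) (h₂ : F.IsModel p G₂ ι₂)
    (hn : F.IsNormal Q) (hc : F.IsCentric Q) :
    ∃ φ : G₁ ≃* G₂, ∀ x, φ (ι₁ x) = ι₂ x := by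
  obtain ⟨φ, hφ, hx⟩ := exists_hom hS hF h₁ h₂ hn hc
  obtain ⟨ψ, hψ, -⟩ := exists_hom hS hF h₂ h₁ hn hc
  have := h₁.1
  have := h₂.1
  refine ⟨MulEquiv.ofBijective φ ((Nat.bijective_iff_injective_and_card φ).2 ⟨hφ, ?_⟩), hx⟩
  exact le_antisymm (Nat.card_le_card_of_injective φ hφ) (Nat.card_le_card_of_injective ψ hψ)

end Cfsg.Agent.Fusion.Model
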