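import Cfsg.Agent.Lib.Fusion.Nilpotence
import Cfsg.Agent.Lib.Fusion.ModelUnique
import Cfsg.Agent.Lib.Fusion.InnerType
import Cfsg.Prelude.Def_FusionReduction

/-!
A model of a system of maps preserving `R` and a subgroup `Y ≤ R`, over a large enough subgroup of
`N_S(R)`, embeds into the model at a fully normalized conjugate of `R`.
-/

set_option autoImplicit false
set_option linter.unusedSectionVars false

namespace Cfsg.Agent.Fusion.ModelEmbed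

open Cfsg Cfsg.FusionSystem

universe u v w z

variable {Ω : Type u} [Group Ω] {S : Subgroup Ω} {p : ℕ} {F : FusionSystem S}

theorem sup_le_of_mem {T : Subgroup Ω} {P R : Subgroup Ω} (hP : P ≤ T) (hR : R ≤ T)
    (K : Subgroup T) (hPK : ∀ x : P, (⟨(x : Ω), hP x.2⟩ : T) ∈ K)
    (hRK : ∀ x : R, (⟨(x : Ω), hR x.2⟩ : T) ∈ K) (x : ↥(P ⊔ R)) :
    (⟨(x : Ω), sup_le hP hR x.2⟩ : T) ∈ K := by
  have h : P ⊔ R ≤ K.map T.subtype :=
    sup_le (fun y hy => ⟨_, hPK ⟨y, hy⟩, rfl⟩) fun y hy => ⟨_, hRK ⟨y, hy⟩, rfl⟩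
  obtain ⟨y, hy, he⟩ := h x.2
  rwa [show (⟨(x : Ω), sup_le hP hR x.2⟩ : T) = y from Subtype.ext he.symm]

theorem mem_normalizer_of_finite {G : Type*} [Group G] {H : Subgroup G} [Finite H] {g : G}
    (h : ∀ y ∈ H, g * y * g⁻¹ ∈ H) : g ∈ Subgroup.normalizer (H : Set G) := by
  rw [Subgroup.mem_normalizer_iff_map_conj_eq]
  refine Subgroup.eq_of_le_of_card_ge ?_ (le_of_eq ?_)
  · rintro _ ⟨y, hy, rfl⟩
    exact h y hy
  · exact (Subgroup.card_map_of_injective (MulAut.conj g).injective).symm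

variable [Finite S] [Fact p.Prime]

theorem isNormal_of_isNormalizerSystem {Q : Subgroup Ω} {N : FusionSystem (normalizerIn S Q)}
    (hN : F.IsNormalizerSystem Q N) (hQ : Q ≤ S) : N.IsNormal Q := by
  have h := Nilpotence.isNormal_normalizerSystem (F := F) hQ
  refine ⟨h.1, fun P φ hφ => ?_⟩
  rw [hN P] at hφ
  obtain ⟨ψ, hψ, h2⟩ := h.2 P φ hφ
  exact ⟨ψ, (hN _) ▸ hψ, h2⟩

/-- Finite normalizer systems have models. -/
theorem exists_model_normalizer (hS : IsPGroup p S) (hF : F.IsSaturated p) {R : Subgroup Ω}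
    (hc : F.IsCentric R) (hn : F.IsFullyNormalized R) {N : FusionSystem (normalizerIn S R)}
    (hN : F.IsNormalizerSystem R N) :
    N.IsSaturated p ∧ N.IsNormal R ∧ N.IsCentric R ∧
      ∃ (G : Type u) (_ : Group G) (ι : ↥(normalizerIn S R) →* G), N.IsModel p G ι := by
  have hfin := finite_of_le (normalizerIn_le S R)
  have hNp : IsPGroup p ↥(normalizerIn S R) := hS.to_le (normalizerIn_le S R)
  have hsat := normalizerSystem_saturated hS hF hn hN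
  have hnor := isNormal_of_isNormalizerSystem hN hc.1
  have hcen : N.IsCentric R := by
    refine ⟨le_normalizerIn hc.1, fun X hX => ?_⟩
    obtain ⟨φ, hφ, rfl⟩ := hX
    rw [hN R] at hφ
    exact (inf_le_inf_right _ (normalizerIn_le S R)).trans (hc.2 _ ⟨φ, hφ.1, rfl⟩)
  exact ⟨hsat, hnor, hcen, Model.exists_model hNp hsat hnor hcen⟩

variable {T R Y R' : Subgroup Ω} {E : FusionSystem T}

/-- The embedding of models. -/
theorem exists_embedding (hS : IsPGroup p S) (hF : F.IsSaturated p)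
    (hRc : F.IsCentric R) (hR' : F.IsFullyNormalized R') (hconj : F.IsConj R R')
    (hTS : T ≤ S) (hRT : R ≤ T) (hYR : Y ≤ R)
    (hEn : E.IsNormal R) (hEF : ∀ P, ∀ φ ∈ E.Hom P, φ ∈ F.Hom P)
    (hEY : ∀ (P : Subgroup Ω) (φ : P →* Ω), φ ∈ E.Hom P → ∀ x : P, (x : Ω) ∈ Y → φ x ∈ Y)
    (hfull : ∀ (P : Subgroup Ω) (φ : P →* Ω), φ ∈ F.Hom P → R ≤ P → P ≤ T → (∀ x, φ x ∈ T) →
      (∀ x : P, (x : Ω) ∈ R → φ x ∈ R) → (∀ x : P, (x : Ω) ∈ Y → φ x ∈ Y) → φ ∈ E.Hom P)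
    (hmax : ∀ ψ ∈ F.Hom R, ∀ A : Subgroup Ω, A ≤ normalizerIn S ψ.range →
      A ≤ Subgroup.normalizer (((Y.subgroupOf R).map ψ : Subgroup Ω) : Set Ω) →
      Nat.card A ≤ Nat.card T)
    {N₁ : FusionSystem (normalizerIn S R')} (hN₁ : F.IsNormalizerSystem R' N₁)
    {L : Type v} [Group L] {ι : T →* L} (hL : E.IsModel p L ι)
    {L₁ : Type w} [Group L₁] {ι₁ : ↥(normalizerIn S R') →* L₁} (hL₁ : N₁.IsModel p L₁ ι₁) :
    ∃ f : L →* L₁, Function.Injective f := by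
  classical
  have hfinT := finite_of_le hTS
  have hTp : IsPGroup p T := hS.to_le hTS
  have hfinL₁ := hL₁.1
  have hN₁n := isNormal_of_isNormalizerSystem hN₁ hR'.1
  obtain ⟨φ, hφ, hφN, hφR⟩ := exists_hom_fullyNormalized hS hF hR' hconj
  have hTN : T ≤ normalizerIn S R := le_inf hTS (le_normalizer_of_isNormal hEn)
  let j₀ : T →* ↥(normalizerIn S R') :=
    (φ.codRestrict _ hφN).comp (Subgroup.inclusion hTN)
  have hj₀ : ∀ x : T, (j₀ x : Ω) = φ ⟨x, hTN x.2⟩ := fun _ => rfl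
  have hj₀i : Function.Injective j₀ := fun a b h => Subtype.ext
    (congrArg (fun t : ↥(normalizerIn S R) => (t : Ω)) (F.injective_of_mem hφ
      (a₁ := ⟨a, hTN a.2⟩) (a₂ := ⟨b, hTN b.2⟩) (congrArg Subtype.val h)))
  let j : T →* L₁ := ι₁.comp j₀
  have hji : Function.Injective j := hL₁.2.1.1.comp hj₀i
  -- the inverse of `φ`
  obtain ⟨φi, hφi, -, hφl, -⟩ := exists_inverse hφ rfl
  have hφRmem : ∀ x : ↥(normalizerIn S R), (x : Ω) ∈ R → φ x ∈ R' :=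
    fun x hx => hφR.le ⟨x, hx, rfl⟩
  have hR'mem : ∀ y ∈ R', ∃ x : T, (x : Ω) ∈ R ∧ (j₀ x : Ω) = y := by
    intro y hy
    obtain ⟨x, hx, rfl⟩ := hφR.ge hy
    exact ⟨⟨x, hRT hx⟩, hx, rfl⟩
  set Yj := (Y.subgroupOf T).map j with hYj
  set H := Subgroup.normalizer (Yj : Set L₁) with hH
  have hjH : ∀ x, j x ∈ H := by
    refine fun t => mem_normalizer_of_finite ?_
    rintro _ ⟨y, hy, rfl⟩
    refine ⟨t * y * t⁻¹, ?_, by rw [map_mul, map_mul, map_inv]⟩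
    obtain ⟨c, hc⟩ : ∃ c, c = conjHom T (t : Ω) := ⟨_, rfl⟩
    have h1 := hEY T c (hc ▸ E.conj_mem le_rfl t.2) y hy
    rw [hc, conjHom_apply] at h1
    exact h1
  set jH := j.codRestrict H hjH
  -- a map of `F` between subgroups of `T` containing `R`, carried to `N₁`
  have hup : ∀ (P : Subgroup Ω) (θ : P →* Ω) (hP : P ≤ T) (hθT : ∀ x, θ x ∈ T), θ ∈ F.Hom P →
      R ≤ P → (∀ x : P, (x : Ω) ∈ R → θ x ∈ R) →
      ∃ g : L₁, ∀ x : P, j ⟨θ x, hθT x⟩ = g * j ⟨x, hP x.2⟩ * g⁻¹ := by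
    intro P θ hP hθT hθ hRP hθR
    set P' := ((P.subgroupOf T).map j₀).map (normalizerIn S R').subtype with hP'
    have hP'r : P' ≤ φ.range := by
      rintro _ ⟨_, ⟨x, -, rfl⟩, rfl⟩
      exact ⟨_, rfl⟩
    have hinv : ∀ y : P', φi ⟨y, hP'r y.2⟩ ∈ P := by
      rintro ⟨_, _, ⟨x, hx, rfl⟩, rfl⟩
      exact (congrArg (· ∈ P) (hφl ⟨x, hTN x.2⟩ ⟨_, rfl⟩)).mpr hx
    let χ₁ : P' →* Ω := φi.comp (Subgroup.inclusion hP'r)
    have hχ₁ : χ₁ ∈ F.Hom P' := restrict_mem hφi hP'r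
    let χ₂ : P' →* Ω := θ.comp (χ₁.codRestrict P hinv)
    have hχ₂ : χ₂ ∈ F.Hom P' := F.comp_mem hχ₁ hθ hinv
    have hχ₂N : ∀ y, χ₂ y ∈ normalizerIn S R := fun y => hTN (hθT _)
    let χ : P' →* Ω := φ.comp (χ₂.codRestrict _ hχ₂N)
    have hχ : χ ∈ F.Hom P' := F.comp_mem hχ₂ hφ hχ₂N
    have hR'P : R' ≤ P' := by
      intro y hy
      obtain ⟨x, hx, rfl⟩ := hR'mem y hy
      exact ⟨j₀ x, ⟨x, hRP hx, rfl⟩, rfl⟩
    have hP'N : P' ≤ normalizerIn S R' := Subgroup.map_subtype_le _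
    have hχmem : χ ∈ N₁.Hom P' := by
      rw [hN₁ P']
      have hle : P' ⊔ R' ≤ P' := sup_le le_rfl hR'P
      refine ⟨hχ, hP'N, fun y => hφN _, χ.comp (Subgroup.inclusion hle), restrict_mem hχ hle,
        fun y => rfl, ?_⟩
      rw [map_subgroupOf_eq_iff (restrict_mem hχ hle) le_sup_right]
      intro y hy
      refine hφRmem _ (hθR _ ?_)
      obtain ⟨x, hx, rfl⟩ := hR'mem y hy
      exact (congrArg (· ∈ R) (hφl ⟨x, hTN x.2⟩ ⟨_, rfl⟩)).mpr hx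
    obtain ⟨hP'', hχN, g, hg⟩ := (realized_hom_iff hL₁.2.1).1 hχmem
    refine ⟨g, fun x => ?_⟩
    have hxP' : φ ⟨x, hTN (hP x.2)⟩ ∈ P' := ⟨j₀ ⟨x, hP x.2⟩, ⟨_, x.2, rfl⟩, rfl⟩
    have h1 : χ₁ ⟨_, hxP'⟩ = (x : Ω) := hφl ⟨x, hTN (hP x.2)⟩ _
    refine Eq.trans ?_ (hg ⟨_, hxP'⟩)
    show ι₁ _ = ι₁ _
    refine congrArg ι₁ (Subtype.ext ?_)
    show φ ⟨θ x, _⟩ = φ ⟨θ ⟨χ₁ ⟨_, hxP'⟩, _⟩, _⟩
    congr 2
    exact congrArg θ (Subtype.ext h1.symm)
  -- conjugation in `L₁` on the image of `R`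
  have hjR : ∀ (g : L₁) (x : T), (x : Ω) ∈ R → ∃ x' : T, (x' : Ω) ∈ R ∧ j x' = g * j x * g⁻¹ := by
    intro g x hx
    have h0 : j x ∈ pushSub ι₁ R' := ⟨j₀ x, hφRmem _ hx, rfl⟩
    obtain ⟨y, hy, hye⟩ := Model.conj_pushSub_mem hL₁ hN₁n g h0
    obtain ⟨x', hx', hx'e⟩ := hR'mem y hy
    refine ⟨x', hx', ?_⟩
    rw [← hye]
    exact congrArg ι₁ (Subtype.ext hx'e)
  -- pulling back conjugation by `g ∈ L₁`
  have hdown : ∀ (g : L₁) (P : Subgroup Ω) (hP : P ≤ T)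
      (hg : ∀ x : P, g * j ⟨x, hP x.2⟩ * g⁻¹ ∈ j.range),
      ∃ θ ∈ F.Hom P, ∃ hθT : ∀ x, θ x ∈ T, ∀ x : P, j ⟨θ x, hθT x⟩ = g * j ⟨x, hP x.2⟩ * g⁻¹ := by
    intro g P hP hg
    set θ := pullHom hji hP g hg with hθ
    have hθT : ∀ x, θ x ∈ T := fun x => Subtype.coe_prop _
    refine ⟨θ, ?_, hθT, fun x => apply_pullHom hji hP g hg x _⟩
    set P' := ((P.subgroupOf T).map j₀).map (normalizerIn S R').subtype with hP'
    have hP'N : P' ≤ normalizerIn S R' := Subgroup.map_subtype_le _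
    have hmem : ∀ y : P', g * ι₁ ⟨y, hP'N y.2⟩ * g⁻¹ ∈ ι₁.range := by
      rintro ⟨_, _, ⟨x, hx, rfl⟩, rfl⟩
      obtain ⟨t, ht⟩ := hg ⟨x, hx⟩
      exact ⟨j₀ t, ht⟩
    have hμ := pullHom_mem hL₁.2.1 hP'N g hmem
    set μ := pullHom hL₁.2.1.1 hP'N g hmem
    have hμF : μ ∈ F.Hom P' := by
      have := hμ
      rw [hN₁ P'] at this
      exact this.1
    let c : P →* Ω := φ.comp (Subgroup.inclusion (hP.trans hTN))
    have hc : c ∈ F.Hom P := restrict_mem hφ (hP.trans hTN)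
    have hcP : ∀ x : P, c x ∈ P' := fun x => ⟨j₀ ⟨x, hP x.2⟩, ⟨_, x.2, rfl⟩, rfl⟩
    have hcomp : μ.comp (c.codRestrict P' hcP) ∈ F.Hom P := F.comp_mem hc hμF hcP
    have heq : ∀ x : P, μ ⟨c x, hcP x⟩ = φ ⟨θ x, hTN (hθT x)⟩ := by
      intro x
      have h1 := apply_pullHom hL₁.2.1.1 hP'N g hmem ⟨c x, hcP x⟩ (apply_mem hμ _)
      have h2 := apply_pullHom hji hP g hg x (hθT x)
      have h3 : ι₁ ⟨μ ⟨c x, hcP x⟩, apply_mem hμ _⟩ = ι₁ (j₀ ⟨θ x, hθT x⟩) := h1.trans h2.symm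
      exact congrArg Subtype.val (hL₁.2.1.1 h3)
    refine comp_mem' hcomp hφi (fun x => ?_) fun x => ?_
    · show μ ⟨c x, hcP x⟩ ∈ φ.range
      rw [heq]
      exact ⟨_, rfl⟩
    · refine (hφl ⟨θ x, hTN (hθT x)⟩ ⟨_, rfl⟩).symm.trans (congrArg φi (Subtype.ext ?_))
      exact (heq x).symm
  have hjHi : Function.Injective jH := fun a b h => hji (congrArg Subtype.val h)
  have hreal : E.IsRealizedBy jH := by
    refine ⟨hjHi, fun P hP θ hθT => ⟨fun hθ => ?_, ?_⟩⟩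
    · obtain ⟨ψ, hψ, hψe, hψR⟩ := hEn.2 P θ hθ
      have hPR : P ⊔ R ≤ T := sup_le hP hRT
      obtain ⟨g, hg⟩ := hup (P ⊔ R) ψ hPR (apply_mem hψ) (hEF _ _ hψ) le_sup_right
        fun x hx => (map_subgroupOf_eq_iff hψ le_sup_right).1 hψR x hx
      refine ⟨⟨g, mem_normalizer_of_finite ?_⟩, fun x => Subtype.ext ?_⟩
      · rintro _ ⟨y, hy, rfl⟩
        exact ⟨⟨_, apply_mem hψ ⟨y, Subgroup.mem_sup_right (hYR hy)⟩⟩, hEY _ _ hψ _ hy, hg ⟨y, Subgroup.mem_sup_right (hYR hy)⟩⟩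
      · show j ⟨θ x, hθT x⟩ = g * j ⟨x, hP x.2⟩ * g⁻¹
        refine Eq.trans ?_ (hg (Subgroup.inclusion le_sup_left x))
        exact congrArg j (Subtype.ext (hψe x).symm)
    · rintro ⟨⟨g, hgH⟩, hg⟩
      have hg' : ∀ x : P, j ⟨θ x, hθT x⟩ = g * j ⟨x, hP x.2⟩ * g⁻¹ :=
        fun x => congrArg Subtype.val (hg x)
      have hPR : P ⊔ R ≤ T := sup_le hP hRT
      have hmem : ∀ x : ↥(P ⊔ R), g * j ⟨x, hPR x.2⟩ * g⁻¹ ∈ j.range :=
        sup_le_of_mem hP hRT (j.range.comap ((MulAut.conj g).toMonoidHom.comp j))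
          (fun x => ⟨_, hg' x⟩) fun x => by
            obtain ⟨x', -, hx'⟩ := hjR g ⟨x, hRT x.2⟩ x.2
            exact ⟨x', hx'⟩
      obtain ⟨ψ, hψ, hψT, hψj⟩ := hdown g (P ⊔ R) hPR hmem
      have hψR : ∀ x : ↥(P ⊔ R), (x : Ω) ∈ R → ψ x ∈ R := fun x hx => by
        obtain ⟨x', hx', hx'e⟩ := hjR g ⟨x, hPR x.2⟩ hx
        exact (congrArg (· ∈ R) (congrArg Subtype.val (hji (hx'e.trans (hψj x).symm)))).mp hx'
      have hψY : ∀ x : ↥(P ⊔ R), (x : Ω) ∈ Y → ψ x ∈ Y := fun x hx => by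
        obtain ⟨x', hx', hx'e⟩ :=
          (Subgroup.mem_normalizer_iff.1 hgH (j ⟨x, hPR x.2⟩)).1 ⟨_, hx, rfl⟩
        exact (congrArg (· ∈ Y) (congrArg Subtype.val (hji (hx'e.trans (hψj x).symm)))).mp hx'
      refine mem_of_le (hfull _ ψ hψ le_sup_right hPR hψT hψR hψY) le_sup_left fun x => ?_
      exact congrArg Subtype.val (hji ((hg' x).trans (hψj (Subgroup.inclusion le_sup_left x)).symm))
  -- `jH` has Sylow image
  have hrp : IsPGroup p jH.range := hTp.of_surjective jH.rangeRestrict jH.rangeRestrict_surjective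
  obtain ⟨A, hA⟩ := hrp.exists_le_sylow
  have hAeq : (A : Subgroup H) = jH.range := by
    refine (Subgroup.eq_of_le_of_card_ge hA ?_).symm
    rw [← Nat.card_congr (MonoidHom.ofInjective hjHi).toEquiv]
    obtain ⟨T₁, hT₁⟩ := hL₁.2.2.1
    obtain ⟨U, hU⟩ := (A.2.map H.subtype).exists_le_sylow
    obtain ⟨g, hg⟩ := MulAction.exists_smul_eq L₁ U T₁
    rw [← Subgroup.card_map_of_injective H.subtype_injective]
    set B := (A : Subgroup H).map H.subtype with hB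
    have hBg : ∀ b ∈ B, g * b * g⁻¹ ∈ ι₁.range := by
      intro b hb
      rw [← hT₁, ← hg]
      exact ⟨b, hU hb, rfl⟩
    set D := (B.comap ((MulAut.conj g⁻¹).toMonoidHom.comp ι₁)).map (normalizerIn S R').subtype
    have hcard : Nat.card D = Nat.card B := by
      rw [Subgroup.card_map_of_injective (Subgroup.subtype_injective _),
        ← Subgroup.card_map_of_injective (f := (MulAut.conj g⁻¹).toMonoidHom.comp ι₁)
          ((MulAut.conj g⁻¹).injective.comp hL₁.2.1.1), Subgroup.map_comap_eq_self]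
      intro b hb
      obtain ⟨s, hs⟩ := hBg b hb
      refine ⟨s, ?_⟩
      show g⁻¹ * ι₁ s * (g⁻¹)⁻¹ = b
      rw [hs]
      group
    rw [← hcard]
    have hmemR : ∀ x : R, g * j ⟨x, hRT x.2⟩ * g⁻¹ ∈ j.range := fun x => by
      obtain ⟨x', -, hx'⟩ := hjR g ⟨x, hRT x.2⟩ x.2
      exact ⟨x', hx'⟩
    obtain ⟨ψ, hψ, hψT, hψj⟩ := hdown g R hRT hmemR
    have hψR : ∀ x : R, ψ x ∈ R := fun x => by
      obtain ⟨x', hx', hx'e⟩ := hjR g ⟨x, hRT x.2⟩ x.2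
      exact (congrArg (· ∈ R) (congrArg Subtype.val (hji (hx'e.trans (hψj x).symm)))).mp hx'
    let ψN : R →* ↥(normalizerIn S R) := ψ.codRestrict _ fun x => hTN (hψT x)
    have hχ : φ.comp ψN ∈ F.Hom R := F.comp_mem hψ hφ fun x => hTN (hψT x)
    have hrange : (φ.comp ψN).range = R' := by
      refine range_eq_of_le hχ hR'.1 (fun x => hφRmem _ (hψR x)) (isConj_card hconj).le
    refine hmax _ hχ D (hrange ▸ Subgroup.map_subtype_le _) ?_
    set Y'' := (Y.subgroupOf R).map (φ.comp ψN)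
    have hY''iff : ∀ d : ↥(normalizerIn S R'),
        ((d : Ω) ∈ Y'' ↔ ∃ y ∈ Yj, ι₁ d = g * y * g⁻¹) := by
      intro d
      constructor
      · rintro ⟨y, hy, hye⟩
        refine ⟨j ⟨y, hRT y.2⟩, ⟨_, hy, rfl⟩, ?_⟩
        rw [← hψj y]
        exact congrArg ι₁ (Subtype.ext hye.symm)
      · rintro ⟨_, ⟨y, hy, rfl⟩, he⟩
        refine ⟨⟨y, hYR hy⟩, hy, ?_⟩
        rw [← hψj ⟨y, hYR hy⟩] at he
        exact (congrArg Subtype.val (hL₁.2.1.1 he)).symm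
    have := finite_of_le (range_le hχ)
    have : Finite Y'' := Finite.of_injective _
      (Subgroup.inclusion_injective (Subgroup.map_le_range _ _ : Y'' ≤ (φ.comp ψN).range))
    rintro _ ⟨d, hd, rfl⟩
    refine mem_normalizer_of_finite ?_
    intro y hy
    have hyN : y ∈ normalizerIn S R' := by
      obtain ⟨x, -, rfl⟩ := hy
      exact hφN _
    obtain ⟨b, hb, hbe⟩ := (hY''iff ⟨y, hyN⟩).1 hy
    obtain ⟨a, ha, hab⟩ := hd
    have haH : (a : L₁) ∈ H := a.2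
    have hae : ι₁ d = g * a * g⁻¹ := by
      rw [show (a : L₁) = g⁻¹ * ι₁ d * (g⁻¹)⁻¹ from hab]
      group
    refine (hY''iff (d * ⟨y, hyN⟩ * d⁻¹)).2
      ⟨a * b * (a : L₁)⁻¹, (Subgroup.mem_normalizer_iff.1 haH b).1 hb, ?_⟩
    rw [map_mul, map_mul, map_inv, hbe, hae]
    group
  -- the centralizer condition
  have hfinN' := finite_of_le (normalizerIn_le S R')
  have hHC : Subgroup.centralizer ((pCore p H : Subgroup H) : Set H) ≤ pCore p H := by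
    set R₁ := (pushSub ι₁ R').subgroupOf H with hR₁
    have hle : pushSub ι₁ R' ≤ H := by
      rintro _ ⟨y, hy, rfl⟩
      obtain ⟨x, -, hx⟩ := hR'mem y hy
      rw [show y = j₀ x from Subtype.ext hx.symm]
      exact hjH x
    have hRp : IsPGroup p (pushSub ι₁ R') :=
      ((hS.to_le (normalizerIn_le S R')).to_subgroup _).map ι₁
    have h1 : R₁ ≤ pCore p H :=
      le_sSup ⟨⟨fun a ha g' => Model.conj_pushSub_mem hL₁ hN₁n g' ha⟩,
        hRp.of_equiv (Subgroup.subgroupOfEquivOfLe hle).symm⟩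
    refine fun g hg => h1 ?_
    have hR'c : F.IsCentric R' := isCentric_of_isConj hRc hconj
    obtain ⟨hsat₁, -, hc₁, -⟩ := exists_model_normalizer hS hF hR'c hR' hN₁
    exact Model.mem_pushSub_of_centralizes (hS.to_le (normalizerIn_le S R')) hsat₁ hL₁ hN₁n hc₁
      fun y hy => (congrArg Subtype.val
        (Subgroup.mem_centralizer_iff.1 hg ⟨y, hle hy⟩ (h1 hy)) : y * (g : L₁) = g * y).symm
  have hmodel : E.IsModel p H jH := ⟨inferInstance, hreal, ⟨A, hAeq⟩, hHC⟩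
  have hEsat : E.IsSaturated p := isSaturated_of_realized hreal ⟨A, hAeq⟩
  have hEc : E.IsCentric R := by
    refine ⟨hRT, fun X hX => ?_⟩
    obtain ⟨χ, hχ, rfl⟩ := hX
    exact (inf_le_inf_right _ hTS).trans (hRc.2 _ ⟨χ, hEF _ _ hχ, rfl⟩)
  obtain ⟨e, -⟩ := Model.exists_equiv hTp hEsat hL hmodel hEn hEc
  exact ⟨H.subtype.comp e.toMonoidHom, H.subtype_injective.comp e.injective⟩

/-- `H` is involved in no model at `R`. -/
def FreeAt (F : FusionSystem S) (p : ℕ) (H : Type z) [Group H] (R : Subgroup Ω) : Prop :=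
  ∀ N : FusionSystem (normalizerIn S R), F.IsNormalizerSystem R N →
    ∀ (L : Type u) [Group L] (ι : ↥(normalizerIn S R) →* L), N.IsModel p L ι → ¬ Involves H L

/-- Freeness at a fully normalized conjugate of `R` passes to the models over `T`. -/
theorem not_involves (hS : IsPGroup p S) (hF : F.IsSaturated p) {H : Type z} [Group H]
    (hRc : F.IsCentric R) (hR' : F.IsFullyNormalized R') (hconj : F.IsConj R R')
    (hTS : T ≤ S) (hRT : R ≤ T) (hYR : Y ≤ R)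
    (hEn : E.IsNormal R) (hEF : ∀ P, ∀ φ ∈ E.Hom P, φ ∈ F.Hom P)
    (hEY : ∀ (P : Subgroup Ω) (φ : P →* Ω), φ ∈ E.Hom P → ∀ x : P, (x : Ω) ∈ Y → φ x ∈ Y)
    (hfull : ∀ (P : Subgroup Ω) (φ : P →* Ω), φ ∈ F.Hom P → R ≤ P → P ≤ T → (∀ x, φ x ∈ T) →
      (∀ x : P, (x : Ω) ∈ R → φ x ∈ R) → (∀ x : P, (x : Ω) ∈ Y → φ x ∈ Y) → φ ∈ E.Hom P)
    (hmax : ∀ ψ ∈ F.Hom R, ∀ A : Subgroup Ω, A ≤ normalizerIn S ψ.range →
      A ≤ Subgroup.normalizer (((Y.subgroupOf R).map ψ : Subgroup Ω) : Set Ω) →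
      Nat.card A ≤ Nat.card T)
    (hfree : FreeAt F p H R')
    {L : Type v} [Group L] {ι : T →* L} (hL : E.IsModel p L ι) : ¬ Involves H L := by
  intro hinv
  have hN₁ := normalizerSystem_spec F R' hR'.1
  obtain ⟨-, -, -, L₁, hg₁, ι₁, hL₁⟩ :=
    exists_model_normalizer hS hF (isCentric_of_isConj hRc hconj) hR' hN₁
  obtain ⟨f, hf⟩ :=
    exists_embedding hS hF hRc hR' hconj hTS hRT hYR hEn hEF hEY hfull hmax hN₁ hL hL₁
  exact hfree _ hN₁ L₁ ι₁ hL₁ (involves_of_injective f hf hinv)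

end Cfsg.Agent.Fusion.ModelEmbed
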