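import Cfsg.Agent.Lib.Fusion.NormalExtensions
import Cfsg.Agent.Lib.Fusion.ModelEmbed
import Cfsg.Agent.Lib.Transfer.StronglyClosedOrder
import Cfsg.Agent.Lib.SylowCount.Basic

/-!
For a normal subsystem `E` over `T`, an `E`-centric fully normalized `U` and `c ∈ C_S(T)`: a finite
group with Sylow subgroup `N_T(U)⟨c⟩` inducing `Aut_E(U)` on `U`, moving `c` inside `U` and inducing
maps of `F` (cut out of a model of `F`).
-/

set_option autoImplicit false

namespace Cfsg.Agent.Fusion.CentralizerOdd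

open scoped commutatorElement

open Cfsg Cfsg.FusionSystem Cfsg.Agent.Fusion Cfsg.Agent.Fusion.NormalCentralizer
  Cfsg.Agent.Fusion.NormalExtensions

universe u

section Group

variable {M : Type*} [Group M] [Finite M] {p : ℕ} [Fact p.Prime]

/-- If the focal subgroup of `H` lies in the `p`-group `A ≤ N(H)`, then `A` is Sylow in
`O^p(H) A`. -/
theorem exists_sylow_residual_sup {H A : Subgroup M} (hA : IsPGroup p A)
    (hAn : A ≤ Subgroup.normalizer (((Cfsg.pResidual p H).map H.subtype : Subgroup M) : Set M))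
    (PH : Sylow p H)
    (hfoc : ∀ x g : H, x ∈ (PH : Subgroup H) → g * x * g⁻¹ ∈ (PH : Subgroup H) →
      ((x⁻¹ * (g * x * g⁻¹) : H) : M) ∈ A) :
    ∃ Sy : Sylow p ↥((Cfsg.pResidual p H).map H.subtype ⊔ A),
      (Sy : Subgroup ↥((Cfsg.pResidual p H).map H.subtype ⊔ A)) =
        A.subgroupOf ((Cfsg.pResidual p H).map H.subtype ⊔ A) := by
  set K := Cfsg.pResidual p H with hK
  set H₁ := K.map H.subtype with hH₁
  set L := H₁ ⊔ A with hL
  have hKn : K.Normal := Transfer.pResidual_normal p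
  have hfA : (PH : Subgroup H).focalSubgroup ≤ A.comap H.subtype := by
    refine (Subgroup.closure_le _).2 ?_
    rintro _ ⟨hzP, x, hx, u, rfl⟩
    have h2 : u * x⁻¹ * u⁻¹ ∈ (PH : Subgroup H) := by
      have h3 := mul_mem (inv_mem hx) hzP
      simpa [commutatorElement_def, mul_assoc] using h3
    have h4 := hfoc x⁻¹ u (inv_mem hx) h2
    show ((⁅x, u⁆ : H) : M) ∈ A
    rw [show ⁅x, u⁆ = x⁻¹⁻¹ * (u * x⁻¹ * u⁻¹) by simp [commutatorElement_def, mul_assoc]]
    exact h4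
  have hPK : ∀ y : H, y ∈ (PH : Subgroup H) → y ∈ K → (y : M) ∈ A := by
    intro y hyP hyK
    have h1 := Transfer.inf_pResidual_le_commutator PH ⟨hyP, hyK⟩
    exact hfA ((Subgroup.commutator_inf_eq_focalSubgroup PH).le ⟨h1, hyP⟩)
  obtain ⟨R, hR⟩ := SylowCount.exists_sylow_inf PH K
  obtain ⟨Sy, hSy⟩ := (hA.comap_of_injective L.subtype L.subtype_injective :
    IsPGroup p (A.subgroupOf L)).exists_le_sylow
  refine ⟨Sy, le_antisymm ?_ hSy⟩
  -- the part of `Sy` in `H₁` is in `A`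
  have hHS : ∀ z : L, z ∈ (Sy : Subgroup L) → (z : M) ∈ H₁ → (z : M) ∈ A := by
    let V : Subgroup K :=
      ((((Sy : Subgroup L)).map L.subtype).comap H.subtype).comap K.subtype
    have hVp : IsPGroup p V := ((Sy.2.map L.subtype).comap_of_injective H.subtype
      H.subtype_injective).comap_of_injective K.subtype K.subtype_injective
    have hle : (R : Subgroup K) ≤ V := by
      intro y hy
      rw [hR] at hy
      have hyA : ((y : H) : M) ∈ A := hPK y hy y.2
      exact ⟨⟨_, Subgroup.mem_sup_right hyA⟩, hSy hyA, rfl⟩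
    intro z hz hz₁
    obtain ⟨y, hy, hyz⟩ := hz₁
    have hyV : (⟨y, hy⟩ : K) ∈ V := ⟨z, hz, hyz.symm⟩
    have h1 := R.is_maximal' hVp hle
    rw [h1, hR] at hyV
    rw [← hyz]
    exact hPK y hyV hy
  intro s hs
  have h1 : (s : M) ∈ ((H₁ ⊔ A : Subgroup M) : Set M) := s.2
  rw [Subgroup.coe_mul_of_right_le_normalizer_left _ _ hAn] at h1
  obtain ⟨h, hh, a, ha, he⟩ := h1
  have haS : (⟨a, Subgroup.mem_sup_right ha⟩ : L) ∈ (Sy : Subgroup L) := hSy ha
  have hhS : (⟨h, Subgroup.mem_sup_left hh⟩ : L) ∈ (Sy : Subgroup L) := by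
    rw [show (⟨h, Subgroup.mem_sup_left hh⟩ : L) = s * ⟨a, Subgroup.mem_sup_right ha⟩⁻¹ from
      Subtype.ext (eq_mul_inv_of_mul_eq he)]
    exact mul_mem hs (inv_mem haS)
  show (s : M) ∈ A
  rw [← he]
  exact A.mul_mem (hHS _ hhS hh) ha

end Group

variable {Ω : Type u} [Group Ω] {S T : Subgroup Ω} {F : FusionSystem S} {E : FusionSystem T}
  {p : ℕ} {c : Ω}

/-- `N_T(U)⟨c⟩`. -/
abbrev nc (T U : Subgroup Ω) (c : Ω) : Subgroup Ω := normalizerIn T U ⊔ Subgroup.zpowers c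

theorem le_nc {U : Subgroup Ω} (hUT : U ≤ T) (c : Ω) : U ≤ nc T U c :=
  (le_normalizerIn hUT).trans le_sup_left

theorem self_mem_nc (T U : Subgroup Ω) (c : Ω) : c ∈ nc T U c :=
  Subgroup.mem_sup_right (Subgroup.mem_zpowers c)

/-- The automorphisms of `Q` inducing one of `E` on `R`. -/
def inE (E : FusionSystem T) {R Q : Subgroup Ω} (h : R ≤ Q) : Subgroup (MulAut Q) where
  carrier := {β | ∃ α ∈ E.autGroup R, ∀ x : R,
    β (Subgroup.inclusion h x) = Subgroup.inclusion h (α x)}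
  one_mem' := ⟨1, one_mem _, fun _ => rfl⟩
  mul_mem' := by
    rintro a b ⟨α, hα, ha⟩ ⟨β, hβ, hb⟩
    exact ⟨α * β, mul_mem hα hβ, fun x => by rw [MulAut.mul_apply, hb, ha]; rfl⟩
  inv_mem' := by
    rintro a ⟨α, hα, ha⟩
    refine ⟨α⁻¹, inv_mem hα, fun x => ?_⟩
    have h1 := ha (α⁻¹ x)
    rw [MulAut.apply_inv_self] at h1
    rw [← h1, MulAut.inv_apply_self]

/-- The automorphisms of `Q` moving everything inside `R`. -/
def moving (Q R : Subgroup Ω) : Subgroup (MulAut Q) where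
  carrier := {β | ∀ q : Q, ((q⁻¹ * β q : Q) : Ω) ∈ R}
  one_mem' q := by simp
  mul_mem' {a b} ha hb q := by
    have h1 := R.mul_mem (hb q) (ha (b q))
    rw [← Subgroup.coe_mul, mul_assoc, mul_inv_cancel_left] at h1
    exact h1
  inv_mem' {a} ha q := by
    have h1 := R.inv_mem (ha (a⁻¹ q))
    rw [MulAut.apply_inv_self, ← Subgroup.coe_inv, mul_inv_rev, inv_inv] at h1
    exact h1

theorem moving_le_preserving (Q R : Subgroup Ω) : moving Q R ≤ NormalCentralizer.preserving Q R := by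
  intro β hβ q
  have h1 := hβ q
  rw [Subgroup.coe_mul, Subgroup.coe_inv] at h1
  exact ⟨fun hq => (Subgroup.mul_mem_cancel_left R (R.inv_mem hq)).1 h1,
    fun hq => R.inv_mem_iff.1 ((Subgroup.mul_mem_cancel_right R hq).1 h1)⟩

/-- On `R C_S(R)`, moving `C_S(R)` inside `R` is enough. -/
theorem mem_moving_rc {R : Subgroup Ω} {β : MulAut ↥(rc S R)}
    (hR : ∀ x : ↥(rc S R), (x : Ω) ∈ R → ((β x : ↥(rc S R)) : Ω) ∈ R)
    (hC : ∀ x : ↥(rc S R), (x : Ω) ∈ centralizerIn S R →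
      (x : Ω)⁻¹ * ((β x : ↥(rc S R)) : Ω) ∈ R) : β ∈ moving (rc S R) R := by
  intro q
  have hn : centralizerIn S R ≤ Subgroup.normalizer (R : Set Ω) :=
    fun g hg => Subgroup.centralizer_le_normalizer _ hg.2
  have h1 : (q : Ω) ∈ ((R ⊔ centralizerIn S R : Subgroup Ω) : Set Ω) := q.2
  rw [Subgroup.coe_mul_of_right_le_normalizer_left _ _ hn] at h1
  obtain ⟨r, hr, d, hd, he⟩ := h1
  set rQ : ↥(rc S R) := ⟨r, Subgroup.mem_sup_left hr⟩ with hrQ
  set dQ : ↥(rc S R) := ⟨d, Subgroup.mem_sup_right hd⟩ with hdQ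
  rw [show q = rQ * dQ from Subtype.ext he.symm, map_mul]
  have h2 : r⁻¹ * ((β rQ : ↥(rc S R)) : Ω) ∈ R := R.mul_mem (R.inv_mem hr) (hR rQ hr)
  have h3 := R.mul_mem ((Subgroup.mem_normalizer_iff''.1 (hn hd) _).1 h2) (hC dQ hd)
  simpa [hrQ, hdQ, mul_assoc] using h3

variable [Finite S] [Fact p.Prime]

/-- A map of `N_S(U)` onto a fully normalized `R` with `R C_S(R)` fully normalized. -/
theorem exists_good_conjugate (hS : IsPGroup p S) (hF : F.IsSaturated p) {U : Subgroup Ω}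
    (hU : U ≤ S) : ∃ R : Subgroup Ω, ∃ ω ∈ F.Hom (normalizerIn S U),
      F.IsFullyNormalized R ∧ F.IsFullyNormalized (rc S R) ∧
      (U.subgroupOf (normalizerIn S U)).map ω = R ∧ ∀ g, ω g ∈ normalizerIn S R := by
  obtain ⟨R₁, hUR₁, hR₁⟩ := exists_fullyNormalized F hU
  obtain ⟨χ₁, hχ₁, hχ₁N, hχ₁m⟩ := exists_hom_fullyNormalized hS hF hR₁ hUR₁
  have hR₁C := isFullyCentralized_of_fullyNormalized hS hF hR₁
  obtain ⟨Q, hQ₁Q, hQ⟩ := exists_fullyNormalized F (Fusion.isCentric_sup_centralizerIn hR₁C).1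
  obtain ⟨χ₂, hχ₂, -, hχ₂m⟩ := exists_hom_fullyNormalized hS hF hQ hQ₁Q
  have hN₁ : normalizerIn S R₁ ≤ normalizerIn S (rc S R₁) := fun g hg =>
    ⟨hg.1, KNorm.normalizer_inf_normalizer_le_normalizer_sup
      ⟨hg.2, mem_normalizer_centralizerIn hg.1 hg.2⟩⟩
  have hR₁le : R₁ ≤ normalizerIn S (rc S R₁) := (le_normalizerIn hR₁.1).trans hN₁
  set R := (R₁.subgroupOf (normalizerIn S (rc S R₁))).map χ₂ with hR
  have hconj : F.IsConj R₁ R := ⟨_, restrict_mem hχ₂ hR₁le, by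
    rw [MonoidHom.range_comp, Subgroup.inclusion_range]⟩
  have hRS : R ≤ S := (isConj_le hconj).2
  have hmem : ∀ g : normalizerIn S R₁, χ₂ (Subgroup.inclusion hN₁ g) ∈ normalizerIn S R :=
    Criterion.mem_normalizerIn_of_map (restrict_mem hχ₂ hN₁)
      (inf_le_right : normalizerIn S R₁ ≤ Subgroup.normalizer (R₁ : Set Ω)) (Q' := R) (by
        rw [← Subgroup.map_map]
        congr 1
        ext z
        exact ⟨fun ⟨w, hw, hwz⟩ => hwz ▸ hw,
          fun hz => ⟨⟨z, le_normalizerIn hR₁.1 hz⟩, hz, rfl⟩⟩)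
  have hRn : F.IsFullyNormalized R := by
    refine ⟨hRS, fun R₂ h => (hR₁.2 R₂ (isConj_trans hconj h)).trans ?_⟩
    have := finite_of_le (Ω := Ω) (normalizerIn_le S R)
    refine Nat.card_le_card_of_injective (fun g => (⟨_, hmem g⟩ : normalizerIn S R))
      fun a b h => ?_
    exact Subgroup.inclusion_injective hN₁ (F.injective_of_mem hχ₂ (congrArg Subtype.val h))
  have hQeq : Q = rc S R := by
    have hC₁le : centralizerIn S R₁ ≤ normalizerIn S (rc S R₁) :=
      (centralizerIn_le_normalizerIn S R₁).trans hN₁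
    have := finite_of_le (Ω := Ω) (centralizerIn_le S R)
    have h2 : ((centralizerIn S R₁).subgroupOf (normalizerIn S (rc S R₁))).map χ₂ =
        centralizerIn S R := by
      refine Subgroup.eq_of_le_of_card_ge ?_ ?_
      · rintro _ ⟨d, hd, rfl⟩
        refine mem_centralizerIn.2 ⟨apply_mem hχ₂ d, ?_⟩
        rintro _ ⟨n, hn, rfl⟩
        rw [← map_mul, ← map_mul]
        exact congrArg χ₂ (Subtype.ext ((mem_centralizerIn.1 hd).2 _ hn))
      · rw [Subgroup.card_map_of_injective (F.injective_of_mem hχ₂),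
          Nat.card_congr (Subgroup.subgroupOfEquivOfLe hC₁le).toEquiv]
        exact hR₁C.2 _ hconj
    rw [← hχ₂m]
    show ((R₁ ⊔ centralizerIn S R₁).subgroupOf (normalizerIn S (rc S R₁))).map χ₂ = _
    rw [Subgroup.subgroupOf_sup hR₁le hC₁le, Subgroup.map_sup, h2]
  have hval : ∀ g, χ₁ g ∈ normalizerIn S (rc S R₁) := fun g => hN₁ (hχ₁N g)
  refine ⟨R, χ₂.comp (χ₁.codRestrict _ hval), F.comp_mem hχ₁ hχ₂ hval, hRn, hQeq ▸ hQ, ?_,
    fun g => hmem ⟨χ₁ g, hχ₁N g⟩⟩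
  ext z
  constructor
  · rintro ⟨g, hg, rfl⟩
    exact ⟨⟨χ₁ g, hval g⟩, hχ₁m.le ⟨g, hg, rfl⟩, rfl⟩
  · rintro ⟨g, hg, rfl⟩
    obtain ⟨x, hx, hxg⟩ := hχ₁m.ge (Subgroup.mem_subgroupOf.1 hg)
    exact ⟨x, hx, congrArg χ₂ (Subtype.ext hxg)⟩

/-- The `F`-conjugates in `T` of a fully normalized subgroup of `E` have no larger normalizer. -/
theorem card_normalizerIn_le (hE : E.IsInvariantIn F) (hTS : T ≤ S) {U R : Subgroup Ω}
    (hUn : E.IsFullyNormalized U) (h : F.IsConj U R) :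
    Nat.card (normalizerIn T R) ≤ Nat.card (normalizerIn T U) := by
  obtain ⟨φ, hφ, rfl⟩ := h
  obtain ⟨-, -, -, hfr⟩ := hE
  obtain ⟨a, -, φ₀, hφ₀, he⟩ := hfr U hUn.1 φ hφ
  have := finite_of_le (Ω := Ω) hTS
  have := finite_of_le (Ω := Ω) ((normalizerIn_le T φ₀.range).trans hTS)
  have hval : ∀ g : normalizerIn T φ.range,
      ((a⁻¹ ⟨g, g.2.1⟩ : T) : Ω) ∈ normalizerIn T φ₀.range := by
    intro g
    have : Finite φ₀.range := finite_of_le ((range_le hφ₀).trans hTS)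
    refine ⟨(a⁻¹ _).2, ModelEmbed.mem_normalizer_of_finite ?_⟩
    rintro _ ⟨x, rfl⟩
    obtain ⟨y, hy⟩ := (Subgroup.mem_normalizer_iff.1 g.2.2 _).1 ⟨x, rfl⟩
    refine ⟨y, ?_⟩
    rw [he x (apply_mem hφ₀ x), he y (apply_mem hφ₀ y)] at hy
    have h1 : a ⟨φ₀ y, apply_mem hφ₀ y⟩ =
        a (a⁻¹ ⟨g, g.2.1⟩ * ⟨φ₀ x, apply_mem hφ₀ x⟩ * (a⁻¹ ⟨g, g.2.1⟩)⁻¹) := by
      rw [map_mul, map_mul, map_inv, MulAut.apply_inv_self]
      exact Subtype.ext hy
    exact congrArg Subtype.val (a.injective h1)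
  refine le_trans (Nat.card_le_card_of_injective
    (fun g => (⟨_, hval g⟩ : normalizerIn T φ₀.range)) fun g₁ g₂ hg => ?_)
    (hUn.2 _ ⟨φ₀, hφ₀, rfl⟩)
  have h0 : ((a⁻¹ ⟨(g₁ : Ω), g₁.2.1⟩ : T) : Ω) = ((a⁻¹ ⟨(g₂ : Ω), g₂.2.1⟩ : T) : Ω) :=
    congrArg (fun z : normalizerIn T φ₀.range => (z : Ω)) hg
  exact Subtype.ext (congrArg (fun t : T => (t : Ω)) (a⁻¹.injective (Subtype.ext h0)))

/-- The local group at `U`. -/
theorem exists_localGroup (hS : IsPGroup p S) (hE : E.IsNormalIn F p) {U : Subgroup Ω}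
    (hU : E.IsCentric U) (hUn : E.IsFullyNormalized U) (hc : c ∈ centralizerIn S T) :
    ∃ (L : Type u) (_ : Group L) (_ : Finite L) (j : ↥(nc T U c) →* L),
      Function.Injective j ∧ (∃ Sy : Sylow p L, (Sy : Subgroup L) = j.range) ∧
      (∀ α ∈ E.autGroup U, (orderOf α).Coprime p → ∃ g : L, ∀ x : U,
        j (Subgroup.inclusion (le_nc hU.1 c) (α x)) =
          g * j (Subgroup.inclusion (le_nc hU.1 c) x) * g⁻¹) ∧
      (∀ g : L, ∃ α ∈ E.autGroup U, ∀ x : U,
        j (Subgroup.inclusion (le_nc hU.1 c) (α x)) =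
          g * j (Subgroup.inclusion (le_nc hU.1 c) x) * g⁻¹) ∧
      (∀ g : L, ∃ r : U, g * j ⟨c, self_mem_nc T U c⟩ * g⁻¹ =
        j ⟨c, self_mem_nc T U c⟩ * j (Subgroup.inclusion (le_nc hU.1 c) r)) ∧
      ∀ (A : Subgroup Ω) (hA : A ≤ nc T U c) (φ : A →* Ω) (hφ : ∀ x, φ x ∈ nc T U c) (g : L),
        (∀ x : A, j ⟨φ x, hφ x⟩ = g * j (Subgroup.inclusion hA x) * g⁻¹) → φ ∈ F.Hom A := by
  obtain ⟨hEs, hF, hEi⟩ := id hE.1
  have hsub := hEi.1
  have hT : F.StronglyClosed T := hEi.2.1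
  have hTS := hT.1
  have hTn := le_normalizer_of_stronglyClosed hT
  have := finite_of_le (Ω := Ω) hTS
  have hTp : IsPGroup p T := hS.to_le hTS
  have hUT := hU.1
  have hUS := hUT.trans hTS
  obtain ⟨R, ω, hω, hRn, hQn, hωU, hωN⟩ := exists_good_conjugate hS hF hUS
  have hRC := isFullyCentralized_of_fullyNormalized hS hF hRn
  set Q := rc S R with hQ
  have hQS : Q ≤ S := hQn.1
  have hRQ : R ≤ Q := le_sup_left
  have hNRQ : normalizerIn S R ≤ normalizerIn S Q := fun g hg =>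
    ⟨hg.1, KNorm.normalizer_inf_normalizer_le_normalizer_sup
      ⟨hg.2, mem_normalizer_centralizerIn hg.1 hg.2⟩⟩
  have hcU : c ∈ centralizerIn S U := centralizerIn_anti hUT hc
  have hPN : nc T U c ≤ normalizerIn S U := sup_le (inf_le_inf_right _ hTS)
    (Subgroup.zpowers_le.2 (centralizerIn_le_normalizerIn S U hcU))
  have hUN : U ≤ normalizerIn S U := le_normalizerIn hUS
  have hr : (ω.comp (Subgroup.inclusion hUN)).range = R := by
    rw [MonoidHom.range_comp, Subgroup.inclusion_range, hωU]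
  set e := homEquiv (restrict_mem hω hUN) hr with he
  have hRT : R ≤ T := hr ▸ by
    rintro _ ⟨x, rfl⟩
    exact apply_mem_closed hT hω _ (hUT x.2)
  have hRS : R ≤ S := hRn.1
  have hRc : E.IsCentric R := isCentric_map hE.1 hU (restrict_mem hω hUN) hr
  have hcenR : centralizerIn T R ≤ R := hRc.2 R (isConj_refl E hRT)
  -- the model
  set N := normalizerSystem F Q hQS with hN
  have hNspec := normalizerSystem_spec F Q hQS
  obtain ⟨hNsat, hNn, hNc, M, instM, ι, hM⟩ :=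
    ModelEmbed.exists_model_normalizer hS hF (Fusion.isCentric_sup_centralizerIn hRC) hQn hNspec
  have := finite_of_le (Ω := Ω) (normalizerIn_le S Q)
  obtain ⟨π, hv, -, hπA⟩ := Model.exists_act (hS.to_le (normalizerIn_le S Q)) hNsat hM hNn hNc
  have := hM.1
  have hι : Function.Injective ι := hM.2.1.1
  have hNF : ∀ (A : Subgroup Ω), N.Hom A ⊆ F.Hom A := fun A φ hφ => hφ.1
  have hπF : ∀ g, π g ∈ F.autGroup Q := fun g => (mem_autGroup_iff hQS).2
    (hNF _ ((mem_autGroup_iff hNn.1).1 ((hπA _).2 ⟨g, rfl⟩)))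
  -- conjugation by `N_S(Q)`
  have hπs : ∀ (s : normalizerIn S Q) (q : Q),
      ((π (ι s) q : Q) : Ω) = (s : Ω) * q * (s : Ω)⁻¹ := by
    intro s q
    have h1 := hv (ι s) q
    rw [← map_inv, ← map_mul, ← map_mul] at h1
    exact congrArg Subtype.val (hι h1)
  -- the subgroups
  set Nn := (NormalCentralizer.preserving Q R).comap π with hNn'
  set H := (inE E hRQ ⊓ moving Q R).comap π with hH
  set pN := pushSub ι (normalizerIn S R) with hpN
  have hHNn : H ≤ Nn := fun g hg => moving_le_preserving Q R hg.2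
  have hHn : ∀ m ∈ Nn, ∀ h ∈ H, m * h * m⁻¹ ∈ H := by
    rintro m hm h ⟨⟨α, hα, hαe⟩, hmv⟩
    have hmF := restrict_mem ((mem_autGroup_iff hQS).1 (hπF m)) hRQ
    have hmr := range_eq_of_le hmF hRS (fun x => (hm (Subgroup.inclusion hRQ x)).1 x.2) le_rfl
    set a := toAut hmF hmr with ha
    have hae : ∀ x : R, π m (Subgroup.inclusion hRQ x) = Subgroup.inclusion hRQ (a x) :=
      fun x => Subtype.ext rfl
    have hae' : ∀ x : R, (π m)⁻¹ (Subgroup.inclusion hRQ x) = Subgroup.inclusion hRQ (a⁻¹ x) := by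
      intro x
      have h1 := hae (a⁻¹ x)
      rw [MulAut.apply_inv_self] at h1
      rw [← h1, MulAut.inv_apply_self]
    refine ⟨⟨a * α * a⁻¹, conj_mem_autGroup_of_invariant hEi hRT (toAut_mem hmF hmr) hα,
      fun x => ?_⟩, fun q => ?_⟩
    · rw [map_mul, map_mul, map_inv, MulAut.mul_apply, MulAut.mul_apply, hae', hαe, hae]
      rfl
    · obtain ⟨q, rfl⟩ := (π m).surjective q
      rw [map_mul, map_mul, map_inv, MulAut.mul_apply, MulAut.mul_apply, MulAut.inv_apply_self,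
        ← map_inv (π m), ← map_mul]
      exact (hm _).1 (hmv q)
  have hpNn : pN ≤ Nn := by
    rintro _ ⟨s, hs, rfl⟩ q
    show (q : Ω) ∈ R ↔ ((π (ι s) q : Q) : Ω) ∈ R
    rw [hπs]
    exact Subgroup.mem_normalizer_iff.1 hs.2 q
  -- `pN` is a Sylow subgroup of `Nn`
  have hpNp : IsPGroup p pN := ((hS.to_le (normalizerIn_le S Q)).to_subgroup _).map ι
  have hsyl : ∀ B : Subgroup M, B ≤ Nn → IsPGroup p B → Nat.card B ≤ Nat.card pN := by
    intro B hB hBp
    obtain ⟨T₁, hT₁⟩ := hM.2.2.1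
    obtain ⟨V, hV⟩ := hBp.exists_le_sylow
    obtain ⟨m, hm⟩ := MulAction.exists_smul_eq M V T₁
    have hBm : ∀ b ∈ B, m * b * m⁻¹ ∈ ι.range := by
      intro b hb
      rw [← hT₁, ← hm]
      exact ⟨b, hV hb, rfl⟩
    have hmF := restrict_mem ((mem_autGroup_iff hQS).1 (hπF m)) hRQ
    set φ := (Q.subtype.comp (π m).toMonoidHom).comp (Subgroup.inclusion hRQ) with hφ
    have hconj : F.IsConj R φ.range := ⟨φ, hmF, rfl⟩
    have : Finite φ.range := finite_of_le (range_le hmF)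
    have hin : ∀ (b : B) (s : normalizerIn S Q), ι s = m * b * m⁻¹ →
        (s : Ω) ∈ normalizerIn S φ.range := by
      intro b s hs
      refine ⟨s.2.1, ModelEmbed.mem_normalizer_of_finite ?_⟩
      rintro _ ⟨x, rfl⟩
      refine ⟨⟨_, (hB b.2 (Subgroup.inclusion hRQ x)).1 x.2⟩, ?_⟩
      show ((π m (π b (Subgroup.inclusion hRQ x)) : Q) : Ω) =
        (s : Ω) * ((π m (Subgroup.inclusion hRQ x) : Q) : Ω) * (s : Ω)⁻¹
      rw [← hπs, hs, map_mul, map_mul, map_inv, MulAut.mul_apply, MulAut.mul_apply,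
        MulAut.inv_apply_self]
    choose σ hσ using fun b : B => hBm b b.2
    have := finite_of_le (Ω := Ω) (normalizerIn_le S φ.range)
    refine (Nat.card_le_card_of_injective
      (fun b : B => (⟨(σ b : Ω), hin b (σ b) (hσ b)⟩ : normalizerIn S φ.range))
      fun b₁ b₂ h => ?_).trans ((hRn.2 _ hconj).trans ?_)
    · have h1 : σ b₁ = σ b₂ := Subtype.ext (congrArg (fun z : normalizerIn S φ.range => (z : Ω)) h)
      have h2 := hσ b₁
      rw [h1, hσ b₂] at h2
      exact Subtype.ext (mul_left_cancel (mul_right_cancel h2)).symm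
    · rw [hpN, pushSub, Subgroup.card_map_of_injective hι,
        Nat.card_congr (Subgroup.subgroupOfEquivOfLe hNRQ).toEquiv]
  obtain ⟨PN, hPN'⟩ := (hpNp.comap_of_injective Nn.subtype Nn.subtype_injective :
    IsPGroup p (pN.subgroupOf Nn)).exists_le_sylow
  have hPNeq : (PN : Subgroup Nn) = pN.subgroupOf Nn := by
    refine (Subgroup.eq_of_le_of_card_ge hPN' ?_).symm
    refine le_trans ?_ (Nat.card_congr (Subgroup.subgroupOfEquivOfLe hpNn).toEquiv).ge
    rw [← Subgroup.card_map_of_injective Nn.subtype_injective]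
    exact hsyl _ (Subgroup.map_subtype_le _) (PN.2.map Nn.subtype)
  -- `pN ∩ H` is a Sylow subgroup of `H`
  obtain ⟨PH, hPH'⟩ := (hpNp.comap_of_injective H.subtype H.subtype_injective :
    IsPGroup p (pN.subgroupOf H)).exists_le_sylow
  have hPHeq : (PH : Subgroup H) = pN.subgroupOf H := by
    refine (Subgroup.eq_of_le_of_card_ge hPH' ?_).symm
    obtain ⟨V, hV⟩ :=
      (PH.2.map (Subgroup.inclusion hHNn) : IsPGroup p _).exists_le_sylow
    obtain ⟨n, hn⟩ := MulAction.exists_smul_eq Nn V PN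
    have hbn : ∀ b : (PH : Subgroup H), (n : M) * ((b : H) : M) * (n : M)⁻¹ ∈ pN := by
      intro b
      have h1 : n * Subgroup.inclusion hHNn b * n⁻¹ ∈ (PN : Subgroup Nn) := by
        rw [← hn]
        exact ⟨Subgroup.inclusion hHNn b, hV ⟨b, b.2, rfl⟩, rfl⟩
      rw [hPNeq] at h1
      exact h1
    refine Nat.card_le_card_of_injective (fun b : (PH : Subgroup H) =>
      (⟨⟨_, hHn n n.2 _ (b : H).2⟩, hbn b⟩ : pN.subgroupOf H)) fun b₁ b₂ h => ?_
    exact Subtype.ext (Subtype.ext (mul_left_cancel (mul_right_cancel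
      (congrArg (fun z : pN.subgroupOf H => ((z : H) : M)) h))))
  -- the embedding
  have hNT : normalizerIn T U ≤ nc T U c := le_sup_left
  let ωP : ↥(nc T U c) →* ↥(normalizerIn S Q) :=
    (ω.comp (Subgroup.inclusion hPN)).codRestrict _ fun z => hNRQ (hωN _)
  let j : ↥(nc T U c) →* M := ι.comp ωP
  have hωi : Function.Injective ω := F.injective_of_mem hω
  have hji : Function.Injective j := fun a b h =>
    Subgroup.inclusion_injective hPN (hωi (congrArg Subtype.val (hι h)))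
  -- `ω` carries `N_T(U)` onto `N_T(R)`
  have hωNT : ∀ t ∈ normalizerIn T R, ∃ t₀ : normalizerIn T U,
      ω (Subgroup.inclusion (hNT.trans hPN) t₀) = t := by
    set W := (ω.comp (Subgroup.inclusion (hNT.trans hPN))).range with hW
    have := finite_of_le (Ω := Ω) ((normalizerIn_le T R).trans hTS)
    have h1 : W = normalizerIn T R := by
      refine Subgroup.eq_of_le_of_card_ge ?_ ?_
      · rintro _ ⟨t, rfl⟩
        exact ⟨apply_mem_closed hT hω _ t.2.1, (hωN _).2⟩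
      · rw [card_range (restrict_mem hω (hNT.trans hPN))]
        exact card_normalizerIn_le hEi hTS hUn ⟨_, restrict_mem hω hUN, hr⟩
    exact fun t ht => h1.ge ht
  -- the focal subgroup of `H` is in `j(P)`
  have hfoc : ∀ x g : H, x ∈ (PH : Subgroup H) → g * x * g⁻¹ ∈ (PH : Subgroup H) →
      ((x⁻¹ * (g * x * g⁻¹) : H) : M) ∈ j.range := by
    intro x g hx hgx
    rw [hPHeq, Subgroup.mem_subgroupOf] at hx hgx
    obtain ⟨s, hs, hsx⟩ := hx
    obtain ⟨s', hs', hs'x⟩ := hgx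
    -- `x` induces on `R` an element of `Aut_T(R)`
    obtain ⟨⟨α, hα, hαx⟩, -⟩ := x.2
    have hαs : ∀ y : R, ((α y : R) : Ω) = (s : Ω) * y * (s : Ω)⁻¹ := by
      intro y
      have h1 := congrArg (fun q : Q => (q : Ω)) (hαx y)
      rw [← hsx] at h1
      exact h1.symm.trans (hπs s _)
    have hαT : α ∈ autInducedBy T R := by
      obtain ⟨-, U', hU'⟩ := isFullyAutomized_of_fullyNormalized hTp hEs
        (isFullyNormalized_sub hS hF hsub hT hRT hRn)
      have hle : (U' : Subgroup (E.autGroup R)) ≤ (autInducedBy S R).subgroupOf (E.autGroup R) := by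
        rw [hU']
        exact fun u hu => autInducedBy_mono hTS hu
      have h1 := U'.is_maximal' ((isPGroup_autInducedBy hS R).comap_of_injective
        (E.autGroup R).subtype (Subgroup.subtype_injective _)) hle
      have h2 : (⟨α, hα⟩ : E.autGroup R) ∈ (U' : Subgroup (E.autGroup R)) := by
        rw [← h1]
        exact mem_autInducedBy_iff.2 ⟨s, (normalizerIn_le S Q) s.2, hαs⟩
      rw [hU'] at h2
      exact h2
    obtain ⟨t, ht, hαt⟩ := mem_autInducedBy_iff.1 hαT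
    have htN : t ∈ Subgroup.normalizer (R : Set Ω) := mem_normalizer_of_aut hαt
    -- `d = t⁻¹ s` centralizes `R`
    have hd : t⁻¹ * (s : Ω) ∈ centralizerIn S R := by
      refine mem_centralizerIn.2 ⟨S.mul_mem (S.inv_mem (hTS ht)) s.2.1, fun y hy => ?_⟩
      have h1 : t * y * t⁻¹ = (s : Ω) * y * (s : Ω)⁻¹ := (hαt ⟨y, hy⟩).symm.trans (hαs ⟨y, hy⟩)
      calc y * (t⁻¹ * (s : Ω)) = t⁻¹ * (t * y * t⁻¹) * (s : Ω) := by group
        _ = t⁻¹ * ((s : Ω) * y * (s : Ω)⁻¹) * (s : Ω) := by rw [h1]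
        _ = _ := by group
    set d : normalizerIn S Q := ⟨_, hNRQ (centralizerIn_le_normalizerIn S R hd)⟩ with hdd
    set tN : normalizerIn S Q := ⟨t, hNRQ ⟨hTS ht, htN⟩⟩ with htt
    have hstd : s = tN * d := Subtype.ext (mul_inv_cancel_left _ _).symm
    -- conjugation by `g` moves `d` inside `R`
    have hgd := g.2.2 ⟨t⁻¹ * (s : Ω), Subgroup.mem_sup_right hd⟩
    rw [Subgroup.coe_mul, Subgroup.coe_inv] at hgd
    set r : normalizerIn S Q := ⟨_, hNRQ (le_normalizerIn hRS hgd)⟩ with hrr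
    have hgd' : (g : M) * ι d * (g : M)⁻¹ = ι (d * r) := by
      rw [← hv (g : M) ⟨t⁻¹ * (s : Ω), Subgroup.mem_sup_right hd⟩]
      exact congrArg ι (Subtype.ext (mul_inv_cancel_left _ _).symm)
    -- and `t` inside `T`
    set v : normalizerIn S Q := s' * (d * r)⁻¹ with hvv
    have hgt : (g : M) * ι tN * (g : M)⁻¹ = ι v := by
      have h1 : ι s' = (g : M) * ι s * (g : M)⁻¹ := by rw [hs'x, hsx]; rfl
      rw [hvv, map_mul, map_inv, ← hgd', h1, hstd, map_mul]
      group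
    have hvT : (v : Ω) ∈ T := by
      have hA : Subgroup.zpowers t ≤ normalizerIn S Q := Subgroup.zpowers_le.2 tN.2
      have hmem : ∀ z : Subgroup.zpowers t,
          (g : M) * ι (Subgroup.inclusion hA z) * (g : M)⁻¹ ∈ ι.range := by
        rintro ⟨_, n, rfl⟩
        refine ⟨v ^ n, ?_⟩
        rw [map_zpow, ← hgt, conj_zpow, ← map_zpow]
        exact congrArg (fun w => (g : M) * ι w * (g : M)⁻¹) (Subtype.ext (Subgroup.coe_zpow _ tN n))
      have h1 := hT.2 _ (Subgroup.zpowers_le.2 ht) _ (hNF _ (pullHom_mem hM.2.1 hA _ hmem))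
        ⟨t, Subgroup.mem_zpowers t⟩
      have h2 : ι v = ι ⟨_, apply_mem (pullHom_mem hM.2.1 hA _ hmem) ⟨t, Subgroup.mem_zpowers t⟩⟩ :=
        hgt.symm.trans (apply_pullHom hι hA _ hmem ⟨t, Subgroup.mem_zpowers t⟩ _).symm
      rw [hι h2]
      exact h1
    have hvR : (v : Ω) ∈ normalizerIn T R :=
      ⟨hvT, ((normalizerIn S R).mul_mem hs' ((normalizerIn S R).inv_mem ((normalizerIn S R).mul_mem
        (centralizerIn_le_normalizerIn S R hd) (le_normalizerIn hRS hgd)))).2⟩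
    -- so the product is in `N_T(R)`
    have hprod : ((d⁻¹ * (tN⁻¹ * v) * d * r : normalizerIn S Q) : Ω) ∈ normalizerIn T R := by
      have h1 : t⁻¹ * (v : Ω) ∈ normalizerIn T R :=
        Subgroup.mul_mem _ (Subgroup.inv_mem _ ⟨ht, htN⟩) hvR
      refine Subgroup.mul_mem _ ⟨(Subgroup.mem_normalizer_iff''.1 (hTn hd.1) _).1 h1.1, ?_⟩
        (le_normalizerIn hRT hgd)
      exact Subgroup.mul_mem _ (Subgroup.mul_mem _ (Subgroup.inv_mem _
        (centralizerIn_le_normalizerIn S R hd).2) h1.2) (centralizerIn_le_normalizerIn S R hd).2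
    obtain ⟨t₀, ht₀⟩ := hωNT _ hprod
    refine ⟨Subgroup.inclusion hNT t₀, ?_⟩
    show ι (ωP _) = (x : M)⁻¹ * ((g : M) * x * (g : M)⁻¹)
    have h3 : ((g * x * g⁻¹ : H) : M) = ι s' := hs'x.symm
    rw [show (g : M) * x * (g : M)⁻¹ = ι s' from h3, show (x : M) = ι s from hsx.symm,
      ← map_inv, ← map_mul]
    refine congrArg ι (Subtype.ext ?_)
    show ω _ = _
    rw [show Subgroup.inclusion hPN (Subgroup.inclusion hNT t₀) =
      Subgroup.inclusion (hNT.trans hPN) t₀ from rfl, ht₀]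
    rw [hstd, hvv]
    simp [mul_assoc]
  -- `j(P)` normalizes `H`
  have hjNn : j.range ≤ Nn := by
    rintro _ ⟨z, rfl⟩
    exact hpNn ⟨ωP z, hωN _, rfl⟩
  set H₁ := (Cfsg.pResidual p H).map H.subtype with hH₁
  have hjn : j.range ≤ Subgroup.normalizer (H₁ : Set M) := by
    intro a ha
    refine ModelEmbed.mem_normalizer_of_finite ?_
    rintro _ ⟨y, hy, rfl⟩
    let f : H →* H := MonoidHom.codRestrict ((MulAut.conj a).toMonoidHom.comp H.subtype) H
      fun h => hHn a (hjNn ha) _ h.2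
    exact ⟨f y, Transfer.map_residual_le f p ⟨y, hy, rfl⟩, rfl⟩
  have hjp : IsPGroup p j.range := IsPGroup.of_surjective
    (hS.to_le (hPN.trans (normalizerIn_le S U))) j.rangeRestrict j.rangeRestrict_surjective
  obtain ⟨Sy, hSy⟩ := exists_sylow_residual_sup hjp hjn PH hfoc
  let L := H₁ ⊔ j.range
  let jL : ↥(nc T U c) →* L := j.codRestrict L fun z => Subgroup.mem_sup_right ⟨z, rfl⟩
  have hL₁ : ∀ g : L, ∃ h ∈ H, ∃ z : ↥(nc T U c), (g : M) = h * j z := by
    intro g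
    have h1 : (g : M) ∈ ((H₁ ⊔ j.range : Subgroup M) : Set M) := g.2
    rw [Subgroup.coe_mul_of_right_le_normalizer_left _ _ hjn] at h1
    obtain ⟨h, hh, _, ⟨z, rfl⟩, he⟩ := h1
    exact ⟨h, Subgroup.map_subtype_le _ hh, z, he.symm⟩
  -- the action on `U`
  have hkey : ∀ (g : M) (α : MulAut U),
      (∀ y : R, π g (Subgroup.inclusion hRQ y) =
        Subgroup.inclusion hRQ (MulAut.congr e α y)) → ∀ x : U,
      j (Subgroup.inclusion (le_nc hUT c) (α x)) =
        g * j (Subgroup.inclusion (le_nc hUT c) x) * g⁻¹ := by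
    intro g α h x
    have h1 := hv g (Subgroup.inclusion hRQ (e x))
    rw [show g * j (Subgroup.inclusion (le_nc hUT c) x) * g⁻¹ =
      g * ι ⟨_, hNn.1 (Subgroup.inclusion hRQ (e x)).2⟩ * g⁻¹ from rfl, ← h1]
    refine congrArg ι (Subtype.ext ?_)
    show ω _ = ((π g (Subgroup.inclusion hRQ (e x)) : Q) : Ω)
    rw [h, congr_apply]
    rfl
  -- conjugation by `N_T(U)⟨c⟩` on `U`
  have hPU : ∀ z : ↥(nc T U c), ∃ α ∈ E.autGroup U, ∀ x : U,
      j (Subgroup.inclusion (le_nc hUT c) (α x)) =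
        j z * j (Subgroup.inclusion (le_nc hUT c) x) * (j z)⁻¹ := by
    intro z
    have h1 : ((z : Ω)) ∈ ((normalizerIn T U ⊔ Subgroup.zpowers c : Subgroup Ω) : Set Ω) := z.2
    rw [Subgroup.coe_mul_of_right_le_normalizer_left _ _ (Subgroup.zpowers_le.2 (by
      refine Subgroup.centralizer_le_normalizer _ fun y hy => ?_
      exact (mem_centralizerIn.1 hc).2 y hy.1))] at h1
    obtain ⟨t, ht, y, hy, he⟩ := h1
    have hyU : y ∈ centralizerIn S U := Subgroup.zpowers_le.2 hcU hy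
    refine ⟨conjAut ht.2, autInducedBy_le_autGroup E hUT (conjAut_mem_autInducedBy ht.1 ht.2),
      fun x => ?_⟩
    rw [← map_inv, ← map_mul, ← map_mul]
    refine congrArg j (Subtype.ext ?_)
    show t * (x : Ω) * t⁻¹ = (z : Ω) * x * (z : Ω)⁻¹
    rw [← he]
    calc t * (x : Ω) * t⁻¹ = t * ((x : Ω) * y * y⁻¹) * t⁻¹ := by group
      _ = t * (y * (x : Ω) * y⁻¹) * t⁻¹ := by rw [(mem_centralizerIn.1 hyU).2 x x.2]
      _ = _ := by group
  refine ⟨L, inferInstance, inferInstance, jL, fun a b h => hji (congrArg Subtype.val h),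
    ⟨Sy, ?_⟩, ?_, ?_, ?_, ?_⟩
  · refine hSy.trans ?_
    ext g
    exact ⟨fun ⟨z, hz⟩ => ⟨z, Subtype.ext hz⟩, fun ⟨z, hz⟩ => ⟨z, congrArg Subtype.val hz⟩⟩
  · -- lifting
    intro α hα hord
    set α' := MulAut.congr e α with hα'
    have hα'E : α' ∈ E.autGroup R := congr_mem_E hEi hUT (restrict_mem hω hUN) hr hα
    obtain ⟨k, γ, hγ, -, hγR, hγC⟩ :=
      exists_coprime_ext (p := p) hRC.1 (autGroup_le_bExt hS hE hRc hRn hα'E)
    obtain ⟨g, hg⟩ : ∃ g, π g = γ := by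
      refine (hπA γ).1 ((mem_autGroup_iff hNn.1).2 ?_)
      refine ⟨(mem_autGroup_iff hQS).1 hγ, le_normalizerIn hQS,
        fun x => le_normalizerIn hQS (γ x).2, ?_⟩
      have hle : Q ⊔ Q ≤ Q := sup_le le_rfl le_rfl
      have hψ := restrict_mem ((mem_autGroup_iff hQS).1 hγ) hle
      exact ⟨_, hψ, fun x => rfl,
        (map_subgroupOf_eq_iff hψ le_sup_right).2 fun x hx => (γ ⟨x, hx⟩).2⟩
    have hgH : g ∈ H := by
      refine Subgroup.mem_comap.2 ?_
      rw [hg]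
      refine ⟨⟨α' ^ p ^ k, pow_mem hα'E _, hγR⟩, mem_moving_rc (fun x hx => ?_) hγC⟩
      rw [show x = Subgroup.inclusion le_sup_left (⟨(x : Ω), hx⟩ : R) from rfl, hγR]
      exact ((α' ^ p ^ k) ⟨_, hx⟩).2
    obtain ⟨i, hi⟩ := Transfer.exists_pow_mem_residual p (⟨g, hgH⟩ : H)
    have hord' : (orderOf α').Coprime p := by
      rw [hα', MulEquiv.orderOf_eq]
      exact hord
    obtain ⟨m, hm⟩ := exists_pow_eq_self_of_coprime (n := p ^ k * p ^ i) (x := α')
      (Nat.Coprime.mul_right (hord'.pow_right k) (hord'.pow_right i)).symm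
    refine ⟨⟨(g ^ p ^ i) ^ m, pow_mem (Subgroup.mem_sup_left (show g ^ p ^ i ∈ H₁ from ⟨_, hi, rfl⟩)) m⟩, fun x =>
      Subtype.ext (hkey ((g ^ p ^ i) ^ m) α (fun y => ?_) x)⟩
    rw [map_pow, map_pow, hg, ← pow_mul, ← hα']
    suffices ∀ (n : ℕ) (y : R), (γ ^ n) (Subgroup.inclusion le_sup_left y) =
        Subgroup.inclusion le_sup_left (((α' ^ p ^ k) ^ n) y) by
      rw [this, ← pow_mul, ← mul_assoc, pow_mul, hm]
    intro n
    induction n with
    | zero => exact fun y => rfl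
    | succ n ih =>
      exact fun y => by
        rw [pow_succ', MulAut.mul_apply, ih, hγR, pow_succ' (α' ^ p ^ k), MulAut.mul_apply]
  · -- restriction
    intro g
    obtain ⟨h, hh, z, hgz⟩ := hL₁ g
    obtain ⟨⟨α₁, hα₁, hαe⟩, -⟩ := hh
    obtain ⟨β, hβ, hβe⟩ := hPU z
    obtain ⟨ρ, hρ, hρr, hρi, -⟩ := exists_inverse (restrict_mem hω hUN) hr
    have he' : homEquiv hρ hρr = e.symm := by
      refine MulEquiv.ext fun y => ?_
      obtain ⟨x, rfl⟩ := e.surjective y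
      rw [MulEquiv.symm_apply_apply]
      exact Subtype.ext (hρi x (e x).2)
    set α₀ := MulAut.congr e.symm α₁ with hα₀
    have hα₀E : α₀ ∈ E.autGroup U := by
      rw [hα₀, ← he']
      exact congr_mem_E hEi hRT hρ hρr hα₁
    refine ⟨α₀ * β, mul_mem hα₀E hβ, fun x => Subtype.ext ?_⟩
    show j _ = (g : M) * j _ * (g : M)⁻¹
    rw [hgz, MulAut.mul_apply, hkey h α₀ (fun y => by
      rw [hαe, hα₀]
      congr 1
      simp [MulAut.congr]) (β x), hβe]
    group
  · -- moving `c`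
    intro g
    obtain ⟨h, hh, z, hgz⟩ := hL₁ g
    have hzc : Commute (j z) (j ⟨c, self_mem_nc T U c⟩) := by
      have hle : nc T U c ≤ Subgroup.centralizer {c} := sup_le
        (fun t ht => Subgroup.mem_centralizer_singleton_iff.2 ((mem_centralizerIn.1 hc).2 t ht.1))
        (Subgroup.zpowers_le.2 (Subgroup.mem_centralizer_singleton_iff.2 rfl))
      exact (show Commute z ⟨c, self_mem_nc T U c⟩ from
        Subtype.ext (Subgroup.mem_centralizer_singleton_iff.1 (hle z.2))).map j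
    set y := ω (Subgroup.inclusion hPN ⟨c, self_mem_nc T U c⟩) with hy
    have hyC : y ∈ centralizerIn S R := apply_mem_centralizer_image hω hUN hr _ hcU
    have hmv := hh.2 ⟨y, Subgroup.mem_sup_right hyC⟩
    rw [Subgroup.coe_mul, Subgroup.coe_inv] at hmv
    obtain ⟨r₀, hr₀⟩ := hr.ge hmv
    refine ⟨r₀, Subtype.ext ?_⟩
    show (g : M) * j _ * (g : M)⁻¹ = j _ * j _
    rw [hgz, ← map_mul]
    calc h * j z * j ⟨c, self_mem_nc T U c⟩ * (h * j z)⁻¹
        = h * (j z * j ⟨c, self_mem_nc T U c⟩ * (j z)⁻¹) * h⁻¹ := by group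
      _ = h * j ⟨c, self_mem_nc T U c⟩ * h⁻¹ := by rw [hzc.eq, mul_inv_cancel_right]
      _ = _ := by
        refine Eq.trans (hv h ⟨y, Subgroup.mem_sup_right hyC⟩).symm (congrArg ι (Subtype.ext ?_))
        show _ = ω (Subgroup.inclusion hPN (⟨c, self_mem_nc T U c⟩ * _))
        rw [map_mul, map_mul]
        exact (mul_inv_cancel_left y _).symm.trans (congrArg (y * ·) hr₀.symm)
  · -- realized maps
    intro A hA φ hφ g hg
    set ωA := ω.comp (Subgroup.inclusion (hA.trans hPN)) with hωA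
    have hωAF : ωA ∈ F.Hom A := restrict_mem hω _
    have hAQ : ωA.range ≤ normalizerIn S Q := by
      rintro _ ⟨x, rfl⟩
      exact hNRQ (hωN _)
    have hmem : ∀ y : ωA.range, (g : M) * ι ⟨y, hAQ y.2⟩ * (g : M)⁻¹ ∈ ι.range := by
      rintro ⟨_, x, rfl⟩
      exact ⟨ωP ⟨φ x, hφ x⟩, congrArg Subtype.val (hg x)⟩
    have hμ := hNF _ (pullHom_mem hM.2.1 hAQ _ hmem)
    have hθ : ∀ x : A, pullHom hι hAQ (g : M) hmem ⟨ωA x, x, rfl⟩ =
        ω (Subgroup.inclusion hPN ⟨φ x, hφ x⟩) := by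
      intro x
      have h1 : ι ⟨_, apply_mem (pullHom_mem hM.2.1 hAQ _ hmem) ⟨ωA x, x, rfl⟩⟩ =
          ι (ωP ⟨φ x, hφ x⟩) :=
        (apply_pullHom hι hAQ _ hmem ⟨ωA x, x, rfl⟩ _).trans (congrArg Subtype.val (hg x)).symm
      exact congrArg Subtype.val (hι h1)
    obtain ⟨ρ, hρ, -, hρi, -⟩ := exists_inverse hω (rfl : ω.range = ω.range)
    have hθF := F.comp_mem hωAF hμ fun x => ⟨x, rfl⟩
    refine comp_mem' hθF hρ (fun x => ⟨_, (hθ x).symm⟩) fun x => ?_
    refine Eq.trans (hρi (Subgroup.inclusion hPN ⟨φ x, hφ x⟩) ⟨_, rfl⟩).symm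
      (congrArg ρ (Subtype.ext ?_))
    exact (hθ x).symm

end Cfsg.Agent.Fusion.CentralizerOdd
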