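import Cfsg.Agent.Lib.Fusion.CentralizerOddFix
import Cfsg.Agent.Lib.Fusion.CentralizerOddModel
import Cfsg.Agent.Lib.PGroup.Thompson
import Cfsg.Agent.S2799

/-!
For a normal subsystem `E` over `T` and odd `p`, every `c ∈ C_S(T)` becomes, after multiplying by an
element of `Z(T)`, an element centralizing `E`: induction over the `E`-centric subgroups, with
Glauberman's weakly closed central elements in the local groups.
-/

set_option autoImplicit false

namespace Cfsg.Agent.Fusion.CentralizerOdd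

open Cfsg Cfsg.FusionSystem Cfsg.Agent.Fusion Cfsg.Agent.Fusion.NormalCentralizer
  Cfsg.Agent.Fusion.NormalExtensions

universe u

variable {Ω : Type u} [Group Ω] {S T : Subgroup Ω} {F : FusionSystem S} {E : FusionSystem T}
  {p : ℕ} {c : Ω}

/-- `J(P) ∩ T` for `P = N_T(U)⟨c⟩`. -/
abbrev jT (T U : Subgroup Ω) (c : Ω) : Subgroup Ω := T ⊓ thompsonSubgroupAOf (nc T U c)

theorem inf_centralizer_thompson_le (P : Subgroup Ω) [Finite P] :
    P ⊓ Subgroup.centralizer (thompsonSubgroupAOf P : Set Ω) ≤ thompsonSubgroupAOf P := by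
  rintro x ⟨hxP, hxC⟩
  refine ⟨⟨x, hxP⟩, ?_, rfl⟩
  have h := PGroup.centralizer_thompsonA_le (⊤ : Subgroup P)
  rw [PGroup.thompsonSubgroupAOf_top] at h
  refine h ⟨Subgroup.mem_top _, Subgroup.mem_centralizer_iff.2 fun y hy => Subtype.ext ?_⟩
  exact Subgroup.mem_centralizer_iff.1 hxC _ ⟨y, hy, rfl⟩

theorem thompson_map_range {L : Type*} [Group L] {P : Subgroup Ω} {j : P →* L}
    (hj : Function.Injective j) :
    thompsonSubgroupAOf j.range = ((thompsonSubgroupAOf P).subgroupOf P).map j := by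
  have h := PGroup.thompsonSubgroupAOf_map_equiv (MonoidHom.ofInjective hj) (⊤ : Subgroup P)
  rw [Subgroup.map_top_of_surjective (MonoidHom.ofInjective hj).toMonoidHom (MonoidHom.ofInjective hj).surjective,
    PGroup.thompsonSubgroupAOf_top, PGroup.thompsonSubgroupAOf_top] at h
  rw [thompsonSubgroupAOf, ← h, Subgroup.map_map, thompsonSubgroupAOf, Subgroup.subgroupOf,
    Subgroup.comap_map_eq_self_of_injective P.subtype_injective]
  rfl

theorem commute_of_mem_nc {U : Subgroup Ω} (hc : c ∈ centralizerIn S T) {x : Ω}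
    (hx : x ∈ nc T U c) : x * c = c * x := by
  have hle : nc T U c ≤ Subgroup.centralizer {c} := sup_le
    (fun t ht => Subgroup.mem_centralizer_singleton_iff.2 ((mem_centralizerIn.1 hc).2 t ht.1))
    (Subgroup.zpowers_le.2 (Subgroup.mem_centralizer_singleton_iff.2 rfl))
  exact Subgroup.mem_centralizer_singleton_iff.1 (hle hx)

theorem nc_le (hTS : T ≤ S) (hc : c ∈ centralizerIn S T) (U : Subgroup Ω) : nc T U c ≤ S :=
  sup_le ((normalizerIn_le T U).trans hTS) (zpowers_le_of_mem hc)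

/-- An element of `N_T(N_T(U))` normalizes `J(P) ∩ T`. -/
theorem normalizer_le_jT {U : Subgroup Ω} (hc : c ∈ centralizerIn S T) :
    normalizerIn T (normalizerIn T U) ≤ normalizerIn T (jT T U c) := by
  intro x hx
  have hxc : x * c * x⁻¹ = c := by rw [(mem_centralizerIn.1 hc).2 x hx.1, mul_inv_cancel_right]
  have hmap : (nc T U c).map (MulAut.conj x).toMonoidHom = nc T U c := by
    rw [Subgroup.map_sup, PGroup.map_conj_eq_of_mem_normalizer hx.2, MonoidHom.map_zpowers]
    show _ ⊔ Subgroup.zpowers (x * c * x⁻¹) = _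
    rw [hxc]
  refine ⟨hx.1, Subgroup.mem_normalizer_iff.2 fun y => and_congr
    (Subgroup.mem_normalizer_iff.1 (Subgroup.le_normalizer hx.1) y) ?_⟩
  exact Subgroup.mem_normalizer_iff.1 (PGroup.normalizer_le_normalizer_thompsonAOf _
    (PGroup.mem_normalizer_of_map_conj_eq hmap)) y

theorem jT_le (hc : c ∈ centralizerIn S T) (U : Subgroup Ω) :
    jT T U c ≤ normalizerIn T U ⊔ (T ⊓ Subgroup.zpowers c) := by
  intro w hw
  have hn : Subgroup.zpowers c ≤ Subgroup.normalizer (normalizerIn T U : Set Ω) :=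
    Subgroup.zpowers_le.2 (Subgroup.centralizer_le_normalizer _
      fun y hy => (mem_centralizerIn.1 hc).2 y hy.1)
  have h1 : w ∈ ((normalizerIn T U ⊔ Subgroup.zpowers c : Subgroup Ω) : Set Ω) :=
    PGroup.thompsonSubgroupAOf_le _ hw.2
  rw [Subgroup.coe_mul_of_right_le_normalizer_left _ _ hn] at h1
  obtain ⟨t, ht, d, hd, he⟩ := h1
  have hdT : d ∈ T := by
    rw [show d = t⁻¹ * w from eq_inv_mul_of_mul_eq he]
    exact T.mul_mem (T.inv_mem ht.1) hw.1
  rw [← he]
  exact Subgroup.mul_mem _ (Subgroup.mem_sup_left ht) (Subgroup.mem_sup_right ⟨hdT, hd⟩)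

theorem jT_le_normalizerIn (hc : c ∈ centralizerIn S T) {U : Subgroup Ω} (hU : U ≤ T) :
    jT T U c ≤ normalizerIn T U := by
  refine (jT_le hc U).trans (sup_le le_rfl ?_)
  rintro d ⟨hdT, hd⟩
  refine ⟨hdT, Subgroup.centralizer_le_normalizer _ fun y hy => ?_⟩
  exact (mem_centralizerIn.1 (Subgroup.zpowers_le.2 hc hd)).2 y (hU hy)

variable [Finite S] [Fact p.Prime]

theorem self_mem_thompson (hTS : T ≤ S) (hc : c ∈ centralizerIn S T) (U : Subgroup Ω) :
    c ∈ thompsonSubgroupAOf (nc T U c) := by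
  have := finite_of_le (Ω := Ω) (nc_le hTS hc U)
  exact inf_centralizer_thompson_le _ ⟨self_mem_nc T U c, Subgroup.mem_centralizer_iff.2 fun y hy =>
    commute_of_mem_nc hc (PGroup.thompsonSubgroupAOf_le _ hy)⟩

/-- `J(P) = (J(P) ∩ T)⟨c⟩`. -/
theorem jT_sup_zpowers (hTS : T ≤ S) (hc : c ∈ centralizerIn S T) (U : Subgroup Ω) :
    jT T U c ⊔ Subgroup.zpowers c = thompsonSubgroupAOf (nc T U c) := by
  refine le_antisymm (sup_le inf_le_right (Subgroup.zpowers_le.2 (self_mem_thompson hTS hc U)))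
    fun w hw => ?_
  have hn : Subgroup.zpowers c ≤ Subgroup.normalizer (normalizerIn T U : Set Ω) :=
    Subgroup.zpowers_le.2 (Subgroup.centralizer_le_normalizer _
      fun y hy => (mem_centralizerIn.1 hc).2 y hy.1)
  have h1 : w ∈ ((normalizerIn T U ⊔ Subgroup.zpowers c : Subgroup Ω) : Set Ω) :=
    PGroup.thompsonSubgroupAOf_le _ hw
  rw [Subgroup.coe_mul_of_right_le_normalizer_left _ _ hn] at h1
  obtain ⟨t, ht, d, hd, he⟩ := h1
  have htW : t ∈ thompsonSubgroupAOf (nc T U c) := by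
    rw [show t = w * d⁻¹ from eq_mul_inv_of_mul_eq he]
    exact Subgroup.mul_mem _ hw (Subgroup.inv_mem _
      (Subgroup.zpowers_le.2 (self_mem_thompson hTS hc U) hd))
  rw [← he]
  exact Subgroup.mul_mem _ (Subgroup.mem_sup_left ⟨ht.1, htW⟩) (Subgroup.mem_sup_right hd)

/-- `J(P) ∩ T` is `E`-centric when it lies in the fully normalized centric `U`. -/
theorem isCentric_jT (hS : IsPGroup p S) (hE : E.IsNormalIn F p) (hc : c ∈ centralizerIn S T)
    {U : Subgroup Ω} (hU : E.IsCentric U) (hUn : E.IsFullyNormalized U) (h : jT T U c ≤ U) :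
    E.IsCentric (jT T U c) := by
  have hTS : T ≤ S := hE.1.2.2.2.1.1
  have := finite_of_le (Ω := Ω) hTS
  have hTp : IsPGroup p T := hS.to_le hTS
  have hUT := hU.1
  set W₀ := jT T U c with hW₀
  have hNW : normalizerIn T U ≤ normalizerIn T W₀ :=
    (le_normalizerIn (normalizerIn_le T U)).trans (normalizer_le_jT hc)
  obtain ⟨Q, hWQ, hQ⟩ := exists_fullyNormalized E (h.trans hUT)
  obtain ⟨ψ, hψ, -, hψm⟩ := exists_hom_fullyNormalized hTp hE.1.1 hQ hWQ
  suffices hle : centralizerIn T Q ≤ Q by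
    exact isCentric_of_isConj (isCentric_of_fullyCentralized
      (isFullyCentralized_of_fullyNormalized hTp hE.1.1 hQ) hle) (isConj_symm hWQ)
  have hUW : U ≤ normalizerIn T W₀ := (le_normalizerIn hUT).trans hNW
  set U' := (ψ.comp (Subgroup.inclusion hUW)).range with hU'
  have hconj : E.IsConj U U' := ⟨_, restrict_mem hψ hUW, rfl⟩
  have hU'T : U' ≤ T := range_le (restrict_mem hψ hUW)
  have := finite_of_le (Ω := Ω) (hU'T.trans hTS)
  have := finite_of_le (Ω := Ω) ((normalizerIn_le T U').trans hTS)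
  have hQU : Q ≤ U' := by
    intro q hq
    obtain ⟨x, hx, rfl⟩ := hψm.ge hq
    exact ⟨⟨(x : Ω), h hx⟩, rfl⟩
  -- elements of `N_T(U)` whose images centralize `Q`
  have hback : ∀ e : normalizerIn T U, ψ (Subgroup.inclusion hNW e) ∈ centralizerIn T Q →
      (e : Ω) ∈ W₀ := by
    intro e he
    refine ⟨e.2.1, ?_⟩
    have := finite_of_le (Ω := Ω) (nc_le hTS hc U)
    refine inf_centralizer_thompson_le _ ⟨Subgroup.mem_sup_left e.2, ?_⟩
    rw [← jT_sup_zpowers hTS hc U]
    have hle : W₀ ⊔ Subgroup.zpowers c ≤ Subgroup.centralizer {(e : Ω)} := by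
      refine sup_le (fun w hw => Subgroup.mem_centralizer_singleton_iff.2 ?_)
        (Subgroup.zpowers_le.2 (Subgroup.mem_centralizer_singleton_iff.2
          ((mem_centralizerIn.1 hc).2 e e.2.1).symm))
      have h1 := (mem_centralizerIn.1 he).2 (ψ ⟨w, le_normalizerIn (h.trans hUT) hw⟩)
        (hψm.le ⟨_, hw, rfl⟩)
      rw [← map_mul, ← map_mul] at h1
      exact congrArg Subtype.val (E.injective_of_mem hψ h1)
    exact Subgroup.mem_centralizer_iff.2 fun y hy =>
      Subgroup.mem_centralizer_singleton_iff.1 (hle hy)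
  have hrange : ∀ d ∈ normalizerIn T U', ∃ e : normalizerIn T U,
      ψ (Subgroup.inclusion hNW e) = d := by
    set W := (ψ.comp (Subgroup.inclusion hNW)).range with hW
    have h1 : W = normalizerIn T U' := by
      refine Subgroup.eq_of_le_of_card_ge ?_ ?_
      · rintro _ ⟨e, rfl⟩
        refine ⟨apply_mem hψ _, ModelEmbed.mem_normalizer_of_finite ?_⟩
        rintro _ ⟨x, rfl⟩
        refine ⟨⟨(e : Ω) * x * (e : Ω)⁻¹, (Subgroup.mem_normalizer_iff.1 e.2.2 x).1 x.2⟩, ?_⟩
        show ψ _ = ψ _ * ψ _ * (ψ _)⁻¹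
        rw [← map_inv, ← map_mul, ← map_mul]
        exact congrArg ψ (Subtype.ext rfl)
      · rw [card_range (restrict_mem hψ hNW)]
        exact hUn.2 _ hconj
    exact fun d hd => h1.ge hd
  have hDU : centralizerIn T Q ≤ U' := by
    by_contra hne
    have hU'D : U' ≤ Subgroup.normalizer ((centralizerIn T Q : Subgroup Ω) : Set Ω) := by
      intro u hu
      refine (mem_normalizer_centralizerIn (hU'T hu) ?_)
      obtain ⟨x, rfl⟩ := hu
      have := finite_of_le (Ω := Ω) ((hQU.trans hU'T).trans hTS)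
      refine ModelEmbed.mem_normalizer_of_finite fun q hq => ?_
      obtain ⟨w, hw, rfl⟩ := hψm.ge hq
      show ψ _ * ψ w * (ψ _)⁻¹ ∈ Q
      rw [← map_inv, ← map_mul, ← map_mul]
      exact hψm.le ⟨_, (Subgroup.mem_normalizer_iff.1 (hUW x.2).2 _).1 hw, rfl⟩
    obtain ⟨d, hd, hdU, hdN⟩ :=
      exists_normalizing hTp hU'T (centralizerIn_le T Q) hU'D hne
    obtain ⟨e, rfl⟩ := hrange d ⟨hd.1, hdN⟩
    exact hdU (hQU (hψm.le ⟨_, hback e hd, rfl⟩))
  intro d hd
  obtain ⟨x, rfl⟩ := hDU hd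
  exact hψm.le ⟨_, hback ⟨x, le_normalizerIn hUT x.2⟩ hd, rfl⟩

section Pull

variable {L : Type u} [Group L] {P : Subgroup Ω} {j : P →* L}

/-- `g` carries the elements of `j (A ⊔ B)` into `j X` as soon as it does so on `A` and on `B`. -/
theorem pull_sup {A B X : Subgroup Ω} (hA : A ⊔ B ≤ P) (hX : X ≤ P) (g : L)
    (hAX : ∀ x : A, ∃ y : X, g * j ⟨x, hA (Subgroup.mem_sup_left x.2)⟩ * g⁻¹ =
      j (Subgroup.inclusion hX y))
    (hBX : ∀ x : B, ∃ y : X, g * j ⟨x, hA (Subgroup.mem_sup_right x.2)⟩ * g⁻¹ =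
      j (Subgroup.inclusion hX y)) (x : ↥(A ⊔ B)) :
    ∃ y : X, g * j (Subgroup.inclusion hA x) * g⁻¹ = j (Subgroup.inclusion hX y) := by
  let K : Subgroup P := ((j.comp (Subgroup.inclusion hX)).range.comap
    (MulAut.conj g).toMonoidHom).comap j
  have hle : A ⊔ B ≤ K.map P.subtype := by
    refine sup_le (fun a ha => ?_) fun b hb => ?_
    · obtain ⟨y, hy⟩ := hAX ⟨a, ha⟩
      exact ⟨_, ⟨y, hy.symm⟩, rfl⟩
    · obtain ⟨y, hy⟩ := hBX ⟨b, hb⟩
      exact ⟨_, ⟨y, hy.symm⟩, rfl⟩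
  obtain ⟨z, ⟨y, hy⟩, hzx⟩ := hle x.2
  refine ⟨y, ?_⟩
  rw [show Subgroup.inclusion hA x = z from Subtype.ext hzx.symm]
  exact hy.symm

/-- Conjugation by `g` on a cyclic subgroup is determined on the generator. -/
theorem pull_zpowers {X : Subgroup Ω} (hX : X ≤ P) (g : L) {w : Ω} (hw : w ∈ P) {y : X}
    (hy : g * j ⟨w, hw⟩ * g⁻¹ = j (Subgroup.inclusion hX y)) (x : Subgroup.zpowers w) :
    ∃ y : X, g * j ⟨x, Subgroup.zpowers_le.2 hw x.2⟩ * g⁻¹ = j (Subgroup.inclusion hX y) := by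
  obtain ⟨n, hn⟩ := x.2
  refine ⟨y ^ n, ?_⟩
  rw [show (⟨(x : Ω), Subgroup.zpowers_le.2 hw x.2⟩ : P) = ⟨w, hw⟩ ^ n from
    Subtype.ext (by simpa using hn.symm), map_zpow, ← conj_zpow, hy, map_zpow, map_zpow]

/-- Conjugation by `g` from `A` into `B`, read in `F`. -/
theorem exists_pull (hji : Function.Injective j)
    (hreal : ∀ (A : Subgroup Ω) (hA : A ≤ P) (φ : A →* Ω) (hφ : ∀ x, φ x ∈ P) (g : L),
      (∀ x : A, j ⟨φ x, hφ x⟩ = g * j (Subgroup.inclusion hA x) * g⁻¹) → φ ∈ F.Hom A)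
    {A B : Subgroup Ω} (hA : A ≤ P) (hB : B ≤ P) (g : L)
    (h : ∀ x : A, ∃ y : B, g * j (Subgroup.inclusion hA x) * g⁻¹ = j (Subgroup.inclusion hB y)) :
    ∃ f ∈ F.Hom A, ∃ hf : ∀ x, f x ∈ B,
      ∀ x : A, g * j (Subgroup.inclusion hA x) * g⁻¹ = j (Subgroup.inclusion hB ⟨f x, hf x⟩) := by
  choose σ hσ using h
  let f : A →* Ω := MonoidHom.mk' (fun x => (σ x : Ω)) fun x y => by
    have h1 : j (Subgroup.inclusion hB (σ (x * y))) = j (Subgroup.inclusion hB (σ x * σ y)) := by
      rw [← hσ, map_mul (Subgroup.inclusion hB) (σ x), map_mul j _ (Subgroup.inclusion hB (σ y)),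
        ← hσ, ← hσ, map_mul, map_mul]
      group
    rw [Subgroup.inclusion_injective _ (hji h1)]
    rfl
  exact ⟨f, hreal A hA f (fun x => hB (σ x).2) g fun x => (hσ x).symm, fun x => (σ x).2, hσ⟩

/-- Conjugation by `g` normalizing `j A`, as an automorphism in `F`. -/
theorem exists_pull_aut (hji : Function.Injective j)
    (hreal : ∀ (A : Subgroup Ω) (hA : A ≤ P) (φ : A →* Ω) (hφ : ∀ x, φ x ∈ P) (g : L),
      (∀ x : A, j ⟨φ x, hφ x⟩ = g * j (Subgroup.inclusion hA x) * g⁻¹) → φ ∈ F.Hom A)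
    {A : Subgroup Ω} (hAS : A ≤ S) (hA : A ≤ P) (g : L)
    (h : ∀ x : A, ∃ y : A, g * j (Subgroup.inclusion hA x) * g⁻¹ = j (Subgroup.inclusion hA y)) :
    ∃ l ∈ F.autGroup A, orderOf l ∣ orderOf g ∧
      ∀ x : A, g * j (Subgroup.inclusion hA x) * g⁻¹ = j (Subgroup.inclusion hA (l x)) := by
  obtain ⟨f, hf, hfA, hfe⟩ := exists_pull hji hreal hA hA g h
  have hfr := range_eq_of_le hf hAS hfA le_rfl
  have hlj : ∀ x : A, g * j (Subgroup.inclusion hA x) * g⁻¹ =
      j (Subgroup.inclusion hA (toAut hf hfr x)) := fun x =>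
    (hfe x).trans (congrArg j (Subtype.ext rfl))
  refine ⟨toAut hf hfr, toAut_mem hf hfr, orderOf_dvd_of_pow_eq_one ?_, hlj⟩
  have hpow : ∀ (n : ℕ) (x : A), j (Subgroup.inclusion hA ((toAut hf hfr ^ n) x)) =
      g ^ n * j (Subgroup.inclusion hA x) * (g ^ n)⁻¹ := by
    intro n
    induction n with
    | zero => simp
    | succ n ih =>
      intro x
      rw [pow_succ' (toAut hf hfr), MulAut.mul_apply, ← hlj, ih, pow_succ' g]
      group
  refine MulEquiv.ext fun x => Subgroup.inclusion_injective hA (hji ?_)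
  rw [hpow, pow_orderOf_eq_one]
  simp

end Pull

/-- If the local group fixes `y`, then so do the automorphisms in `E` of `U`. -/
theorem fixes_of_central (hS : IsPGroup p S) (hE : E.IsNormalIn F p) {U : Subgroup Ω}
    (hUT : U ≤ T) (hUn : E.IsFullyNormalized U) {y : Ω} (hy : y ∈ centralizerIn S T)
    {P : Subgroup Ω} (hUP : U ≤ P) (hyP : y ∈ P) {L : Type u} [Group L] {j : P →* L}
    (hlift : ∀ α ∈ E.autGroup U, (orderOf α).Coprime p → ∃ g : L, ∀ x : U,
      j (Subgroup.inclusion hUP (α x)) = g * j (Subgroup.inclusion hUP x) * g⁻¹)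
    (hreal : ∀ (A : Subgroup Ω) (hA : A ≤ P) (φ : A →* Ω) (hφ : ∀ x, φ x ∈ P) (g : L),
      (∀ x : A, j ⟨φ x, hφ x⟩ = g * j (Subgroup.inclusion hA x) * g⁻¹) → φ ∈ F.Hom A)
    (hji : Function.Injective j)
    (hcen : ∀ g : L, g * j ⟨y, hyP⟩ * g⁻¹ = j ⟨y, hyP⟩) : Fixes F E y U := by
  have hTS : T ≤ S := hE.1.2.2.2.1.1
  have := finite_of_le (Ω := Ω) hTS
  have hTp : IsPGroup p T := hS.to_le hTS
  have hTC := le_centralizerIn_zpowers hTS hy
  set G := centralizerSystem F (Subgroup.zpowers y) (zpowers_le_of_mem hy) with hG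
  have hUG : U ≤ centralizerIn S (Subgroup.zpowers y) := hUT.trans hTC
  intro α hα
  refine (mem_autGroup_iff (F := G) hUG).1 ?_
  have := finite_autGroup (F := E) hUT
  refine autGroup_le_of_residual (p := p) (isFullyAutomized_of_fullyNormalized hTp hE.1.1 hUn) ?_
    ((autInducedBy_mono hTC).trans (autInducedBy_le_autGroup G hUG)) hα
  rw [Cfsg.pResidual, MonoidHom.map_closure, Subgroup.closure_le]
  rintro _ ⟨a, ha, rfl⟩
  refine (mem_autGroup_iff (F := G) hUG).2 ?_
  obtain ⟨g, hg⟩ := hlift (a : MulAut U) a.2 (by rwa [Subgroup.orderOf_coe])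
  have hA : U ⊔ Subgroup.zpowers y ≤ P := sup_le hUP (Subgroup.zpowers_le.2 hyP)
  obtain ⟨f, hf, hfA, hfe⟩ := exists_pull hji hreal hA hA g (pull_sup hA hA g
    (fun x => ⟨⟨(a : MulAut U) x, Subgroup.mem_sup_left ((a : MulAut U) x).2⟩, (hg x).symm⟩)
    (pull_zpowers hA g hyP (y := ⟨y, Subgroup.mem_sup_right (Subgroup.mem_zpowers y)⟩) (hcen g)))
  refine ⟨(mem_autGroup_iff (hUT.trans hTS)).1 (autGroup_le_of_subsystem hE.1.2.2.1 hUT a.2), hUG,
    fun x => hUG ((a : MulAut U) x).2, f, hf, fun x => ?_, fun x => ?_⟩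
  · exact congrArg (fun z : P => (z : Ω))
      (hji ((hfe (Subgroup.inclusion le_sup_left x)).symm.trans (hg x).symm))
  · obtain ⟨n, hn⟩ := x.2
    rw [show Subgroup.inclusion (le_sup_right : Subgroup.zpowers y ≤ U ⊔ _) x =
      (⟨y, Subgroup.mem_sup_right (Subgroup.mem_zpowers y)⟩ : ↥(U ⊔ Subgroup.zpowers y)) ^ n from
      Subtype.ext (by simpa using hn.symm), map_zpow]
    have hy' : f ⟨y, Subgroup.mem_sup_right (Subgroup.mem_zpowers y)⟩ = y :=
      congrArg (fun z : P => (z : Ω))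
        (hji ((hfe ⟨y, Subgroup.mem_sup_right (Subgroup.mem_zpowers y)⟩).symm.trans (hcen g)))
    rw [hy']
    exact hn

/-- An automorphism of order prime to `p` of `V` in `F` inducing one of `E` on a centric fully
normalized `U ≤ V ≤ N_T(U)` is in `E`. -/
theorem mem_autGroup_of_restrict (hS : IsPGroup p S) (hE : E.IsNormalIn F p) {U V : Subgroup Ω}
    (hU : E.IsCentric U) (hUn : E.IsFullyNormalized U) (hUV : U ≤ V)
    (hVN : V ≤ normalizerIn T U) {b : MulAut V} (hb : b ∈ F.autGroup V)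
    (hbord : (orderOf b).Coprime p) {α : MulAut U} (hα : α ∈ E.autGroup U)
    (hbU : ∀ u : U, b (Subgroup.inclusion hUV u) = Subgroup.inclusion hUV (α u)) :
    b ∈ E.autGroup V := by
  obtain ⟨hEs, hF, hEi⟩ := id hE.1
  have hTS := hEi.2.1.1
  have := finite_of_le (Ω := Ω) hTS
  have hTp : IsPGroup p T := hS.to_le hTS
  have hUT := hU.1
  have hVT : V ≤ T := hVN.trans (normalizerIn_le T U)
  have hrec := isReceptive_of_fullyNormalized hTp hEs hUn
  obtain ⟨hα₁, hα₁r⟩ := hom_of_mem_autGroup hUT hα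
  have hext : V ≤ extender T U (U.subtype.comp α.toMonoidHom) := fun v hv =>
    mem_extender_iff.2 ⟨hVT hv, (hVN hv).2, b ⟨v, hv⟩, hVT (b _).2, fun x hx => by
      have h1 := congrArg Subtype.val (hbU ⟨v * x * v⁻¹, hx⟩)
      have h2 := congrArg Subtype.val (hbU x)
      have h3 : Subgroup.inclusion hUV (⟨v * x * v⁻¹, hx⟩ : U) =
          ⟨v, hv⟩ * Subgroup.inclusion hUV x * ⟨v, hv⟩⁻¹ := Subtype.ext rfl
      rw [h3, map_mul, map_mul, map_inv] at h1
      simp only [Subgroup.coe_mul, Subgroup.coe_inv] at h1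
      rw [h2] at h1
      exact h1.symm⟩
  obtain ⟨ψ, hψ, hψe⟩ := exists_extension hrec hα₁ hα₁r hext
  have hψU : ∀ u : U, ψ (Subgroup.inclusion hUV u) = (α u : Ω) := fun u => hψe u u.2 _
  have hψV : ∀ v : V, ψ v ∈ V := by
    intro v
    have hmem : ((b v : V) : Ω)⁻¹ * ψ v ∈ centralizerIn T U := by
      refine mem_centralizerIn.2 ⟨T.mul_mem (T.inv_mem (hVT (b v).2)) (apply_mem hψ v),
        fun x hx => ?_⟩
      obtain ⟨y, hy⟩ := α.surjective ⟨x, hx⟩
      have hvy : (v : Ω) * y * (v : Ω)⁻¹ ∈ U :=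
        (Subgroup.mem_normalizer_iff.1 (hVN v.2).2 _).1 y.2
      have hvy' : Subgroup.inclusion hUV (⟨_, hvy⟩ : U) =
          v * Subgroup.inclusion hUV y * v⁻¹ := Subtype.ext rfl
      have e1 := hψU ⟨_, hvy⟩
      rw [hvy', map_mul, map_mul, map_inv, hψU] at e1
      have e2 := congrArg Subtype.val (hbU ⟨_, hvy⟩)
      rw [hvy', map_mul, map_mul, map_inv, hbU] at e2
      simp only [Subgroup.coe_mul, Subgroup.coe_inv, Subgroup.coe_inclusion] at e2
      rw [← e1, show ((α y : U) : Ω) = x from congrArg Subtype.val hy] at e2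
      calc x * (((b v : V) : Ω)⁻¹ * ψ v)
          = ((b v : V) : Ω)⁻¹ * (((b v : V) : Ω) * x * ((b v : V) : Ω)⁻¹) * ψ v := by group
        _ = ((b v : V) : Ω)⁻¹ * (ψ v * x * (ψ v)⁻¹) * ψ v := by rw [e2]
        _ = _ := by group
    have h1 := V.mul_mem (b v).2 (hUV (hU.2 U (isConj_refl E hUT) hmem))
    rwa [mul_inv_cancel_left] at h1
  have hψr := range_eq_of_le hψ hVT hψV le_rfl
  set ψa := toAut hψ hψr with hψa
  have hψaF : ψa ∈ F.autGroup V := autGroup_le_of_subsystem hEi.1 hVT (toAut_mem hψ hψr)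
  set κ := ψa⁻¹ * b with hκ
  have hκU : ∀ x : V, (x : Ω) ∈ U → κ x = x := by
    intro x hx
    have h1 := hbU ⟨x, hx⟩
    rw [show Subgroup.inclusion hUV ⟨(x : Ω), hx⟩ = x from Subtype.ext rfl] at h1
    have h2 : ψa x = Subgroup.inclusion hUV (α ⟨x, hx⟩) := Subtype.ext (hψU ⟨x, hx⟩)
    rw [hκ, MulAut.mul_apply, h1, ← h2, MulAut.inv_apply_self]
  have hκmem : κ ∈ fixingTranslations F V U :=
    ⟨mul_mem (inv_mem hψaF) hb, hκU,
      inv_mul_mem_of_fixes hVT hUV (fun v hv => (hVN hv).2)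
        (hU.2 U (isConj_refl E hUT)) hκU⟩
  obtain ⟨i, hi⟩ := isPGroup_fixingTranslations hS (hVT.trans hTS) ⟨κ, hκmem⟩
  have : ((E.autGroup V).subgroupOf (F.autGroup V)).Normal := ⟨fun x hx y => by
    rw [Subgroup.mem_subgroupOf] at hx ⊢
    exact conj_mem_autGroup_of_invariant hEi hVT y.2 hx⟩
  set π := QuotientGroup.mk' ((E.autGroup V).subgroupOf (F.autGroup V))
  set bF : F.autGroup V := ⟨b, hb⟩
  set κF : F.autGroup V := ⟨κ, hκmem.1⟩
  have h1 : π bF = π κF := by
    rw [QuotientGroup.mk'_apply, QuotientGroup.mk'_apply, QuotientGroup.eq,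
      Subgroup.mem_subgroupOf]
    show (b : MulAut V)⁻¹ * κ ∈ E.autGroup V
    have h2 := conj_mem_autGroup_of_invariant hEi hVT (inv_mem bF.2)
      (inv_mem (toAut_mem hψ hψr) : ψa⁻¹ ∈ E.autGroup V)
    rw [inv_inv] at h2
    rwa [hκ, ← mul_assoc]
  have h2 : π bF ^ p ^ i = 1 := by
    rw [h1, ← map_pow, show κF ^ p ^ i = 1 from
      Subtype.ext (congrArg Subtype.val hi :), map_one]
  have h3 : π bF = 1 := orderOf_eq_one_iff.1 (Nat.eq_one_of_dvd_coprimes
    (hbord.pow_right i) ((orderOf_map_dvd π bF).trans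
      (dvd_of_eq (Subgroup.orderOf_mk b _))) (orderOf_dvd_of_pow_eq_one h2))
  exact (QuotientGroup.eq_one_iff bF).1 h3

/-- The inductive step at a fully normalized centric `U`. -/
theorem fixes_step (hp : p ≠ 2) (hS : IsPGroup p S) (hE : E.IsNormalIn F p)
    (hc : c ∈ centralizerIn S T) {U : Subgroup Ω} (hU : E.IsCentric U)
    (hUn : E.IsFullyNormalized U)
    (hV : ¬ jT T U c ≤ U → Fixes F E c (U ⊔ jT T U c))
    (hW : jT T U c ≤ U → Fixes F E c (jT T U c)) : Fixes F E c U := by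
  obtain ⟨hEs, hF, hEi⟩ := id hE.1
  have hT : F.StronglyClosed T := hEi.2.1
  have hTS := hT.1
  have := finite_of_le (Ω := Ω) hTS
  have hUT := hU.1
  have hPS := nc_le hTS hc U
  set P := nc T U c with hP
  set W := thompsonSubgroupAOf P with hWdef
  set W₀ := jT T U c with hW₀def
  obtain ⟨L, iL, fL, j, hji, ⟨Sy, hSy⟩, hlift, hres, hmove, hreal⟩ :=
    exists_localGroup hS hE hU hUn hc
  set jc := j ⟨c, self_mem_nc T U c⟩ with hjc
  have hWP : W ≤ P := PGroup.thompsonSubgroupAOf_le _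
  have hWc : W₀ ⊔ Subgroup.zpowers c = W := jT_sup_zpowers hTS hc U
  have hUP : U ≤ P := le_nc hUT c
  set jW := (W.subgroupOf P).map j with hjW
  -- a `p'`-element normalizing `jW` fixes `jc`
  have hgen : ∀ (g : L), (orderOf g).Coprime p → ∀ (V : Subgroup Ω), E.IsCentric V →
      Fixes F E c V → ∀ (hVP : V ⊔ Subgroup.zpowers c ≤ P),
      (∀ x : ↥(V ⊔ Subgroup.zpowers c), ∃ y : ↥(V ⊔ Subgroup.zpowers c),
        g * j (Subgroup.inclusion hVP x) * g⁻¹ = j (Subgroup.inclusion hVP y)) →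
      (∀ r : U, c * (r : Ω) ∈ V ⊔ Subgroup.zpowers c → (r : Ω) ∈ V) →
      (∃ a ∈ E.autGroup V, ∀ x : V,
        j (Subgroup.inclusion hVP (Subgroup.inclusion le_sup_left (a x))) =
          g * j (Subgroup.inclusion hVP (Subgroup.inclusion le_sup_left x)) * g⁻¹) →
      g * jc * g⁻¹ = jc := by
    intro g hg V hVc hfix hVP hinv hrV ⟨a, ha, hae⟩
    obtain ⟨l, hl, hlg, hlj⟩ := exists_pull_aut hji hreal (hVP.trans hPS) hVP g hinv
    have hlR : ∀ x : V, l (Subgroup.inclusion le_sup_left x) =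
        Subgroup.inclusion le_sup_left (a x) := fun x =>
      Subgroup.inclusion_injective hVP (hji ((hlj _).symm.trans (hae x).symm))
    set cV : ↥(V ⊔ Subgroup.zpowers c) := ⟨c, Subgroup.mem_sup_right (Subgroup.mem_zpowers c)⟩
    have hlc : c⁻¹ * ((l cV : ↥(V ⊔ Subgroup.zpowers c)) : Ω) ∈ V := by
      obtain ⟨r, hr⟩ := hmove g
      have h1 : ((l cV : ↥(V ⊔ Subgroup.zpowers c)) : Ω) = c * r := by
        rw [← map_mul] at hr
        exact congrArg (fun z : P => (z : Ω)) (hji ((hlj cV).symm.trans hr))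
      rw [h1, inv_mul_cancel_left]
      exact hrV r (h1 ▸ (l cV).2)
    have h2 := aut_fixes hS hE hVc hc hfix hl (Nat.Coprime.coprime_dvd_left hlg hg) ha hlR hlc
    have h3 := hlj cV
    rw [h2] at h3
    exact h3
  have hkey : ∀ g : L, g ∈ Subgroup.normalizer (jW : Set L) → (orderOf g).Coprime p →
      g * jc * g⁻¹ = jc := by
    intro g hgW hg
    obtain ⟨α, hα, hαe⟩ := hres g
    have hWim : ∀ x : W, ∃ y : W, g * j (Subgroup.inclusion hWP x) * g⁻¹ =
        j (Subgroup.inclusion hWP y) := fun x => by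
      obtain ⟨y, hy, hyx⟩ := (Subgroup.mem_normalizer_iff.1 hgW (j (Subgroup.inclusion hWP x))).1
        ⟨_, x.2, rfl⟩
      exact ⟨⟨y, hy⟩, hyx.symm⟩
    -- `T ∩ W` is preserved
    obtain ⟨f, hf, hfW, hfe⟩ := exists_pull hji hreal hWP hWP g hWim
    have hfW₀ : ∀ x : W₀, f ⟨x, x.2.2⟩ ∈ W₀ := fun x =>
      ⟨apply_mem_closed hT hf ⟨x, x.2.2⟩ x.2.1, hfW _⟩
    by_cases hle : W₀ ≤ U
    · have hVP : W₀ ⊔ Subgroup.zpowers c ≤ P := hWc.le.trans hWP
      refine hgen g hg W₀ (isCentric_jT hS hE hc hU hUn hle) (hW hle) hVP (fun x => ?_)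
        (fun r hr => ⟨hUT r.2, ?_⟩) ?_
      · obtain ⟨y, hyx⟩ := hWim ⟨x, hWc.le x.2⟩
        exact ⟨⟨y, hWc.ge y.2⟩, hyx⟩
      · have h1 := Subgroup.mul_mem _ (Subgroup.inv_mem _ (self_mem_thompson hTS hc U)) (hWc.le hr)
        rwa [inv_mul_cancel_left] at h1
      · have hm : ∀ x : W₀, ((α (Subgroup.inclusion hle x) : U) : Ω) ∈ W₀ := by
          intro x
          exact Set.mem_of_eq_of_mem (congrArg (fun z : P => (z : Ω))
            (hji ((hαe (Subgroup.inclusion hle x)).trans (hfe ⟨x, x.2.2⟩)))) (hfW₀ x)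
        have hres' := restrict_mem ((mem_autGroup_iff hUT).1 hα) hle
        have hr' := range_eq_of_le hres' (hle.trans hUT) hm le_rfl
        exact ⟨toAut hres' hr', toAut_mem hres' hr', fun x =>
          (congrArg j (Subtype.ext rfl)).trans (hαe (Subgroup.inclusion hle x))⟩
    · set V := U ⊔ W₀ with hVdef
      have hUV : U ≤ V := le_sup_left
      have hVN : V ≤ normalizerIn T U := sup_le (le_normalizerIn hUT) (jT_le_normalizerIn hc hUT)
      have hVP : V ⊔ Subgroup.zpowers c ≤ P := sup_le_sup_right hVN _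
      have hVP' : V ≤ P := le_sup_left.trans hVP
      have hVT : V ≤ T := hVN.trans (normalizerIn_le T U)
      have hVim := pull_sup hVP' hVP' g
        (fun u => ⟨Subgroup.inclusion hUV (α u), (hαe u).symm⟩)
        (fun w => ⟨⟨f ⟨w, w.2.2⟩, Subgroup.mem_sup_right (hfW₀ w)⟩, hfe ⟨w, w.2.2⟩⟩)
      obtain ⟨b, hb, hbg, hbj⟩ := exists_pull_aut hji hreal (hVT.trans hTS) hVP' g hVim
      have hbU : ∀ u : U, b (Subgroup.inclusion hUV u) = Subgroup.inclusion hUV (α u) := fun u =>
        Subgroup.inclusion_injective hVP'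
          (hji ((hbj (Subgroup.inclusion hUV u)).symm.trans (hαe u).symm))
      have hbE := mem_autGroup_of_restrict hS hE hU hUn hUV hVN hb
        (Nat.Coprime.coprime_dvd_left hbg hg) hα hbU
      refine hgen g hg V (isCentric_of_le hU hUV hVT) (hV hle) hVP ?_
        (fun r _ => hUV r.2) ⟨b, hbE, fun x => (hbj x).symm⟩
      -- invariance of `V⟨c⟩`
      refine pull_sup hVP hVP g
        (fun v => ⟨Subgroup.inclusion le_sup_left (b v), hbj v⟩) ?_
      obtain ⟨r, hr⟩ := hmove g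
      rw [← map_mul] at hr
      exact pull_zpowers hVP g (self_mem_nc T U c)
        (y := ⟨c * r, Subgroup.mul_mem _ (Subgroup.mem_sup_right (Subgroup.mem_zpowers c))
          (Subgroup.mem_sup_left (hUV r.2))⟩) hr
  -- `jc` is central in `N(jW)`
  have hJ : thompsonSubgroupAOf (Sy : Subgroup L) = jW := by rw [hSy, thompson_map_range hji]
  have hSN : (Sy : Subgroup L) ≤ Subgroup.normalizer (jW : Set L) := by
    rw [← hJ]
    exact Subgroup.le_normalizer.trans (PGroup.normalizer_le_normalizer_thompsonAOf _)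
  have hcom : ∀ g ∈ Subgroup.normalizer (jW : Set L), g * jc * g⁻¹ = jc := by
    set C := Subgroup.centralizer ({jc} : Set L)
    suffices hle : Subgroup.normalizer (jW : Set L) ≤ C from fun g hg =>
      mul_inv_eq_iff_eq_mul.2 (Subgroup.mem_centralizer_singleton_iff.1 (hle hg))
    intro g hg
    have htop := Transfer.sylow_sup_pResidual_eq_top (Sy.subtype hSN)
    suffices h : ((Sy.subtype hSN : Sylow p _) : Subgroup ↥(Subgroup.normalizer (jW : Set L))) ⊔
        Cfsg.pResidual p _ ≤ C.comap (Subgroup.normalizer (jW : Set L)).subtype by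
      rw [htop] at h
      exact h (Subgroup.mem_top ⟨g, hg⟩)
    refine sup_le (fun x hx => ?_) ((Subgroup.closure_le _).2 fun x hx => ?_)
    · rw [Sylow.coe_subtype, Subgroup.mem_subgroupOf, hSy] at hx
      obtain ⟨z, hz⟩ := hx
      refine Subgroup.mem_centralizer_singleton_iff.2 ?_
      show (x : L) * jc = jc * x
      rw [← hz, hjc, ← map_mul, ← map_mul]
      exact congrArg j (Subtype.ext (commute_of_mem_nc hc z.2))
    · refine Subgroup.mem_centralizer_singleton_iff.2 (mul_inv_eq_iff_eq_mul.1 ?_)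
      exact hkey x x.2 (by rwa [Subgroup.orderOf_coe])
  -- hence weakly closed, so central
  have hjcS : jc ∈ (Sy : Subgroup L) := hSy.ge ⟨_, rfl⟩
  have hwc := S2799.result Sy jc hjcS (by
    rw [hJ]
    exact ⟨⟨jc, hSN hjcS⟩, Subgroup.mem_center_iff.2 fun g =>
      Subtype.ext (mul_inv_eq_iff_eq_mul.1 (hcom g g.2)), rfl⟩) (Or.inl hp)
  refine fixes_of_central hS hE hUT hUn hc hUP (self_mem_nc T U c) hlift hreal hji
    fun g => hwc g ?_
  obtain ⟨r, hr⟩ := hmove g
  rw [hjc, hr, hSy, ← map_mul]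
  exact ⟨_, rfl⟩

/-- The base of the induction: `c` may be adjusted to be fixed at `J(T⟨c⟩) ∩ T`. -/
theorem exists_adjust (hS : IsPGroup p S) (hE : E.IsNormalIn F p) (hc : c ∈ centralizerIn S T) :
    ∃ z ∈ T, c * z ∈ centralizerIn S T ∧ Fixes F E (c * z) (jT T T (c * z)) := by
  obtain ⟨hEs, hF, hEi⟩ := id hE.1
  have hTS := hEi.2.1.1
  have := finite_of_le (Ω := Ω) hTS
  have hNT : normalizerIn T T = T := inf_eq_left.2 Subgroup.le_normalizer
  have hTc : E.IsCentric T := isCentric_self E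
  have hTn : E.IsFullyNormalized T := isFullyNormalized_self E
  have hU : E.IsCentric (jT T T c) := isCentric_jT hS hE hc hTc hTn inf_le_left
  set U := jT T T c with hUdef
  have hUT : U ≤ T := inf_le_left
  have hNU : normalizerIn T U = T := by
    refine le_antisymm (normalizerIn_le T U) ?_
    have h := normalizer_le_jT (U := T) (T := T) hc
    rwa [hNT, hNT] at h
  have hUn : E.IsFullyNormalized U := ⟨hUT, fun Q _ => by
    rw [hNU]
    exact card_le_of_le hTS (normalizerIn_le T Q)⟩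
  set P := nc T U c with hP
  have hPS := nc_le hTS hc U
  have := finite_of_le (Ω := Ω) hPS
  have hTP : T ≤ P := hNU.ge.trans le_sup_left
  obtain ⟨L, iL, fL, j, hji, ⟨Sy, hSy⟩, hlift, hres, hmove, hreal⟩ :=
    exists_localGroup hS hE hU hUn hc
  set cP : P := ⟨c, self_mem_nc T U c⟩ with hcP
  choose α hαE hαe using hres
  choose δ hδ using hmove
  -- the values of `δ` lie in `Z(U)`
  set Z : Subgroup U := Subgroup.center U with hZ
  have hδZ : ∀ g, δ g ∈ Z := by
    intro g
    refine Subgroup.mem_center_iff.2 fun u => ?_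
    obtain ⟨v, rfl⟩ := (α g).surjective u
    have h1 : cP * Subgroup.inclusion (le_nc hUT c) v =
        Subgroup.inclusion (le_nc hUT c) v * cP :=
      Subtype.ext ((mem_centralizerIn.1 hc).2 v (hUT v.2)).symm
    have h2 := congrArg (fun x => g * j x * g⁻¹) h1
    have h3 : ∀ a b : P, g * j (a * b) * g⁻¹ = (g * j a * g⁻¹) * (g * j b * g⁻¹) := fun a b => by
      rw [map_mul]; group
    rw [h3, h3, hδ, ← hαe, ← map_mul, ← map_mul, ← map_mul] at h2
    have h4 := congrArg Subtype.val (hji h2)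
    simp only [Subgroup.coe_mul, Subgroup.coe_inclusion, hcP] at h4
    rw [← mul_assoc ((α g v : U) : Ω), (mem_centralizerIn.1 hc).2 _ (hUT (α g v).2),
      mul_assoc, mul_assoc] at h4
    exact Subtype.ext (mul_left_cancel h4).symm
  let d : L → Z := fun g => ⟨δ g, hδZ g⟩
  let act : L → Z → Z := fun g z => ⟨α g z, Subgroup.mem_center_iff.2 fun u => by
    obtain ⟨v, rfl⟩ := (α g).surjective u
    rw [← map_mul, ← map_mul, Subgroup.mem_center_iff.1 z.2 v]⟩
  have huniq : ∀ a b : U, j cP * j (Subgroup.inclusion (le_nc hUT c) a) =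
      j cP * j (Subgroup.inclusion (le_nc hUT c) b) → a = b := fun a b h =>
    Subgroup.inclusion_injective _ (hji (mul_left_cancel h))
  have hcoc : ∀ g h : L, d (g * h) = d g * act g (d h) := by
    intro g h
    refine Subtype.ext (huniq _ _ ?_)
    rw [← hδ]
    show g * h * j cP * (g * h)⁻¹ =
      j cP * j (Subgroup.inclusion (le_nc hUT c) (δ g * α g (δ h)))
    rw [map_mul, map_mul, hαe, ← mul_assoc, ← hδ]
    calc g * h * j cP * (g * h)⁻¹ = g * (h * j cP * h⁻¹) * g⁻¹ := by group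
      _ = _ := by rw [hδ]; group
  have hdS : ∀ a ∈ (Sy : Subgroup L), d a = 1 := by
    intro a ha
    refine Subtype.ext (huniq _ _ ?_)
    rw [← hδ]
    obtain ⟨x, rfl⟩ := hSy.le ha
    show j x * j cP * (j x)⁻¹ = j cP * j (Subgroup.inclusion (le_nc hUT c) 1)
    rw [map_one, map_one, mul_one, ← map_mul,
      show x * cP = cP * x from Subtype.ext (commute_of_mem_nc hc x.2), map_mul,
      mul_inv_cancel_right]
  have hact : ∀ g (a b : Z), act g (a * b) = act g a * act g b := fun g a b =>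
    Subtype.ext (map_mul (α g) _ _)
  let dq : L ⧸ (Sy : Subgroup L) → Z := Quotient.lift d fun a b hab => by
    have h1 : a⁻¹ * b ∈ (Sy : Subgroup L) := (QuotientGroup.leftRel_apply).1 hab
    have h2 := hcoc a (a⁻¹ * b)
    rw [mul_inv_cancel_left, hdS _ h1] at h2
    rw [h2, show act a 1 = 1 from Subtype.ext (map_one (α a)), mul_one]
  have hdq : ∀ (g : L) (q : L ⧸ (Sy : Subgroup L)), dq (g • q) = d g * act g (dq q) := by
    intro g q
    induction q using QuotientGroup.induction_on with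
    | H h => exact hcoc g h
  letI : Fintype (L ⧸ (Sy : Subgroup L)) := Fintype.ofFinite _
  letI : CommGroup Z := { (inferInstance : Group Z) with
    mul_comm := fun a b => Subtype.ext (Subgroup.mem_center_iff.1 b.2 a) }
  set m := Fintype.card (L ⧸ (Sy : Subgroup L)) with hm
  have := finite_of_le (Ω := Ω) (hUT.trans hTS)
  have hmcop : (Nat.card Z).Coprime m := by
    obtain ⟨k, hk⟩ := IsPGroup.iff_card.1 ((hS.to_le (hUT.trans hTS)).to_subgroup Z)
    rw [hk, hm, ← Nat.card_eq_fintype_card, ← Subgroup.index_eq_card]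
    exact ((Fact.out : p.Prime).coprime_iff_not_dvd.2 Sy.not_dvd_index).pow_left k
  obtain ⟨z, hz⟩ := (powCoprime hmcop).surjective (∏ q, dq q)
  rw [powCoprime_apply] at hz
  have hfix : ∀ g, d g * act g z = z := by
    intro g
    refine (powCoprime hmcop).injective ?_
    rw [powCoprime_apply, powCoprime_apply, hz, mul_pow]
    let actH : Z →* Z := MonoidHom.mk' (act g) (hact g)
    rw [show act g z ^ m = actH (z ^ m) from (map_pow actH z m).symm, hz, map_prod]
    calc d g ^ m * ∏ q, actH (dq q) = ∏ q, d g * actH (dq q) := by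
          rw [Finset.prod_mul_distrib, Finset.prod_const, Finset.card_univ, ← hm]
      _ = ∏ q, dq (g • q) := Finset.prod_congr rfl fun q _ => (hdq g q).symm
      _ = ∏ q, dq q := Equiv.prod_comp (MulAction.toPerm g) dq
  set zP : P := Subgroup.inclusion (le_nc hUT c) (z : U) with hzP
  have hcen : ∀ g : L, g * j (cP * zP) * g⁻¹ = j (cP * zP) := by
    intro g
    calc g * j (cP * zP) * g⁻¹ = (g * j cP * g⁻¹) * (g * j zP * g⁻¹) := by rw [map_mul]; group
      _ = j cP * j (Subgroup.inclusion (le_nc hUT c) ((d g * act g z : Z) : U)) := by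
        show _ = j cP * j (Subgroup.inclusion (le_nc hUT c) (δ g * α g z))
        rw [hδ, hzP, ← hαe, map_mul (Subgroup.inclusion _), map_mul, mul_assoc]
      _ = _ := by rw [hfix, map_mul]
  have hzT : ((z : U) : Ω) ∈ T := hUT (z : U).2
  have hc' : c * ((z : U) : Ω) ∈ centralizerIn S T := by
    refine mem_centralizerIn.2 ⟨S.mul_mem (centralizerIn_le S T hc) (hTS hzT), fun t ht => ?_⟩
    have h1 := hcen (j ⟨t, hTP ht⟩)
    rw [← map_inv, ← map_mul, ← map_mul] at h1
    exact mul_inv_eq_iff_eq_mul.1 (congrArg Subtype.val (hji h1))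
  refine ⟨_, hzT, hc', ?_⟩
  have heq : nc T T (c * ((z : U) : Ω)) = nc T T c := by
    show normalizerIn T T ⊔ _ = normalizerIn T T ⊔ _
    rw [hNT]
    refine le_antisymm (sup_le le_sup_left (Subgroup.zpowers_le.2 ?_))
      (sup_le le_sup_left (Subgroup.zpowers_le.2 ?_))
    · exact Subgroup.mul_mem _ (Subgroup.mem_sup_right (Subgroup.mem_zpowers c))
        (Subgroup.mem_sup_left hzT)
    · have h1 := Subgroup.mul_mem _
        (Subgroup.mem_sup_right (Subgroup.mem_zpowers (c * ((z : U) : Ω))) :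
          c * ((z : U) : Ω) ∈ T ⊔ Subgroup.zpowers (c * ((z : U) : Ω)))
        (Subgroup.mem_sup_left (T.inv_mem hzT))
      rwa [mul_inv_cancel_right] at h1
  rw [show jT T T (c * ((z : U) : Ω)) = U by rw [jT, heq]]
  exact fixes_of_central hS hE hUT hUn hc' (le_nc hUT c)
    (cP * zP : P).2 hlift hreal hji hcen

/-- All `E`-centric subgroups are fine once the base is. -/
theorem fixes_all (hp : p ≠ 2) (hS : IsPGroup p S) (hE : E.IsNormalIn F p)
    (hc : c ∈ centralizerIn S T) (hbase : Fixes F E c (jT T T c)) :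
    ∀ R : Subgroup Ω, E.IsCentric R → Fixes F E c R := by
  obtain ⟨hEs, hF, hEi⟩ := id hE.1
  have hTS := hEi.2.1.1
  have := finite_of_le (Ω := Ω) hTS
  have hTp : IsPGroup p T := hS.to_le hTS
  have hTfix : Fixes F E c T := fixes_step hp hS hE hc (isCentric_self E)
    (isFullyNormalized_self E) (fun h => (h inf_le_left).elim) fun _ => hbase
  set t := Nat.card T with ht
  suffices H : ∀ d, ∀ R : Subgroup Ω, E.IsCentric R →
      (t + 1) * (t + 1) ≤ d + (Nat.card (normalizerIn T R) * (t + 1) + Nat.card R) →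
      Fixes F E c R from fun R hR => H _ R hR le_self_add
  intro d
  induction d using Nat.strong_induction_on with
  | _ d IH =>
  intro R hR hd
  by_cases hRT : R = T
  · exact hRT ▸ hTfix
  set n := Nat.card (normalizerIn T R) with hn
  have hbig : ∀ R' : Subgroup Ω, E.IsCentric R' →
      n < Nat.card (normalizerIn T R') ∨
        (n ≤ Nat.card (normalizerIn T R') ∧ Nat.card R < Nat.card R') → Fixes F E c R' := by
    intro R' hR' hlt
    have h1 : Nat.card R ≤ t := card_le_of_le hTS hR.1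
    have h2 : Nat.card R' ≤ t := card_le_of_le hTS hR'.1
    have h3 : Nat.card (normalizerIn T R') ≤ t := card_le_of_le hTS (normalizerIn_le T R')
    refine IH ((t + 1) * (t + 1) -
      (Nat.card (normalizerIn T R') * (t + 1) + Nat.card R')) ?_ R' hR' (by omega)
    have h5 : n * (t + 1) + Nat.card R < Nat.card (normalizerIn T R') * (t + 1) + Nat.card R' := by
      rcases hlt with h | ⟨h, h'⟩
      · have h4 := Nat.mul_le_mul_right (t + 1) (Nat.succ_le_of_lt h)
        rw [Nat.succ_mul] at h4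
        omega
      · have h4 := Nat.mul_le_mul_right (t + 1) h
        omega
    have h6 : Nat.card (normalizerIn T R') * (t + 1) ≤ t * (t + 1) := Nat.mul_le_mul_right _ h3
    have h7 : (t + 1) * (t + 1) = t * (t + 1) + (t + 1) := Nat.succ_mul _ _
    omega
  have hlt : Nat.card R < n :=
    card_lt_of_lt ((normalizerIn_le T R).trans hTS) (lt_normalizerIn hTp (lt_of_le_of_ne hR.1 hRT))
  have hthr : ∀ R' : Subgroup Ω, E.IsCentric R' → n ≤ Nat.card R' → Fixes F E c R' := by
    intro R' hR' h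
    by_cases hR'T : R' = T
    · exact hR'T ▸ hTfix
    · refine hbig R' hR' (Or.inl (h.trans_lt ?_))
      exact card_lt_of_lt ((normalizerIn_le T R').trans hTS)
        (lt_normalizerIn hTp (lt_of_le_of_ne hR'.1 hR'T))
  obtain ⟨U, hRU, hUn⟩ := exists_fullyNormalized E hR.1
  obtain ⟨ψ, hψ, hψN, hψm⟩ := exists_hom_fullyNormalized hTp hEs hUn hRU
  have hRN : R ≤ normalizerIn T R := le_normalizerIn hR.1
  refine fixes_of_map hc hTS hψ (hom_of_fixes hS hE hc hthr hψ le_rfl) hRN
    (by rw [MonoidHom.range_comp, Subgroup.inclusion_range, hψm]) ?_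
  have hU : E.IsCentric U := isCentric_of_isConj hR hRU
  have hnU : n ≤ Nat.card (normalizerIn T U) := hUn.2 R (isConj_symm hRU)
  rcases hnU.lt_or_eq with h | h
  · exact hbig U hU (Or.inl h)
  have hRU' : Nat.card U = Nat.card R := isConj_card hRU
  refine fixes_step hp hS hE hc hU hUn (fun hle => ?_) fun hle => ?_
  · -- `U ⊔ W₀` is larger
    have hVN : U ⊔ jT T U c ≤ normalizerIn T U :=
      sup_le (le_normalizerIn hU.1) (jT_le_normalizerIn hc hU.1)
    have hVT := hVN.trans (normalizerIn_le T U)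
    refine hbig _ (isCentric_of_le hU le_sup_left hVT) (Or.inr ⟨?_, ?_⟩)
    · rw [h]
      refine card_le_of_le ((normalizerIn_le T _).trans hTS) fun x hx => ⟨hx.1, ?_⟩
      exact KNorm.normalizer_inf_normalizer_le_normalizer_sup
        ⟨hx.2, (normalizer_le_jT hc (le_normalizerIn (normalizerIn_le T U) hx)).2⟩
    · rw [← hRU']
      exact card_lt_of_lt (hVT.trans hTS)
        (lt_of_le_of_ne le_sup_left fun he => hle (le_sup_right.trans he.ge))
  · by_cases hNT : normalizerIn T U = T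
    · have hsame : jT T U c = jT T T c := by
        simp only [jT, nc, hNT, show normalizerIn T T = T from inf_eq_left.2 Subgroup.le_normalizer]
      rw [hsame]
      exact hbase
    · refine hbig _ (isCentric_jT hS hE hc hU hUn hle) (Or.inl ?_)
      rw [h]
      refine (card_lt_of_lt ((normalizerIn_le T _).trans hTS) (lt_normalizerIn hTp
        (lt_of_le_of_ne (normalizerIn_le T U) hNT))).trans_le ?_
      exact card_le_of_le ((normalizerIn_le T _).trans hTS) (normalizer_le_jT hc)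

/-- For odd `p` every element of `C_S(T)` is in `Z(T)` times one centralizing `E`. -/
theorem exists_mul_mem_centralizing (hp : p ≠ 2) (hS : IsPGroup p S) (hE : E.IsNormalIn F p)
    (hc : c ∈ centralizerIn S T) :
    ∃ z ∈ T, Subgroup.zpowers (c * z) ∈ centralizing F E := by
  obtain ⟨z, hz, hc', hbase⟩ := exists_adjust hS hE hc
  exact ⟨z, hz, mem_centralizing_of_fixes hS hE hc' (fixes_all hp hS hE hc' hbase)⟩

end Cfsg.Agent.Fusion.CentralizerOdd
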