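import Cfsg.Agent.Lib.Fusion.NormalExtensions

/-!
For a normal subsystem `E` over `T` and `c ∈ C_S(T)`: when do the automorphisms of an `E`-centric
`R` extend fixing `c`, and what follows from it (towards `C_S(T) ≤ T C_S(E)` for odd `p`).
-/

set_option autoImplicit false

namespace Cfsg.Agent.Fusion.CentralizerOdd

open Cfsg Cfsg.FusionSystem Cfsg.Agent.Fusion Cfsg.Agent.Fusion.NormalCentralizer
  Cfsg.Agent.Fusion.NormalExtensions

universe u

variable {Ω : Type u} [Group Ω] {S T : Subgroup Ω} {F : FusionSystem S} {E : FusionSystem T}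
  {p : ℕ} {c : Ω}

/-- The automorphisms in `E` of `R` extend in `F` fixing `c`. -/
def Fixes (F : FusionSystem S) (E : FusionSystem T) (c : Ω) (R : Subgroup Ω) : Prop :=
  ∀ α ∈ E.autGroup R, R.subtype.comp α.toMonoidHom ∈ F.centralizerHom (Subgroup.zpowers c) R

theorem zpowers_le_of_mem (hc : c ∈ centralizerIn S T) : Subgroup.zpowers c ≤ S :=
  Subgroup.zpowers_le.2 (centralizerIn_le S T hc)

theorem le_centralizerIn_zpowers (hTS : T ≤ S) (hc : c ∈ centralizerIn S T) :
    T ≤ centralizerIn S (Subgroup.zpowers c) := fun t ht =>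
  mem_centralizerIn.2 ⟨hTS ht, fun x hx =>
    ((mem_centralizerIn.1 (Subgroup.zpowers_le.2 hc hx)).2 t ht).symm⟩

variable [Finite S] [Fact p.Prime]

/-- If the large centric subgroups are fine, all maps of `E` with large source extend fixing
`c`. -/
theorem hom_of_fixes (hS : IsPGroup p S) (hE : E.IsNormalIn F p) (hc : c ∈ centralizerIn S T)
    {m : ℕ} (h : ∀ R : Subgroup Ω, E.IsCentric R → m ≤ Nat.card R → Fixes F E c R)
    {P : Subgroup Ω} {φ : P →* Ω} (hφ : φ ∈ E.Hom P) (hm : m ≤ Nat.card P) :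
    φ ∈ F.centralizerHom (Subgroup.zpowers c) P := by
  have hTS : T ≤ S := hE.1.2.2.2.1.1
  have hTC := le_centralizerIn_zpowers hTS hc
  set G := centralizerSystem F (Subgroup.zpowers c) (zpowers_le_of_mem hc) with hG
  have := finite_of_le (Ω := Ω) hTS
  refine alperin_strong_induction (F := E) (p := p)
    (C := fun P φ => m ≤ Nat.card P → φ ∈ G.Hom P) (hS.to_le hTS) hE.1.1 ?_ ?_ ?_ ?_ hφ hm
  · exact fun P g hP hg _ => G.conj_mem (hP.trans hTC) (hTC hg)
  · intro P Q φ ψ hφ hψ h1 h2 h hP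
    refine G.comp_mem (h1 hP) (h2 (hP.trans ?_)) h
    rw [← card_range hφ]
    exact card_le_of_le ((dom_le hψ).trans hTS) (by rintro _ ⟨x, rfl⟩; exact h x)
  · intro P φ ψ hφ h1 _ hi hP
    exact inv_mem' (h1 ((card_range hφ) ▸ hP)) rfl fun x _ => hi x
  · exact fun R _ hRc _ _ α hα hR => h R hRc hR α hα

/-- If all centric subgroups are fine then `⟨c⟩` centralizes `E`. -/
theorem mem_centralizing_of_fixes (hS : IsPGroup p S) (hE : E.IsNormalIn F p)
    (hc : c ∈ centralizerIn S T) (h : ∀ R : Subgroup Ω, E.IsCentric R → Fixes F E c R) :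
    Subgroup.zpowers c ∈ centralizing F E :=
  ⟨Subgroup.zpowers_le.2 hc, fun _ _ hφ => hom_of_fixes (m := 0) hS hE hc (fun R hR _ => h R hR) hφ
    (Nat.zero_le _)⟩

/-- `Fixes` comes back along a map of `E` extending with `c` fixed. -/
theorem fixes_of_map (hc : c ∈ centralizerIn S T) (hTS : T ≤ S) {N R R' : Subgroup Ω}
    {ψ : N →* Ω} (hψE : ψ ∈ E.Hom N) (hψ : ψ ∈ F.centralizerHom (Subgroup.zpowers c) N)
    (hRN : R ≤ N) (hr : (ψ.comp (Subgroup.inclusion hRN)).range = R') (h : Fixes F E c R') :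
    Fixes F E c R := by
  set G := centralizerSystem F (Subgroup.zpowers c) (zpowers_le_of_mem hc) with hG
  have hψG : ψ ∈ G.Hom N := hψ
  have hTC := le_centralizerIn_zpowers hTS hc
  intro α hα
  have hR'T : R' ≤ T := hr ▸ range_le (restrict_mem hψE hRN)
  have hRG : R ≤ centralizerIn S (Subgroup.zpowers c) := (hRN.trans (dom_le hψE)).trans hTC
  have h1 := congr_mem_autGroup (restrict_mem hψE hRN) hr hα
  have h2 : MulAut.congr (homEquiv (restrict_mem hψG hRN) hr) α ∈ G.autGroup R' :=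
    (mem_autGroup_iff (F := G) (hR'T.trans hTC)).2 (h _ h1)
  rw [← map_autGroup (restrict_mem hψG hRN) hr] at h2
  obtain ⟨b, hb, hbe⟩ := h2
  obtain rfl := (MulAut.congr (homEquiv (restrict_mem hψG hRN) hr)).injective hbe
  exact (mem_autGroup_iff (F := G) hRG).1 hb

/-- A `p'`-automorphism of `R⟨c⟩` which is in `E` on an `E`-centric `R` where `Fixes` holds, and
moves `c` inside `R`, fixes `c`. -/
theorem aut_fixes (hS : IsPGroup p S) (hE : E.IsNormalIn F p) {R : Subgroup Ω}
    (hR : E.IsCentric R) (hc : c ∈ centralizerIn S T) (hfix : Fixes F E c R)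
    {l : MulAut ↥(R ⊔ Subgroup.zpowers c)} (hl : l ∈ F.autGroup (R ⊔ Subgroup.zpowers c))
    (hord : (orderOf l).Coprime p) {α : MulAut R} (hα : α ∈ E.autGroup R)
    (hlR : ∀ x : R, l (Subgroup.inclusion le_sup_left x) = Subgroup.inclusion le_sup_left (α x))
    (hlc : c⁻¹ * ((l ⟨c, Subgroup.mem_sup_right (Subgroup.mem_zpowers c)⟩ :
      ↥(R ⊔ Subgroup.zpowers c)) : Ω) ∈ R) :
    l ⟨c, Subgroup.mem_sup_right (Subgroup.mem_zpowers c)⟩ =
      ⟨c, Subgroup.mem_sup_right (Subgroup.mem_zpowers c)⟩ := by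
  have hF : F.IsSaturated p := hE.1.2.1
  have hEi := hE.1.2.2
  have hRT : R ≤ T := hR.1
  have hTS : T ≤ S := hEi.2.1.1
  have hRS : R ≤ S := hRT.trans hTS
  have hVS : (R ⊔ Subgroup.zpowers c) ≤ S := sup_le hRS (zpowers_le_of_mem hc)
  set cV : ↥(R ⊔ Subgroup.zpowers c) := ⟨c, Subgroup.mem_sup_right (Subgroup.mem_zpowers c)⟩ with hcV
  have hRN : R ≤ normalizerIn S R := le_normalizerIn hRS
  have hVN : (R ⊔ Subgroup.zpowers c) ≤ normalizerIn S R := sup_le hRN (Subgroup.zpowers_le.2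
    (centralizerIn_le_normalizerIn S R (centralizerIn_anti hRT hc)))
  -- transport to a fully normalized conjugate
  obtain ⟨R', hRR', hR'⟩ := exists_fullyNormalized F hRS
  obtain ⟨χ, hχ, -, hχR⟩ := exists_hom_fullyNormalized hS hF hR' hRR'
  have hr : (χ.comp (Subgroup.inclusion hRN)).range = R' := by
    rw [MonoidHom.range_comp, Subgroup.inclusion_range, hχR]
  set e := homEquiv (restrict_mem hχ hRN) hr with he
  have hFC := isFullyCentralized_of_fullyNormalized hS hF hR'
  have hb := autGroup_le_bExt hS hE (isCentric_map hE.1 hR (restrict_mem hχ hRN) hr) hR'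
    (congr_mem_E hEi hRT (restrict_mem hχ hRN) hr hα)
  obtain ⟨k, γ, hγ, hγord, hγR, hγC⟩ := exists_coprime_ext (p := p) hFC.1 hb
  rw [← map_pow] at hγR
  set n := p ^ k with hn
  set l₁ := l ^ n with hl₁
  have hl₁R : ∀ x : R,
      l₁ (Subgroup.inclusion le_sup_left x) = Subgroup.inclusion le_sup_left ((α ^ n) x) := by
    suffices ∀ (j : ℕ) (x : R), (l ^ j) (Subgroup.inclusion le_sup_left x) =
        Subgroup.inclusion le_sup_left ((α ^ j) x) from this n
    intro j
    induction j with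
    | zero => exact fun x => rfl
    | succ j ih => exact fun x => by rw [pow_succ', MulAut.mul_apply, ih, hlR, pow_succ']; rfl
  -- `l₁ c = c r`
  obtain ⟨r, hlr⟩ : ∃ r : R, l₁ cV = cV * Subgroup.inclusion le_sup_left r := by
    suffices ∀ j : ℕ, ∃ r : R, (l ^ j) cV = cV * Subgroup.inclusion le_sup_left r from this n
    intro j
    induction j with
    | zero => exact ⟨1, by simp⟩
    | succ j ih =>
      obtain ⟨r, hr⟩ := ih
      refine ⟨⟨_, hlc⟩ * α r, ?_⟩
      rw [pow_succ', MulAut.mul_apply, hr, map_mul, hlR, map_mul, ← mul_assoc]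
      congr 1
      exact Subtype.ext (mul_inv_cancel_left c _).symm
  -- a map agreeing with `l₁` on `R` and fixing `c`
  obtain ⟨-, -, -, ψ, hψ, hψR, hψc⟩ := hfix _ (pow_mem hα n)
  have hψr : ψ.range = R ⊔ Subgroup.zpowers c := range_eq_of_le hψ hVS
    (forall_sup_mem ψ (fun x => Subgroup.mem_sup_left (by rw [hψR]; exact ((α ^ n) x).2))
      fun x => Subgroup.mem_sup_right (by rw [hψc]; exact x.2)) le_rfl
  set a := toAut hψ hψr with ha
  have haR : ∀ x : R,
      a (Subgroup.inclusion le_sup_left x) = Subgroup.inclusion le_sup_left ((α ^ n) x) :=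
    fun x => Subtype.ext (hψR x)
  have hac : a cV = cV := Subtype.ext (hψc ⟨c, Subgroup.mem_zpowers c⟩)
  set h := l₁ * a⁻¹ with hh
  have hhR : ∀ x : R, h (Subgroup.inclusion le_sup_left x) = Subgroup.inclusion le_sup_left x := by
    intro x
    have h1 : a⁻¹ (Subgroup.inclusion le_sup_left x) =
        Subgroup.inclusion le_sup_left ((α ^ n)⁻¹ x) := by
      have h2 := haR ((α ^ n)⁻¹ x)
      rw [MulAut.apply_inv_self] at h2
      rw [← h2, MulAut.inv_apply_self]
    rw [hh, MulAut.mul_apply, h1, hl₁R, MulAut.apply_inv_self]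
  have hhc : h cV = cV * Subgroup.inclusion le_sup_left r := by
    rw [hh, MulAut.mul_apply, show a⁻¹ cV = cV by
      conv_lhs => rw [← hac]
      exact MulAut.inv_apply_self _ _ _, hlr]
  -- `r` is focal for `C_F(R')`
  set χV := χ.comp (Subgroup.inclusion hVN) with hχV
  set eV := homEquiv (restrict_mem hχ hVN) (rfl : χV.range = χV.range) with heV
  have hh' : MulAut.congr eV h ∈ F.autGroup χV.range :=
    congr_mem_autGroup (restrict_mem hχ hVN) rfl
      (mul_mem (pow_mem hl n) (inv_mem (toAut_mem hψ hψr)))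
  have hV'S : χV.range ≤ S := range_le (restrict_mem hχ hVN)
  set y : Ω := χV cV with hy
  have hW : Subgroup.zpowers y ⊔ R' ≤ χV.range := sup_le (Subgroup.zpowers_le.2 ⟨_, rfl⟩)
    (hr ▸ by rintro _ ⟨x, rfl⟩; exact ⟨Subgroup.inclusion le_sup_left x, rfl⟩)
  obtain ⟨f, hfF, hf⟩ : ∃ f ∈ F.Hom (Subgroup.zpowers y ⊔ R'), ∀ z, f z =
      ((MulAut.congr eV h (Subgroup.inclusion hW z) : χV.range) : Ω) :=
    ⟨_, restrict_mem ((mem_autGroup_iff hV'S).1 hh') hW, fun z => rfl⟩
  have hfR : ∀ x : R', f (Subgroup.inclusion le_sup_right x) = x := by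
    rintro ⟨x, hx⟩
    obtain ⟨x₀, rfl⟩ := hr.ge hx
    rw [hf, show Subgroup.inclusion hW (Subgroup.inclusion le_sup_right
      (⟨χ.comp (Subgroup.inclusion hRN) x₀, hx⟩ : R')) = eV (Subgroup.inclusion le_sup_left x₀) from
      Subtype.ext rfl, congr_apply, hhR]
    rfl
  have hyC : y ∈ centralizerIn S R' :=
    apply_mem_centralizer_image hχ hRN hr (Subgroup.inclusion hVN cV) (centralizerIn_anti hRT hc)
  have hfy : f ⟨y, Subgroup.mem_sup_left (Subgroup.mem_zpowers y)⟩ =
      y * χ (Subgroup.inclusion hRN r) := by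
    rw [hf, show Subgroup.inclusion hW ⟨y, Subgroup.mem_sup_left (Subgroup.mem_zpowers y)⟩ = eV cV
      from Subtype.ext rfl, congr_apply, hhc]
    show χV (cV * Subgroup.inclusion le_sup_left r) = _
    rw [map_mul]
    rfl
  have hfC : f.comp (Subgroup.inclusion le_sup_left) ∈
      F.centralizerHom R' (Subgroup.zpowers y) := by
    refine ⟨restrict_mem hfF _, Subgroup.zpowers_le.2 hyC, fun z => ?_, f, hfF, fun z => rfl, hfR⟩
    refine map_centralizerIn le_sup_right hfF (fun x hx => ?_) _ (Subgroup.zpowers_le.2 hyC z.2)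
    rw [show x = Subgroup.inclusion le_sup_right (⟨(x : Ω), hx⟩ : R') from rfl, hfR]
    exact hx
  have hrfoc : χ (Subgroup.inclusion hRN r) ∈ (centralizerSystem F R' hFC.1).focalSubgroup :=
    Subgroup.subset_closure ⟨_, _, ⟨y, Subgroup.mem_zpowers y⟩, hfC, by
      show _ = y⁻¹ * f ⟨y, _⟩
      rw [hfy, inv_mul_cancel_left]⟩
  -- hence fixed
  have hfx := fixes_focal hS hF hFC hγ hγord
    (fun x hx => by
      rw [show x = Subgroup.inclusion le_sup_left (⟨(x : Ω), hx⟩ : R') from rfl, hγR]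
      exact (MulAut.congr e (α ^ n) _ : R').2)
    hγC (x := Subgroup.inclusion le_sup_left (e r)) hrfoc
  rw [hγR, congr_apply] at hfx
  have hαr : (α ^ n) r = r := e.injective (Subgroup.inclusion_injective _ hfx)
  have := finite_of_le (Ω := Ω) hVS
  obtain ⟨j, hj⟩ := hS.to_le hVS (Subgroup.inclusion le_sup_left r)
  have h1 := eq_one_of_coprime (p := p) (β := l₁)
    (Nat.Coprime.coprime_dvd_left (orderOf_pow_dvd n) hord) hlr (by rw [hl₁R, hαr]) hj
  rw [h1, mul_one] at hlr
  obtain ⟨m, hm⟩ := exists_pow_eq_self_of_coprime (n := n) (x := l)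
    ((hord.pow_right k).symm)
  rw [← hm]
  suffices ∀ m : ℕ, (l₁ ^ m) cV = cV from this m
  intro m
  induction m with
  | zero => rfl
  | succ m ih => rw [pow_succ', MulAut.mul_apply, ih, hlr]

end Cfsg.Agent.Fusion.CentralizerOdd
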