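import Cfsg.Agent.Lib.Fusion.Hyperfocal
import Cfsg.Agent.Lib.Fusion.Group
import Cfsg.Agent.Lib.Fusion.SubgroupSystem
import Cfsg.Agent.Lib.Fusion.NormalSubsystem
import Cfsg.Agent.Lib.Transfer.Fusion
import Cfsg.Agent.Lib.PGroup.Frattini

/-!
Puig's hyperfocal subgroup theorem for groups: `hyp(F_S(G)) = S ∩ O^p(G)`; monotonicity of the
hyperfocal and focal subgroups in the system.
-/

set_option autoImplicit false

namespace Cfsg.Agent.Fusion

open Cfsg Cfsg.FusionSystem
open scoped commutatorElement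

theorem hyperfocal_mono {Ω : Type*} [Group Ω] {S T : Subgroup Ω} {F : FusionSystem S}
    {E : FusionSystem T} (hTS : T ≤ S) (hE : E.IsSubsystemOf F) (p : ℕ) :
    E.hyperfocalSubgroup p ≤ F.hyperfocalSubgroup p := by
  refine (Subgroup.closure_le _).2 ?_
  rintro _ ⟨P, α, x, hP, hα, rfl⟩
  have hm := Transfer.map_residual_le
    (Subgroup.inclusion (autGroup_le_of_subsystem hE hP)) p ⟨α, hα, rfl⟩
  exact inv_mul_apply_mem_hyperfocal (hP.trans hTS) hm x

theorem focal_mono {Ω : Type*} [Group Ω] {S T : Subgroup Ω} {F : FusionSystem S}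
    {E : FusionSystem T} (hE : E.IsSubsystemOf F) : E.focalSubgroup ≤ F.focalSubgroup := by
  refine (Subgroup.closure_le _).2 ?_
  rintro _ ⟨P, φ, x, hφ, rfl⟩
  exact inv_mul_apply_mem_focal (hE P hφ) x

variable {G : Type*} [Group G] [Finite G] {p : ℕ} [Fact p.Prime]

/-- In a group generated by its elements of order prime to `p`, `p`-elements lie in the derived
subgroup. -/
theorem mem_commutator_of_pResidual_eq_top (h : pResidual p G = ⊤) {x : G} {j : ℕ}
    (hx : x ^ p ^ j = 1) : x ∈ commutator G := by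
  set n := Nat.card G with hn
  have hn0 : n ≠ 0 := Nat.card_pos.ne'
  set m := n / p ^ n.factorization p with hm
  let q : G →* Abelianization G := Abelianization.of
  have hall : ∀ g : G, q g ^ m = 1 := by
    have hle : pResidual p G ≤ ((powMonoidHom m).comp q).ker := by
      refine (Subgroup.closure_le _).2 fun g hg => ?_
      show q g ^ m = 1
      rw [← map_pow, show g ^ m = 1 from ?_, map_one]
      refine orderOf_dvd_iff_pow_eq_one.1 ?_
      have hd : orderOf g ∣ n := orderOf_dvd_natCard g
      rw [← Nat.ordProj_mul_ordCompl_eq_self n p] at hd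
      exact (Nat.Coprime.pow_right _ hg).dvd_of_dvd_mul_left hd
    intro g
    exact hle (h ▸ Subgroup.mem_top g)
  have h1 : q x ^ p ^ j = 1 := by rw [← map_pow, hx, map_one]
  have h2 := pow_gcd_eq_one.2 ⟨h1, hall x⟩
  rw [show (p ^ j).gcd m = 1 from Nat.Coprime.pow_left j
    (Nat.coprime_ordCompl Fact.out hn0), pow_one] at h2
  rw [← Abelianization.ker_of]
  exact h2

/-- Puig's hyperfocal subgroup theorem for a finite group. -/
theorem hyperfocal_group (S : Sylow p G) :
    (groupFusionSystem (S : Subgroup G)).hyperfocalSubgroup p =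
      (S : Subgroup G) ⊓ pResidual p G := by
  set K := pResidual p G with hK
  have hKn : K.Normal := Transfer.pResidual_normal p
  refine le_antisymm ((Subgroup.closure_le _).2 ?_) ?_
  · rintro _ ⟨P, α, x, hP, hα, rfl⟩
    refine ⟨(hyperfocal_le _ p) (inv_mul_apply_mem_hyperfocal hP hα x), ?_⟩
    have heq : (groupFusionSystem (S : Subgroup G)).autGroup P = P.normalizerMonoidHom.range := by
      rw [group_autGroup hP, autInducedBy_eq_map, Subgroup.top_subgroupOf,
        ← MonoidHom.range_eq_map]
    let f : Subgroup.normalizer (P : Set G) →* (groupFusionSystem (S : Subgroup G)).autGroup P :=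
      P.normalizerMonoidHom.codRestrict _ fun g => heq ▸ ⟨g, rfl⟩
    have hf : Function.Surjective f := by
      rintro ⟨β, hβ⟩
      rw [heq] at hβ
      obtain ⟨g, hg⟩ := hβ
      exact ⟨g, Subtype.ext hg⟩
    rw [← Transfer.map_pResidual_of_surjective f hf p] at hα
    obtain ⟨g, hg, rfl⟩ := hα
    have hgK : (g : G) ∈ K := Transfer.map_residual_subtype_le _ p ⟨g, hg, rfl⟩
    show (x : G)⁻¹ * ((g : G) * x * (g : G)⁻¹) ∈ K
    have h2 := K.mul_mem (hKn.conj_mem _ hgK (x : G)⁻¹) (K.inv_mem hgK)
    simpa [mul_assoc] using h2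
  · set T := (S : Subgroup G) ⊓ K with hT
    have hTK : T ≤ K := inf_le_right
    have hTs : IsSylowIn p T K := isSylowIn_of_normal S K
    have hTp : IsPGroup p T := S.isPGroup'.to_le inf_le_left
    set E := fusionSystemOfSubgroup K T hTK with hE
    have hEs : E.IsSaturated p := subgroupSystem_saturated hTK hTs
    have hsub : E.IsSubsystemOf (groupFusionSystem (S : Subgroup G)) := by
      intro P φ hφ
      obtain ⟨hP, hφT, g, -, hg⟩ := mem_subgroupSystem.1 hφ
      exact mem_groupHom.2 ⟨hP.trans inf_le_left, fun x => (hφT x).1, g, hg⟩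
    have hfoc : T ≤ E.focalSubgroup := by
      obtain ⟨R, hR⟩ := hTs
      have hsyl := Transfer.commutator_inf_eq_focalSubgroup_of_coprime (R : Subgroup K)
        (Transfer.coprime_index_of_coprime_card R.card_coprime_index)
      intro t ht
      have ht' : (⟨t, hTK ht⟩ : K) ∈ (R : Subgroup K) := by
        rw [hR]
        exact ht
      obtain ⟨j, hj⟩ := hTp ⟨t, ht⟩
      have hc : (⟨t, hTK ht⟩ : K) ∈ commutator K :=
        mem_commutator_of_pResidual_eq_top (Transfer.pResidual_pResidual p) (j := j)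
          (Subtype.ext (congrArg Subtype.val hj :))
      have h1 : (⟨t, hTK ht⟩ : K) ∈ (R : Subgroup K).focalSubgroup := hsyl ▸ ⟨hc, ht'⟩
      have hle : (R : Subgroup K).focalSubgroup ≤ E.focalSubgroup.comap K.subtype := by
        rw [Subgroup.focalSubgroup_def, Subgroup.closure_le]
        rintro _ ⟨hzR, y, hy, u, rfl⟩
        have hyT : (y : G)⁻¹ ∈ T := T.inv_mem (show y ∈ T.subgroupOf K from hR ▸ hy)
        have hz : (⁅y, u⁆ : K) ∈ T.subgroupOf K := hR ▸ hzR
        have hzG : (y : G) * u * (y : G)⁻¹ * (u : G)⁻¹ ∈ T := hz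
        have hconj : (u : G) * (y : G)⁻¹ * (u : G)⁻¹ ∈ T := by
          simpa [mul_assoc] using T.mul_mem hyT hzG
        have hφ : conjHom (Subgroup.zpowers (y : G)⁻¹) (u : G) ∈ E.Hom _ := by
          refine mem_subgroupSystem.2 ⟨Subgroup.zpowers_le.2 hyT, ?_, u, u.2, fun _ => rfl⟩
          rintro ⟨_, n, rfl⟩
          show (u : G) * ((y : G)⁻¹) ^ n * (u : G)⁻¹ ∈ T
          rw [← conj_zpow]
          exact T.zpow_mem hconj n
        have := inv_mul_apply_mem_focal hφ ⟨(y : G)⁻¹, Subgroup.mem_zpowers _⟩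
        rw [conjHom_apply] at this
        show (y : G) * u * (y : G)⁻¹ * (u : G)⁻¹ ∈ E.focalSubgroup
        simpa [mul_assoc] using this
      exact hle h1
    rw [focal_eq hTp hEs] at hfoc
    refine le_trans ?_ (hyperfocal_mono inf_le_left hsub p)
    set H := (E.hyperfocalSubgroup p).subgroupOf T
    have htop : H ⊔ frattini T = ⊤ := by
      refine eq_top_iff.2 fun t _ => ?_
      have h1 : T ≤ (H ⊔ frattini T).map T.subtype := by
        refine hfoc.trans ?_
        rw [Subgroup.map_sup, Subgroup.map_subgroupOf_eq_of_le (hyperfocal_le E p),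
          ← Subgroup.map_subtype_commutator]
        exact sup_le_sup_left (Subgroup.map_mono (PGroup.commutator_le_frattini hTp)) _
      obtain ⟨s, hs, hst⟩ := h1 t.2
      exact Subtype.ext hst ▸ hs
    have hH := frattini_nongenerating htop
    intro t ht
    exact (hH ▸ Subgroup.mem_top (⟨t, ht⟩ : T) : (⟨t, ht⟩ : T) ∈ H)

end Cfsg.Agent.Fusion
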