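import Cfsg.Agent.Lib.Fusion.Biset

/-!
Transfer in a saturated fusion system: from a homomorphism `θ : S → A` into an abelian group, a
homomorphism `tr : S → A` invariant under all maps of the system, computed along a permutation
representation of `S` on a set `Y` of size prime to `p`.
-/

set_option autoImplicit false

universe u v

namespace Cfsg.Agent.Fusion.TransferHom

open Cfsg Cfsg.FusionSystem Biset MulAction

variable {Ω : Type u} [Group Ω] {S : Subgroup Ω} {F : FusionSystem S}
variable (X : FSet F) {A : Type v} [CommGroup A] (θ : S →* A)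

/-- The orbits of the right coordinate. -/
def rightRel : Setoid X.carrier where
  r x y := ∃ b : S, ((1 : S), b) • x = y
  iseqv :=
    { refl := fun x => ⟨1, one_smul _ x⟩
      symm := by
        rintro x y ⟨b, rfl⟩
        refine ⟨b⁻¹, ?_⟩
        rw [← mul_smul]
        convert one_smul (↥S × ↥S) x using 2
        simp
      trans := by
        rintro x y z ⟨b, rfl⟩ ⟨c, rfl⟩
        refine ⟨c * b, ?_⟩
        rw [← mul_smul]
        simp }

/-- The set permuted by `S`. -/
abbrev Orbits := Quotient (rightRel X)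

theorem free {b : S} {x : X.carrier} (h : ((1 : S), b) • x = x) : b = 1 := by
  obtain ⟨P, φ, -, he⟩ := X.stab x
  have h' : ((1 : S), b) ∈ graph S P φ := he ▸ mem_stabilizer_iff.2 h
  obtain ⟨h1, h2⟩ := h'
  refine Subtype.ext ?_
  rw [← h2, show (⟨((1 : S) : Ω), h1⟩ : P) = 1 from Subtype.ext rfl, map_one]
  rfl

/-- An equivariant section for the right coordinate. -/
def IsSection (σ : X.carrier → S) : Prop :=
  ∀ (b : S) (x : X.carrier), σ (((1 : S), b) • x) = b * σ x

theorem exists_section : ∃ σ : X.carrier → S, IsSection X σ := by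
  classical
  have h : ∀ x : X.carrier, ∃ b : S, ((1 : S), b) • (Quotient.mk (rightRel X) x).out = x := fun x =>
    Quotient.exact (Quotient.out_eq (Quotient.mk (rightRel X) x))
  refine ⟨fun x => (h x).choose, fun c x => ?_⟩
  set r := (Quotient.mk (rightRel X) x).out with hr
  have hsame : Quotient.mk (rightRel X) (((1 : S), c) • x) = Quotient.mk (rightRel X) x :=
    Quotient.sound ((rightRel X).iseqv.symm ⟨c, rfl⟩)
  have h1 := (h (((1 : S), c) • x)).choose_spec
  have h2 := (h x).choose_spec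
  have hr' : (Quotient.mk (rightRel X) (((1 : S), c) • x)).out = r := congrArg Quotient.out hsame
  replace h1 : ((1 : S), (h (((1 : S), c) • x)).choose) • r = ((1 : S), c) • x := hr' ▸ h1
  set e := (h x).choose
  set e' := (h (((1 : S), c) • x)).choose
  rw [← h2, ← mul_smul] at h1
  have h3 : ((1 : S), (c * e)⁻¹ * e') • r = r := by
    have h4 : ((1 : S), c) * ((1 : S), e) = ((1 : S), c * e) := by simp
    rw [h4] at h1
    have h5 : ((1 : S), (c * e)⁻¹ * e') = ((1 : S), c * e)⁻¹ * ((1 : S), e') := by simp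
    rw [h5, mul_smul, h1, inv_smul_smul]
  exact (inv_mul_eq_one.1 (free X h3)).symm

/-- The permutation of the orbits given by the left coordinate. -/
def perm : S →* Equiv.Perm (Orbits X) where
  toFun a :=
    { toFun := Quotient.map (sa := rightRel X) (sb := rightRel X) (fun x => (a, (1 : S)) • x)
        fun x y ⟨b, hb⟩ => ⟨b, by
          rw [← hb, ← mul_smul, ← mul_smul]
          simp⟩
      invFun := Quotient.map (sa := rightRel X) (sb := rightRel X) (fun x => (a⁻¹, (1 : S)) • x)
        fun x y ⟨b, hb⟩ => ⟨b, by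
          rw [← hb, ← mul_smul, ← mul_smul]
          simp⟩
      left_inv := fun q => Quotient.inductionOn q fun x => congrArg (Quotient.mk _) (by
        show (a⁻¹, (1 : S)) • (a, (1 : S)) • x = x
        rw [← mul_smul]
        convert one_smul (↥S × ↥S) x using 2
        simp)
      right_inv := fun q => Quotient.inductionOn q fun x => congrArg (Quotient.mk _) (by
        show (a, (1 : S)) • (a⁻¹, (1 : S)) • x = x
        rw [← mul_smul]
        convert one_smul (↥S × ↥S) x using 2
        simp) }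
  map_one' := Equiv.ext fun q => Quotient.inductionOn q fun x =>
    congrArg (Quotient.mk _) (one_smul (↥S × ↥S) x)
  map_mul' a b := Equiv.ext fun q => Quotient.inductionOn q fun x => congrArg (Quotient.mk _) (by
    show (a * b, (1 : S)) • x = (a, (1 : S)) • (b, (1 : S)) • x
    rw [← mul_smul]
    simp)

/-- The discrepancy at an orbit. -/
def disc {σ : X.carrier → S} (hσ : IsSection X σ) (a : S) : Orbits X → A :=
  Quotient.lift (fun x => θ (σ x) / θ (σ ((a, (1 : S)) • x))) fun x y ⟨b, hb⟩ => by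
    subst hb
    rw [hσ, show (a, (1 : S)) • ((1 : S), b) • x = ((1 : S), b) • (a, (1 : S)) • x by
      rw [← mul_smul, ← mul_smul]; simp, hσ, map_mul, map_mul, mul_div_mul_left_eq_div]

theorem disc_mul {σ : X.carrier → S} (hσ : IsSection X σ) (a b : S) (q : Orbits X) :
    disc X θ hσ (a * b) q = disc X θ hσ b q * disc X θ hσ a (perm X b q) := by
  induction q using Quotient.inductionOn with
  | h x =>
    show θ (σ x) / θ (σ ((a * b, (1 : S)) • x)) =
      θ (σ x) / θ (σ ((b, (1 : S)) • x)) *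
        (θ (σ ((b, (1 : S)) • x)) / θ (σ ((a, (1 : S)) • (b, (1 : S)) • x)))
    rw [← mul_smul, show (a, (1 : S)) * (b, (1 : S)) = (a * b, (1 : S)) by simp, div_mul_div_cancel]

theorem prod_disc_range {σ : X.carrier → S} (hσ : IsSection X σ) (a : S) (q : Orbits X) :
    ∀ r : ℕ, ∏ i ∈ Finset.range r, disc X θ hσ a ((perm X a ^ i) q) = disc X θ hσ (a ^ r) q := by
  intro r
  induction r with
  | zero =>
    induction q using Quotient.inductionOn with
    | h x =>
      show (1 : A) = θ (σ x) / θ (σ ((a ^ 0, (1 : S)) • x))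
      rw [pow_zero, show ((1 : S), (1 : S)) • x = x from one_smul (↥S × ↥S) x, div_self']
  | succ r ih => rw [Finset.prod_range_succ, ih, pow_succ', disc_mul, map_pow]

/-- The local description at an orbit. -/
theorem exists_local {σ : X.carrier → S} (hσ : IsSection X σ) (q : Orbits X) :
    ∃ (P : Subgroup Ω) (φ : P →* Ω) (hφ : φ ∈ F.Hom P),
      ∀ a : S, (perm X a q = q ↔ (a : Ω) ∈ P) ∧
        ∀ h : (a : Ω) ∈ P, disc X θ hσ a q = θ ⟨φ ⟨a, h⟩, apply_mem hφ _⟩ := by
  induction q using Quotient.inductionOn with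
  | h x =>
    obtain ⟨P, φ, hφ, he⟩ := X.stab x
    refine ⟨P, φ, hφ, fun a => ⟨⟨fun h => ?_, fun h => ?_⟩, fun h => ?_⟩⟩
    · obtain ⟨b, hb⟩ := Quotient.exact h
      rw [← mul_smul] at hb
      obtain ⟨h1, -⟩ : ((1 : S), b) * (a, (1 : S)) ∈ graph S P φ := he ▸ mem_stabilizer_iff.2 hb
      simpa using h1
    · refine Quotient.sound ⟨⟨φ ⟨a, h⟩, apply_mem hφ _⟩, ?_⟩
      rw [← mul_smul]
      refine mem_stabilizer_iff.1 (he.symm ▸ ?_)
      exact ⟨by simpa using h, by simp⟩
    · set b : S := ⟨φ ⟨a, h⟩, apply_mem hφ _⟩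
      have hfix : (a, b) • x = x := mem_stabilizer_iff.1 (he.symm ▸ (⟨h, rfl⟩ : (a, b) ∈ graph S P φ))
      have h1 : ((a, (1 : S)) • x) = ((1 : S), b⁻¹) • x := by
        calc (a, (1 : S)) • x = (((1 : S), b⁻¹) * (a, b)) • x := by simp
          _ = ((1 : S), b⁻¹) • x := by rw [mul_smul, hfix]
      show θ (σ x) / θ (σ ((a, (1 : S)) • x)) = θ b
      rw [h1, hσ, map_mul, map_inv]
      simp

variable [Finite S] [Fintype (Orbits X)]

/-- The transfer homomorphism. -/
def tr {σ : X.carrier → S} (hσ : IsSection X σ) : S →* A :=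
  MonoidHom.mk' (fun a => ∏ q, disc X θ hσ a q) fun a b => by
    simp only [disc_mul, Finset.prod_mul_distrib]
    rw [Equiv.prod_comp (perm X b) (disc X θ hσ a), mul_comm]

omit [Finite S] in
theorem tr_eq_of_sections {σ τ : X.carrier → S} (hσ : IsSection X σ) (hτ : IsSection X τ) (a : S) :
    tr X θ hσ a = tr X θ hτ a := by
  let u : Orbits X → A := Quotient.lift (fun x => θ (σ x) / θ (τ x)) fun x y ⟨b, hb⟩ => by
    subst hb
    rw [hσ, hτ, map_mul, map_mul, mul_div_mul_left_eq_div]
  have key : ∀ q, disc X θ hσ a q = disc X θ hτ a q * (u q / u (perm X a q)) := by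
    intro q
    induction q using Quotient.inductionOn with
    | h x =>
      show θ (σ x) / θ (σ ((a, (1 : S)) • x)) = θ (τ x) / θ (τ ((a, (1 : S)) • x)) *
        ((θ (σ x) / θ (τ x)) / (θ (σ ((a, (1 : S)) • x)) / θ (τ ((a, (1 : S)) • x))))
      rw [div_div_div_comm, mul_div_cancel]
  show ∏ q, disc X θ hσ a q = ∏ q, disc X θ hτ a q
  rw [Finset.prod_congr rfl fun q _ => key q, Finset.prod_mul_distrib, Finset.prod_div_distrib,
    Equiv.prod_comp (perm X a) u, div_self', mul_one]

/-- The transfer is invariant under the maps of the system. -/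
theorem tr_stable (hX : X.Stable 0) {σ : X.carrier → S} (hσ : IsSection X σ) {P : Subgroup Ω}
    {φ : P →* Ω} (hφ : φ ∈ F.Hom P) (x : P) :
    tr X θ hσ ⟨φ x, apply_mem hφ x⟩ = tr X θ hσ ⟨x, dom_le hφ x.2⟩ := by
  obtain ⟨e, he⟩ := exists_twist_equiv hX hφ
  have hr : ∀ (b : S) (z : X.carrier), e (((1 : S), b) • z) = ((1 : S), b) • e z := by
    intro b z
    have h := he ((1 : P), b) z
    rw [show incl S (dom_le hφ) ((1 : P), b) = ((1 : S), b) from
      Prod.ext (Subtype.ext rfl) rfl,
      show twist hφ ((1 : P), b) = ((1 : S), b) from Prod.ext (Subtype.ext (map_one φ)) rfl] at h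
    exact h
  have hσe : IsSection X (σ ∘ e) := fun b z => by
    show σ (e _) = b * σ (e z)
    rw [hr, hσ]
  rw [tr_eq_of_sections X θ hσ hσe ⟨x, dom_le hφ x.2⟩]
  let ebar : Orbits X ≃ Orbits X := Quotient.congr (ra := rightRel X) (rb := rightRel X) e fun z w => by
    constructor
    · rintro ⟨b, hb⟩
      exact ⟨b, by rw [← hr, hb]⟩
    · rintro ⟨b, hb⟩
      exact ⟨b, e.injective (by rw [hr, hb])⟩
  show ∏ q, disc X θ hσ _ q = ∏ q, disc X θ hσe _ q
  rw [← Equiv.prod_comp ebar (disc X θ hσ ⟨φ x, apply_mem hφ x⟩)]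
  refine Finset.prod_congr rfl fun q _ => ?_
  induction q using Quotient.inductionOn with
  | h z =>
    show θ (σ (e z)) / θ (σ (((⟨φ x, apply_mem hφ x⟩ : S), (1 : S)) • e z)) =
      θ (σ (e z)) / θ (σ (e (((⟨x, dom_le hφ x.2⟩ : S), (1 : S)) • z)))
    rw [show e (((⟨x, dom_le hφ x.2⟩ : S), (1 : S)) • z) =
        ((⟨φ x, apply_mem hφ x⟩ : S), (1 : S)) • e z from
      he (x, (1 : S)) z]

omit [Finite S] [Fintype (Orbits X)] in
theorem card_orbits {σ : X.carrier → S} (hσ : IsSection X σ) :
    Nat.card X.carrier = Nat.card (Orbits X) * Nat.card S := by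
  rw [← Nat.card_prod]
  refine Nat.card_congr (Equiv.ofBijective (fun x => (Quotient.mk (rightRel X) x, σ x)) ⟨?_, ?_⟩)
  · intro x y h
    obtain ⟨b, rfl⟩ := Quotient.exact (congrArg Prod.fst h)
    have h2 : σ x = b * σ x := (congrArg Prod.snd h).trans (hσ b x)
    have hb : b = 1 := by simpa using h2.symm
    rw [hb]
    exact (one_smul (↥S × ↥S) x).symm
  · rintro ⟨q, s⟩
    induction q using Quotient.inductionOn with
    | h x =>
      refine ⟨((1 : S), s * (σ x)⁻¹) • x, Prod.ext (Quotient.sound ((rightRel X).iseqv.symm ⟨_, rfl⟩)) ?_⟩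
      show σ (((1 : S), s * (σ x)⁻¹) • x) = s
      rw [hσ, inv_mul_cancel_right]

end TransferHom

open Cfsg Cfsg.FusionSystem

variable {Ω : Type u} [Group Ω] {S : Subgroup Ω} {F : FusionSystem S}

/-- Transfer data for a homomorphism `θ : S → A`. -/
structure TransferData (F : FusionSystem S) (p : ℕ) {A : Type v} [CommGroup A] (θ : S →* A) :
    Type (max (u + 1) v) where
  Y : Type u
  [fintype : Fintype Y]
  perm : S →* Equiv.Perm Y
  disc : S → Y → A
  tr : S →* A
  not_dvd_card : ¬ p ∣ Fintype.card Y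
  tr_eq : ∀ a, tr a = ∏ y, disc a y
  disc_mul : ∀ a b y, disc (a * b) y = disc b y * disc a (perm b y)
  disc_pow : ∀ a y r, ∏ i ∈ Finset.range r, disc a ((perm a ^ i) y) = disc (a ^ r) y
  fixed : ∀ y, ∃ (P : Subgroup Ω) (φ : P →* Ω) (hφ : φ ∈ F.Hom P),
    ∀ a : S, (perm a y = y ↔ (a : Ω) ∈ P) ∧
      ∀ h : (a : Ω) ∈ P, disc a y = θ ⟨φ ⟨a, h⟩, apply_mem hφ _⟩
  stable : ∀ (P : Subgroup Ω) (φ : P →* Ω) (hφ : φ ∈ F.Hom P) (x : P),
    tr ⟨φ x, apply_mem hφ x⟩ = tr ⟨x, dom_le hφ x.2⟩

attribute [instance] TransferData.fintype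

/-- Transfer exists in saturated systems. -/
theorem exists_transferData [Finite S] {p : ℕ} [Fact p.Prime] (hS : IsPGroup p S)
    (hF : F.IsSaturated p) {A : Type v} [CommGroup A] (θ : S →* A) :
    Nonempty (TransferData F p θ) := by
  obtain ⟨X, hX, k, hk, hpk⟩ := Biset.exists_characteristic hS hF
  obtain ⟨σ, hσ⟩ := TransferHom.exists_section X
  let : Fintype (TransferHom.Orbits X) := Fintype.ofFinite _
  refine ⟨{ Y := TransferHom.Orbits X
            perm := TransferHom.perm X
            disc := TransferHom.disc X θ hσ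
            tr := TransferHom.tr X θ hσ
            not_dvd_card := ?_
            tr_eq := fun a => rfl
            disc_mul := fun a b y => TransferHom.disc_mul X θ hσ a b y
            disc_pow := fun a y r => TransferHom.prod_disc_range X θ hσ a y r
            fixed := fun y => TransferHom.exists_local X θ hσ y
            stable := fun P φ hφ x => TransferHom.tr_stable X θ hX hσ hφ x }⟩
  have h := TransferHom.card_orbits X hσ
  rw [hk] at h
  rw [← Nat.card_eq_fintype_card, ← Nat.eq_of_mul_eq_mul_right Nat.card_pos h]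
  exact hpk

/-- An element on which the transfer data behave like a constant. -/
theorem TransferData.tr_eq_pow {p : ℕ} {A : Type v} [CommGroup A] {θ : S →* A}
    (T : TransferData F p θ) (a : S)
    (h : ∀ y r, T.perm (a ^ r) y = y → T.disc (a ^ r) y = θ a ^ r) :
    T.tr a = θ a ^ Fintype.card T.Y := by
  rw [T.tr_eq]
  refine (Marks.prod_eq_prod_of_cycles (T.perm a) _ (fun _ => θ a) fun y => ?_).trans ?_
  · rw [T.disc_pow, Finset.prod_const, Finset.card_range]
    refine h y _ ?_
    rw [map_pow, Equiv.Perm.coe_pow]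
    exact Function.iterate_minimalPeriod
  · rw [Finset.prod_const, Finset.card_univ]

/-- The transfer kills the focal subgroup. -/
theorem TransferData.tr_focal {p : ℕ} {A : Type v} [CommGroup A] {θ : S →* A}
    (T : TransferData F p θ) {z : Ω} (hzS : z ∈ S) (hz : z ∈ F.focalSubgroup) :
    T.tr ⟨z, hzS⟩ = 1 := by
  have h : F.focalSubgroup ≤ T.tr.ker.map S.subtype := by
    refine (Subgroup.closure_le _).2 ?_
    rintro _ ⟨P, φ, x, hφ, rfl⟩
    refine ⟨⟨x, dom_le hφ x.2⟩⁻¹ * ⟨φ x, apply_mem hφ x⟩, ?_, rfl⟩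
    show T.tr _ = 1
    rw [map_mul, map_inv, T.stable P φ hφ x, inv_mul_cancel]
  obtain ⟨w, hw, hwz⟩ := h hz
  rw [show (⟨z, hzS⟩ : S) = w from Subtype.ext hwz.symm]
  exact hw

end Cfsg.Agent.Fusion
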