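import Cfsg.Agent.Lib.Fusion.Hyperfocal
import Cfsg.Agent.Lib.Fusion.TransferHom
import Cfsg.Agent.Lib.Fusion.Nilpotent
import Cfsg.Agent.Lib.PGroup.Basic

/-!
Homomorphisms on the hyperfocal subgroup extend, up to a power prime to `p`, to `S`
(`exists_hom_hyperfocal`), and Tate's theorem follows: a subgroup normalized by `S` which together
with `Φ(S)` and `[S,S]` contains `hyp(F)` contains it already (`hyperfocal_le_of_le`).
-/

set_option autoImplicit false

universe u v

namespace Cfsg.Agent.Fusion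

open Cfsg Cfsg.FusionSystem

variable {Ω : Type u} [Group Ω] {S : Subgroup Ω} {F : FusionSystem S} {p : ℕ}

/-- Modulo a subgroup containing the hyperfocal subgroup every map is conjugation by an element of
`S`. -/
theorem exists_congr_mod [Finite S] [Fact p.Prime] (hS : IsPGroup p S) (hF : F.IsSaturated p)
    {T : Subgroup Ω} (hT : F.hyperfocalSubgroup p ≤ T)
    (hn : S ≤ Subgroup.normalizer (T : Set Ω)) {P : Subgroup Ω} {φ : P →* Ω} (hφ : φ ∈ F.Hom P) :
    ∃ l ∈ S, ∀ x : P, (l * (x : Ω) * l⁻¹)⁻¹ * φ x ∈ T := by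
  have hcn : ∀ k ∈ S, ∀ t ∈ T, k * t * k⁻¹ ∈ T := fun k hk t ht =>
    (Subgroup.mem_normalizer_iff.1 (hn hk) t).1 ht
  refine alperin_induction hS hF
    (C := fun P φ => ∃ l ∈ S, ∀ x : P, (l * (x : Ω) * l⁻¹)⁻¹ * φ x ∈ T) ?_ ?_ ?_ ?_ hφ
  · intro P g _ hg
    exact ⟨g, hg, fun x => by simp [mul_assoc]⟩
  · rintro P Q φ ψ _ _ ⟨l, hl, h1⟩ ⟨k, hk, h2⟩ h
    refine ⟨k * l, S.mul_mem hk hl, fun x => ?_⟩
    have h3 := T.mul_mem (hcn k hk _ (h1 x)) (h2 ⟨φ x, h x⟩)
    show _ * ψ ⟨φ x, h x⟩ ∈ T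
    convert h3 using 1
    group
  · rintro P φ ψ _ ⟨l, hl, h1⟩ _ hi
    refine ⟨l⁻¹, S.inv_mem hl, ?_⟩
    rintro ⟨_, x, rfl⟩
    rw [hi x]
    have h3 := hcn l⁻¹ (S.inv_mem hl) _ (T.inv_mem (h1 x))
    convert h3 using 1
    group
  · intro R hRn _ _
    let K : Subgroup (MulAut R) :=
      { carrier := {α | ∃ l ∈ S, ∀ x : R, (l * (x : Ω) * l⁻¹)⁻¹ * ((α x : R) : Ω) ∈ T}
        one_mem' := ⟨1, S.one_mem, fun x => by simp⟩
        mul_mem' := fun {a b} ⟨k, hk, ha⟩ ⟨l, hl, hb⟩ => ⟨k * l, S.mul_mem hk hl, fun x => by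
          have h3 := T.mul_mem (hcn k hk _ (hb x)) (ha (b x))
          show _ * ((a (b x) : R) : Ω) ∈ T
          convert h3 using 1
          group⟩
        inv_mem' := fun {a} ⟨l, hl, ha⟩ => ⟨l⁻¹, S.inv_mem hl, fun x => by
          have h1 := ha (a⁻¹ x)
          rw [MulAut.apply_inv_self] at h1
          have h3 := hcn l⁻¹ (S.inv_mem hl) _ (T.inv_mem h1)
          convert h3 using 1
          group⟩ }
    refine autGroup_le_of_residual (K := K) (p := p)
      (isFullyAutomized_of_fullyNormalized hS hF hRn) ?_ ?_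
    · rintro _ ⟨α, hα, rfl⟩
      exact ⟨1, S.one_mem, fun x => by simpa using hT (inv_mul_apply_mem_hyperfocal hRn.1 hα x)⟩
    · intro α hα
      obtain ⟨g, hg, hx⟩ := mem_autInducedBy_iff.1 hα
      exact ⟨g, hg, fun x => by rw [hx x, inv_mul_cancel]; exact T.one_mem⟩

namespace Splitting

open Biset MulAction

variable (X : FSet F) (T : Subgroup S) [T.Normal]

/-- The compatibility of a section with reduction modulo `T`. -/
def IsAdapted (σ : X.carrier → S) : Prop :=
  ∀ (a : S) (x : X.carrier), (σ ((a, (1 : S)) • x) : S ⧸ T) = (σ x : S ⧸ T) * (a : S ⧸ T)⁻¹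

theorem exists_adapted_section
    (h : ∀ x : X.carrier, ∃ q : S ⧸ T, ∀ w ∈ stabilizer (↥S × ↥S) x,
      (w.2 : S ⧸ T) * q * (w.1 : S ⧸ T)⁻¹ = q) :
    ∃ σ : X.carrier → S, TransferHom.IsSection X σ ∧ IsAdapted X T σ := by
  classical
  let r : X.carrier → X.carrier := fun x =>
    (Quotient.mk (MulAction.orbitRel (↥S × ↥S) X.carrier) x).out
  have hw : ∀ x, ∃ w : ↥S × ↥S, w • r x = x := by
    intro x
    obtain ⟨w, hw⟩ : x ∈ orbit (↥S × ↥S) (r x) := by
      have := Quotient.exact (Quotient.out_eq (Quotient.mk (orbitRel (↥S × ↥S) X.carrier) x))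
      exact MulAction.orbit_eq_iff.1 (MulAction.orbit_eq_iff.2 this).symm
    exact ⟨w, hw⟩
  choose w hw using hw
  choose q hq using h
  let G : X.carrier → S ⧸ T := fun x =>
    ((w x).2 : S ⧸ T) * q (r x) * ((w x).1 : S ⧸ T)⁻¹
  have hG : ∀ (v : ↥S × ↥S) x, G (v • x) = (v.2 : S ⧸ T) * G x * (v.1 : S ⧸ T)⁻¹ := by
    intro v x
    have hr : r (v • x) = r x := congrArg Quotient.out (Quotient.sound ⟨v, rfl⟩)
    have h1 : (v * w x)⁻¹ * w (v • x) ∈ stabilizer (↥S × ↥S) (r x) := by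
      have h2 := hw (v • x)
      rw [hr] at h2
      rw [mem_stabilizer_iff, mul_smul, h2, inv_smul_eq_iff, mul_smul, hw x]
    have h3 := hq _ _ h1
    show ((w (v • x)).2 : S ⧸ T) * q (r (v • x)) * ((w (v • x)).1 : S ⧸ T)⁻¹ =
      (v.2 : S ⧸ T) * ((((w x).2 : S ⧸ T)) * q (r x) * ((w x).1 : S ⧸ T)⁻¹) * (v.1 : S ⧸ T)⁻¹
    rw [hr]
    conv_rhs => rw [← h3]
    simp only [Prod.fst_mul, Prod.snd_mul, Prod.fst_inv, Prod.snd_inv, QuotientGroup.mk_mul,
      QuotientGroup.mk_inv]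
    group
  obtain ⟨σ₀, hσ₀⟩ := TransferHom.exists_section X
  refine ⟨fun x => σ₀ x * (G (((1 : S), (σ₀ x)⁻¹) • x)).out, ?_, ?_⟩
  · intro b x
    show σ₀ _ * _ = b * (σ₀ x * _)
    rw [hσ₀, ← mul_smul, mul_assoc]
    simp
  · intro a x
    simp only [QuotientGroup.mk_mul, QuotientGroup.out_eq', hG]
    simp

variable {M : Type v} [CommGroup M] (ρ : T →* M)
  (hinv : ∀ (g : S) (t : T), ρ ⟨g * t * g⁻¹, ‹T.Normal›.conj_mem _ t.2 g⟩ = ρ t)

/-- `δ(a, x) = σ(a • x)⁻¹ σ(x)`. -/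
def delta (σ : X.carrier → S) (a : S) (x : X.carrier) : S := (σ ((a, (1 : S)) • x))⁻¹ * σ x

variable {X T}

theorem delta_right {σ : X.carrier → S} (hσ : TransferHom.IsSection X σ) (a b : S)
    (x : X.carrier) : delta X σ a (((1 : S), b) • x) = delta X σ a x := by
  simp only [delta]
  rw [show (a, (1 : S)) • ((1 : S), b) • x = ((1 : S), b) • (a, (1 : S)) • x by
    rw [← mul_smul, ← mul_smul]; simp, hσ, hσ]
  group

theorem delta_mul (σ : X.carrier → S) (a b : S) (x : X.carrier) :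
    delta X σ (a * b) x = delta X σ a ((b, (1 : S)) • x) * delta X σ b x := by
  simp only [delta]
  rw [← mul_smul, Prod.mk_mul_mk, one_mul]
  group

theorem delta_mem {σ : X.carrier → S} (hT : IsAdapted X T σ) (a : S) (x : X.carrier) :
    delta X σ a x * a⁻¹ ∈ T := by
  rw [← QuotientGroup.eq_one_iff]
  simp only [delta, QuotientGroup.mk_mul, QuotientGroup.mk_inv, hT a x]
  group

theorem delta_mem' {σ : X.carrier → S} (hT : IsAdapted X T σ) (t : T) (x : X.carrier) :
    delta X σ t x ∈ T := by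
  simpa using T.mul_mem (delta_mem hT (t : S) x) t.2

variable [Finite S] [Fintype (TransferHom.Orbits X)]

/-- The defect of `δ` from the identity, in `M`. -/
def defect {σ : X.carrier → S} (hσ : TransferHom.IsSection X σ) (hT : IsAdapted X T σ) (a : S) :
    TransferHom.Orbits X → M :=
  Quotient.lift (fun x => ρ ⟨delta X σ a x * a⁻¹, delta_mem hT a x⟩) fun x y ⟨b, hb⟩ => by
    subst hb
    congr 2
    rw [delta_right hσ]

/-- The value of `δ` at an element of `T`, in `M`. -/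
def value {σ : X.carrier → S} (hσ : TransferHom.IsSection X σ) (hT : IsAdapted X T σ) (t : T) :
    TransferHom.Orbits X → M :=
  Quotient.lift (fun x => ρ ⟨delta X σ t x, delta_mem' hT t x⟩) fun x y ⟨b, hb⟩ => by
    subst hb
    congr 2
    rw [delta_right hσ]

variable {ρ}

include hinv in
omit [Finite S] [Fintype (TransferHom.Orbits X)] in
theorem defect_mul {σ : X.carrier → S} (hσ : TransferHom.IsSection X σ) (hT : IsAdapted X T σ)
    (a b : S) (q : TransferHom.Orbits X) :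
    defect ρ hσ hT (a * b) q =
      defect ρ hσ hT a (TransferHom.perm X b q) * defect ρ hσ hT b q := by
  induction q using Quotient.inductionOn with
  | h x =>
    show ρ _ = ρ ⟨delta X σ a ((b, (1 : S)) • x) * a⁻¹, _⟩ * ρ ⟨delta X σ b x * b⁻¹, delta_mem hT b x⟩
    rw [← hinv a ⟨delta X σ b x * b⁻¹, delta_mem hT b x⟩, ← map_mul]
    refine congrArg ρ (Subtype.ext ?_)
    show delta X σ (a * b) x * (a * b)⁻¹ =
      delta X σ a ((b, (1 : S)) • x) * a⁻¹ * (a * (delta X σ b x * b⁻¹) * a⁻¹)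
    rw [delta_mul]
    group

omit [Finite S] [Fintype (TransferHom.Orbits X)] in
theorem value_eq {σ : X.carrier → S} (hσ : TransferHom.IsSection X σ) (hT : IsAdapted X T σ)
    (t : T) (q : TransferHom.Orbits X) : value ρ hσ hT t q = defect ρ hσ hT t q * ρ t := by
  induction q using Quotient.inductionOn with
  | h x =>
    show ρ _ = ρ _ * ρ t
    rw [← map_mul]
    exact congrArg ρ (Subtype.ext (by simp))

include hinv in
theorem prod_value_stable (hX : X.Stable 0) {σ : X.carrier → S} (hσ : TransferHom.IsSection X σ)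
    (hT : IsAdapted X T σ) {P : Subgroup Ω} {φ : P →* Ω} (hφ : φ ∈ F.Hom P) (x : P)
    (hx : (⟨x, dom_le hφ x.2⟩ : S) ∈ T) (hy : (⟨φ x, apply_mem hφ x⟩ : S) ∈ T) :
    ∏ q, value ρ hσ hT ⟨_, hy⟩ q = ∏ q, value ρ hσ hT ⟨_, hx⟩ q := by
  obtain ⟨e, he⟩ := exists_twist_equiv hX hφ
  have hr : ∀ (b : S) (z : X.carrier), e (((1 : S), b) • z) = ((1 : S), b) • e z := by
    intro b z
    have h := he ((1 : P), b) z
    rw [show incl S (dom_le hφ) ((1 : P), b) = ((1 : S), b) from
      Prod.ext (Subtype.ext rfl) rfl,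
      show twist hφ ((1 : P), b) = ((1 : S), b) from Prod.ext (Subtype.ext (map_one φ)) rfl] at h
    exact h
  set a : S := ⟨x, dom_le hφ x.2⟩ with ha
  set a' : S := ⟨φ x, apply_mem hφ x⟩ with ha'
  have hl : ∀ z : X.carrier, e ((a, (1 : S)) • z) = (a', (1 : S)) • e z := fun z => he (x, (1 : S)) z
  let d : X.carrier → S := fun z => (σ z)⁻¹ * σ (e z)
  have hd : ∀ (b : S) (z : X.carrier), d (((1 : S), b) • z) = d z := by
    intro b z
    show (σ _)⁻¹ * σ (e _) = (σ z)⁻¹ * σ (e z)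
    rw [hr, hσ, hσ]
    group
  let h : TransferHom.Orbits X → M := Quotient.lift
    (fun z => ρ ⟨((d z : S ⧸ T).out)⁻¹ * d z, by
      rw [← QuotientGroup.eq_one_iff]
      simp⟩) fun z z' ⟨b, hb⟩ => by
    subst hb
    congr 2
    rw [hd]
  let ebar : TransferHom.Orbits X ≃ TransferHom.Orbits X :=
    Quotient.congr (ra := TransferHom.rightRel X) (rb := TransferHom.rightRel X) e fun z w => by
      constructor
      · rintro ⟨b, hb⟩
        exact ⟨b, by rw [← hr, hb]⟩
      · rintro ⟨b, hb⟩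
        exact ⟨b, e.injective (by rw [hr, hb])⟩
  have key : ∀ q, value ρ hσ hT ⟨a', hy⟩ (ebar q) =
      value ρ hσ hT ⟨a, hx⟩ q * (h q / h (TransferHom.perm X a q)) := by
    intro q
    induction q using Quotient.inductionOn with
    | h z =>
      show ρ ⟨delta X σ a' (e z), _⟩ = ρ ⟨delta X σ a z, _⟩ *
        (ρ ⟨((d z : S ⧸ T).out)⁻¹ * d z, _⟩ /
          ρ ⟨((d ((a, (1 : S)) • z) : S ⧸ T).out)⁻¹ * d ((a, (1 : S)) • z), _⟩)
      set z' := (a, (1 : S)) • z with hz'
      have h1 : delta X σ a' (e z) = (d z')⁻¹ * delta X σ a z * d z := by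
        simp only [delta, d, hz', hl]
        group
      have h2 : (d z' : S ⧸ T) = (d z : S ⧸ T) := by
        have h3 : (((d z')⁻¹ * delta X σ a z * d z : S) : S ⧸ T) = 1 := by
          rw [← h1, QuotientGroup.eq_one_iff]
          exact delta_mem' hT ⟨a', hy⟩ (e z)
        have h4 : ((delta X σ a z : S) : S ⧸ T) = 1 :=
          (QuotientGroup.eq_one_iff _).2 (delta_mem' hT ⟨a, hx⟩ z)
        simp only [QuotientGroup.mk_mul, QuotientGroup.mk_inv, h4, mul_one] at h3
        exact inv_mul_eq_one.1 h3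
      rw [← hinv (d z')⁻¹ ⟨delta X σ a z, delta_mem' hT ⟨a, hx⟩ z⟩, div_eq_inv_mul, ← map_inv,
        ← map_mul, ← map_mul]
      refine congrArg ρ (Subtype.ext ?_)
      show delta X σ a' (e z) = (d z')⁻¹ * delta X σ a z * (d z')⁻¹⁻¹ *
        ((((d z' : S ⧸ T).out)⁻¹ * d z')⁻¹ * (((d z : S ⧸ T).out)⁻¹ * d z))
      rw [h1, h2]
      group
  rw [← Equiv.prod_comp ebar, Finset.prod_congr rfl fun q _ => key q, Finset.prod_mul_distrib,
    Finset.prod_div_distrib, Equiv.prod_comp (TransferHom.perm X a) h, div_self', mul_one]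

end Splitting

variable [Finite S] [Fact p.Prime]

/-- A homomorphism on a subgroup `T ⊇ hyp(F)` normalized by `S`, invariant under `S`: some power of
it prime to `p`, corrected by a homomorphism on `S`, is invariant under all maps of the system. -/
theorem exists_stable_correction (hS : IsPGroup p S) (hF : F.IsSaturated p) {T : Subgroup Ω}
    (hT : F.hyperfocalSubgroup p ≤ T) (hn : S ≤ Subgroup.normalizer (T : Set Ω))
    {M : Type v} [CommGroup M] (ρ : T.subgroupOf S →* M)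
    (hinv : ∀ (g : S) (t t' : T.subgroupOf S), (t' : S) = g * t * g⁻¹ → ρ t' = ρ t) :
    ∃ k : ℕ, ¬ p ∣ k ∧ ∃ μ : S →* M, ∀ (P : Subgroup Ω) (φ : P →* Ω) (hφ : φ ∈ F.Hom P) (x : P)
      (hx : (x : Ω) ∈ T) (hy : φ x ∈ T),
      μ ⟨φ x, apply_mem hφ x⟩ * ρ ⟨⟨φ x, apply_mem hφ x⟩, hy⟩ ^ k =
        μ ⟨x, dom_le hφ x.2⟩ * ρ ⟨⟨x, dom_le hφ x.2⟩, hx⟩ ^ k := by
  classical
  have : (T.subgroupOf S).Normal := ⟨fun t ht g => by
    show (g : Ω) * t * (g : Ω)⁻¹ ∈ T
    exact (Subgroup.mem_normalizer_iff.1 (hn g.2) t).1 ht⟩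
  obtain ⟨X, hX, m, hm, hpm⟩ := Biset.exists_characteristic hS hF
  obtain ⟨σ, hσ, hσT⟩ := Splitting.exists_adapted_section X (T.subgroupOf S) fun x => by
    obtain ⟨P, φ, hφ, he⟩ := X.stab x
    obtain ⟨l, hl, h⟩ := exists_congr_mod hS hF hT hn hφ
    refine ⟨((⟨l, hl⟩ : S) : S ⧸ T.subgroupOf S), fun w hw => ?_⟩
    rw [he] at hw
    obtain ⟨h1, h2⟩ := hw
    have h3 : ((⟨l, hl⟩ : S) * w.1 * (⟨l, hl⟩ : S)⁻¹)⁻¹ * w.2 ∈ T.subgroupOf S := by
      show (l * (w.1 : Ω) * l⁻¹)⁻¹ * (w.2 : Ω) ∈ T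
      rw [← h2]
      exact h ⟨w.1, h1⟩
    rw [← QuotientGroup.eq_one_iff, QuotientGroup.mk_mul, QuotientGroup.mk_inv,
      inv_mul_eq_one] at h3
    simp only [← h3, QuotientGroup.mk_mul, QuotientGroup.mk_inv]
    group
  let : Fintype (TransferHom.Orbits X) := Fintype.ofFinite _
  have hinv' : ∀ (g : S) (t : T.subgroupOf S),
      ρ ⟨g * t * g⁻¹, ‹(T.subgroupOf S).Normal›.conj_mem _ t.2 g⟩ = ρ t :=
    fun g t => hinv g t _ rfl
  let μ : S →* M := MonoidHom.mk' (fun a => ∏ q, Splitting.defect ρ hσ hσT a q) fun a b => by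
    simp only [Splitting.defect_mul hinv' hσ hσT, Finset.prod_mul_distrib]
    rw [Equiv.prod_comp (TransferHom.perm X b) (Splitting.defect ρ hσ hσT a)]
  have hμ : ∀ t : T.subgroupOf S, μ t * ρ t ^ Fintype.card (TransferHom.Orbits X) =
      ∏ q, Splitting.value ρ hσ hσT t q := by
    intro t
    simp only [Splitting.value_eq, Finset.prod_mul_distrib, Finset.prod_const, Finset.card_univ]
    rfl
  refine ⟨Fintype.card (TransferHom.Orbits X), ?_, μ, fun P φ hφ x hx hy => ?_⟩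
  · have h := TransferHom.card_orbits X hσ
    rw [hm] at h
    rw [← Nat.card_eq_fintype_card, ← Nat.eq_of_mul_eq_mul_right Nat.card_pos h]
    exact hpm
  · rw [hμ ⟨_, hy⟩, hμ ⟨_, hx⟩]
    exact Splitting.prod_value_stable hinv' hX hσ hσT hφ x hx hy

/-- A homomorphism on the hyperfocal subgroup invariant under all maps of the system is
trivial. -/
theorem eq_one_of_stable (hS : IsPGroup p S) (hF : F.IsSaturated p) {M : Type v} [CommGroup M]
    (V : (F.hyperfocalSubgroup p).subgroupOf S →* M)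
    (hVs : ∀ (P : Subgroup Ω) (φ : P →* Ω) (hφ : φ ∈ F.Hom P) (x : P)
      (hx : (x : Ω) ∈ F.hyperfocalSubgroup p) (hy : φ x ∈ F.hyperfocalSubgroup p),
      V ⟨⟨φ x, apply_mem hφ x⟩, hy⟩ = V ⟨⟨x, dom_le hφ x.2⟩, hx⟩)
    (t : (F.hyperfocalSubgroup p).subgroupOf S) : V t = 1 := by
  have hsc := stronglyClosed_hyperfocal hS hF
  have hgen : (F.hyperfocalSubgroup p) ≤ V.ker.map (S.subtype.comp ((F.hyperfocalSubgroup p).subgroupOf S).subtype) := by
    refine (Subgroup.closure_le _).2 ?_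
    rintro _ ⟨P, α, x, hP, hα, rfl⟩
    suffices h : ∀ y : P, ∃ hy : (y : Ω)⁻¹ * ((α : MulAut P) y : P) ∈ (F.hyperfocalSubgroup p),
        V ⟨⟨_, hyperfocal_le F p hy⟩, hy⟩ = 1 by
      obtain ⟨hy, h1⟩ := h x
      exact ⟨_, h1, rfl⟩
    clear x
    have hmem : ∀ β ∈ pResidual p (F.autGroup P), ∀ y : P,
        (y : Ω)⁻¹ * ((β : MulAut P) y : P) ∈ (F.hyperfocalSubgroup p) :=
      fun β hβ y => inv_mul_apply_mem_hyperfocal hP hβ y
    induction hα using Subgroup.closure_induction with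
    | one =>
      intro y
      refine ⟨hmem 1 (one_mem _) y, ?_⟩
      rw [show (⟨⟨_, hyperfocal_le F p (hmem 1 (one_mem _) y)⟩, hmem 1 (one_mem _) y⟩ :
        (F.hyperfocalSubgroup p).subgroupOf S) = 1 from Subtype.ext (Subtype.ext (inv_mul_cancel (y : Ω))), map_one]
    | mul β γ hβ hγ h1 h2 =>
      intro y
      refine ⟨hmem _ (mul_mem hβ hγ) y, ?_⟩
      obtain ⟨_, h1'⟩ := h1 ((γ : MulAut P) y)
      obtain ⟨_, h2'⟩ := h2 y
      have h3 : V _ * V _ = 1 := (congrArg₂ (· * ·) h2' h1').trans (mul_one 1)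
      rw [← map_mul] at h3
      refine (congrArg V (Subtype.ext (Subtype.ext ?_))).trans h3
      show (y : Ω)⁻¹ * (((β : MulAut P) ((γ : MulAut P) y) : P) : Ω) = _ * _
      simp [mul_assoc]
    | inv β hβ h1 =>
      intro y
      refine ⟨hmem _ (inv_mem hβ) y, ?_⟩
      obtain ⟨_, h1'⟩ := h1 ((β : MulAut P)⁻¹ y)
      have h3 : (V _)⁻¹ = 1 := (congrArg (·⁻¹) h1').trans inv_one
      rw [← map_inv] at h3
      refine (congrArg V (Subtype.ext (Subtype.ext ?_))).trans h3
      show (y : Ω)⁻¹ * ((((β : MulAut P)⁻¹) y : P) : Ω) =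
        ((((β : MulAut P)⁻¹ y : P) : Ω)⁻¹ *
          (((β : MulAut P) ((β : MulAut P)⁻¹ y) : P) : Ω))⁻¹
      rw [MulAut.apply_inv_self]
      simp
    | mem β hβ =>
      have hβ' : β ∈ pResidual p (F.autGroup P) := Subgroup.subset_closure hβ
      let D : P →* M := MonoidHom.mk'
        (fun y => V ⟨⟨_, hyperfocal_le F p (hmem β hβ' y)⟩, hmem β hβ' y⟩) fun y z => by
          have hc : (conjHom P (z : Ω)⁻¹) ∈ F.Hom P := F.conj_mem hP (S.inv_mem (hP z.2))
          have hc' : conjHom S (z : Ω)⁻¹ ∈ F.Hom S := F.conj_mem le_rfl (S.inv_mem (hP z.2))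
          have hy' := hmem β hβ' y
          have hz' : (z : Ω)⁻¹ * ((y : Ω)⁻¹ * ((β : MulAut P) y : P)) * z ∈ (F.hyperfocalSubgroup p) := by
            have := (Subgroup.mem_normalizer_iff.1
              (le_normalizer_hyperfocal F p (S.inv_mem (hP z.2))) _).1 hy'
            simpa using this
          have h4 := hVs S _ hc' ⟨_, hyperfocal_le F p hy'⟩ hy' (by
            rw [conjHom_apply]; simpa using hz')
          rw [← h4, ← map_mul]
          refine congrArg V (Subtype.ext (Subtype.ext ?_))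
          show ((y * z : P) : Ω)⁻¹ * (((β : MulAut P) (y * z) : P) : Ω) =
            (conjHom S (z : Ω)⁻¹ _) * ((z : Ω)⁻¹ * (((β : MulAut P) z : P) : Ω))
          rw [map_mul, conjHom_apply]
          simp [mul_assoc]
      have hDβ : ∀ y : P, D ((β : MulAut P) y) = D y := by
        intro y
        have hc : P.subtype.comp (β : MulAut P).toMonoidHom ∈ F.Hom P :=
          (mem_autGroup_iff hP).1 β.2
        have hy' := hmem β hβ' y
        have hyP : (y : Ω)⁻¹ * ((β : MulAut P) y : P) ∈ P :=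
          P.mul_mem (P.inv_mem y.2) ((β : MulAut P) y).2
        have h4 := hVs P _ hc ⟨_, hyP⟩ hy' (hsc.2 (P ⊓ (F.hyperfocalSubgroup p)) inf_le_right _
          (restrict_mem hc inf_le_left) ⟨_, hyP, hy'⟩)
        refine Eq.trans ?_ h4
        refine congrArg V (Subtype.ext (Subtype.ext ?_))
        show (((β : MulAut P) y : P) : Ω)⁻¹ *
            (((β : MulAut P) ((β : MulAut P) y) : P) : Ω) =
          (((β : MulAut P) (y⁻¹ * (β : MulAut P) y) : P) : Ω)
        simp
      have hpow : ∀ (n : ℕ) (y : P), ∃ hy : (y : Ω)⁻¹ * (((β : MulAut P) ^ n) y : P) ∈ (F.hyperfocalSubgroup p),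
          V ⟨⟨_, hyperfocal_le F p hy⟩, hy⟩ = D y ^ n := by
        intro n
        induction n with
        | zero =>
          intro y
          refine ⟨by simp [(F.hyperfocalSubgroup p).one_mem], ?_⟩
          exact (congrArg V (Subtype.ext (Subtype.ext (by simp)))).trans
            ((map_one V).trans (pow_zero _).symm)
        | succ n ih =>
          intro y
          obtain ⟨h1, h2⟩ := ih ((β : MulAut P) y)
          refine ⟨by simpa using hmem (β ^ (n + 1)) (pow_mem hβ' _) y, ?_⟩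
          rw [hDβ] at h2
          rw [pow_succ' (D y), ← h2, show D y = V ⟨⟨_, hyperfocal_le F p (hmem β hβ' y)⟩,
            hmem β hβ' y⟩ from rfl, ← map_mul]
          refine congrArg V (Subtype.ext (Subtype.ext ?_))
          show (y : Ω)⁻¹ * ((((β : MulAut P) ^ (n + 1)) y : P) : Ω) =
            ((y : Ω)⁻¹ * (((β : MulAut P) y : P) : Ω)) * _
          rw [pow_succ (β : MulAut P)]
          simp [mul_assoc]
      intro y
      refine ⟨hmem β hβ' y, ?_⟩
      show D y = 1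
      have h1 : D y ^ orderOf β = 1 := by
        obtain ⟨hy', h2⟩ := hpow (orderOf β) y
        rw [← h2, ← map_one V]
        refine congrArg V (Subtype.ext (Subtype.ext ?_))
        show (y : Ω)⁻¹ * ((((β : MulAut P) ^ orderOf β) y : P) : Ω) = 1
        rw [← SubgroupClass.coe_pow, pow_orderOf_eq_one]
        simp
      obtain ⟨j, hj⟩ := hS ⟨y, hP y.2⟩
      have h2 : D y ^ p ^ j = 1 := by
        rw [← map_pow, show y ^ p ^ j = 1 from Subtype.ext (congrArg Subtype.val hj :), map_one]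
      have h3 := pow_gcd_eq_one.2 ⟨h1, h2⟩
      rwa [show (orderOf β).gcd (p ^ j) = 1 from Nat.Coprime.pow_right j hβ, pow_one] at h3
  obtain ⟨w, hw, hwt⟩ := hgen t.2
  rw [show t = w from Subtype.ext (Subtype.ext hwt.symm)]
  exact hw

/-- An `S`-invariant homomorphism on the hyperfocal subgroup extends to `S`, up to a power prime
to `p`. -/
theorem exists_hom_hyperfocal (hS : IsPGroup p S) (hF : F.IsSaturated p)
    {M : Type v} [CommGroup M] (ρ : (F.hyperfocalSubgroup p).subgroupOf S →* M)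
    (hinv : ∀ (g : S) (t t' : (F.hyperfocalSubgroup p).subgroupOf S),
      (t' : S) = g * t * g⁻¹ → ρ t' = ρ t) :
    ∃ k : ℕ, ¬ p ∣ k ∧ ∃ μ : S →* M,
      ∀ t : (F.hyperfocalSubgroup p).subgroupOf S, μ t = ρ t ^ k := by
  obtain ⟨k, hk, μ, hμ⟩ := exists_stable_correction hS hF le_rfl (le_normalizer_hyperfocal F p) ρ
    hinv
  refine ⟨k, hk, μ⁻¹, fun t => inv_eq_of_mul_eq_one_right ?_⟩
  exact eq_one_of_stable hS hF
    (μ.comp ((F.hyperfocalSubgroup p).subgroupOf S).subtype * ρ ^ k) hμ t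

/-- A subgroup normalized by `S` which, together with `Φ(S)` and `[S,S]`, contains the hyperfocal
subgroup contains the hyperfocal subgroup. -/
theorem hyperfocal_le_of_le (hS : IsPGroup p S) (hF : F.IsSaturated p) {N : Subgroup Ω}
    (hN : N ≤ F.hyperfocalSubgroup p) (hn : S ≤ Subgroup.normalizer (N : Set Ω))
    (h : F.hyperfocalSubgroup p ≤ (frattini S).map S.subtype ⊔ N ⊔ ⁅S, S⁆) :
    F.hyperfocalSubgroup p ≤ N := by
  classical
  set T' := (F.hyperfocalSubgroup p).subgroupOf S with hT'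
  have hTn : T'.Normal := ⟨fun t ht g =>
    (Subgroup.mem_normalizer_iff.1 (le_normalizer_hyperfocal F p g.2) t).1 ht⟩
  have hNn : (N.subgroupOf S).Normal := ⟨fun t ht g =>
    (Subgroup.mem_normalizer_iff.1 (hn g.2) t).1 ht⟩
  have hNS : N ≤ S := hN.trans (hyperfocal_le F p)
  by_contra hne
  have hlt : N.subgroupOf S < T' := by
    refine lt_of_le_of_ne (fun x hx => hN hx) fun he => hne fun z hz => ?_
    have hz' : (⟨z, hyperfocal_le F p hz⟩ : S) ∈ N.subgroupOf S := he ▸ hz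
    exact hz'
  obtain ⟨R, ⟨hRn, hNR, hRT⟩, hmax⟩ := Set.Finite.exists_maximal
    (Set.toFinite {R : Subgroup S | R.Normal ∧ N.subgroupOf S ≤ R ∧ R < T'})
    ⟨_, hNn, le_rfl, hlt⟩
  have hQ : IsPGroup p (S ⧸ R) := hS.to_quotient R
  have hK : (T'.map (QuotientGroup.mk' R)) ≠ ⊥ := by
    rw [Ne, Subgroup.map_eq_bot_iff, QuotientGroup.ker_mk']
    exact fun hle => hRT.not_ge hle
  have : (T'.map (QuotientGroup.mk' R)).Normal :=
    Subgroup.Normal.map hTn _ (QuotientGroup.mk'_surjective R)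
  obtain ⟨z', hzT, hzc', hz'⟩ := PGroup.exists_orderOf_eq_mem_center hQ _ hK
  have hzc : Subgroup.zpowers z' ≤ Subgroup.center (S ⧸ R) := Subgroup.zpowers_le.2 hzc'
  have hzn : (Subgroup.zpowers z').Normal := ⟨fun y hy g => by
    rw [(Subgroup.mem_center_iff.1 (hzc hy)) g]
    simpa using hy⟩
  set R' := (Subgroup.zpowers z').comap (QuotientGroup.mk' R) with hR'
  have hTR : T'.map (QuotientGroup.mk' R) ≤ Subgroup.zpowers z' := by
    by_contra hnle
    have hR'T : R' < T' := by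
      refine lt_of_le_of_ne ?_ fun he => hnle (he ▸ Subgroup.map_comap_le _ _)
      intro y hy
      obtain ⟨t, ht, hty⟩ := (Subgroup.zpowers_le.2 hzT) hy
      have h1 : t⁻¹ * y ∈ R := QuotientGroup.eq.1 hty
      simpa using T'.mul_mem ht (hRT.le h1)
    have hRR' : R ≤ R' := fun y hy => by
      show (y : S ⧸ R) ∈ Subgroup.zpowers z'
      rw [(QuotientGroup.eq_one_iff y).2 hy]
      exact one_mem _
    have h1 : R' ≤ R := hmax ⟨inferInstance, hNR.trans hRR', hR'T⟩ hRR'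
    obtain ⟨y, hy⟩ := QuotientGroup.mk'_surjective R z'
    have h2 : y ∈ R' := by
      rw [hR', Subgroup.mem_comap]
      rw [hy]
      exact Subgroup.mem_zpowers z'
    have h3 : z' = 1 := by
      rw [← hy]
      exact (QuotientGroup.eq_one_iff y).2 (h1 h2)
    rw [h3, orderOf_one] at hz'
    exact (Fact.out : p.Prime).one_lt.ne hz'
  let : CommGroup (Subgroup.zpowers z') :=
    { (inferInstance : Group (Subgroup.zpowers z')) with
      mul_comm := fun a b => Subtype.ext ((Subgroup.mem_center_iff.1 (hzc b.2)) a) }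
  let ρ : T' →* Subgroup.zpowers z' := ((QuotientGroup.mk' R).comp T'.subtype).codRestrict _
    fun t => hTR ⟨t, t.2, rfl⟩
  obtain ⟨k, hk, μ, hμ⟩ := exists_hom_hyperfocal hS hF ρ fun g t t' he => by
    refine Subtype.ext ?_
    show ((t' : S) : S ⧸ R) = ((t : S) : S ⧸ R)
    rw [he, QuotientGroup.mk_mul, QuotientGroup.mk_mul,
      Subgroup.mem_center_iff.1 (hzc (hTR ⟨t, t.2, rfl⟩ : ((t : S) : S ⧸ R) ∈ _)) (g : S ⧸ R),
      mul_assoc, QuotientGroup.mk_inv, mul_inv_cancel, mul_one]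
  have hcardM : Nat.card (Subgroup.zpowers z') = p := by rw [Nat.card_zpowers, hz']
  have hfr : frattini S ≤ μ.ker := by
    have hidx : μ.ker.index ∣ p := by
      rw [Subgroup.index_ker, ← hcardM]
      exact Subgroup.card_subgroup_dvd_card _
    rcases (Nat.dvd_prime Fact.out).1 hidx with h1 | h1
    · rw [Subgroup.index_eq_one.1 h1]
      exact le_top
    · exact frattini_le_coatom (PGroup.isCoatom_of_index_eq h1)
  have hcom : ⁅S, S⁆ ≤ μ.ker.map S.subtype := by
    rw [← Subgroup.map_subtype_commutator]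
    exact Subgroup.map_mono (Abelianization.commutator_subset_ker μ)
  have hNker : N ≤ μ.ker.map S.subtype := by
    intro y hy
    refine ⟨⟨y, hNS hy⟩, ?_, rfl⟩
    show μ _ = 1
    rw [show (⟨y, hNS hy⟩ : S) = ((⟨⟨y, hNS hy⟩, hN hy⟩ : T') : S) from rfl, hμ]
    have h1 : ρ ⟨⟨y, hNS hy⟩, hN hy⟩ = 1 :=
      Subtype.ext ((QuotientGroup.eq_one_iff _).2 (hNR hy))
    rw [h1, one_pow]
  refine hRT.not_ge fun t ht => ?_
  obtain ⟨s, hs, hst⟩ := (h.trans (sup_le (sup_le (Subgroup.map_mono hfr) hNker) hcom)) ht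
  have h1 : ρ ⟨t, ht⟩ ^ k = 1 := by
    rw [← hμ ⟨t, ht⟩, show ((⟨t, ht⟩ : T') : S) = s from Subtype.ext hst.symm]
    exact hs
  have h2 : ρ ⟨t, ht⟩ ^ p = 1 := by
    conv_lhs => rw [← hcardM]
    exact pow_card_eq_one'
  have h3 := pow_gcd_eq_one.2 ⟨h1, h2⟩
  rw [show k.gcd p = 1 from ((Fact.out : p.Prime).coprime_iff_not_dvd.2 hk).symm, pow_one] at h3
  exact (QuotientGroup.eq_one_iff _).1 (congrArg Subtype.val h3)

/-- With trivial hyperfocal subgroup all maps are conjugations by elements of `S`. -/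
theorem hom_eq_inner_of_hyperfocal_eq_bot (hS : IsPGroup p S) (hF : F.IsSaturated p)
    (h : F.hyperfocalSubgroup p = ⊥) (P : Subgroup Ω) :
    F.Hom P = (innerFusionSystem S).Hom P := by
  refine hom_eq_inner_of_isPGroup hS hF (fun Q hQ => ?_) P
  have := finite_autGroup (F := F) hQ
  refine isPGroup_of_coprime_orderOf_eq_one fun α hα => Subtype.ext (MulEquiv.ext fun x => ?_)
  have hm := inv_mul_apply_mem_hyperfocal (F := F) (p := p) hQ (Subgroup.subset_closure hα) x
  rw [h, Subgroup.mem_bot, inv_mul_eq_one] at hm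
  exact Subtype.ext hm.symm

/-- A system whose focal subgroup lies in the Frattini subgroup of `S` is the inner system. -/
theorem hom_eq_inner_of_focal_le_frattini (hS : IsPGroup p S) (hF : F.IsSaturated p)
    (h : F.focalSubgroup ≤ (frattini S).map S.subtype) (P : Subgroup Ω) :
    F.Hom P = (innerFusionSystem S).Hom P := by
  refine hom_eq_inner_of_hyperfocal_eq_bot hS hF (le_bot_iff.1
    (hyperfocal_le_of_le hS hF bot_le ?_ ?_)) P
  · intro g _
    exact Subgroup.mem_normalizer_iff.2 fun y => by simp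
  · exact ((hyperfocal_le_focal F p).trans h).trans (le_sup_left.trans le_sup_left)

end Cfsg.Agent.Fusion
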