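import Cfsg.Agent.Lib.Fusion.TransferHom
import Cfsg.Agent.Lib.Fusion.Tate
import Cfsg.Agent.Lib.Fusion.GroupHyperfocal
import Cfsg.Agent.Lib.Fusion.Alperin
import Cfsg.Agent.Lib.Fusion.NormalSubsystem
import Cfsg.Agent.Lib.SylowCount.Basic

/-!
Saturated subsystems of `p`-power index. For a stable homomorphism onto a group of order `p` with
kernel `M`, the maps realized by permutations of a characteristic biset of transfer value `1` form
a saturated system over `M`; induction gives the subsystem over any subgroup containing the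
hyperfocal subgroup, and Alperin's theorem gives uniqueness.
-/

set_option autoImplicit false
set_option linter.unusedSectionVars false

universe u v

namespace Cfsg.Agent.Fusion

open Cfsg Cfsg.FusionSystem MulAction

namespace PPowerIndex

open Biset TransferHom

variable {Ω : Type u} [Group Ω] {S : Subgroup Ω} {F : FusionSystem S}
variable (X : FSet F)

theorem perm_apply_inv {α : Type*} (e : Equiv.Perm α) (x : α) : e (e⁻¹ x) = x :=
  e.apply_symm_apply x

theorem perm_inv_apply {α : Type*} (e : Equiv.Perm α) (x : α) : e⁻¹ (e x) = x :=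
  e.symm_apply_apply x

/-- The permutations commuting with the right coordinate. -/
def eqv : Subgroup (Equiv.Perm X.carrier) where
  carrier := {e | ∀ (b : S) (y : X.carrier), e (((1 : S), b) • y) = ((1 : S), b) • e y}
  one_mem' := fun b y => rfl
  mul_mem' := fun {e f} he hf b y => by
    show e (f _) = _
    rw [hf, he]
    rfl
  inv_mem' := fun {e} he b y => by
    apply e.injective
    rw [he, perm_apply_inv, perm_apply_inv]

theorem left_right (s b : S) (y : X.carrier) :
    ((1 : S), b) • (s, (1 : S)) • y = (s, (1 : S)) • ((1 : S), b) • y := by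
  rw [← mul_smul, ← mul_smul]
  simp

/-- Multiplication on the left. -/
def leftMul : S →* eqv X where
  toFun s := ⟨MulAction.toPerm (s, (1 : S)), fun b y => (left_right X s b y).symm⟩
  map_one' := Subtype.ext (Equiv.ext fun y => one_smul (↥S × ↥S) y)
  map_mul' s t := Subtype.ext (Equiv.ext fun y => by
    show (s * t, (1 : S)) • y = (s, (1 : S)) • (t, (1 : S)) • y
    rw [← mul_smul]
    simp)

theorem leftMul_apply (s : S) (y : X.carrier) :
    (leftMul X s : Equiv.Perm X.carrier) y = (s, (1 : S)) • y := rfl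

/-- The induced permutation of the orbits of the right coordinate. -/
def orbitPerm : eqv X →* Equiv.Perm (Orbits X) where
  toFun e := Quotient.congr (ra := rightRel X) (rb := rightRel X) (e : Equiv.Perm X.carrier)
    fun z w => by
      constructor
      · rintro ⟨b, hb⟩
        exact ⟨b, by rw [← e.2, hb]⟩
      · rintro ⟨b, hb⟩
        exact ⟨b, (e : Equiv.Perm X.carrier).injective (by rw [e.2, hb])⟩
  map_one' := Equiv.ext fun q => Quotient.inductionOn q fun x => rfl
  map_mul' e f := Equiv.ext fun q => Quotient.inductionOn q fun x => rfl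

variable {A : Type v} [CommGroup A] (θ : S →* A)

/-- An equivariant function to `A`. -/
def IsSec (c : X.carrier → A) : Prop :=
  ∀ (b : S) (y : X.carrier), c (((1 : S), b) • y) = θ b * c y

theorem isSec_of_section {σ : X.carrier → S} (hσ : IsSection X σ) :
    IsSec X θ fun y => θ (σ y) := fun b y => by
  show θ (σ _) = _
  rw [hσ, map_mul]

/-- The value at an orbit. -/
def val {c : X.carrier → A} (hc : IsSec X θ c) (e : eqv X) : Orbits X → A :=
  Quotient.lift (fun y => c y / c ((e : Equiv.Perm X.carrier) y)) fun x y ⟨b, hb⟩ => by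
    subst hb
    rw [e.2, hc, hc, mul_div_mul_left_eq_div]

variable [Fintype (Orbits X)]

/-- The transfer value of an equivariant permutation. -/
def deg {c : X.carrier → A} (hc : IsSec X θ c) : eqv X →* A :=
  MonoidHom.mk' (fun e => ∏ q, val X θ hc e q) fun e f => by
    have h : ∀ q, val X θ hc (e * f) q = val X θ hc f q * val X θ hc e (orbitPerm X f q) := by
      intro q
      induction q using Quotient.inductionOn with
      | h y =>
        show c y / c ((e : Equiv.Perm X.carrier) ((f : Equiv.Perm X.carrier) y)) =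
          c y / c ((f : Equiv.Perm X.carrier) y) *
            (c ((f : Equiv.Perm X.carrier) y) / c ((e : Equiv.Perm X.carrier) ((f : Equiv.Perm X.carrier) y)))
        rw [div_mul_div_cancel]
    simp only [h, Finset.prod_mul_distrib]
    rw [Equiv.prod_comp (orbitPerm X f) (val X θ hc e), mul_comm]

theorem deg_eq {c d : X.carrier → A} (hc : IsSec X θ c) (hd : IsSec X θ d) (e : eqv X) :
    deg X θ hc e = deg X θ hd e := by
  let u : Orbits X → A := Quotient.lift (fun y => c y / d y) fun x y ⟨b, hb⟩ => by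
    subst hb
    rw [hc, hd, mul_div_mul_left_eq_div]
  have key : ∀ q, val X θ hc e q = val X θ hd e q * (u q / u (orbitPerm X e q)) := by
    intro q
    induction q using Quotient.inductionOn with
    | h y =>
      show c y / c ((e : Equiv.Perm X.carrier) y) = d y / d ((e : Equiv.Perm X.carrier) y) *
        ((c y / d y) / (c ((e : Equiv.Perm X.carrier) y) / d ((e : Equiv.Perm X.carrier) y)))
      rw [div_div_div_comm, mul_div_cancel]
  show ∏ q, val X θ hc e q = ∏ q, val X θ hd e q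
  rw [Finset.prod_congr rfl fun q _ => key q, Finset.prod_mul_distrib, Finset.prod_div_distrib,
    Equiv.prod_comp (orbitPerm X e) u, div_self', mul_one]

omit [Fintype (Orbits X)] in
/-- An equivariant function invariant under `G` on a `G`-stable set. -/
theorem exists_sec (G : Subgroup (eqv X)) (Y : Set X.carrier)
    (hY : ∀ g ∈ G, ∀ y, (g : Equiv.Perm X.carrier) y ∈ Y ↔ y ∈ Y)
    (hY' : ∀ (b : S) (y : X.carrier), ((1 : S), b) • y ∈ Y ↔ y ∈ Y)
    (hG : ∀ g ∈ G, ∀ y ∈ Y, ∀ b : S, (g : Equiv.Perm X.carrier) y = ((1 : S), b) • y → θ b = 1) :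
    ∃ c : X.carrier → A, IsSec X θ c ∧
      ∀ g ∈ G, ∀ y ∈ Y, c ((g : Equiv.Perm X.carrier) y) = c y := by
  classical
  let r : Setoid X.carrier :=
    { r := fun x y => ∃ g ∈ G, ∃ b : S, ((1 : S), b) • (g : Equiv.Perm X.carrier) x = y
      iseqv :=
        { refl := fun x => ⟨1, G.one_mem, 1, one_smul (↥S × ↥S) x⟩
          symm := by
            rintro x y ⟨g, hg, b, rfl⟩
            refine ⟨g⁻¹, G.inv_mem hg, b⁻¹, ?_⟩
            rw [Subgroup.coe_inv, ← Subgroup.coe_inv, (g⁻¹).2, Subgroup.coe_inv,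
              perm_inv_apply, ← mul_smul]
            convert one_smul (↥S × ↥S) x using 2
            simp
          trans := by
            rintro x y z ⟨g, hg, b, rfl⟩ ⟨g', hg', b', rfl⟩
            refine ⟨g' * g, G.mul_mem hg' hg, b' * b, ?_⟩
            rw [g'.2, ← mul_smul]
            simp } }
  have hex : ∀ y, ∃ g ∈ G, ∃ b : S, ((1 : S), b) • (g : Equiv.Perm X.carrier) (Quotient.mk r y).out = y :=
    fun y => Quotient.exact (Quotient.out_eq (Quotient.mk r y))
  choose gy hgy by' hby using hex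
  obtain ⟨σ, hσ⟩ := TransferHom.exists_section X
  let c : X.carrier → A := fun y => if y ∈ Y then θ (by' y) else θ (σ y)
  -- well-definedness
  have hwd : ∀ y ∈ Y, ∀ g ∈ G, ∀ b : S,
      ((1 : S), b) • (g : Equiv.Perm X.carrier) (Quotient.mk r y).out = y → θ (by' y) = θ b := by
    intro y hy g hg b hb
    set x := (Quotient.mk r y).out
    have hx : x ∈ Y := by
      rw [← hY g hg, ← hY' b, hb]
      exact hy
    have h := (hby y).trans hb.symm
    have h2 : ((g⁻¹ * gy y : eqv X) : Equiv.Perm X.carrier) x =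
        ((1 : S), (by' y)⁻¹ * b) • x := by
      apply (g : Equiv.Perm X.carrier).injective
      rw [g.2, Subgroup.coe_mul, Subgroup.coe_inv, Equiv.Perm.mul_apply, perm_apply_inv]
      have h3 := congrArg (((1 : S), (by' y)⁻¹) • ·) h
      rw [← mul_smul, ← mul_smul] at h3
      convert h3 using 2
      · rw [show (((1 : S), (by' y)⁻¹) * ((1 : S), by' y)) = ((1 : S), (1 : S)) by simp]
        exact (one_smul (↥S × ↥S) _).symm
      · simp
    have h4 := hG _ (G.mul_mem (G.inv_mem hg) (hgy y)) x hx _ h2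
    rwa [map_mul, map_inv, inv_mul_eq_one] at h4
  refine ⟨c, fun b y => ?_, fun g hg y hy => ?_⟩
  · by_cases hy : y ∈ Y
    · simp only [c, if_pos hy, if_pos ((hY' b y).2 hy)]
      have hsame : Quotient.mk r (((1 : S), b) • y) = Quotient.mk r y :=
        Quotient.sound (r.iseqv.symm ⟨1, G.one_mem, b, rfl⟩)
      rw [← map_mul, hwd _ ((hY' b y).2 hy) (gy y) (hgy y) (b * by' y)]
      rw [hsame]
      have h := congrArg (((1 : S), b) • ·) (hby y)
      rw [← h, ← mul_smul]
      simp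
    · simp only [c, if_neg hy, if_neg (fun h => hy ((hY' b y).1 h))]
      rw [hσ, map_mul]
  · have hgy' : (g : Equiv.Perm X.carrier) y ∈ Y := (hY g hg y).2 hy
    simp only [c, if_pos hy, if_pos hgy']
    have hsame : Quotient.mk r ((g : Equiv.Perm X.carrier) y) = Quotient.mk r y :=
      Quotient.sound (r.iseqv.symm ⟨g, hg, 1, one_smul (↥S × ↥S) _⟩)
    refine hwd _ hgy' (g * gy y) (G.mul_mem hg (hgy y)) (by' y) ?_
    rw [hsame, Subgroup.coe_mul, Equiv.Perm.mul_apply, ← g.2, hby y]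

omit [Fintype (Orbits X)] in
/-- A product of a function invariant under a `p`-group that is trivial on fixed points. -/
theorem prod_eq_one_of_invariant {p : ℕ} [Fact p.Prime] {H Z : Type*} [Group H] [MulAction H Z]
    [Fintype Z] [Finite H] (hH : IsPGroup p H) (hA : ∀ a : A, a ^ p = 1) (f : Z → A)
    (hinv : ∀ (h : H) z, f (h • z) = f z) (hfix : ∀ z, (∀ h : H, h • z = z) → f z = 1) :
    ∏ z, f z = 1 := by
  classical
  let : Fintype (MulAction.orbitRel.Quotient H Z) := Fintype.ofFinite _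
  rw [← Finset.prod_fiberwise (g := fun z => (Quotient.mk (MulAction.orbitRel H Z) z :
    MulAction.orbitRel.Quotient H Z)) (f := f)]
  refine Finset.prod_eq_one fun q _ => ?_
  induction q using Quotient.inductionOn with
  | h z =>
    have hconst : ∀ w ∈ Finset.univ.filter
        (fun w => (Quotient.mk (MulAction.orbitRel H Z) w : MulAction.orbitRel.Quotient H Z) =
          Quotient.mk _ z), f w = f z := by
      intro w hw
      obtain ⟨h, rfl⟩ : w ∈ MulAction.orbit H z :=
        MulAction.orbitRel_apply.1 (Quotient.exact (Finset.mem_filter.1 hw).2)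
      exact hinv h z
    rw [Finset.prod_congr rfl hconst, Finset.prod_const]
    by_cases hz : ∀ h : H, h • z = z
    · rw [hfix z hz, one_pow]
    · obtain ⟨k, hk⟩ := hH.card_orbit z
      have hcard : (Finset.univ.filter
          (fun w => (Quotient.mk (MulAction.orbitRel H Z) w : MulAction.orbitRel.Quotient H Z) =
            Quotient.mk _ z)).card = Nat.card (MulAction.orbit H z) := by
        rw [← Fintype.card_subtype, ← Nat.card_eq_fintype_card]
        refine Nat.card_congr (Equiv.subtypeEquivRight fun w => ?_)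
        rw [Quotient.eq]
        exact MulAction.orbitRel_apply
      rw [hcard, hk]
      rcases k with - | k
      · rw [pow_zero] at hk
        refine absurd (fun h => ?_) hz
        have hsub := (Nat.card_eq_one_iff_unique.1 hk).1
        exact congrArg Subtype.val (hsub.elim ⟨h • z, MulAction.mem_orbit _ h⟩
          ⟨z, MulAction.mem_orbit_self z⟩)
      · rw [pow_succ', pow_mul, hA, one_pow]

variable [Finite S] {p : ℕ} [Fact p.Prime] {M : Subgroup Ω}

omit [Finite S] in
/-- Transfer value `1` on permutations commuting with a subgroup whose conjugates have their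
centralizers in the kernel. -/
theorem deg_eq_one_of_commute (hS : IsPGroup p S) (hA : ∀ a : A, a ^ p = 1)
    (hM : ∀ s : S, θ s = 1 ↔ (s : Ω) ∈ M)
    (hst : ∀ (P : Subgroup Ω) (φ : P →* Ω) (hφ : φ ∈ F.Hom P) (x : P),
      θ ⟨φ x, apply_mem hφ x⟩ = θ ⟨x, dom_le hφ x.2⟩)
    [Finite S] {Q : Subgroup Ω} (hQS : Q ≤ S) (hQM : Q ≤ M)
    (hQC : ∀ ψ ∈ F.Hom Q, ∀ v ∈ centralizerIn S ψ.range, v ∈ M)
    {c₀ : X.carrier → A} (hc₀ : IsSec X θ c₀) {z : eqv X}
    (hz : ∀ s : S, (s : Ω) ∈ Q → ∀ y : X.carrier,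
      (z : Equiv.Perm X.carrier) ((s, (1 : S)) • y) = (s, (1 : S)) • (z : Equiv.Perm X.carrier) y) :
    deg X θ hc₀ z = 1 := by
  classical
  -- maps of `Q` have trivial `θ` on the right coordinate
  have hright : ∀ (y : X.carrier) (s b : S), (s : Ω) ∈ Q →
      (s, (1 : S)) • y = ((1 : S), b) • y → θ b = 1 := by
    intro y s b hs hsb
    obtain ⟨P, φ, hφ, he⟩ := X.stab y
    have hfix : (s, b⁻¹) • y = y := by
      have h := congrArg (((1 : S), b⁻¹) • ·) hsb
      rw [← mul_smul, ← mul_smul] at h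
      simpa [show ((1 : S), b⁻¹) * ((1 : S), b) = ((1 : S), (1 : S)) by simp,
        show (((1 : S), (1 : S)) : ↥S × ↥S) = 1 from rfl] using h
    obtain ⟨h1, h2⟩ : (s, b⁻¹) ∈ graph S P φ := he ▸ mem_stabilizer_iff.2 hfix
    have h3 := hst P φ hφ ⟨(s : Ω), h1⟩
    rw [show (⟨φ ⟨(s : Ω), h1⟩, apply_mem hφ _⟩ : S) = b⁻¹ from Subtype.ext h2, map_inv,
      show θ ⟨(s : Ω), dom_le hφ h1⟩ = 1 from (hM s).2 (hQM hs), inv_eq_one] at h3
    exact h3
  set GQ : Subgroup (eqv X) := (Q.subgroupOf S).map (leftMul X) with hGQ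
  obtain ⟨c1, hc1, hc1inv⟩ := exists_sec X θ GQ Set.univ (fun _ _ _ => Iff.rfl)
    (fun _ _ => Iff.rfl) (by
      rintro _ ⟨s, hs, rfl⟩ y - b hb
      exact hright y s b hs hb)
  -- the orbits fixed by `Q`
  set X0 : Set X.carrier := {y | ∀ s : S, (s : Ω) ∈ Q → ∃ b : S, ((1 : S), b) • y = (s, (1 : S)) • y}
    with hX0
  have hX0' : ∀ (b : S) (y : X.carrier), ((1 : S), b) • y ∈ X0 ↔ y ∈ X0 := by
    have h1 : ∀ (b : S) (y : X.carrier), y ∈ X0 → ((1 : S), b) • y ∈ X0 := by
      intro b y hy s hs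
      obtain ⟨b', hb'⟩ := hy s hs
      refine ⟨b * b' * b⁻¹, ?_⟩
      rw [← left_right, ← hb', ← mul_smul, ← mul_smul]
      simp
    refine fun b y => ⟨fun h => ?_, h1 b y⟩
    have := h1 b⁻¹ _ h
    rwa [← mul_smul, show ((1 : S), b⁻¹) * ((1 : S), b) = (1 : ↥S × ↥S) from by
      ext <;> simp, one_smul] at this
  have hX0z : ∀ g ∈ Subgroup.zpowers z, ∀ y, (g : Equiv.Perm X.carrier) y ∈ X0 ↔ y ∈ X0 := by
    intro g hg
    let N : Subgroup (eqv X) :=
      { carrier := {g | (∀ s : S, (s : Ω) ∈ Q → ∀ y, (g : Equiv.Perm X.carrier) ((s, (1 : S)) • y) =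
          (s, (1 : S)) • (g : Equiv.Perm X.carrier) y)}
        one_mem' := fun s _ y => rfl
        mul_mem' := fun {a b} ha hb s hs y => by
          rw [Subgroup.coe_mul, Equiv.Perm.mul_apply, hb s hs, ha s hs]
          rfl
        inv_mem' := fun {a} ha s hs y => by
          apply (a : Equiv.Perm X.carrier).injective
          rw [Subgroup.coe_inv, ha s hs, perm_apply_inv, perm_apply_inv] }
    have hgN : g ∈ N := Subgroup.zpowers_le.2 (show z ∈ N from hz) hg
    refine fun y => ⟨fun h s hs => ?_, fun h s hs => ?_⟩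
    · obtain ⟨b, hb⟩ := h s hs
      exact ⟨b, (g : Equiv.Perm X.carrier).injective (by rw [g.2, hgN s hs, hb])⟩
    · obtain ⟨b, hb⟩ := h s hs
      exact ⟨b, by rw [← g.2, ← hgN s hs, hb]⟩
  obtain ⟨c2, hc2, hc2inv⟩ := exists_sec X θ (Subgroup.zpowers z) X0 hX0z hX0' (by
    intro g hg y hy v hv
    -- `v` centralizes the image of `Q` on the right
    obtain ⟨P, φ, hφ, he⟩ := X.stab y
    have hQP : Q ≤ P := by
      intro x hx
      obtain ⟨b, hb⟩ := hy ⟨x, hQS hx⟩ hx
      have hfix : ((⟨x, hQS hx⟩ : S), b⁻¹) • y = y := by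
        have h := congrArg (((1 : S), b⁻¹) • ·) hb.symm
        rw [← mul_smul, ← mul_smul] at h
        simpa [show ((1 : S), b⁻¹) * ((1 : S), b) = ((1 : S), (1 : S)) by simp,
          show (((1 : S), (1 : S)) : ↥S × ↥S) = 1 from rfl] using h
      exact ((he ▸ mem_stabilizer_iff.2 hfix : ((⟨x, hQS hx⟩ : S), b⁻¹) ∈ graph S P φ)).1
    refine (hM v).2 (hQC _ (restrict_mem hφ hQP) v (mem_centralizerIn.2 ⟨v.2, ?_⟩))
    rintro _ ⟨x, rfl⟩
    set s : S := ⟨x, hQS x.2⟩
    set t : S := ⟨φ (Subgroup.inclusion hQP x), apply_mem hφ _⟩ with ht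
    have hfix : (s, t) • y = y := mem_stabilizer_iff.1 (he.symm ▸
      (⟨hQP x.2, rfl⟩ : (s, t) ∈ graph S P φ))
    have hzc : ∀ w, (g : Equiv.Perm X.carrier) ((s, t) • w) =
        (s, t) • (g : Equiv.Perm X.carrier) w := by
      intro w
      have hcomm : (g : Equiv.Perm X.carrier) ((s, (1 : S)) • w) =
          (s, (1 : S)) • (g : Equiv.Perm X.carrier) w := by
        obtain ⟨i, rfl⟩ := Subgroup.mem_zpowers_iff.1 hg
        have hcom : Commute z (leftMul X s) := Subtype.ext (Equiv.ext fun w => hz s x.2 w)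
        exact congrArg (fun e : eqv X => (e : Equiv.Perm X.carrier) w) (hcom.zpow_left i).eq
      rw [show ((s, t) : ↥S × ↥S) = ((1 : S), t) * (s, (1 : S)) by simp, mul_smul, mul_smul, g.2,
        hcomm]
    have h1 := hzc y
    rw [hfix, hv] at h1
    have hc : (s, t) * ((1 : S), v) = ((1 : S), t * v * t⁻¹) * (s, t) := by
      ext <;> simp [mul_assoc]
    rw [← mul_smul, hc, mul_smul, hfix] at h1
    have h2 : ((1 : S), v⁻¹ * (t * v * t⁻¹)) • y = y := by
      rw [show ((1 : S), v⁻¹ * (t * v * t⁻¹)) = ((1 : S), v⁻¹) * ((1 : S), t * v * t⁻¹) by simp,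
        mul_smul, ← h1, ← mul_smul,
        show ((1 : S), v⁻¹) * ((1 : S), v) = (1 : ↥S × ↥S) from by ext <;> simp, one_smul]
    have h3 := TransferHom.free X h2
    rw [inv_mul_eq_one, eq_mul_inv_iff_mul_eq] at h3
    exact congrArg Subtype.val h3.symm)
  -- combine
  let c : X.carrier → A := fun y => if y ∈ X0 then c2 y else c1 y
  have hc : IsSec X θ c := fun b y => by
    by_cases hy : y ∈ X0
    · simp only [c, if_pos hy, if_pos ((hX0' b y).2 hy)]
      exact hc2 b y
    · simp only [c, if_neg hy, if_neg (fun h => hy ((hX0' b y).1 h))]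
      exact hc1 b y
  have hcQ : ∀ (s : S), (s : Ω) ∈ Q → ∀ y, c ((s, (1 : S)) • y) = c y := by
    intro s hs y
    by_cases hy : y ∈ X0
    · obtain ⟨b, hb⟩ := hy s hs
      rw [← hb, hc, hright y s b hs hb.symm, one_mul]
    · have hy' : (s, (1 : S)) • y ∉ X0 := fun h => hy fun s' hs' => by
        obtain ⟨b, hb⟩ := h (s * s' * s⁻¹) (Q.mul_mem (Q.mul_mem hs hs') (Q.inv_mem hs))
        refine ⟨b, MulAction.injective ((s, (1 : S)) : ↥S × ↥S) ?_⟩
        show (s, (1 : S)) • ((1 : S), b) • y = (s, (1 : S)) • (s', (1 : S)) • y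
        rw [← left_right, hb, ← mul_smul, ← mul_smul]
        simp
      simp only [c, if_neg hy, if_neg hy']
      exact hc1inv (leftMul X s) ⟨s, hs, rfl⟩ y trivial
  rw [deg_eq X θ hc₀ hc]
  letI : MulAction (Q.subgroupOf S) (Orbits X) :=
    MulAction.compHom _ ((TransferHom.perm X).comp (Q.subgroupOf S).subtype)
  refine prod_eq_one_of_invariant (hS.to_subgroup (Q.subgroupOf S)) hA (val X θ hc z) ?_ ?_
  · rintro ⟨s, hs⟩ q
    induction q using Quotient.inductionOn with
    | h y =>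
      show c ((s, (1 : S)) • y) / c ((z : Equiv.Perm X.carrier) ((s, (1 : S)) • y)) =
        c y / c ((z : Equiv.Perm X.carrier) y)
      rw [hz s hs, hcQ s hs, hcQ s hs]
  · intro q hq
    induction q using Quotient.inductionOn with
    | h y =>
      have hy : y ∈ X0 := fun s hs => by
        obtain ⟨b, hb⟩ := Quotient.exact (hq ⟨s, hs⟩).symm
        exact ⟨b, hb⟩
      have hzy := (hX0z z (Subgroup.mem_zpowers z) y).2 hy
      show c y / c ((z : Equiv.Perm X.carrier) y) = 1
      rw [div_eq_one]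
      simp only [c, if_pos hy, if_pos hzy]
      exact (hc2inv z (Subgroup.mem_zpowers z) y hy).symm

/-- The permutation `e` realizes `φ`. -/
def Realizes (P : Subgroup Ω) (φ : P →* Ω) (e : eqv X) : Prop :=
  ∀ (s t : S) (hs : (s : Ω) ∈ P), φ ⟨s, hs⟩ = (t : Ω) → ∀ y : X.carrier,
    (e : Equiv.Perm X.carrier) ((s, (1 : S)) • y) = (t, (1 : S)) • (e : Equiv.Perm X.carrier) y

omit [Fintype (Orbits X)] [Finite S] in
theorem realizes_leftMul {P : Subgroup Ω} (g : S) :
    Realizes X P (conjHom P g) (leftMul X g) := by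
  intro s t hs h y
  have ht : t = g * s * g⁻¹ := Subtype.ext h.symm
  rw [leftMul_apply, leftMul_apply, ht, ← mul_smul, ← mul_smul]
  simp [mul_assoc]

omit [Fintype (Orbits X)] [Finite S] in
theorem Realizes.comp {P Q : Subgroup Ω} {φ : P →* Ω} {ψ : Q →* Ω} (hφ : φ ∈ F.Hom P) {e f : eqv X}
    (he : Realizes X P φ e) (hf : Realizes X Q ψ f) (h : ∀ x : P, φ x ∈ Q) :
    Realizes X P (ψ.comp (φ.codRestrict Q h)) (f * e) := by
  intro s t hs hst y
  show (f : Equiv.Perm X.carrier) ((e : Equiv.Perm X.carrier) _) = _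
  rw [he s ⟨φ ⟨s, hs⟩, apply_mem hφ _⟩ hs rfl y]
  exact hf _ t (h ⟨s, hs⟩) hst _

omit [Fintype (Orbits X)] [Finite S] in
theorem Realizes.restrict {P R : Subgroup Ω} {φ : P →* Ω} {e : eqv X} (he : Realizes X P φ e)
    (hR : R ≤ P) : Realizes X R (φ.comp (Subgroup.inclusion hR)) e :=
  fun s t hs h y => he s t (hR hs) h y

omit [Fintype (Orbits X)] [Finite S] in
theorem Realizes.inv {P : Subgroup Ω} {φ : P →* Ω} (hP : P ≤ S) {e : eqv X}
    (he : Realizes X P φ e) {ψ : φ.range →* Ω} (hψ : ∀ x : P, ψ ⟨φ x, ⟨x, rfl⟩⟩ = (x : Ω)) :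
    Realizes X φ.range ψ e⁻¹ := by
  rintro s t ⟨x, hx⟩ hst y
  have hxt : (x : Ω) = (t : Ω) := by
    rw [← hψ x, ← hst]
    exact congrArg ψ (Subtype.ext hx)
  apply (e : Equiv.Perm X.carrier).injective
  have h := he ⟨x, hP x.2⟩ s x.2 hx (((e⁻¹ : eqv X) : Equiv.Perm X.carrier) y)
  rw [show (⟨(x : Ω), hP x.2⟩ : S) = t from Subtype.ext hxt] at h
  rw [h, Subgroup.coe_inv, perm_apply_inv, perm_apply_inv]

/-- Data for a stable homomorphism onto a group of order `p`. -/
structure Setup (p : ℕ) (M : Subgroup Ω) where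
  stableSet : X.Stable 0
  le : M ≤ S
  mem : ∀ s : S, θ s = 1 ↔ (s : Ω) ∈ M
  stable : ∀ (P : Subgroup Ω) (φ : P →* Ω) (hφ : φ ∈ F.Hom P) (x : P),
    θ ⟨φ x, apply_mem hφ x⟩ = θ ⟨x, dom_le hφ x.2⟩
  surj : Function.Surjective θ
  card : Nat.card A = p
  card_orbits : ¬ p ∣ Nat.card (Orbits X)
  c₀ : X.carrier → A
  isSec : IsSec X θ c₀

variable {X θ}

omit [Fintype (Orbits X)] [Finite S] [Fact p.Prime] in
theorem Setup.pow_p (D : Setup X θ p M) (a : A) : a ^ p = 1 := D.card ▸ pow_card_eq_one'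

omit [Fintype (Orbits X)] [Finite S] in
theorem Setup.pow_orbits (D : Setup X θ p M) {a : A} (h : a ^ Nat.card (Orbits X) = 1) : a = 1 :=
  orderOf_eq_one_iff.1 (Nat.eq_one_of_dvd_coprimes
    ((Fact.out : p.Prime).coprime_iff_not_dvd.2 D.card_orbits) (orderOf_dvd_of_pow_eq_one (D.pow_p a))
    (orderOf_dvd_of_pow_eq_one h))

/-- The transfer value attached to the data. -/
def Setup.D (D : Setup X θ p M) : eqv X →* A := deg X θ D.isSec

omit [Finite S] in
theorem Setup.D_leftMul (D : Setup X θ p M) (s : S) :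
    D.D (leftMul X s) = θ s ^ Nat.card (Orbits X) := by
  obtain ⟨σ, hσ⟩ := TransferHom.exists_section X
  rw [Setup.D, deg_eq X θ D.isSec (isSec_of_section X θ hσ), Nat.card_eq_fintype_card]
  show ∏ q, val X θ (isSec_of_section X θ hσ) (leftMul X s) q = _
  rw [show val X θ (isSec_of_section X θ hσ) (leftMul X s) = disc X θ hσ s from
    funext fun q => Quotient.inductionOn q fun y => rfl]
  refine (Marks.prod_eq_prod_of_cycles (TransferHom.perm X s) _ (fun _ => θ s) fun q => ?_).trans ?_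
  · rw [prod_disc_range, Finset.prod_const, Finset.card_range]
    set r := Function.minimalPeriod (TransferHom.perm X s) q
    obtain ⟨P, φ, hφ, hloc⟩ := exists_local X θ hσ q
    obtain ⟨hiff, hdisc⟩ := hloc (s ^ r)
    have hP : ((s ^ r : S) : Ω) ∈ P := hiff.1 (by
      rw [map_pow, Equiv.Perm.coe_pow]
      exact Function.iterate_minimalPeriod)
    rw [hdisc hP, D.stable P φ hφ ⟨_, hP⟩, ← map_pow]
  · rw [Finset.prod_const, Finset.card_univ]

theorem Setup.exists_realizes (D : Setup X θ p M) {P : Subgroup Ω} {φ : P →* Ω}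
    (hφ : φ ∈ F.Hom P) : ∃ e : eqv X, Realizes X P φ e := by
  obtain ⟨e, he⟩ := exists_twist_equiv D.stableSet hφ
  refine ⟨⟨e, fun b z => ?_⟩, fun s t hs h y => ?_⟩
  · have h := he ((1 : P), b) z
    rw [show incl S (dom_le hφ) ((1 : P), b) = ((1 : S), b) from
      Prod.ext (Subtype.ext rfl) rfl,
      show twist hφ ((1 : P), b) = ((1 : S), b) from Prod.ext (Subtype.ext (map_one φ)) rfl] at h
    exact h
  · have h' := he (⟨(s : Ω), hs⟩, (1 : S)) y
    rw [show incl S (dom_le hφ) (⟨(s : Ω), hs⟩, (1 : S)) = (s, (1 : S)) from rfl,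
      show twist hφ (⟨(s : Ω), hs⟩, (1 : S)) = (t, (1 : S)) from
        Prod.ext (Subtype.ext h) rfl] at h'
    exact h'

omit [Fintype (Orbits X)] [Finite S] [Fact p.Prime] in
theorem Setup.apply_mem_M (D : Setup X θ p M) {P : Subgroup Ω} {φ : P →* Ω} (hφ : φ ∈ F.Hom P)
    (hP : P ≤ M) (x : P) : φ x ∈ M := by
  have h := D.stable P φ hφ x
  rw [(D.mem ⟨x, dom_le hφ x.2⟩).2 (hP x.2)] at h
  exact (D.mem ⟨_, apply_mem hφ x⟩).1 h

/-- The subsystem of index `p`. -/
def Setup.system (D : Setup X θ p M) : FusionSystem M where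
  Hom P := {φ | φ ∈ F.Hom P ∧ P ≤ M ∧ ∃ e : eqv X, D.D e = 1 ∧ Realizes X P φ e}
  le_of_mem h := ⟨h.2.1, D.apply_mem_M h.1 h.2.1⟩
  injective_of_mem h := F.injective_of_mem h.1
  conj_mem := fun {P g} hP hg => ⟨F.conj_mem (hP.trans D.le) (D.le hg), hP,
    leftMul X ⟨g, D.le hg⟩, by rw [D.D_leftMul, (D.mem ⟨g, D.le hg⟩).2 hg, one_pow],
    realizes_leftMul X ⟨g, D.le hg⟩⟩
  comp_mem := fun {P Q φ ψ} ⟨hφ, hP, e, he, he'⟩ ⟨hψ, _, f, hf, hf'⟩ h =>
    ⟨F.comp_mem hφ hψ h, hP, f * e, by rw [map_mul, he, hf, one_mul], he'.comp X hφ hf' h⟩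
  inv_mem := fun {P φ} ⟨hφ, hP, e, he, he'⟩ => by
    obtain ⟨ψ, hψ, hψ'⟩ := F.inv_mem hφ
    refine ⟨ψ, ⟨hψ, ?_, e⁻¹, by rw [map_inv, he, inv_one], he'.inv X (dom_le hφ) hψ'⟩, hψ'⟩
    rintro _ ⟨x, rfl⟩
    exact D.apply_mem_M hφ hP x

theorem Setup.isSubsystem (D : Setup X θ p M) : D.system.IsSubsystemOf F := fun _ _ h => h.1

/-- Two realizers of one map have equal values when centralizers lie in the kernel. -/
theorem Setup.D_eq (D : Setup X θ p M) (hS : IsPGroup p S) {P : Subgroup Ω} (hP : P ≤ M)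
    (hC : ∀ ψ ∈ F.Hom P, ∀ v ∈ centralizerIn S ψ.range, v ∈ M) {φ : P →* Ω} (hφ : φ ∈ F.Hom P)
    {e f : eqv X} (he : Realizes X P φ e) (hf : Realizes X P φ f) : D.D e = D.D f := by
  have h1 : D.D (f⁻¹ * e) = 1 := by
    refine deg_eq_one_of_commute X θ hS D.pow_p D.mem D.stable (hP.trans D.le) hP hC D.isSec
      fun s hs y => ?_
    apply (f : Equiv.Perm X.carrier).injective
    rw [Subgroup.coe_mul, Subgroup.coe_inv, Equiv.Perm.mul_apply, perm_apply_inv,
      hf s ⟨φ ⟨s, hs⟩, apply_mem hφ _⟩ hs rfl, Equiv.Perm.mul_apply, perm_apply_inv,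
      he s ⟨φ ⟨s, hs⟩, apply_mem hφ _⟩ hs rfl]
  rwa [map_mul, map_inv, inv_mul_eq_one, eq_comm] at h1

/-- Adjusting the value by conjugation. -/
theorem Setup.exists_pow_eq (D : Setup X θ p M) {v : S} (hv : (v : Ω) ∉ M) (a : A) :
    ∃ i : ℕ, D.D (leftMul X (v ^ i)) = a := by
  have hne : θ v ^ Nat.card (Orbits X) ≠ 1 := fun h => hv ((D.mem v).1 (D.pow_orbits h))
  have hfin : Finite A := Nat.finite_of_card_ne_zero (D.card ▸ (Fact.out : p.Prime).ne_zero)
  have htop : Subgroup.zpowers (θ v ^ Nat.card (Orbits X)) = ⊤ :=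
    zpowers_eq_top_of_prime_card D.card hne
  obtain ⟨i, hi⟩ := (mem_powers_iff_mem_zpowers).2 (htop.ge (Subgroup.mem_top a))
  exact ⟨i, by rw [map_pow, map_pow, D.D_leftMul]; exact hi⟩

/-- Every map is a map of the subsystem followed by a conjugation. -/
theorem Setup.exists_adjust (D : Setup X θ p M) {P : Subgroup Ω} (hP : P ≤ M) {φ : P →* Ω}
    (hφ : φ ∈ F.Hom P) : ∃ g ∈ S, ∃ φ₀ ∈ D.system.Hom P, ∀ x : P, φ x = g * φ₀ x * g⁻¹ := by
  obtain ⟨e, he⟩ := D.exists_realizes hφ
  obtain ⟨v, hv⟩ : ∃ v : S, θ v ≠ 1 := by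
    by_contra hall
    push Not at hall
    have : Nat.card A = 1 := Nat.card_eq_one_iff_unique.2
      ⟨⟨fun a b => by
        obtain ⟨s, rfl⟩ := D.surj a
        obtain ⟨t, rfl⟩ := D.surj b
        rw [hall, hall]⟩, ⟨1⟩⟩
    exact (Fact.out : p.Prime).one_lt.ne' (D.card ▸ this)
  obtain ⟨i, hi⟩ := D.exists_pow_eq (fun h => hv ((D.mem v).2 h)) (D.D e)
  set g : S := v ^ i
  have hr : φ.range ≤ S := range_le hφ
  have hc := F.conj_mem (g := ((g⁻¹ : S) : Ω)) hr (g⁻¹ : S).2
  refine ⟨g, g.2, _, ⟨F.comp_mem hφ hc fun x => ⟨x, rfl⟩, hP, leftMul X g⁻¹ * e, ?_,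
    he.comp X hφ (realizes_leftMul X g⁻¹) _⟩, fun x => ?_⟩
  · rw [map_mul, map_inv, map_inv, hi, inv_mul_cancel]
  · show φ x = (g : Ω) * (((g⁻¹ : S) : Ω) * φ x * ((g⁻¹ : S) : Ω)⁻¹) * (g : Ω)⁻¹
    simp [mul_assoc]

/-- The subsystem of index `p` is saturated. -/
theorem Setup.isSaturated (D : Setup X θ p M) (hS : IsPGroup p S) (hF : F.IsSaturated p) :
    D.system.IsSaturated p := by
  intro P hP
  obtain ⟨Q₁, ⟨φ, hφ, hr⟩, hQ₁⟩ := exists_fullyNormalized F (hP.trans D.le)
  obtain ⟨g, hg, φ₀, hφ₀, hφg⟩ := D.exists_adjust hP hφ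
  set Q := φ₀.range with hQdef
  have hQS : Q ≤ S := range_le hφ₀.1
  have hQM : Q ≤ M := range_le hφ₀
  have hQQ₁ : Q.map (MulAut.conj g).toMonoidHom = Q₁ := by
    rw [← hr]
    ext y
    constructor
    · rintro ⟨_, ⟨x, rfl⟩, rfl⟩
      exact ⟨x, hφg x⟩
    · rintro ⟨x, rfl⟩
      exact ⟨φ₀ x, ⟨x, rfl⟩, (hφg x).symm⟩
  have hQfn : F.IsFullyNormalized Q := by
    refine ⟨hQS, fun R hR => ?_⟩
    have hconj : F.IsConj Q Q₁ := ⟨conjHom Q g, F.conj_mem hQS hg, by
      rw [← hQQ₁, conjHom, MonoidHom.range_comp, Q.range_subtype]⟩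
    refine (hQ₁.2 R (isConj_trans (isConj_symm hconj) hR)).trans (le_of_eq ?_)
    have hSg : S.map (MulAut.conj g).toMonoidHom = S := by
      ext y
      refine ⟨?_, fun hy => ⟨g⁻¹ * y * g, S.mul_mem (S.mul_mem (S.inv_mem hg) hy) hg, ?_⟩⟩
      · rintro ⟨x, hx, rfl⟩
        exact S.mul_mem (S.mul_mem hg hx) (S.inv_mem hg)
      · simp [mul_assoc]
    rw [normalizerIn, normalizerIn, ← hQQ₁]
    conv_lhs => rw [← hSg]
    rw [← Subgroup.map_normalizer_eq_of_bijective _ (MulAut.conj g).bijective,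
      ← Subgroup.map_inf _ _ _ (MulAut.conj g).injective,
      Subgroup.card_map_of_injective (MulAut.conj g).injective]
  have hrec := isReceptive_of_fullyNormalized hS hF hQfn
  have haut := isFullyAutomized_of_fullyNormalized hS hF hQfn
  -- either a centralizing element outside `M`, or all centralizers inside `M`
  have hcases : (∃ v : S, (v : Ω) ∈ centralizerIn S Q ∧ (v : Ω) ∉ M) ∨
      ∀ ψ ∈ F.Hom Q, ∀ v ∈ centralizerIn S ψ.range, v ∈ M := by
    by_cases hex : ∀ ψ ∈ F.Hom Q, ∀ v ∈ centralizerIn S ψ.range, v ∈ M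
    · exact Or.inr hex
    push Not at hex
    obtain ⟨ψ, hψ, v, hv, hvM⟩ := hex
    obtain ⟨χ, hχ, hχr, hχ1, -⟩ := exists_inverse hψ rfl
    have hle : ψ.range ⊔ centralizerIn S ψ.range ≤ extender S ψ.range χ :=
      sup_le (le_extender (range_le hψ) (apply_mem hχ)) (centralizerIn_le_extender _)
    obtain ⟨τ, hτ, hτe⟩ := exists_extension hrec hχ hχr hle
    set v' : ↥(ψ.range ⊔ centralizerIn S ψ.range) := ⟨v, Subgroup.mem_sup_right hv⟩
    refine Or.inl ⟨⟨τ v', apply_mem hτ v'⟩, mem_centralizerIn.2 ⟨apply_mem hτ v', fun w hw => ?_⟩,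
      fun hmem => hvM ?_⟩
    · obtain ⟨y, rfl⟩ := hχr.ge hw
      rw [← hτe y y.2 (Subgroup.mem_sup_left y.2), ← map_mul, ← map_mul]
      exact congrArg τ (Subtype.ext ((mem_centralizerIn.1 hv).2 _ y.2))
    · have h := D.stable _ τ hτ v'
      rw [(D.mem ⟨τ v', apply_mem hτ v'⟩).2 hmem] at h
      exact (D.mem ⟨v, _⟩).1 h.symm
  -- maps onto `Q` with adjusted value
  have hrecE : D.system.IsReceptive Q := by
    refine ⟨hQM, fun R χ hχ hχQ => ?_⟩
    obtain ⟨hχF, hRM, e, he, he'⟩ := hχ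
    set N := extender M R χ with hN
    have hNle : N ≤ extender S R χ := by
      refine (Subgroup.closure_le _).2 ?_
      rintro x ⟨hx1, hx2, h, hh, hx3⟩
      exact Subgroup.subset_closure ⟨D.le hx1, hx2, h, D.le hh, hx3⟩
    have hRN : R ≤ N := le_extender hRM (fun x => D.apply_mem_M hχF hRM x)
    have hNM : N ≤ M := (Subgroup.closure_le _).2 fun x hx => hx.1
    obtain ⟨ψ, hψ, hψe⟩ := exists_extension hrec hχF hχQ hNle
    obtain ⟨f, hf⟩ := D.exists_realizes hψ
    have hfR : Realizes X R χ f := by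
      intro s t hs h y
      refine hf s t (hRN hs) ?_ y
      rw [hψe _ hs (hRN hs)]
      exact h
    rcases hcases with ⟨v, hv, hvM⟩ | hall
    · obtain ⟨i, hi⟩ := D.exists_pow_eq hvM (D.D f)⁻¹
      have hcv := F.conj_mem (g := ((v ^ i : S) : Ω)) (range_le hψ) (v ^ i).2
      refine ⟨_, ⟨F.comp_mem hψ hcv fun x => ⟨x, rfl⟩, hNM, leftMul X (v ^ i) * f, ?_,
        hf.comp X hψ (realizes_leftMul X (v ^ i)) _⟩, fun x hx hxN => ?_⟩
      · rw [map_mul, hi, inv_mul_cancel]
      · show ((v ^ i : S) : Ω) * ψ ⟨x, hxN⟩ * ((v ^ i : S) : Ω)⁻¹ = χ ⟨x, hx⟩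
        rw [hψe x hx hxN]
        have hvi : ((v ^ i : S) : Ω) ∈ centralizerIn S Q := by
          rw [Subgroup.coe_pow]
          exact Subgroup.pow_mem _ hv i
        rw [← (mem_centralizerIn.1 hvi).2 _ (hχQ.le ⟨⟨x, hx⟩, rfl⟩), mul_inv_cancel_right]
    · refine ⟨ψ, ⟨hψ, hNM, f, ?_, hf⟩, hψe⟩
      rw [D.D_eq hS hRM (fun τ hτ v hv => ?_) hχF hfR he', he]
      obtain ⟨τ', hτ', hτ'r⟩ := isConj_trans (isConj_symm ⟨χ, hχF, hχQ⟩) ⟨τ, hτ, rfl⟩
      exact hall τ' hτ' v (hτ'r ▸ hv)
  refine ⟨Q, ⟨φ₀, hφ₀, rfl⟩, ⟨hQM, ?_⟩, hrecE⟩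
  -- fully automized
  obtain ⟨-, Syl, hSyl⟩ := haut
  have := finite_autGroup (F := F) hQS
  have := finite_mulAut (Ω := Ω) hQS
  have hEle : D.system.autGroup Q ≤ F.autGroup Q := autGroup_le_of_subsystem D.isSubsystem hQM
  rcases hcases with ⟨v, hv, hvM⟩ | hall
  · have heq : D.system.autGroup Q = F.autGroup Q := by
      refine le_antisymm hEle fun α hα => (mem_autGroup_iff hQM).2 ?_
      have hm := (mem_autGroup_iff hQS).1 hα
      obtain ⟨e, he⟩ := D.exists_realizes hm
      obtain ⟨i, hi⟩ := D.exists_pow_eq hvM (D.D e)⁻¹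
      refine ⟨hm, hQM, leftMul X (v ^ i) * e, by rw [map_mul, hi, inv_mul_cancel], ?_⟩
      intro s t hs h y
      show (leftMul X (v ^ i) : Equiv.Perm X.carrier) ((e : Equiv.Perm X.carrier) _) = _
      rw [he s t hs h, leftMul_apply, ← mul_smul, Subgroup.coe_mul, Equiv.Perm.mul_apply,
        leftMul_apply, ← mul_smul]
      congr 1
      have ht : (t : Ω) ∈ Q := h ▸ (α ⟨s, hs⟩).2
      have hvi : ((v ^ i : S) : Ω) ∈ centralizerIn S Q := by
        rw [Subgroup.coe_pow]
        exact Subgroup.pow_mem _ hv i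
      exact Prod.ext (Subtype.ext ((mem_centralizerIn.1 hvi).2 _ ht).symm) rfl
    have hind : autInducedBy M Q = autInducedBy S Q := by
      refine le_antisymm (Subgroup.closure_mono fun α ⟨g, hg, h⟩ => ⟨g, D.le hg, h⟩) fun α hα => ?_
      obtain ⟨g, hg, hgx⟩ := mem_autInducedBy_iff.1 hα
      obtain ⟨i, hi⟩ := D.exists_pow_eq hvM (D.D (leftMul X ⟨g, hg⟩))⁻¹
      rw [D.D_leftMul, D.D_leftMul, ← inv_pow] at hi
      have hmem : θ (⟨g, hg⟩ * v ^ i) = 1 := by
        refine D.pow_orbits ?_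
        rw [map_mul, mul_pow, hi, inv_pow, mul_inv_cancel]
      refine mem_autInducedBy_iff.2 ⟨_, (D.mem _).1 hmem, fun x => ?_⟩
      rw [hgx x]
      have hvi : ((v ^ i : S) : Ω) ∈ centralizerIn S Q := by
        rw [Subgroup.coe_pow]
        exact Subgroup.pow_mem _ hv i
      have hc := (mem_centralizerIn.1 hvi).2 _ x.2
      show g * (x : Ω) * g⁻¹ = g * ((v ^ i : S) : Ω) * (x : Ω) * (g * ((v ^ i : S) : Ω))⁻¹
      rw [mul_inv_rev, mul_assoc g ((v ^ i : S) : Ω), ← hc]
      group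
    rw [heq, hind]
    exact ⟨Syl, hSyl⟩
  · -- the value is a homomorphism on `Aut_F(Q)`
    have hex : ∀ α : F.autGroup Q, ∃ e : eqv X,
        Realizes X Q (Q.subtype.comp (α : MulAut Q).toMonoidHom) e := fun α =>
      D.exists_realizes ((mem_autGroup_iff hQS).1 α.2)
    choose ea hea using hex
    let d : F.autGroup Q →* A := MonoidHom.mk' (fun α => D.D (ea α)) fun α β => by
      rw [← map_mul]
      refine D.D_eq hS hQM hall ((mem_autGroup_iff hQS).1 (α * β).2) (hea _) ?_
      intro s t hs h y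
      show (ea α : Equiv.Perm X.carrier) ((ea β : Equiv.Perm X.carrier) _) = _
      rw [hea β s ⟨((β : MulAut Q) ⟨s, hs⟩ : Q), hQS ((β : MulAut Q) ⟨s, hs⟩).2⟩ hs rfl]
      exact hea α ⟨((β : MulAut Q) ⟨s, hs⟩ : Q), hQS ((β : MulAut Q) ⟨s, hs⟩).2⟩ t
        ((β : MulAut Q) ⟨s, hs⟩).2 h _
    have hkd : d.ker = (D.system.autGroup Q).subgroupOf (F.autGroup Q) := by
      ext α
      rw [Subgroup.mem_subgroupOf, mem_autGroup_iff hQM]
      constructor
      · exact fun h => ⟨(mem_autGroup_iff hQS).1 α.2, hQM, ea α, h, hea α⟩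
      · rintro ⟨hm, -, e, he, he'⟩
        show D.D (ea α) = 1
        rw [D.D_eq hS hQM hall hm (hea α) he', he]
    have hn : ((D.system.autGroup Q).subgroupOf (F.autGroup Q)).Normal := hkd ▸ d.normal_ker
    obtain ⟨R, hR⟩ := SylowCount.exists_sylow_inf Syl ((D.system.autGroup Q).subgroupOf (F.autGroup Q))
    let e := Subgroup.subgroupOfEquivOfLe hEle
    refine ⟨R.mapSurjective (f := e.toMonoidHom) e.surjective, ?_⟩
    show (R : Subgroup _).map e.toMonoidHom = _
    rw [hR, hSyl]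
    ext α
    rw [Subgroup.mem_map]
    constructor
    · rintro ⟨β, hβ, rfl⟩
      obtain ⟨g, hg, hgx⟩ := mem_autInducedBy_iff.1 (hβ : ((β : F.autGroup Q) : MulAut Q) ∈ _)
      have hαd : d (β : F.autGroup Q) = 1 := hkd.ge β.2
      have hlg : Realizes X Q (Q.subtype.comp ((β : F.autGroup Q) : MulAut Q).toMonoidHom)
          (leftMul X ⟨g, hg⟩) := by
        rw [show Q.subtype.comp ((β : F.autGroup Q) : MulAut Q).toMonoidHom = conjHom Q g from
          MonoidHom.ext hgx]
        exact realizes_leftMul X ⟨g, hg⟩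
      have h1 := D.D_eq hS hQM hall ((mem_autGroup_iff hQS).1 (β : F.autGroup Q).2) (hea _) hlg
      rw [show D.D (ea (β : F.autGroup Q)) = 1 from hαd, D.D_leftMul] at h1
      exact mem_autInducedBy_iff.2 ⟨g, (D.mem ⟨g, hg⟩).1 (D.pow_orbits h1.symm), hgx⟩
    · intro hα
      obtain ⟨g, hg, hgx⟩ := mem_autInducedBy_iff.1 (hα : (α : MulAut Q) ∈ _)
      exact ⟨⟨⟨α, hEle α.2⟩, α.2⟩, mem_autInducedBy_iff.2 ⟨g, D.le hg, hgx⟩, rfl⟩

/-- It contains the automorphisms of order prime to `p`. -/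
theorem Setup.residual_le (D : Setup X θ p M) {P : Subgroup Ω} (hP : P ≤ M) :
    (pResidual p (F.autGroup P)).map (F.autGroup P).subtype ≤ D.system.autGroup P := by
  rw [pResidual, MonoidHom.map_closure, Subgroup.closure_le]
  rintro _ ⟨α, hα, rfl⟩
  have hPS := hP.trans D.le
  have hm := (mem_autGroup_iff hPS).1 α.2
  obtain ⟨e, he⟩ := D.exists_realizes hm
  have := finite_autGroup (F := F) hPS
  have hpow : ∀ n : ℕ, Realizes X P (P.subtype.comp ((α : MulAut P) ^ n).toMonoidHom) (e ^ n) := by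
    intro n
    induction n with
    | zero =>
      intro s t hs h y
      rw [pow_zero] at h
      rw [pow_zero, show t = s from Subtype.ext h.symm]
      rfl
    | succ n ih =>
      intro s t hs h y
      rw [pow_succ', Subgroup.coe_mul, Equiv.Perm.mul_apply,
        ih s ⟨(((α : MulAut P) ^ n) ⟨s, hs⟩ : P), hPS (((α : MulAut P) ^ n) ⟨s, hs⟩).2⟩ hs rfl]
      refine he _ t (((α : MulAut P) ^ n) ⟨s, hs⟩).2 ?_ _
      rw [← h, pow_succ']
      rfl
  obtain ⟨m, -, hm1⟩ := Nat.exists_mul_mod_eq_of_coprime 1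
    (show p.Coprime (orderOf α) from (Set.mem_setOf.1 hα).symm) (orderOf_pos α).ne'
  refine (mem_autGroup_iff hP).2 ⟨hm, hP, e ^ (p * m), ?_, ?_⟩
  · rw [map_pow, pow_mul, D.pow_p, one_pow]
  · have h := hpow (p * m)
    rwa [← Subgroup.coe_pow, show α ^ (p * m) = α by
      rw [← pow_mod_orderOf α (p * m), hm1, pow_mod_orderOf, pow_one]] at h

end PPowerIndex

variable {Ω : Type u} [Group Ω] {S : Subgroup Ω} {F : FusionSystem S} {p : ℕ}

/-- The step of index `p`. -/
theorem exists_pPowerIndex_of_index [Finite S] [Fact p.Prime] (hS : IsPGroup p S)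
    (hF : F.IsSaturated p) {M : Subgroup Ω} (hMS : M ≤ S) (hidx : (M.subgroupOf S).index = p)
    (hM : F.focalSubgroup ≤ M) :
    ∃ E : FusionSystem M, E.IsSaturated p ∧ E.HasPPowerIndexIn F p := by
  have hn : (M.subgroupOf S).Normal := by
    refine ⟨fun x hx g => ?_⟩
    have h : g * x * g⁻¹ * x⁻¹ ∈ M.subgroupOf S := hM (focal_eq hS hF ▸ Subgroup.mem_sup_right (by
      rw [← Subgroup.map_subtype_commutator]
      exact ⟨_, Subgroup.commutator_mem_commutator (Subgroup.mem_top g) (Subgroup.mem_top x), rfl⟩))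
    simpa using Subgroup.mul_mem _ h hx
  let A := S ⧸ M.subgroupOf S
  have hc : Nat.card A = p := hidx
  letI : CommGroup A := { (inferInstance : Group A) with
    mul_comm := fun a b => by
      have := isCyclic_of_prime_card hc
      exact (IsCyclic.commGroup (α := A)).mul_comm a b }
  let θ : S →* A := QuotientGroup.mk' (M.subgroupOf S)
  obtain ⟨X, hX, k, hk, hpk⟩ := Biset.exists_characteristic hS hF
  obtain ⟨σ, hσ⟩ := TransferHom.exists_section X
  let : Fintype (TransferHom.Orbits X) := Fintype.ofFinite _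
  have hcard : ¬ p ∣ Nat.card (TransferHom.Orbits X) := by
    have h := TransferHom.card_orbits X hσ
    rw [hk] at h
    rw [← Nat.eq_of_mul_eq_mul_right Nat.card_pos h]
    exact hpk
  let D : PPowerIndex.Setup X θ p M :=
    { stableSet := hX
      le := hMS
      mem := fun s => QuotientGroup.eq_one_iff s
      stable := fun P φ hφ x => (QuotientGroup.eq.2 (by
        have h := hM (inv_mul_apply_mem_focal hφ x)
        exact h)).symm
      surj := QuotientGroup.mk'_surjective _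
      card := hc
      card_orbits := hcard
      c₀ := fun y => θ (σ y)
      isSec := PPowerIndex.isSec_of_section X θ hσ }
  exact ⟨D.system, D.isSaturated hS hF, D.isSubsystem,
    (hyperfocal_le_focal F p).trans hM, fun P hP => D.residual_le hP⟩

/-- Uniqueness of the subsystem of `p`-power index. -/
theorem pPowerIndex_le [Finite S] [Fact p.Prime] (hS : IsPGroup p S) {T : Subgroup Ω} (hTS : T ≤ S)
    {E E' : FusionSystem T} (hE : E.IsSaturated p) (hEF : E.IsSubsystemOf F)
    (hE' : E'.HasPPowerIndexIn F p) : E ≤ E' := by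
  have := finite_of_le (Ω := Ω) hTS
  have hTp := hS.to_le hTS
  intro P
  refine alperin hTp hE E' (fun R hn _ _ α hα => ?_) P
  refine autGroup_le_of_residual (K := E'.autGroup R)
    (isFullyAutomized_of_fullyNormalized hTp hE hn) ?_ (autInducedBy_le_autGroup E' hn.1) hα
  refine le_trans ?_ (hE'.2.2 R hn.1)
  have hle := autGroup_le_of_subsystem hEF hn.1
  rw [pResidual, MonoidHom.map_closure, Subgroup.closure_le]
  rintro _ ⟨β, hβ, rfl⟩
  exact ⟨⟨β, hle β.2⟩, Subgroup.subset_closure (by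
    show Nat.Coprime (orderOf _) p
    rwa [Subgroup.orderOf_mk, Subgroup.orderOf_coe]), rfl⟩

theorem exists_pPowerIndex_aux (n : ℕ) : ∀ {S : Subgroup Ω} [Finite S] [Fact p.Prime]
    (F : FusionSystem S), Nat.card S = n → IsPGroup p S → F.IsSaturated p →
    ∀ T : Subgroup Ω, T ≤ S → F.hyperfocalSubgroup p ≤ T →
      ∃ E : FusionSystem T, E.IsSaturated p ∧ E.HasPPowerIndexIn F p := by
  induction n using Nat.strong_induction_on with
  | _ n ih =>
  intro S _ _ F hn hS hF T hTS hT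
  rcases eq_or_lt_of_le hTS with rfl | hlt
  · refine ⟨F, hF, fun _ _ h => h, hT, fun P _ => ?_⟩
    exact Subgroup.map_subtype_le _
  have hne : T.subgroupOf S ≠ ⊤ := fun h => hlt.ne (le_antisymm hTS (by
    rwa [Subgroup.subgroupOf_eq_top] at h))
  obtain ⟨K, hK, hTK⟩ := (IsCoatomic.eq_top_or_exists_le_coatom (T.subgroupOf S)).resolve_left hne
  set M := K.map S.subtype with hM
  have hMS : M ≤ S := Subgroup.map_subtype_le K
  have hKM : M.subgroupOf S = K := by
    rw [hM, Subgroup.subgroupOf, Subgroup.comap_map_eq_self_of_injective S.subtype_injective]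
  have hidx : (M.subgroupOf S).index = p := by
    rw [hKM]
    exact PGroup.index_of_isCoatom hS hK
  have hTM : T ≤ M := fun x hx => ⟨⟨x, hTS hx⟩, hTK hx, rfl⟩
  have hcomm : ⁅S, S⁆ ≤ M := by
    rw [← Subgroup.map_subtype_commutator]
    refine Subgroup.map_mono ?_
    have := PGroup.normal_of_isCoatom hS hK
    exact PGroup.commutator_le_of_index_eq K (hKM ▸ hidx)
  have hfoc : F.focalSubgroup ≤ M := by
    rw [focal_eq hS hF]
    exact sup_le (hT.trans hTM) hcomm
  obtain ⟨E₁, hE₁, hE₁F, -, hE₁res⟩ := exists_pPowerIndex_of_index hS hF hMS hidx hfoc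
  have := finite_of_le (Ω := Ω) hMS
  have hMlt : M < S := lt_of_le_of_ne hMS fun h => hK.1 (by rw [← hKM, h, Subgroup.subgroupOf_self])
  obtain ⟨E, hE, hEE₁, -, hEres⟩ := ih _ (hn ▸ card_lt_of_lt le_rfl hMlt) E₁ rfl (hS.to_le hMS) hE₁
    T hTM ((hyperfocal_mono hMS hE₁F p).trans hT)
  refine ⟨E, hE, fun P φ h => hE₁F P (hEE₁ P h), hT, fun P hP => le_trans ?_ (hEres P hP)⟩
  rw [pResidual, MonoidHom.map_closure, Subgroup.closure_le]
  rintro _ ⟨α, hα, rfl⟩
  have hα1 : (α : MulAut P) ∈ E₁.autGroup P :=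
    hE₁res P (hP.trans hTM) ⟨α, Subgroup.subset_closure hα, rfl⟩
  exact ⟨⟨α, hα1⟩, Subgroup.subset_closure (by
    show Nat.Coprime (orderOf _) p
    rw [Subgroup.orderOf_mk, Subgroup.orderOf_coe]
    exact hα), rfl⟩

/-- There is a saturated subsystem of `p`-power index over every subgroup containing the
hyperfocal subgroup. -/
theorem exists_pPowerIndex [Finite S] [Fact p.Prime] (hS : IsPGroup p S) (hF : F.IsSaturated p)
    {T : Subgroup Ω} (hTS : T ≤ S) (hT : F.hyperfocalSubgroup p ≤ T) :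
    ∃ E : FusionSystem T, E.IsSaturated p ∧ E.HasPPowerIndexIn F p :=
  exists_pPowerIndex_aux _ F rfl hS hF T hTS hT

end Cfsg.Agent.Fusion
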