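import Cfsg.Agent.Lib.Fusion.NormalCentralizerClosed
import Cfsg.Agent.Lib.Fusion.CoreCentralizer
import Cfsg.Agent.Lib.Fusion.PPowerIndex

/-!
`C_F(E)` (Aschbacher): for a normal subsystem `E` over `T`, with `Y = C_S(E)`, the saturated
subsystem of `p`-power index over `Y` of `C_F(T)` is normal in `F`.
-/

set_option autoImplicit false

namespace Cfsg.Agent.Fusion.CentralizerSubsystem

open Cfsg Cfsg.FusionSystem Cfsg.Agent.Fusion Cfsg.Agent.Fusion.NormalCentralizer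

universe u

variable {Ω : Type u} [Group Ω] {S T Y : Subgroup Ω} {F : FusionSystem S} {p : ℕ}
variable [Finite S] [Fact p.Prime]

/-- A subgroup normalized by all of `S` is fully normalized. -/
theorem isFullyNormalized_of_normal {W : Subgroup Ω} (hW : W ≤ S)
    (hn : S ≤ Subgroup.normalizer (W : Set Ω)) : F.IsFullyNormalized W :=
  ⟨hW, fun Q _ => card_le_of_le (normalizerIn_le S W)
    ((normalizerIn_le S Q).trans (le_inf le_rfl hn))⟩

/-- A map between subgroups of a strongly closed `Y ≤ C_S(T)` extends to `P T`, `T` going to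
itself. -/
theorem exists_extension_sup (hS : IsPGroup p S) (hF : F.IsSaturated p) (hT : F.StronglyClosed T)
    (hY : F.StronglyClosed Y) (hYC : Y ≤ centralizerIn S T) {P : Subgroup Ω} (hPY : P ≤ Y)
    {φ : P →* Ω} (hφ : φ ∈ F.Hom P) :
    ∃ ψ ∈ F.Hom (P ⊔ T), (∀ x : P, ψ (Subgroup.inclusion le_sup_left x) = φ x) ∧
      (ψ.comp (Subgroup.inclusion le_sup_right)).range = T := by
  have key : ∀ {P Q : Subgroup Ω}, P ≤ Y → F.IsFullyCentralized Q → ∀ {φ : P →* Ω},
      φ ∈ F.Hom P → φ.range = Q →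
      ∃ ψ ∈ F.Hom (P ⊔ T), (∀ x : P, ψ (Subgroup.inclusion le_sup_left x) = φ x) ∧
        (ψ.comp (Subgroup.inclusion le_sup_right)).range = T := by
    intro P Q hPY hQ φ hφ hr
    have hPS := hPY.trans hY.1
    have hTC : T ≤ centralizerIn S P := fun t ht => mem_centralizerIn.2 ⟨hT.1 ht,
      fun x hx => ((mem_centralizerIn.1 (hYC (hPY hx))).2 t ht).symm⟩
    obtain ⟨ψ, hψ, hψe⟩ := exists_extension (isReceptive_of_fullyCentralized hS hF hQ) hφ hr
      (N := P ⊔ T) (sup_le (le_extender hPS fun x => apply_mem hφ x)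
        (hTC.trans (centralizerIn_le_extender _)))
    have hψT := restrict_mem hψ (le_sup_right : T ≤ P ⊔ T)
    exact ⟨ψ, hψ, fun x => hψe x x.2 _,
      range_eq_of_le hψT hT.1 (fun x => hT.2 T le_rfl _ hψT x) le_rfl⟩
  obtain ⟨Q, hPQ, hQ⟩ := exists_fullyCentralized F (hPY.trans hY.1)
  obtain ⟨φ₁, hφ₁, hφ₁r⟩ := hPQ
  obtain ⟨ψ₁, hψ₁, hψ₁e, hψ₁T⟩ := key hPY hQ hφ₁ hφ₁r
  have hP'Y : φ.range ≤ Y := by
    rintro _ ⟨x, rfl⟩
    exact hY.2 P hPY φ hφ x
  obtain ⟨ρ, hρ, hρr, hρi, -⟩ := exists_inverse hφ rfl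
  have hφ₂ := F.comp_mem hρ hφ₁ fun y => hρr.le ⟨y, rfl⟩
  have hφ₂r : (φ₁.comp (ρ.codRestrict P fun y => hρr.le ⟨y, rfl⟩)).range = Q := by
    ext z
    constructor
    · rintro ⟨y, rfl⟩
      exact hφ₁r.le ⟨_, rfl⟩
    · intro hz
      obtain ⟨x, rfl⟩ := hφ₁r.ge hz
      exact ⟨⟨φ x, x, rfl⟩, congrArg φ₁ (Subtype.ext (hρi x _))⟩
  obtain ⟨ψ₂, hψ₂, hψ₂e, hψ₂T⟩ := key hP'Y hQ hφ₂ hφ₂r
  obtain ⟨η, hη, -, hηi, -⟩ := exists_inverse hψ₂ (rfl : ψ₂.range = ψ₂.range)
  have hpre : ∀ x : P, ψ₂ (Subgroup.inclusion le_sup_left ⟨φ x, x, rfl⟩) =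
      ψ₁ (Subgroup.inclusion le_sup_left x) := by
    intro x
    rw [hψ₂e, hψ₁e]
    exact congrArg φ₁ (Subtype.ext (hρi x _))
  have hmem : ∀ z : ↥(P ⊔ T), ψ₁ z ∈ ψ₂.range := forall_sup_mem ψ₁
    (fun x => ⟨_, hpre x⟩)
    (fun t => by
      obtain ⟨w, hw⟩ := hψ₂T.ge (hψ₁T.le ⟨t, rfl⟩)
      exact ⟨_, hw⟩)
  refine ⟨η.comp (ψ₁.codRestrict _ hmem), F.comp_mem hψ₁ hη hmem, fun x => ?_, ?_⟩
  · refine Eq.trans (congrArg η (Subtype.ext (a2 := (⟨ψ₂ (Subgroup.inclusion le_sup_left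
      (⟨φ x, x, rfl⟩ : φ.range)), _, rfl⟩ : ψ₂.range)) (hpre x).symm)) ?_
    exact hηi (Subgroup.inclusion le_sup_left (⟨φ x, x, rfl⟩ : φ.range)) ⟨_, rfl⟩
  · have h1 := restrict_mem (F.comp_mem hψ₁ hη hmem) (le_sup_right : T ≤ P ⊔ T)
    exact range_eq_of_le h1 hT.1 (fun x => hT.2 T le_rfl _ h1 x) le_rfl

/-- Maps between subgroups of `Y` carry `Aut_{C_F(T)}` to `Aut_{C_F(T)}`. -/
theorem congr_mem_centralizer (hS : IsPGroup p S) (hF : F.IsSaturated p) (hT : F.StronglyClosed T)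
    (hY : F.StronglyClosed Y) (hYC : Y ≤ centralizerIn S T) {R R' : Subgroup Ω} (hRY : R ≤ Y)
    {θ : R →* Ω} (hθ : θ ∈ F.Hom R) (hr : θ.range = R') {a : MulAut R}
    (ha : a ∈ (centralizerSystem F T hT.1).autGroup R) :
    MulAut.congr (homEquiv hθ hr) a ∈ (centralizerSystem F T hT.1).autGroup R' := by
  have hR'Y : R' ≤ Y := by
    rw [← hr]
    rintro _ ⟨x, rfl⟩
    exact hY.2 R hRY θ hθ x
  obtain ⟨ψ, hψ, hψe, hψT⟩ := exists_extension_sup hS hF hT hY hYC hRY hθ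
  obtain ⟨-, -, -, a', ha', ha'R, ha'T⟩ :=
    (mem_autGroup_iff (F := centralizerSystem F T hT.1) (hRY.trans hYC)).1 ha
  have hRTS : R ⊔ T ≤ S := sup_le (hRY.trans hY.1) hT.1
  have ha'r : a'.range = R ⊔ T := range_eq_of_le ha' hRTS (forall_sup_mem a'
    (fun x => Subgroup.mem_sup_left (by rw [ha'R]; exact (a x).2))
    fun t => Subgroup.mem_sup_right (by rw [ha'T]; exact t.2)) le_rfl
  set W := R' ⊔ T with hW
  have hψW : ψ.range = W := by
    refine le_antisymm ?_ (sup_le ?_ ?_)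
    · rintro _ ⟨z, rfl⟩
      exact forall_sup_mem (K := W) ψ
        (fun x => Subgroup.mem_sup_left (by rw [hψe]; exact hr.le ⟨x, rfl⟩))
        (fun t => Subgroup.mem_sup_right (hψT.le ⟨t, rfl⟩)) z
    · intro z hz
      obtain ⟨x, rfl⟩ := hr.ge hz
      exact ⟨_, hψe x⟩
    · intro z hz
      obtain ⟨t, rfl⟩ := hψT.ge hz
      exact ⟨_, rfl⟩
  have hb := congr_mem_autGroup hψ hψW (toAut_mem ha' ha'r)
  have hWS : W ≤ S := hψW ▸ range_le hψ
  set b := MulAut.congr (homEquiv hψ hψW) (toAut ha' ha'r) with hbdef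
  have hbe : ∀ z, b (homEquiv hψ hψW z) = homEquiv hψ hψW (toAut ha' ha'r z) := fun z =>
    congr_apply _ _ z
  have hcval : ∀ x : R, ((MulAut.congr (homEquiv hθ hr) a (homEquiv hθ hr x) : R') : Ω) =
      θ (a x) := fun x => by
    rw [congr_apply]
    rfl
  have hbR : ∀ y : R', ((b (Subgroup.inclusion le_sup_left y) : W) : Ω) =
      ((MulAut.congr (homEquiv hθ hr) a y : R') : Ω) := by
    intro y
    obtain ⟨x, rfl⟩ := (homEquiv hθ hr).surjective y
    rw [hcval, show Subgroup.inclusion le_sup_left (homEquiv hθ hr x) =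
      homEquiv hψ hψW (Subgroup.inclusion le_sup_left x) from Subtype.ext (hψe x).symm, hbe]
    refine Eq.trans ?_ (hψe (a x))
    exact congrArg ψ (Subtype.ext (ha'R x))
  refine (mem_autGroup_iff (F := centralizerSystem F T hT.1) (hR'Y.trans hYC)).2 ⟨?_,
    hR'Y.trans hYC, fun y => hYC (hR'Y (MulAut.congr (homEquiv hθ hr) a y).2), _,
    (mem_autGroup_iff hWS).1 hb, hbR, fun t => ?_⟩
  · exact mem_of_le ((mem_autGroup_iff hWS).1 hb) le_sup_left fun y => (hbR y).symm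
  · obtain ⟨s, hs⟩ := hψT.ge t.2
    show ((b (Subgroup.inclusion le_sup_right t) : W) : Ω) = t
    rw [show Subgroup.inclusion (le_sup_right : T ≤ R' ⊔ T) t =
      homEquiv hψ hψW (Subgroup.inclusion le_sup_right s) from Subtype.ext hs.symm, hbe]
    refine Eq.trans ?_ hs
    exact congrArg ψ (Subtype.ext (ha'T s))

variable {E : FusionSystem T}

/-- The saturated subsystem of `p`-power index in `C_F(T)` over `Y = C_S(E)` is normal. -/
theorem isNormalIn_centralizer (hS : IsPGroup p S) (hE : E.IsNormalIn F p)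
    (hYeq : Y = sSup (centralizing F E)) {D : FusionSystem Y} (hDs : D.IsSaturated p)
    (hDi : D.HasPPowerIndexIn (centralizerSystem F T hE.1.2.2.2.1.1) p) : D.IsNormalIn F p := by
  have hF : F.IsSaturated p := hE.1.2.1
  have hT : F.StronglyClosed T := hE.1.2.2.2.1
  have hTS := hT.1
  have hY : F.StronglyClosed Y := hYeq ▸ stronglyClosed_sSup hS hE
  have hYC : Y ≤ centralizerIn S T := hYeq ▸ (sSup_mem_centralizing hS hE).1
  have hfoc : (centralizerSystem F T hTS).focalSubgroup ≤ Y := hYeq ▸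
    le_sSup ⟨focalSubgroup_le _, fun P => hom_subset_centralizerHom_focal hS hE hTS P⟩
  have hYS := hY.1
  have := finite_of_le (Ω := Ω) hYS
  have hYp : IsPGroup p Y := hS.to_le hYS
  set C₀ := centralizerSystem F T hTS with hC₀
  have hTn : F.IsFullyNormalized T := isFullyNormalized_of_stronglyClosed hT
  have hTc := isFullyCentralized_of_fullyNormalized hS hF hTn
  have hC₀s : C₀.IsSaturated p := centralizerSystem_saturated hS hF hTc
    (centralizerSystem_spec F T hTS)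
  have hY₀ : C₀.StronglyClosed Y := ⟨hYC, fun R hR φ hφ x => hY.2 R hR φ hφ.1 x⟩
  have := finite_of_le (Ω := Ω) (centralizerIn_le S T)
  have hD₀ : D.IsNormalIn C₀ p := isNormalIn_of_pPowerIndex (hS.to_le (centralizerIn_le S T))
    (hF := hC₀s) (hT := hY₀) (hEs := hDs) (hEi := hDi)
  have hsub : D.IsSubsystemOf F := fun P φ hφ => (hDi.1 P hφ).1
  -- transport by `Aut_F(Y)`
  have htr : Transports D F := by
    intro P hP φ hφ α hα
    suffices hle : D ≤ pullSystem D D α by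
      obtain ⟨-, _, h⟩ := hle P hφ
      exact h
    refine S5199.le_of_pResidual hYp hDs fun R hR => ?_
    rw [pResidual, MonoidHom.map_closure, Subgroup.closure_le]
    rintro _ ⟨a, ha, rfl⟩
    obtain ⟨θ, hθ, hθe⟩ : ∃ θ ∈ F.Hom R, ∀ x : R, θ x = ((α ⟨x, hR x.2⟩ : Y) : Ω) :=
      ⟨_, restrict_mem ((mem_autGroup_iff hYS).1 hα) hR, fun x => rfl⟩
    have hr : θ.range = (R.subgroupOf Y).map (Y.subtype.comp α.toMonoidHom) := imageOfAut hR hθe
    have hb := congr_mem_centralizer hS hF hT hY hYC hR hθ hr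
      (autGroup_le_of_subsystem hDi.1 hR a.2)
    have hbD : MulAut.congr (homEquiv hθ hr) (a : MulAut R) ∈ D.autGroup _ :=
      hDi.2.2 _ (map_aut_le R) ⟨⟨_, hb⟩, Subgroup.subset_closure (by
        show (orderOf _).Coprime p
        rw [Subgroup.orderOf_mk, MulEquiv.orderOf_eq, Subgroup.orderOf_coe]
        exact ha), rfl⟩
    refine Subgroup.subset_closure ⟨(mem_autGroup_iff hR).1 a.2, hR, _,
      (mem_autGroup_iff (map_aut_le R)).1 hbD, fun x hx hy => ?_⟩
    show ((MulAut.congr (homEquiv hθ hr) (a : MulAut R) ⟨_, hy⟩ :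
      ↥((R.subgroupOf Y).map (Y.subtype.comp α.toMonoidHom))) : Ω) = _
    rw [show (⟨((α ⟨x, hR x.2⟩ : Y) : Ω), hy⟩ :
        ↥((R.subgroupOf Y).map (Y.subtype.comp α.toMonoidHom))) = homEquiv hθ hr x from
      Subtype.ext (hθe x).symm, congr_apply, coe_homEquiv, hθe]
    rfl
  -- Frattini
  have hfr : ∀ (P : Subgroup Ω), P ≤ Y → ∀ φ : P →* Ω, φ ∈ F.Hom P →
      ∃ α ∈ F.autGroup Y, ∃ φ₀ ∈ D.Hom P, ∀ (x : P) (hx : φ₀ x ∈ Y),
        φ x = ((α ⟨φ₀ x, hx⟩ : Y) : Ω) := by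
    intro P hP φ hφ
    obtain ⟨ψ, hψ, hψe, hψT⟩ := exists_extension_sup hS hF hT hY hYC hP hφ
    set β := toAut (restrict_mem hψ le_sup_right) hψT with hβ
    obtain ⟨hβφ, hβr⟩ := hom_of_mem_autGroup hTS (toAut_mem (restrict_mem hψ le_sup_right) hψT)
    set W := T ⊔ centralizerIn S T with hW
    have hWS : W ≤ S := sup_le hTS (centralizerIn_le S T)
    obtain ⟨γ, hγ, hγe⟩ := exists_extension (isReceptive_of_fullyNormalized hS hF hTn) hβφ hβr
      (N := W) (sup_le (le_extender hTS fun x => apply_mem hβφ x) (centralizerIn_le_extender _))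
    have hγT : ∀ t : T, γ (Subgroup.inclusion le_sup_left t) =
        ψ (Subgroup.inclusion le_sup_right t) := fun t => hγe t t.2 _
    have hγr : γ.range = W := range_eq_of_le hγ hWS (forall_sup_mem γ
      (fun t => Subgroup.mem_sup_left (by rw [hγT]; exact hψT.le ⟨t, rfl⟩))
      fun c => Subgroup.mem_sup_right (map_centralizerIn le_sup_left hγ (fun t ht => by
        rw [show t = Subgroup.inclusion le_sup_left (⟨(t : Ω), ht⟩ : T) from rfl, hγT]
        exact hψT.le ⟨_, rfl⟩) _ c.2)) le_rfl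
    have hYW : Y ≤ W := hYC.trans le_sup_right
    have hγY := restrict_mem hγ hYW
    have hγYr := range_eq_of_le hγY hYS (fun y => hY.2 Y le_rfl _ hγY y) le_rfl
    set αY := toAut hγY hγYr with hαY
    have hαYF : αY ∈ F.autGroup Y := toAut_mem hγY hγYr
    obtain ⟨ρ, hρ, hρr, hρi, -⟩ := exists_inverse hγ hγr
    have hψW : ∀ z, ψ z ∈ W := forall_sup_mem ψ
      (fun x => hYW (by rw [hψe]; exact hY.2 P hP φ hφ x))
      fun t => Subgroup.mem_sup_left (hψT.le ⟨t, rfl⟩)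
    set g := ρ.comp (ψ.codRestrict W hψW) with hg
    have hgF : g ∈ F.Hom (P ⊔ T) := F.comp_mem hψ hρ hψW
    have hgT : ∀ t : T, g (Subgroup.inclusion le_sup_right t) = t := by
      intro t
      refine Eq.trans (congrArg ρ (Subtype.ext (hγT t).symm : _ =
        (⟨γ (Subgroup.inclusion le_sup_left t), hγr.le ⟨_, rfl⟩⟩ : W))) ?_
      exact hρi _ _
    have hgP : ∀ x : P, g (Subgroup.inclusion le_sup_left x) ∈ Y := fun x =>
      hY.2 P hP _ (restrict_mem hgF le_sup_left) x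
    have hg₁ : g.comp (Subgroup.inclusion le_sup_left) ∈ C₀.Hom P :=
      ⟨restrict_mem hgF _, hP.trans hYC, fun x => hYC (hgP x), g, hgF, fun x => rfl, hgT⟩
    obtain ⟨α₂, hα₂, d, hd, hde⟩ := hD₀.1.2.2.2.2.2 P hP _ hg₁
    refine ⟨αY * α₂, mul_mem hαYF
      (autGroup_le_of_subsystem (E := C₀) (F := F) (fun Q χ hχ => hχ.1) hYC hα₂), d, hd,
      fun x hx => ?_⟩
    have h1 := hde x hx
    show φ x = γ (Subgroup.inclusion hYW (α₂ ⟨d x, hx⟩))
    have h2 : γ (Subgroup.inclusion hYW ⟨g (Subgroup.inclusion le_sup_left x), hgP x⟩) = φ x := by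
      obtain ⟨w, hw⟩ := hγr.ge (hψW (Subgroup.inclusion le_sup_left x))
      refine Eq.trans (congrArg γ (Subtype.ext ?_)) (hw.trans (hψe x))
      show ρ ⟨ψ _, _⟩ = (w : Ω)
      exact (congrArg ρ (Subtype.ext hw.symm)).trans (hρi w (hγr.le ⟨_, rfl⟩))
    rw [← h2]
    exact congrArg γ (Subtype.ext h1)
  refine ⟨⟨hDs, hF, hsub, hY, htr, hfr⟩, ?_⟩
  -- the extension condition
  suffices hB : D.autGroup Y ≤ bExt F Y by
    intro α hα
    obtain ⟨γ, hγ, hγY, hγC⟩ := hB hα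
    have hWS : rc S Y ≤ S := sup_le hYS (centralizerIn_le S Y)
    refine ⟨γ, hγ, fun x => congrArg Subtype.val (hγY x), fun c hc => ⟨hγC c hc, ?_⟩⟩
    refine (mem_centralizerIn.1 (Subgroup.mul_mem _ (Subgroup.inv_mem _ hc)
      (map_centralizerIn le_sup_left ((mem_autGroup_iff hWS).1 hγ) (fun y hy => ?_) c hc))).2
    show ((γ y : ↥(rc S Y)) : Ω) ∈ Y
    rw [show y = Subgroup.inclusion le_sup_left (⟨(y : Ω), hy⟩ : Y) from rfl, hγY]
    exact (α ⟨_, hy⟩).2
  refine autGroup_le_of_residual (p := p) (isFullyAutomized_self hYp hDs) ?_ ?_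
  swap
  · intro a ha
    obtain ⟨y, hy, hay⟩ := mem_autInducedBy_iff.1 ha
    rw [show a = conjAut (mem_normalizer_of_aut hay) from
      MulEquiv.ext fun x => Subtype.ext (hay x)]
    exact conjAut_mem_bExt hYS hYS (le_normalizer_of_stronglyClosed hY)
      (centralizerIn_le Y Y) hy _
  rw [pResidual, MonoidHom.map_closure, Subgroup.closure_le]
  rintro _ ⟨a, ha, rfl⟩
  obtain ⟨-, -, -, ψ, hψ, hψY, hψT⟩ :=
    (mem_autGroup_iff (F := C₀) hYC).1 (autGroup_le_of_subsystem hDi.1 le_rfl a.2)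
  have hYTS : Y ⊔ T ≤ S := sup_le hYS hTS
  have hYn : S ≤ Subgroup.normalizer ((Y ⊔ T : Subgroup Ω) : Set Ω) := fun g hg =>
    KNorm.normalizer_inf_normalizer_le_normalizer_sup
      ⟨le_normalizer_of_stronglyClosed hY hg, le_normalizer_of_stronglyClosed hT hg⟩
  have hψr : ψ.range = Y ⊔ T := range_eq_of_le hψ hYTS (forall_sup_mem ψ
    (fun x => Subgroup.mem_sup_left (by rw [hψY]; exact ((a : MulAut Y) x).2))
    fun t => Subgroup.mem_sup_right (by rw [hψT]; exact t.2)) le_rfl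
  have hTCY : T ≤ centralizerIn S Y := fun t ht => mem_centralizerIn.2 ⟨hTS ht,
    fun y hy => ((mem_centralizerIn.1 (hYC hy)).2 t ht).symm⟩
  set W := rc S Y with hW
  have hWS : W ≤ S := sup_le hYS (centralizerIn_le S Y)
  have hext : W ≤ extender S (Y ⊔ T) ψ := by
    refine sup_le (le_sup_left.trans (le_extender hYTS fun z => apply_mem hψ z)) fun c hc => ?_
    obtain ⟨hcS, hcC⟩ := mem_centralizerIn.1 hc
    refine mem_extender_iff.2 ⟨hcS, hYn hcS, c, hcS, fun x hx => ?_⟩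
    let f₁ : ↥(Y ⊔ T) →* Ω := (MulAut.conj c).toMonoidHom.comp ψ
    let f₂ : ↥(Y ⊔ T) →* Ω := ψ.comp (conjAut (hYn hcS)).toMonoidHom
    suffices h : f₂ = f₁ from DFunLike.congr_fun h x
    refine hom_sup_ext (fun y => ?_) fun t => ?_
    · show ψ ⟨c * y * c⁻¹, _⟩ = c * ψ _ * c⁻¹
      have h1 : ψ (Subgroup.inclusion le_sup_left y) ∈ Y := by
        rw [hψY]
        exact ((a : MulAut Y) y).2
      rw [← hcC _ h1, mul_inv_cancel_right]
      refine congrArg ψ (Subtype.ext ?_)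
      show c * (y : Ω) * c⁻¹ = y
      rw [← hcC _ y.2, mul_inv_cancel_right]
    · show ψ ⟨c * t * c⁻¹, _⟩ = c * ψ _ * c⁻¹
      rw [hψT]
      exact hψT ⟨_, (Subgroup.mem_normalizer_iff.1 (le_normalizer_of_stronglyClosed hT hcS) _).1 t.2⟩
  obtain ⟨χ, hχ, hχe⟩ := exists_extension (isReceptive_of_fullyNormalized hS hF
    (isFullyNormalized_of_normal hYTS hYn)) hψ hψr hext
  have hYTW : Y ⊔ T ≤ W := sup_le_sup_left hTCY Y
  have hχY : ∀ y : Y, χ (Subgroup.inclusion le_sup_left y) = ((a : MulAut Y) y : Ω) := fun y =>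
    (hχe y (Subgroup.mem_sup_left y.2) _).trans (hψY y)
  have hχT : ∀ t : T, χ (Subgroup.inclusion (hTCY.trans le_sup_right) t) = t := fun t =>
    (hχe t (Subgroup.mem_sup_right t.2) _).trans (hψT t)
  have hχin : ∀ z : W, (z : Ω) ∈ Y → χ z ∈ Y := fun z hz => by
    rw [show z = Subgroup.inclusion le_sup_left (⟨(z : Ω), hz⟩ : Y) from rfl, hχY]
    exact ((a : MulAut Y) _).2
  have hχr : χ.range = W := range_eq_of_le hχ hWS (forall_sup_mem χ
    (fun y => Subgroup.mem_sup_left (hχin _ y.2))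
    fun c => Subgroup.mem_sup_right (map_centralizerIn le_sup_left hχ hχin _ c.2)) le_rfl
  -- a power of order prime to `p`
  set Φ₀ := toAut hχ hχr with hΦ₀
  have := finite_mulAut (Ω := Ω) hWS
  obtain ⟨k, m, hm, hord⟩ := Nat.exists_eq_pow_mul_and_not_dvd (orderOf_pos Φ₀).ne' p
    (Fact.out : p.Prime).ne_one
  set n := p ^ k with hn
  set Φ := Φ₀ ^ n with hΦ
  have hΦcop : (orderOf Φ).Coprime p := Nat.Coprime.coprime_dvd_left (k := m)
    (orderOf_dvd_of_pow_eq_one (by rw [← pow_mul, ← hord, pow_orderOf_eq_one]))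
    ((Fact.out : p.Prime).coprime_iff_not_dvd.2 hm).symm
  have hΦY : ∀ y : Y, Φ (Subgroup.inclusion le_sup_left y) =
      Subgroup.inclusion le_sup_left (((a : MulAut Y) ^ n) y) := by
    suffices ∀ (j : ℕ) (y : Y), (Φ₀ ^ j) (Subgroup.inclusion le_sup_left y) =
        Subgroup.inclusion le_sup_left (((a : MulAut Y) ^ j) y) from this n
    intro j
    induction j with
    | zero => exact fun y => rfl
    | succ j ih =>
      intro y
      rw [pow_succ', MulAut.mul_apply, ih, pow_succ', MulAut.mul_apply]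
      exact Subtype.ext (hχY _)
  have hΦT : ∀ t : T, Φ (Subgroup.inclusion (hTCY.trans le_sup_right) t) =
      Subgroup.inclusion (hTCY.trans le_sup_right) t := by
    suffices ∀ (j : ℕ) (t : T), (Φ₀ ^ j) (Subgroup.inclusion (hTCY.trans le_sup_right) t) =
        Subgroup.inclusion (hTCY.trans le_sup_right) t from this n
    intro j
    induction j with
    | zero => exact fun t => rfl
    | succ j ih =>
      intro t
      rw [pow_succ', MulAut.mul_apply, ih]
      exact Subtype.ext (hχT t)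
  have hΦF : Φ ∈ F.autGroup W := pow_mem (toAut_mem hχ hχr) n
  obtain ⟨hb, -⟩ := hom_of_mem_autGroup hWS hΦF
  have hΦin : ∀ z : W, (z : Ω) ∈ Y → ((Φ z : W) : Ω) ∈ Y := fun z hz => by
    rw [show z = Subgroup.inclusion le_sup_left (⟨(z : Ω), hz⟩ : Y) from rfl, hΦY]
    exact (((a : MulAut Y) ^ n) _).2
  have hΦC : ∀ z : W, (z : Ω) ∈ centralizerIn S Y → ((Φ z : W) : Ω) ∈ centralizerIn S Y :=
    fun z hz => map_centralizerIn le_sup_left hb hΦin z hz
  have hmove : ∀ c : W, (c : Ω) ∈ centralizerIn S Y →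
      (c : Ω)⁻¹ * ((Φ c : W) : Ω) ∈ Y := by
    intro c hc
    set u := c⁻¹ * Φ c with hu
    have huC : (u : Ω) ∈ centralizerIn S Y :=
      Subgroup.mul_mem _ (Subgroup.inv_mem _ hc) (hΦC c hc)
    have huT : (u : Ω) ∈ centralizerIn S T := by
      refine mem_centralizerIn.2 ⟨hWS u.2, fun t ht => ?_⟩
      have hct : (c : Ω) * t * (c : Ω)⁻¹ ∈ T :=
        (Subgroup.mem_normalizer_iff.1 (le_normalizer_of_stronglyClosed hT hc.1) _).1 ht
      have h1 := hΦT ⟨_, hct⟩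
      rw [show Subgroup.inclusion (hTCY.trans le_sup_right : T ≤ W) ⟨_, hct⟩ =
        c * Subgroup.inclusion (hTCY.trans le_sup_right) ⟨t, ht⟩ * c⁻¹ from Subtype.ext rfl,
        map_mul, map_mul, map_inv, hΦT] at h1
      have h2 := congrArg Subtype.val h1
      simp only [Subgroup.coe_mul, Subgroup.coe_inv, Subgroup.coe_inclusion] at h2
      show t * ((c : Ω)⁻¹ * ((Φ c : W) : Ω)) = (c : Ω)⁻¹ * ((Φ c : W) : Ω) * t
      calc t * ((c : Ω)⁻¹ * ((Φ c : W) : Ω))
          = (c : Ω)⁻¹ * ((c : Ω) * t * (c : Ω)⁻¹) * ((Φ c : W) : Ω) := by group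
        _ = (c : Ω)⁻¹ * (((Φ c : W) : Ω) * t * ((Φ c : W) : Ω)⁻¹) * ((Φ c : W) : Ω) := by rw [h2]
        _ = _ := by group
    have hv : ((u⁻¹ * Φ u : W) : Ω) ∈ Y := by
      have hP : Subgroup.zpowers (u : Ω) ⊔ T ≤ W :=
        sup_le (Subgroup.zpowers_le.2 u.2) (hTCY.trans le_sup_right)
      have hfF := restrict_mem hb hP
      set f := (W.subtype.comp Φ.toMonoidHom).comp (Subgroup.inclusion hP) with hf
      have hfT : ∀ t : T, f (Subgroup.inclusion le_sup_right t) = t := fun t =>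
        congrArg Subtype.val (hΦT t)
      refine hfoc (Subgroup.subset_closure ⟨Subgroup.zpowers (u : Ω),
        f.comp (Subgroup.inclusion le_sup_left), ⟨u, Subgroup.mem_zpowers _⟩,
        ⟨restrict_mem hfF _, Subgroup.zpowers_le.2 huT, fun z => ?_, f, hfF, fun z => rfl, hfT⟩,
        rfl⟩)
      refine map_centralizerIn le_sup_right hfF (fun t ht => ?_) _ (Subgroup.zpowers_le.2 huT z.2)
      rw [show t = Subgroup.inclusion le_sup_right (⟨(t : Ω), ht⟩ : T) from rfl, hfT]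
      exact ht
    have hiter : ∀ j : ℕ, ∃ r : W, (r : Ω) ∈ Y ∧ (Φ ^ j) c = c * u ^ j * r := by
      intro j
      induction j with
      | zero => exact ⟨1, Y.one_mem, by simp⟩
      | succ j ih =>
        obtain ⟨r, hrY, hr⟩ := ih
        set v := u⁻¹ * Φ u with hvdef
        have hcomm : Commute u v := Subtype.ext ((mem_centralizerIn.1 huC).2 _ hv).symm
        refine ⟨v ^ j * Φ r, ?_, ?_⟩
        · rw [Subgroup.coe_mul, Subgroup.coe_pow]
          exact Y.mul_mem (Y.pow_mem hv j) (hΦin r hrY)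
        · rw [pow_succ' Φ, MulAut.mul_apply, hr, map_mul, map_mul, map_pow,
            show Φ u = u * v from (mul_inv_cancel_left _ _).symm,
            show Φ c = c * u from (mul_inv_cancel_left _ _).symm, hcomm.mul_pow]
          rw [pow_succ' u]
          simp only [mul_assoc]
    obtain ⟨r, hrY, hr⟩ := hiter (orderOf Φ)
    rw [pow_orderOf_eq_one, MulAut.one_apply, mul_assoc, left_eq_mul] at hr
    have hun : ((u ^ orderOf Φ : W) : Ω) ∈ Y := by
      rw [eq_inv_of_mul_eq_one_left hr, Subgroup.coe_inv]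
      exact Y.inv_mem hrY
    have := finite_of_le (Ω := Ω) hWS
    obtain ⟨j, hj⟩ := hS.to_le hWS u
    have hco : (orderOf u).Coprime (orderOf Φ) :=
      ((hΦcop.pow_right j).symm).coprime_dvd_left (orderOf_dvd_of_pow_eq_one hj)
    exact Subgroup.zpowers_le.2 (show u ^ orderOf Φ ∈ Y.subgroupOf W from hun)
      (mem_zpowers_pow_iff.2 hco.symm)
  have hbmem : (a : MulAut Y) ^ n ∈ bExt F Y := ⟨Φ, hΦF, hΦY, hmove⟩
  have hacop : (orderOf (a : MulAut Y)).Coprime p := by rwa [Subgroup.orderOf_coe]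
  exact Subgroup.zpowers_le.2 hbmem (mem_zpowers_pow_iff.2 (hacop.pow_right k).symm)

end Cfsg.Agent.Fusion.CentralizerSubsystem
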