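import Cfsg.Agent.Lib.Fusion.Transport

/-!
Conjugates of subnormal subsystems and of components.
-/

set_option autoImplicit false

namespace Cfsg.Agent.Fusion.Transport

open Cfsg Cfsg.FusionSystem Cfsg.Agent.Fusion

universe u

variable {Ω : Type u} [Group Ω] {S : Subgroup Ω}

/-- An automorphism respecting a system is an isomorphism of it. -/
theorem isIsoAlong_of_aut {U : Subgroup Ω} (D : FusionSystem U) (A : Subgroup (MulAut U))
    (hinv : ∀ (P : Subgroup Ω) (hPT : P ≤ U) (φ : P →* Ω), φ ∈ D.Hom P → ∀ a ∈ A,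
      ∃ χ ∈ D.Hom ((P.subgroupOf U).map (U.subtype.comp a.toMonoidHom)),
        ∀ (x : P) (hφx : φ x ∈ U)
          (hax : ((a ⟨x, hPT x.2⟩ : U) : Ω) ∈ (P.subgroupOf U).map (U.subtype.comp a.toMonoidHom)),
          χ ⟨(a ⟨x, hPT x.2⟩ : U), hax⟩ = ((a ⟨φ x, hφx⟩ : U) : Ω))
    (a : MulAut U) (ha : a ∈ A) : IsIsoAlong D D (U.subtype.comp a.toMonoidHom) := by
  set β := U.subtype.comp a.toMonoidHom with hβ
  have hinj : Function.Injective β := U.subtype_injective.comp a.injective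
  have hfwd : ∀ (b : MulAut U), b ∈ A → ∀ (hb : Function.Injective (U.subtype.comp b.toMonoidHom))
      {P : Subgroup Ω} (hP : P ≤ U) (φ : P →* Ω) (hφ : ∀ x : P, φ x ∈ U), φ ∈ D.Hom P →
      transHom hb hP φ hφ ∈ D.Hom (imageAlong (U.subtype.comp b.toMonoidHom) P) := by
    intro b hbA hb P hP φ hφ hm
    obtain ⟨χ, hχ, hχv⟩ := hinv P hP φ hm b hbA
    refine mem_congr hχ rfl fun y hy => ?_
    obtain ⟨x, rfl⟩ := (mem_imageAlong hP).1 hy
    refine (transHom_apply hb hP hφ x).trans ?_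
    exact (hχv x (hφ x) _).symm
  refine ⟨hinj, ?_, fun {P} hP φ hφ => ⟨hfwd a ha hinj hP φ hφ, fun hm => ?_⟩⟩
  · ext y
    constructor
    · rintro ⟨x, rfl⟩; exact Subtype.property _
    · intro hy; exact ⟨a.symm ⟨y, hy⟩, by simp [hβ]⟩
  · have hPβ : imageAlong β P ≤ U := fun y hy => by
      obtain ⟨x, rfl⟩ := (mem_imageAlong hP).1 hy
      exact Subtype.property _
    set ψ := transHom hinj hP φ hφ with hψ
    have hψU : ∀ y, ψ y ∈ U := fun y => apply_mem hm y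
    have hinj' : Function.Injective (U.subtype.comp (a⁻¹ : MulAut U).toMonoidHom) :=
      U.subtype_injective.comp (a⁻¹ : MulAut U).injective
    have h2 := hfwd a⁻¹ (inv_mem ha) hinj' hPβ ψ hψU hm
    have he : imageAlong (U.subtype.comp (a⁻¹ : MulAut U).toMonoidHom) (imageAlong β P) = P := by
      ext z
      rw [mem_imageAlong hPβ]
      constructor
      · rintro ⟨⟨y, hy⟩, rfl⟩
        obtain ⟨x, rfl⟩ := (mem_imageAlong hP).1 hy
        show ((a⁻¹ (a ⟨x, hP x.2⟩) : U) : Ω) ∈ P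
        rw [MulAut.inv_apply_self]
        exact x.2
      · intro hz
        exact ⟨⟨_, (mem_imageAlong hP).2 ⟨⟨z, hz⟩, rfl⟩⟩,
          congrArg Subtype.val (MulAut.inv_apply_self U a ⟨z, hP hz⟩)⟩
    refine mem_congr h2 he.symm fun x hx => ?_
    have hx' : (⟨x, he.symm ▸ hx⟩ : imageAlong (U.subtype.comp (a⁻¹ : MulAut U).toMonoidHom) (imageAlong β P)) =
        imgEquiv hinj' hPβ (imgEquiv hinj hP ⟨x, hx⟩) :=
      Subtype.ext (congrArg Subtype.val (MulAut.inv_apply_self U a ⟨x, hP hx⟩)).symm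
    rw [hx', transHom_apply]
    have h3 : ψ (imgEquiv hinj hP ⟨x, hx⟩) = β ⟨φ ⟨x, hx⟩, hφ _⟩ := transHom_apply hinj hP hφ ⟨x, hx⟩
    refine Eq.trans ?_ (congrArg (U.subtype.comp (a⁻¹ : MulAut U).toMonoidHom) (Subtype.ext h3.symm :
      (⟨β ⟨φ ⟨x, hx⟩, hφ _⟩, Subtype.property _⟩ : U) = _))
    exact (congrArg Subtype.val (MulAut.inv_apply_self U a ⟨φ ⟨x, hx⟩, hφ _⟩)).symm

/-- A system is invariant in itself. -/
theorem self_invariant [Finite S] (F : FusionSystem S) (P : Subgroup Ω) (hP : P ≤ S) (φ : P →* Ω)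
    (hφ : φ ∈ F.Hom P) (a : MulAut S) (ha : a ∈ F.autGroup S) :
    ∃ χ ∈ F.Hom ((P.subgroupOf S).map (S.subtype.comp a.toMonoidHom)),
      ∀ (x : P) (hφx : φ x ∈ S)
        (hax : ((a ⟨x, hP x.2⟩ : S) : Ω) ∈ (P.subgroupOf S).map (S.subtype.comp a.toMonoidHom)),
        χ ⟨(a ⟨x, hP x.2⟩ : S), hax⟩ = ((a ⟨φ x, hφx⟩ : S) : Ω) := by
  set R := (P.subgroupOf S).map (S.subtype.comp a.toMonoidHom) with hR
  have hRS : R ≤ S := fun y ⟨x, _, hx⟩ => hx ▸ Subtype.property _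
  have h1 := restrict_mem ((mem_autGroup_iff le_rfl).1 (inv_mem ha)) hRS
  have hmem : ∀ y, (S.subtype.comp (a⁻¹ : MulAut S).toMonoidHom).comp (Subgroup.inclusion hRS) y ∈ P := by
    rintro ⟨_, x, hx, rfl⟩
    show ((a⁻¹ (a x) : S) : Ω) ∈ P
    rw [MulAut.inv_apply_self]
    exact hx
  have h2 := F.comp_mem h1 hφ hmem
  have h3 := F.comp_mem h2 ((mem_autGroup_iff le_rfl).1 ha) (fun y => apply_mem h2 y)
  refine ⟨_, h3, fun x hφx hax => congrArg (fun z : S => ((a z : S) : Ω)) (Subtype.ext ?_)⟩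
  refine congrArg φ (Subtype.ext ?_)
  show ((a⁻¹ (a ⟨x, hP x.2⟩) : S) : Ω) = x
  rw [MulAut.inv_apply_self]

/-- Conjugates of subnormal subsystems are subnormal. -/
theorem conj_subnormal {p : ℕ} {T : Subgroup Ω} {C : FusionSystem T} {F : FusionSystem S}
    (hC : C.IsSubnormalIn F p) : ∀ [Finite S] [Fact p.Prime], ∀ γ ∈ F.Hom T,
      ∀ {T' : Subgroup Ω} (E : FusionSystem T'), IsIsoAlong C E γ → E.IsSubnormalIn F p := by
  induction hC with
  | refl F p =>
    intro _ _ γ hγ T' E hE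
    have hT : γ.range = T := range_eq_of_le hγ le_rfl (apply_mem hγ) le_rfl
    let a : MulAut T := homEquiv hγ hT
    have ha : a ∈ F.autGroup T := (mem_autGroup_iff le_rfl).2 hγ
    have hF : IsIsoAlong F F γ := isIsoAlong_of_aut F _ (self_invariant F) a ha
    have hT' : T' = T := hE.range_eq.symm.trans hT
    subst hT'
    exact eq_of_hom rfl (hom_eq_of_iso hE hF rfl) p
  | @step U S C D F p hCD hn ih =>
    intro _ _ γ hγ T' E hE
    have hUS : U ≤ S := hn.1.2.2.2.1.1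
    have hTU : T ≤ U := subnormal_le hCD
    have := finite_of_le hUS
    have := finite_of_le (hTU.trans hUS)
    obtain ⟨a, ha, φ₀, hφ₀, heq⟩ := hn.1.2.2.2.2.2 T hTU γ hγ
    have hk : ∀ s : T, φ₀ s = 1 ↔ (s : Ω) ∈ (⊥ : Subgroup Ω) := subgroupOf_bot_ker (D.injective_of_mem hφ₀)
    have hsc : C.StronglyClosed ⊥ := ⟨bot_le, fun R hR φ _ x => by
      obtain rfl : x = 1 := Subtype.ext (Subgroup.mem_bot.1 (hR x.2))
      rw [map_one]; exact Subgroup.one_mem _⟩
    have hf := factorSystem_spec C hsc φ₀ hk (rfl : φ₀.range = φ₀.range)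
    set C₁ := factorSystem C hsc φ₀ hk (rfl : φ₀.range = φ₀.range)
    obtain ⟨β₀, hβ₀, hθ₀⟩ := isIsoAlong_of_factors (isFactorSystem_self C) hf
    have hC₁ : IsIsoAlong C C₁ φ₀ := by
      convert hβ₀ using 1
      exact MonoidHom.ext fun x => (hθ₀ x).2.symm
    have h1 := ih φ₀ hφ₀ C₁ hC₁
    have hD := isIsoAlong_of_aut D _ (fun P hP φ hφ b hb => hn.1.2.2.2.2.1 P hP φ hφ b hb) a ha
    obtain ⟨β₁, hβ₁, hθ₁⟩ := isIsoAlong_of_factors hf (isFactorSystem hE)
    refine IsSubnormalIn.step (isSubnormalIn_fwd h1 hD (range_le hφ₀) ?_) hn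
    convert hβ₁ using 1
    refine MonoidHom.ext fun y => ?_
    obtain ⟨x, hx⟩ := y.2
    obtain ⟨hm, hv⟩ := hθ₁ x
    have hy : y = ⟨φ₀ x, hm⟩ := Subtype.ext hx.symm
    rw [hy, hv, heq x (apply_mem hφ₀ x)]
    rfl

/-- Conjugates of components are components. -/
theorem conj_component [Finite S] {p : ℕ} [Fact p.Prime] {F : FusionSystem S} {T : Subgroup Ω}
    {C : FusionSystem T} (hC : C.IsComponentIn F p) {γ : T →* Ω} (hγ : γ ∈ F.Hom T)
    {E : FusionSystem γ.range} (hE : C.IsFactorSystem ⊥ γ E) : E.IsComponentIn F p := by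
  have := finite_of_le (subnormal_le hC.1)
  obtain ⟨β, hβ, hθ⟩ := isIsoAlong_of_factors (isFactorSystem_self C) hE
  have hiso : IsIsoAlong C E γ := by
    convert hβ using 1
    exact MonoidHom.ext fun x => (hθ x).2.symm
  exact ⟨conj_subnormal hC.1 γ hγ E hiso, quasisimple_fwd hiso hC.2⟩

end Cfsg.Agent.Fusion.Transport
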