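import Cfsg.Agent.Lib.Fusion.Constrained
import Cfsg.Agent.Lib.Fusion.Invariant
import Cfsg.Agent.Lib.Fusion.ComponentConj

/-!
Constrained passes from an invariant subsystem over `S`, and from a saturated subsystem of `p`-power
index over the hyperfocal subgroup, to the whole system.
-/

set_option autoImplicit false
set_option linter.unusedSectionVars false

namespace Cfsg.Agent.Fusion.ConstrainedExtensions

open Cfsg Cfsg.FusionSystem Cfsg.Agent.Fusion
open scoped commutatorElement

variable {Ω : Type*} [Group Ω] {S T : Subgroup Ω} {F : FusionSystem S} {E : FusionSystem T} {p : ℕ}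

/-- `Aut_F(T)` fixes the core of an invariant subsystem. -/
theorem aut_core [Finite S] (hE : E.IsInvariantIn F) {α : MulAut T} (hα : α ∈ F.autGroup T) (x : T)
    (hx : (x : Ω) ∈ E.core) : ((α x : T) : Ω) ∈ E.core := by
  have := finite_of_le (Ω := Ω) hE.2.1.1
  have hi := Transport.isIsoAlong_of_aut E _
    (fun P hP φ hφ a ha => hE.2.2.1 P hP φ hφ a ha) α hα
  obtain ⟨β, hβ, hβv, himg⟩ := Transport.exists_symm hi
  have hcore := isNormal_core E
  have hle : imageAlong (T.subtype.comp α.toMonoidHom) E.core ≤ T := hi.img_le _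
  have hn : E.IsNormal (imageAlong (T.subtype.comp α.toMonoidHom) E.core) :=
    hβ.isNormal hle ((himg _ hcore.1).symm ▸ hcore)
  exact le_core hn ((mem_imageAlong hcore.1).2 ⟨⟨x, hx⟩, rfl⟩)

/-- An `Aut_F(T)`-invariant subgroup strongly closed in an invariant subsystem is strongly closed. -/
theorem stronglyClosed_lift (hE : E.IsInvariantIn F) {U : Subgroup Ω} (hU : E.StronglyClosed U)
    (hinv : ∀ α ∈ F.autGroup T, ∀ x : T, (x : Ω) ∈ U → ((α x : T) : Ω) ∈ U) :
    F.StronglyClosed U := by
  refine ⟨hU.1.trans hE.2.1.1, fun R hR φ hφ x => ?_⟩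
  obtain ⟨α, hα, φ₀, hφ₀, he⟩ := hE.2.2.2 R (hR.trans hU.1) φ hφ
  rw [he x (apply_mem hφ₀ x)]
  exact hinv α hα _ (hU.2 R hR φ₀ hφ₀ x)

/-- The core of an invariant subsystem is normal. -/
theorem isNormal_core_of_invariant [Finite S] [Fact p.Prime] (hS : IsPGroup p S)
    (hF : F.IsSaturated p) (hE : E.IsInvariantIn F) : F.IsNormal E.core := by
  have hTS := hE.2.1.1
  have := finite_of_le (Ω := Ω) hTS
  have hcore := isNormal_core E
  obtain ⟨n, U, hU0, hUn, hmono, hUnorm, hcomm⟩ :
      ∃ (n : ℕ) (U : ℕ → Subgroup Ω), U 0 = ⊥ ∧ U n = E.core ∧ Monotone U ∧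
        (∀ i, F.StronglyClosed (U i)) ∧ ∀ i < n, ⁅E.core, U (i + 1)⁆ ≤ U i := by
    have hpT := hS.to_le hTS
    have := finite_of_le (Ω := Ω) hcore.1
    have hnil : Group.IsNilpotent E.core := (hpT.to_le hcore.1).isNilpotent
    obtain ⟨n, hn⟩ := (Subgroup.isNilpotent_iff_lowerCentralSeries _).1 hnil
    refine ⟨n, fun i => E.core.lowerCentralSeries (n - i), by simpa using hn, by simp,
      fun i j hij => E.core.lowerCentralSeries_antitone (by omega), fun i => ?_, fun i hi => ?_⟩
    · have hle : E.core.lowerCentralSeries (n - i) ≤ E.core :=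
        (E.core.lowerCentralSeries_antitone (Nat.zero_le _)).trans_eq E.core.lowerCentralSeries_zero
      refine stronglyClosed_lift hE (stronglyClosed_of_isNormal (isNormal_lowerCentralSeries hcore _))
        fun α hα x hx => ?_
      change (x : Ω) ∈ E.core.lowerCentralSeries (n - i) at hx
      change ((α x : T) : Ω) ∈ E.core.lowerCentralSeries (n - i)
      have hmaps : ∀ y : E.core, ((α ⟨y, hcore.1 y.2⟩ : T) : Ω) ∈ E.core := fun y =>
        aut_core hE hα _ y.2
      let γ : E.core →* E.core :=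
        ((T.subtype.comp α.toMonoidHom).comp (Subgroup.inclusion hcore.1)).codRestrict _ hmaps
      have hmap : ((⊤ : Subgroup E.core).lowerCentralSeries (n - i)).map γ ≤
          (⊤ : Subgroup E.core).lowerCentralSeries (n - i) := by
        induction (n - i) with
        | zero => simp
        | succ k ih =>
          rw [Subgroup.lowerCentralSeries_succ, Subgroup.map_commutator]
          exact Subgroup.commutator_mono ih le_top
      have hx' : (⟨(x : Ω), hle hx⟩ : E.core) ∈ (⊤ : Subgroup E.core).lowerCentralSeries (n - i) := by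
        rw [← Subgroup.top_subtype_lowerCentralSeries] at hx
        obtain ⟨z, hz, hzx⟩ := hx
        rwa [show (⟨(x : Ω), hle (by rw [← Subgroup.top_subtype_lowerCentralSeries]; exact ⟨z, hz, hzx⟩)⟩ :
          E.core) = z from Subtype.ext hzx.symm]
      rw [← Subgroup.top_subtype_lowerCentralSeries]
      exact ⟨γ ⟨x, hle hx⟩, hmap ⟨_, hx', rfl⟩, rfl⟩
    · rw [Subgroup.commutator_comm]
      show _ ≤ E.core.lowerCentralSeries (n - i)
      rw [show n - i = (n - (i + 1)) + 1 by omega, Subgroup.lowerCentralSeries_succ]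
  exact isNormal_of_chain hS hF hU0 hUn (fun i _ => hUnorm i) hcomm

theorem isConstrained_of_normal_core [Finite S] (hF : F.IsSaturated p) {Q : Subgroup Ω}
    (hQ : F.IsNormal Q) (hC : centralizerIn S Q ≤ Q) : F.IsConstrained p := by
  refine ⟨hF, Q, hQ, hQ.1, ?_⟩
  rintro R ⟨φ, hφ, rfl⟩
  rw [range_eq_of_le hφ hQ.1 (fun x => (stronglyClosed_of_isNormal hQ).2 _ le_rfl φ hφ x) le_rfl]
  exact hC

/-- Constrained passes up from an invariant subsystem over `S`. -/
theorem isConstrained_of_invariant [Finite S] [Fact p.Prime] (hS : IsPGroup p S)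
    (hF : F.IsSaturated p) {E : FusionSystem S} (hE : E.IsInvariantIn F)
    (hc : E.IsConstrained p) : F.IsConstrained p :=
  isConstrained_of_normal_core hF (isNormal_core_of_invariant hS hF hE)
    (isCentric_centralizerIn_le (isCentric_core hc))

/-- Constrained passes up from the `p`-residual. -/
theorem isConstrained_of_pResidual [Finite S] [Fact p.Prime] (hS : IsPGroup p S)
    (hF : F.IsSaturated p) {D : FusionSystem (F.hyperfocalSubgroup p)}
    (hD : F.IsPResidual p D) (hc : D.IsConstrained p) : F.IsConstrained p := by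
  have hHS := hyperfocal_le F p
  have hHn := le_normalizer_hyperfocal F p
  have := finite_of_le (Ω := Ω) hHS
  have hinv : D.IsInvariantIn F :=
    (isNormalIn_of_pPowerIndex hS hF (stronglyClosed_hyperfocal hS hF) hD.1 hD.2).1.2.2
  have hR := isNormal_core_of_invariant hS hF hinv
  set R := D.core with hRdef
  set X := centralizerIn S R with hX
  have hXS : X ≤ S := inf_le_left
  have hXR : X ⊓ (F.hyperfocalSubgroup p) ≤ R := fun x hx =>
    isCentric_centralizerIn_le (isCentric_core hc) ⟨hx.2, hx.1.2⟩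
  have hXcl : F.StronglyClosed X := by
    refine ⟨hXS, fun P hP φ hφ x => ⟨apply_mem hφ x, Subgroup.mem_centralizer_iff.2 fun r hr => ?_⟩⟩
    obtain ⟨ψ, hψ, hψP, hψR⟩ := hR.2 P φ hφ
    obtain ⟨r', hr', rfl⟩ := hψR.ge hr
    rw [← hψP x, ← map_mul, ← map_mul]
    exact congrArg ψ (Subtype.ext (Subgroup.mem_centralizer_iff.1 (hP x.2).2 _ hr'))
  have hnil : Group.IsNilpotent S := hS.isNilpotent
  obtain ⟨n, hn⟩ := (Subgroup.isNilpotent_iff_lowerCentralSeries S).1 hnil
  set L := fun k => S.lowerCentralSeries k with hL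
  have hLS : ∀ k, L k ≤ S := fun k =>
    (S.lowerCentralSeries_antitone (Nat.zero_le k)).trans_eq S.lowerCentralSeries_zero
  have hLn : ∀ k, S ≤ Subgroup.normalizer (L k : Set Ω) := by
    intro k g hg
    have h1 : ∀ g ∈ S, ∀ y ∈ L k, g * y * g⁻¹ ∈ L k := fun g hg y hy => by
      have h2 : ⁅y, g⁆ ∈ L (k + 1) := by
        show _ ∈ S.lowerCentralSeries (k + 1)
        rw [Subgroup.lowerCentralSeries_succ]
        exact Subgroup.commutator_mem_commutator hy hg
      have h3 := (L k).mul_mem ((L k).inv_mem (S.lowerCentralSeries_antitone (Nat.le_succ k) h2)) hy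
      simpa [commutatorElement_def, mul_assoc] using h3
    refine Subgroup.mem_normalizer_iff.2 fun y => ⟨h1 g hg y, fun hy => ?_⟩
    simpa [mul_assoc] using h1 g⁻¹ (S.inv_mem hg) _ hy
  have hsupn : ∀ k, S ≤ Subgroup.normalizer (((F.hyperfocalSubgroup p) ⊔ L k : Subgroup Ω) : Set Ω) := by
    intro k g hg
    rw [Subgroup.mem_normalizer_iff_map_conj_eq, Subgroup.map_sup,
      Subgroup.mem_normalizer_iff_map_conj_eq.1 (hHn hg),
      Subgroup.mem_normalizer_iff_map_conj_eq.1 (hLn k hg)]
  have hcl : ∀ k, F.StronglyClosed (X ⊓ ((F.hyperfocalSubgroup p) ⊔ L k)) := fun k =>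
    stronglyClosed_inf hXcl
      (stronglyClosed_of_hyperfocal_le hS hF (sup_le hHS (hLS k)) le_sup_left (hsupn k))
  have hstep : ∀ k, ∀ u ∈ (F.hyperfocalSubgroup p) ⊔ L k, u ∈ S ∧ ∀ x ∈ S, ⁅u, x⁆ ∈ (F.hyperfocalSubgroup p) ⊔ L (k + 1) := by
    intro k
    let M : Subgroup Ω :=
      { carrier := {u | u ∈ S ∧ ∀ x ∈ S, ⁅u, x⁆ ∈ (F.hyperfocalSubgroup p) ⊔ L (k + 1)}
        one_mem' := ⟨S.one_mem, fun x _ => by simp [commutatorElement_def]⟩
        mul_mem' := fun {a b} ha hb => ⟨S.mul_mem ha.1 hb.1, fun x hx => by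
          have h1 := (Subgroup.mem_normalizer_iff.1 (hsupn (k + 1) ha.1) _).1 (hb.2 x hx)
          have h2 := Subgroup.mul_mem _ h1 (ha.2 x hx)
          simpa [commutatorElement_def, mul_assoc] using h2⟩
        inv_mem' := fun {a} ha => ⟨S.inv_mem ha.1, fun x hx => by
          have h1 := (Subgroup.mem_normalizer_iff.1 (hsupn (k + 1) (S.inv_mem ha.1)) _).1
            (Subgroup.inv_mem _ (ha.2 x hx))
          simpa [commutatorElement_def, mul_assoc] using h1⟩ }
    show (F.hyperfocalSubgroup p) ⊔ L k ≤ M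
    refine sup_le (fun u hu => ⟨hHS hu, fun x hx => Subgroup.mem_sup_left ?_⟩) fun u hu =>
      ⟨hLS k hu, fun x hx => Subgroup.mem_sup_right ?_⟩
    · have h1 := (F.hyperfocalSubgroup p).mul_mem hu ((Subgroup.mem_normalizer_iff.1 (hHn hx) u⁻¹).1 ((F.hyperfocalSubgroup p).inv_mem hu))
      simpa [commutatorElement_def, mul_assoc] using h1
    · show _ ∈ S.lowerCentralSeries (k + 1)
      rw [Subgroup.lowerCentralSeries_succ]
      exact Subgroup.commutator_mem_commutator hu hx
  have hXn : F.IsNormal X := by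
    refine isNormal_of_chain hS hF (n := n + 1)
      (T := fun i => if i = 0 then ⊥ else X ⊓ ((F.hyperfocalSubgroup p) ⊔ L (n + 1 - i))) rfl ?_ ?_ ?_
    · rw [if_neg (Nat.succ_ne_zero n)]
      simp only [Nat.sub_self, hL, Subgroup.lowerCentralSeries_zero]
      exact inf_eq_left.2 (hXS.trans le_sup_right)
    · intro i _
      split
      · exact stronglyClosed_bot
      · exact hcl _
    · intro i hi
      rcases i with - | i
      · simp only [if_true, Nat.zero_add, one_ne_zero, if_false, Nat.add_sub_cancel, le_bot_iff]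
        rw [Subgroup.commutator_eq_bot_iff_le_centralizer]
        intro x hx y hy
        have hyR : y ∈ R := hXR ⟨hy.1, (sup_le le_rfl ((hn : L n = ⊥).le.trans bot_le)) hy.2⟩
        exact Subgroup.mem_centralizer_iff.1 hx.2 y hyR
      · simp only [Nat.succ_ne_zero, if_false]
        rw [Subgroup.commutator_le]
        intro x hx y hy
        have hxy : ⁅x, y⁆ ∈ X := by
          have hyX := hy.1
          rw [commutatorElement_def]
          exact X.mul_mem (X.mul_mem (X.mul_mem hx hyX) (X.inv_mem hx)) (X.inv_mem hyX)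
        refine ⟨hxy, ?_⟩
        rw [show n + 1 - (i + 1) = (n + 1 - (i + 1 + 1)) + 1 by omega, ← commutatorElement_inv]
        exact Subgroup.inv_mem _ ((hstep _ y hy.2).2 x (hXS hx))
  refine isConstrained_of_normal_core hF (isNormal_core F) fun c hc => le_core hXn ?_
  exact ⟨hc.1, Subgroup.centralizer_le (le_core hR) hc.2⟩

end Cfsg.Agent.Fusion.ConstrainedExtensions
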