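import Cfsg.Agent.Lib.Fusion.Iso
import Cfsg.Agent.Lib.Fusion.Model
import Cfsg.Agent.Lib.Fusion.ModelEmbed
import Cfsg.Agent.Lib.Fusion.CoreCentralizer
import Cfsg.Agent.Lib.Fusion.ConstrainedExtensions
import Cfsg.Agent.Lib.LocalChar.Basic

/-!
If the centralizer systems of the fully normalized subgroups of order `p` are constrained, then
the system is of characteristic `p`-type.
-/

set_option autoImplicit false
set_option linter.unusedSectionVars false

namespace Cfsg.Agent.Fusion.CentralizerType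

open Cfsg Cfsg.FusionSystem Cfsg.Agent.Fusion

universe u

variable {Ω : Type u} [Group Ω] {S : Subgroup Ω} {F : FusionSystem S} {p : ℕ}
variable [Finite S] [Fact p.Prime]

/-- The centralizer systems of the fully normalized subgroups of order `p` are constrained. -/
def ConstrainedOrderP (F : FusionSystem S) (p : ℕ) : Prop :=
  ∀ X : Subgroup Ω, Nat.card X = p → F.IsFullyNormalized X →
    ∀ C : FusionSystem (centralizerIn S X), F.IsCentralizerSystem X C → C.IsConstrained p

/-- A nontrivial subgroup of `S` has a central subgroup of order `p`. -/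
theorem exists_central_card (hS : IsPGroup p S) {U : Subgroup Ω} (hU : U ≤ S) (hne : U ≠ ⊥) :
    ∃ X : Subgroup Ω, Nat.card X = p ∧ X ≤ U ∧ U ≤ Subgroup.centralizer (X : Set Ω) := by
  have := finite_of_le (Ω := Ω) hU
  have : Nontrivial U := U.bot_or_nontrivial.resolve_left hne
  have hUp := hS.to_le hU
  have := hUp.center_nontrivial
  obtain ⟨k, hk, hc⟩ := (hUp.to_subgroup (Subgroup.center U)).nontrivial_iff_card.1 this
  obtain ⟨z, hz⟩ := exists_prime_orderOf_dvd_card' (G := Subgroup.center U) p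
    (by rw [hc]; exact dvd_pow_self p (by omega))
  refine ⟨Subgroup.zpowers ((z : U) : Ω), ?_, ?_, ?_⟩
  · rw [Nat.card_zpowers, Subgroup.orderOf_coe, Subgroup.orderOf_coe, hz]
  · exact Subgroup.zpowers_le.2 (z : U).2
  · intro u hu
    rw [Subgroup.mem_centralizer_iff]
    intro x hx
    obtain ⟨i, rfl⟩ := Subgroup.mem_zpowers_iff.1 hx
    have h : Commute ((z : U) : Ω) u :=
      (congrArg Subtype.val (Subgroup.mem_center_iff.1 z.2 ⟨u, hu⟩)).symm
    exact h.zpow_left i

/-- The centralizer system of a nontrivial fully normalized subgroup is constrained. -/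
theorem isConstrained_centralizer (hS : IsPGroup p S) (hF : F.IsSaturated p)
    (hyp : ConstrainedOrderP F p) {U : Subgroup Ω} (hne : U ≠ ⊥) (hU : F.IsFullyNormalized U)
    {T : Subgroup Ω} (hT : T = centralizerIn S U) {C : FusionSystem T}
    (hC : ∀ P : Subgroup Ω, C.Hom P = F.centralizerHom U P) : C.IsConstrained p := by
  subst hT
  have hUS := hU.1
  obtain ⟨X, hXp, hXU, hUX⟩ := exists_central_card hS hUS hne
  have hXS := hXU.trans hUS
  obtain ⟨X', hXX', hX'⟩ := exists_fullyNormalized F hXS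
  obtain ⟨φ, hφ, -, hφX⟩ := exists_hom_fullyNormalized hS hF hX' hXX'
  set M := centralizerIn S X with hM
  have hMN : M ≤ normalizerIn S X := centralizerIn_le_normalizerIn S X
  have hXM : X ≤ M := fun x hx => mem_centralizerIn.2 ⟨hXS hx, fun y hy =>
    Subgroup.mem_centralizer_iff.1 (hUX (hXU hx)) y hy⟩
  have hUM : U ≤ M := fun u hu => mem_centralizerIn.2 ⟨hUS hu, fun y hy =>
    Subgroup.mem_centralizer_iff.1 (hUX hu) y hy⟩
  have hCM : centralizerIn S U ≤ M := fun c hc => mem_centralizerIn.2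
    ⟨(mem_centralizerIn.1 hc).1, fun y hy => (mem_centralizerIn.1 hc).2 y (hXU hy)⟩
  set C' := centralizerIn S X' with hC'
  set θ := φ.comp (Subgroup.inclusion hMN) with hθdef
  have hθ : θ ∈ F.Hom M := restrict_mem hφ hMN
  -- images of the elements of `X`
  have hsurjX : ∀ x' ∈ X', ∃ (x : Ω) (hx : x ∈ X), θ ⟨x, hXM hx⟩ = x' := by
    intro x' hx'
    obtain ⟨⟨x, hxN⟩, hx, rfl⟩ := hφX.ge hx'
    exact ⟨x, hx, rfl⟩
  have hθC : ∀ z : M, θ z ∈ C' := by
    intro z
    refine mem_centralizerIn.2 ⟨apply_mem hθ z, fun x' hx' => ?_⟩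
    obtain ⟨x, hx, rfl⟩ := hsurjX x' hx'
    rw [← map_mul, ← map_mul]
    exact congrArg θ (Subtype.ext ((mem_centralizerIn.1 z.2).2 x hx))
  have hθinj : Function.Injective θ := F.injective_of_mem hθ
  -- the model of `C_F(X')`
  have hC'S : C' ≤ S := centralizerIn_le S X'
  have hX'fc := isFullyCentralized_of_fullyNormalized hS hF hX'
  have hH := hyp X' (by rw [isConj_card hXX', hXp]) hX' _ (centralizerSystem_spec F X' hX'.1)
  have := finite_of_le (Ω := Ω) hC'S
  obtain ⟨hHs, Q, hQn, hQc⟩ := hH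
  obtain ⟨G, _, ι, hfin, hreal, ⟨T₀, hT₀⟩, hcp⟩ := Model.exists_model (hS.to_le hC'S) hHs hQn hQc
  have := hfin
  have hι := hreal.1
  let κ : M →* G := ι.comp (θ.codRestrict C' hθC)
  have hκinj : Function.Injective κ := fun a b hab =>
    hθinj (congrArg Subtype.val (hι hab))
  set V : Subgroup G := (κ.comp (Subgroup.inclusion hUM)).range with hVdef
  set K : Subgroup G := Subgroup.centralizer (V : Set G) with hKdef
  have hfK : ∀ c : centralizerIn S U, κ (Subgroup.inclusion hCM c) ∈ K := by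
    intro c
    rw [hKdef, Subgroup.mem_centralizer_iff]
    rintro _ ⟨u, rfl⟩
    show κ _ * κ _ = κ _ * κ _
    rw [← map_mul, ← map_mul]
    exact congrArg κ (Subtype.ext ((mem_centralizerIn.1 c.2).2 u u.2))
  let f : centralizerIn S U →* K := (κ.comp (Subgroup.inclusion hCM)).codRestrict K hfK
  have hfinj : Function.Injective f := fun a b hab =>
    Subgroup.inclusion_injective hCM (hκinj (congrArg Subtype.val hab))
  have hVp : IsPGroup p V := by
    rw [hVdef]
    exact (hS.to_le hUS).of_surjective _ (MonoidHom.rangeRestrict_surjective _)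
  -- the realization
  have hrealized : C.IsRealizedBy f := by
    refine ⟨hfinj, fun P hP ψ hψC => ?_⟩
    rw [hC P]
    set W := P ⊔ U with hW
    have hWM : W ≤ M := sup_le (hP.trans hCM) hUM
    set W' := (θ.comp (Subgroup.inclusion hWM)).range with hW'
    have hW'C : W' ≤ C' := by rintro _ ⟨w, rfl⟩; exact hθC _
    have hmemW' : ∀ (z : Ω) (hz : z ∈ W), θ ⟨z, hWM hz⟩ ∈ W' := fun z hz => ⟨⟨z, hz⟩, rfl⟩
    have hX'W : X' ≤ W' := by
      intro x' hx'
      obtain ⟨x, hx, rfl⟩ := hsurjX x' hx'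
      exact hmemW' x (Subgroup.mem_sup_right (hXU hx))
    obtain ⟨η, hη, -, hηi, -⟩ := exists_inverse (restrict_mem hθ hWM) (hW'.symm)
    constructor
    · rintro ⟨-, -, -, ψ', hψ', hψ'P, hψ'U⟩
      have hψ'M : ∀ z, ψ' z ∈ M := forall_sup_mem ψ'
        (fun x => by rw [hψ'P]; exact hCM (hψC x))
        (fun u => by rw [hψ'U]; exact hUM u.2)
      have hηW : ∀ y, η y ∈ W := by
        rintro ⟨_, w, rfl⟩
        exact Set.mem_of_eq_of_mem (hηi w ⟨w, rfl⟩) w.2
      set χ := θ.comp ((ψ'.comp (η.codRestrict W hηW)).codRestrict M fun y => hψ'M _) with hχdef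
      have hχF : χ ∈ F.Hom W' := F.comp_mem (F.comp_mem hη hψ' hηW) hθ fun y => hψ'M _
      have hval : ∀ w : W, χ ⟨θ (Subgroup.inclusion hWM w), ⟨w, rfl⟩⟩ = θ ⟨ψ' w, hψ'M w⟩ := by
        intro w
        refine congrArg θ (Subtype.ext ?_)
        exact congrArg ψ' (Subtype.ext (hηi w ⟨w, rfl⟩))
      have hfixU : ∀ u : U, χ ⟨θ ⟨u, hUM u.2⟩, hmemW' u (Subgroup.mem_sup_right u.2)⟩ =
          θ ⟨u, hUM u.2⟩ := fun u =>
        (hval (Subgroup.inclusion le_sup_right u)).trans (congrArg θ (Subtype.ext (hψ'U u)))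
      have hχH : χ ∈ F.centralizerHom X' W' := by
        have hle : W' ⊔ X' ≤ W' := sup_le le_rfl hX'W
        refine ⟨hχF, hW'C, fun y => hθC _, χ.comp (Subgroup.inclusion hle),
          restrict_mem hχF hle, fun y => rfl, ?_⟩
        rintro ⟨x', hx'⟩
        obtain ⟨x, hx, rfl⟩ := hsurjX x' hx'
        exact hfixU ⟨x, hXU hx⟩
      obtain ⟨hW'C', hχC', g, hg⟩ := (realized_hom_iff hreal).1 hχH
      have hgK : g ∈ K := by
        rw [hKdef, Subgroup.mem_centralizer_iff]
        rintro _ ⟨u, rfl⟩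
        have h := (hg ⟨θ ⟨u, hUM u.2⟩, hmemW' u (Subgroup.mem_sup_right u.2)⟩).symm.trans
          (congrArg ι (Subtype.ext (hfixU u) :
            (⟨χ ⟨θ ⟨u, hUM u.2⟩, _⟩, hθC _⟩ : C') = ⟨θ ⟨u, hUM u.2⟩, hθC _⟩))
        exact (mul_inv_eq_iff_eq_mul.1 h).symm
      refine ⟨⟨g, hgK⟩, fun x => Subtype.ext ?_⟩
      have hx := hg ⟨θ ⟨x, hCM (hP x.2)⟩, hmemW' x (Subgroup.mem_sup_left x.2)⟩
      refine Eq.trans ?_ hx
      refine congrArg ι (Subtype.ext ?_)
      exact ((hval (Subgroup.inclusion le_sup_left x)).trans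
        (congrArg θ (Subtype.ext (hψ'P x)))).symm
    · rintro ⟨⟨g, hgK⟩, hg⟩
      have hgP : ∀ x : P, ι ⟨θ ⟨ψ x, hCM (hψC x)⟩, hθC _⟩ =
          g * ι ⟨θ ⟨x, hCM (hP x.2)⟩, hθC _⟩ * g⁻¹ := fun x => congrArg Subtype.val (hg x)
      have hgU : ∀ u : U, ι ⟨θ ⟨u, hUM u.2⟩, hθC _⟩ =
          g * ι ⟨θ ⟨u, hUM u.2⟩, hθC _⟩ * g⁻¹ := by
        intro u
        refine eq_mul_inv_iff_mul_eq.2 ?_
        exact Subgroup.mem_centralizer_iff.1 hgK _ ⟨u, rfl⟩
      have hgW : ∀ w : W, g * κ (Subgroup.inclusion hWM w) * g⁻¹ ∈ ι.range := by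
        intro w
        have hle : P.subgroupOf W ⊔ U.subgroupOf W ≤
            (ι.range.comap (((MulAut.conj g).toMonoidHom.comp κ).comp
              (Subgroup.inclusion hWM))) := by
          refine sup_le (fun z hz => ?_) (fun z hz => ?_)
          · exact ⟨_, hgP ⟨z, hz⟩⟩
          · exact ⟨_, hgU ⟨z, hz⟩⟩
        rw [← Subgroup.subgroupOf_sup le_sup_left le_sup_right, Subgroup.subgroupOf_self] at hle
        exact hle (Subgroup.mem_top w)
      have hgW' : ∀ y : W', g * ι ⟨y, hW'C y.2⟩ * g⁻¹ ∈ ι.range := by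
        rintro ⟨_, w, rfl⟩
        exact hgW w
      have hχH := pullHom_mem hreal hW'C g hgW'
      set χ := pullHom hι hW'C g hgW' with hχdef
      have hχap : ∀ y : W', ∀ h : χ y ∈ C', ι ⟨χ y, h⟩ = g * ι ⟨y, hW'C y.2⟩ * g⁻¹ :=
        fun y h => apply_pullHom hι hW'C g hgW' y h
      have hχC : ∀ y, χ y ∈ C' := fun y => Subtype.property _
      have hvalP : ∀ x : P, χ ⟨θ ⟨x, hCM (hP x.2)⟩, hmemW' x (Subgroup.mem_sup_left x.2)⟩ =
          θ ⟨ψ x, hCM (hψC x)⟩ := fun x =>
        congrArg Subtype.val (hι ((hχap _ (hχC _)).trans (hgP x).symm) :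
          (⟨_, hχC _⟩ : C') = ⟨_, hθC _⟩)
      have hvalU : ∀ u : U, χ ⟨θ ⟨u, hUM u.2⟩, hmemW' u (Subgroup.mem_sup_right u.2)⟩ =
          θ ⟨u, hUM u.2⟩ := fun u =>
        congrArg Subtype.val (hι ((hχap _ (hχC _)).trans (hgU u).symm) :
          (⟨_, hχC _⟩ : C') = ⟨_, hθC _⟩)
      obtain ⟨ρ, hρ, -, hρi, -⟩ := exists_inverse hθ (rfl : θ.range = θ.range)
      set γ := χ.comp ((θ.comp (Subgroup.inclusion hWM)).codRestrict W' fun w => ⟨w, rfl⟩) with hγ
      have hγF : γ ∈ F.Hom W := F.comp_mem (restrict_mem hθ hWM) hχH.1 _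
      have hγr : ∀ w, γ w ∈ θ.range := forall_sup_mem γ
        (fun x => ⟨_, (hvalP x).symm⟩) (fun u => ⟨_, (hvalU u).symm⟩)
      set ψ' := ρ.comp (γ.codRestrict θ.range hγr) with hψ'def
      have hψ'F : ψ' ∈ F.Hom W := F.comp_mem hγF hρ hγr
      have hψ'P : ∀ x : P, ψ' (Subgroup.inclusion le_sup_left x) = ψ x := fun x =>
        (congrArg ρ (Subtype.ext (hvalP x) :
          (⟨γ (Subgroup.inclusion le_sup_left x), hγr _⟩ : θ.range) = ⟨_, ⟨_, rfl⟩⟩)).trans
            (hρi _ _)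
      exact ⟨mem_of_le hψ'F le_sup_left fun x => (hψ'P x).symm, hP, hψC, ψ', hψ'F, hψ'P,
        fun u => (congrArg ρ (Subtype.ext (hvalU u) :
          (⟨γ (Subgroup.inclusion le_sup_right u), hγr _⟩ : θ.range) = ⟨_, ⟨_, rfl⟩⟩)).trans
            (hρi _ _)⟩
  -- the Sylow subgroup
  have := finite_of_le (Ω := Ω) (centralizerIn_le S U)
  have hfp : IsPGroup p f.range := by
    rw [MonoidHom.range_eq_map]
    exact ((hS.to_le (centralizerIn_le S U)).of_equiv Subgroup.topEquiv.symm).map f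
  obtain ⟨T₁, hT₁⟩ := hfp.exists_le_sylow
  have hsyl : ∃ T : Sylow p K, (T : Subgroup K) = f.range := by
    refine ⟨T₁, (Subgroup.eq_of_le_of_card_ge hT₁ ?_).symm⟩
    rw [show Nat.card f.range = Nat.card (centralizerIn S U) from
      (Nat.card_congr (MonoidHom.ofInjective hfinj).toEquiv).symm]
    set T₁G := (T₁ : Subgroup K).map K.subtype with hT₁G
    have hnorm : T₁G ≤ Subgroup.normalizer (V : Set G) :=
      (Subgroup.map_subtype_le _).trans (Subgroup.centralizer_le_normalizer _)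
    have hjoin : IsPGroup p ↥(T₁G ⊔ V) := (T₁.isPGroup'.map _).to_sup_of_normal_right' hVp hnorm
    obtain ⟨g, hg⟩ := exists_conj_le T₀ hjoin
    rw [hT₀] at hg
    have hgmem : ∀ z ∈ T₁G ⊔ V, g * z * g⁻¹ ∈ ι.range := fun z hz => hg ⟨z, hz, rfl⟩
    set U' := (θ.comp (Subgroup.inclusion hUM)).range with hU'
    have hU'C : U' ≤ C' := by rintro _ ⟨u, rfl⟩; exact hθC _
    have hgU' : ∀ y : U', g * ι ⟨y, hU'C y.2⟩ * g⁻¹ ∈ ι.range := by
      rintro ⟨_, u, rfl⟩
      exact hgmem _ (Subgroup.mem_sup_right ⟨u, rfl⟩)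
    have hχH := pullHom_mem hreal hU'C g hgU'
    set χ := pullHom hι hU'C g hgU' with hχdef
    have hconj : F.IsConj U χ.range :=
      isConj_trans ⟨_, restrict_mem hθ hUM, hU'.symm⟩ ⟨χ, hχH.1, rfl⟩
    refine le_trans ?_ ((isFullyCentralized_of_fullyNormalized hS hF hU).2 _ hconj)
    have := finite_of_le (Ω := Ω) (centralizerIn_le S χ.range)
    have hpre : ∀ t : (T₁ : Subgroup K), ∃ c : C', ι c = g * ((t : K) : G) * g⁻¹ := fun t =>
      hgmem _ (Subgroup.mem_sup_left ⟨t, t.2, rfl⟩)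
    choose σ hσ using hpre
    have hσC : ∀ t, (σ t : Ω) ∈ centralizerIn S χ.range := by
      intro t
      refine mem_centralizerIn.2 ⟨hC'S (σ t).2, ?_⟩
      rintro _ ⟨y, rfl⟩
      have hy : ∀ h : χ y ∈ C', ι ⟨χ y, h⟩ = g * ι ⟨y, hU'C y.2⟩ * g⁻¹ :=
        fun h => apply_pullHom hι hU'C g hgU' y h
      have hyC : χ y ∈ C' := Subtype.property _
      refine congrArg Subtype.val (hι ?_ : (⟨χ y, hyC⟩ : C') * σ t = σ t * ⟨χ y, hyC⟩)
      rw [map_mul, map_mul, hy, hσ]
      obtain ⟨_, u, rfl⟩ := y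
      have hc : κ (Subgroup.inclusion hUM u) * ((t : K) : G) =
          ((t : K) : G) * κ (Subgroup.inclusion hUM u) :=
        Subgroup.mem_centralizer_iff.1 (t : K).2 _ ⟨u, rfl⟩
      show g * κ (Subgroup.inclusion hUM u) * g⁻¹ * (g * ((t : K) : G) * g⁻¹) =
        g * ((t : K) : G) * g⁻¹ * (g * κ (Subgroup.inclusion hUM u) * g⁻¹)
      calc _ = g * (κ (Subgroup.inclusion hUM u) * ((t : K) : G)) * g⁻¹ := by group
        _ = g * (((t : K) : G) * κ (Subgroup.inclusion hUM u)) * g⁻¹ := by rw [hc]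
        _ = _ := by group
    refine Nat.card_le_card_of_injective (fun t => ⟨(σ t : Ω), hσC t⟩) fun a b hab => ?_
    have h : σ a = σ b := Subtype.ext (congrArg Subtype.val hab :)
    have := congrArg ι h
    rw [hσ, hσ] at this
    exact Subtype.ext (Subtype.ext (mul_left_cancel (mul_right_cancel this)))
  exact isConstrained_of_isModel
    (G := K) ⟨inferInstance, hrealized, hsyl, LocalChar.cp_centralizer hcp hVp⟩

/-- If the centralizer systems of the fully normalized subgroups of order `p` are constrained,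
the system is of characteristic `p`-type. -/
theorem isOfCharacteristicPType (hS : IsPGroup p S) (hF : F.IsSaturated p)
    (hyp : ConstrainedOrderP F p) : F.IsOfCharacteristicPType p := by
  intro U hne hU E hE
  have hNS : normalizerIn S U ≤ S := normalizerIn_le S U
  have := finite_of_le (Ω := Ω) hNS
  have hNp := hS.to_le hNS
  have hEs := normalizerSystem_saturated hS hF hU hE
  have hEn := ModelEmbed.isNormal_of_isNormalizerSystem hE hU.1
  have hT : centralizerIn (normalizerIn S U) U = centralizerIn S U := by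
    refine le_antisymm (inf_le_inf_right _ hNS) ?_
    exact le_inf (centralizerIn_le_normalizerIn S U) inf_le_right
  have hHom : ∀ P : Subgroup Ω,
      (centralizerSystem E U hEn.1).Hom P = F.centralizerHom U P := by
    intro P
    ext φ
    constructor
    · rintro ⟨hφ, hP, hv, ψ, hψ, hψP, hψU⟩
      rw [hE] at hφ hψ
      exact ⟨hφ.1, hT ▸ hP, fun x => hT ▸ hv x, ψ, hψ.1, hψP, hψU⟩
    · rintro ⟨hφ, hP, hv, ψ, hψ, hψP, hψU⟩
      have hWN : P ⊔ U ≤ normalizerIn S U :=
        sup_le (hP.trans (centralizerIn_le_normalizerIn S U)) (le_normalizerIn hU.1)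
      have hψN : ∀ z, ψ z ∈ normalizerIn S U := forall_sup_mem ψ
        (fun x => by rw [hψP]; exact centralizerIn_le_normalizerIn S U (hv x))
        (fun u => by rw [hψU]; exact le_normalizerIn hU.1 u.2)
      have hψE : ψ ∈ E.Hom (P ⊔ U) := by
        rw [hE]
        have hle : (P ⊔ U) ⊔ U ≤ P ⊔ U := sup_le le_rfl le_sup_right
        refine ⟨hψ, hWN, hψN, ψ.comp (Subgroup.inclusion hle), restrict_mem hψ hle,
          fun z => rfl, ?_⟩
        refine (map_subgroupOf_eq_iff (restrict_mem hψ hle) le_sup_right).2 fun x hx => ?_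
        exact Set.mem_of_eq_of_mem (hψU ⟨x, hx⟩) hx
      refine ⟨mem_of_le hψE le_sup_left fun x => (hψP x).symm, hT.symm ▸ hP,
        fun x => hT.symm ▸ hv x, ψ, hψE, hψP, hψU⟩
  have hCc := isConstrained_centralizer hS hF hyp hne hU hT hHom
  have := finite_of_le (Ω := Ω) (centralizerIn_le (normalizerIn S U) U)
  have hR := ConstrainedExtensions.isNormal_core_of_invariant hNp hEs
    (CoreCentralizer.isInvariantIn hNp hEs hEn)
  have hRc := isCentric_centralizerIn_le (isCentric_core hCc)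
  refine ConstrainedExtensions.isConstrained_of_normal_core hEs (isNormal_sup hR hEn) ?_
  intro z hz
  obtain ⟨hzN, hzc⟩ := mem_centralizerIn.1 hz
  refine Subgroup.mem_sup_left (hRc (mem_centralizerIn.2 ⟨mem_centralizerIn.2 ⟨hzN, ?_⟩, ?_⟩))
  · exact fun u hu => hzc u (Subgroup.mem_sup_right hu)
  · exact fun r hr => hzc r (Subgroup.mem_sup_left hr)

end Cfsg.Agent.Fusion.CentralizerType
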