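import Cfsg.Agent.Lib.Fusion.TransvectionPair
import Cfsg.Agent.Lib.Fusion.StrongInduction
import Cfsg.Agent.Lib.Fusion.Hyperfocal
import Cfsg.Agent.Lib.PGroup.Class2

/-!
Saturated systems over a `p`-group whose centre has index `p ^ 2`: the radical subgroups split as
`D × C` with one common `C`, which is normal.
-/

set_option autoImplicit false

namespace Cfsg.Agent.Fusion.CentreIndexSq

open Cfsg Cfsg.FusionSystem
open scoped commutatorElement

variable {Ω : Type*} [Group Ω] {S : Subgroup Ω} {F : FusionSystem S} {p : ℕ}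

/-- The centre, inside `Ω`. -/
def Zc (S : Subgroup Ω) : Subgroup Ω := S ⊓ Subgroup.centralizer (S : Set Ω)

/-- The derived subgroup, inside `Ω`. -/
def Sd (S : Subgroup Ω) : Subgroup Ω := (commutator S).map S.subtype

theorem Zc_le (S : Subgroup Ω) : Zc S ≤ S := inf_le_left

theorem Zc_comm {w x : Ω} (hw : w ∈ Zc S) (hx : x ∈ S) : x * w = w * x :=
  Subgroup.mem_centralizer_iff.1 hw.2 x hx

theorem Zc_eq (S : Subgroup Ω) : Zc S = (Subgroup.center S).map S.subtype := by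
  ext w
  constructor
  · intro hw
    exact ⟨⟨w, hw.1⟩, Subgroup.mem_center_iff.2 fun g => Subtype.ext (Zc_comm hw g.2), rfl⟩
  · rintro ⟨⟨w, hw'⟩, hw, rfl⟩
    exact ⟨hw', Subgroup.mem_centralizer_iff.2 fun g hg =>
      congrArg Subtype.val (Subgroup.mem_center_iff.1 hw ⟨g, hg⟩)⟩

/-- What is known about a radical subgroup `R < S`. -/
structure Data (F : FusionSystem S) (p : ℕ) (R D C : Subgroup Ω) : Prop where
  le_S : R ≤ S
  Zc_le' : Zc S ≤ R
  D_le : D ≤ R
  C_le : C ≤ Zc S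
  split : ∀ r ∈ R, ∃ d ∈ D, ∃ c ∈ C, r = d * c
  disj : D ⊓ C = ⊥
  card_D : Nat.card D = p ^ 2
  card_R : Nat.card R = Nat.card (Zc S) * p
  card_Sd : Nat.card (Sd S) = p
  exp_D : ∀ d ∈ D, d ^ p = 1
  Sd_le : Sd S ≤ D
  D_inf : D ⊓ Zc S = Sd S
  inv : ∀ a ∈ F.autGroup R, ∀ x : R,
    ((x : Ω) ∈ D → ((a x : R) : Ω) ∈ D) ∧ ((x : Ω) ∈ C → ((a x : R) : Ω) ∈ C)
  invol : ∃ β ∈ F.autGroup S, (∀ x : S, (x : Ω) ∈ Sd S → β x = x⁻¹) ∧
    (∀ x : S, (x : Ω) ∈ C → β x = x)

theorem Data.Zc_split {R D C : Subgroup Ω} (h : Data F p R D C) {w : Ω} (hw : w ∈ Zc S) :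
    ∃ d ∈ Sd S, ∃ c ∈ C, w = d * c := by
  obtain ⟨d, hd, c, hc, rfl⟩ := h.split w (h.Zc_le' hw)
  have : d ∈ D ⊓ Zc S := ⟨hd, by simpa using (Zc S).mul_mem hw ((Zc S).inv_mem (h.C_le hc))⟩
  rw [h.D_inf] at this
  exact ⟨d, this, c, hc, rfl⟩

/-- `S` is generated by `R` and any element outside, `R` being normal of index `p`. -/
theorem exists_mul_pow [Finite S] [hp : Fact p.Prime] {R : Subgroup Ω} (hRS : R ≤ S)
    (hRn : S ≤ Subgroup.normalizer (R : Set Ω)) (hc : Nat.card S = Nat.card R * p) {x : Ω}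
    (hx : x ∈ S) (hxR : x ∉ R) (hxp : x ^ p ∈ R) {g : Ω} (hg : g ∈ S) :
    ∃ r ∈ R, ∃ i : ℕ, g = r * x ^ i := by
  have : (R.subgroupOf S).Normal := Subgroup.normal_subgroupOf_of_le_normalizer hRn
  have htop : R.subgroupOf S ⊔ Subgroup.zpowers (⟨x, hx⟩ : S) = ⊤ := by
    refine Subgroup.eq_top_of_card_eq _ ?_
    rw [PGroup.card_sup_zpowers _ (fun h => hxR (Subgroup.mem_subgroupOf.1 h))
      (Subgroup.mem_subgroupOf.2 (by exact hxp)),
      Nat.card_congr (Subgroup.subgroupOfEquivOfLe hRS).toEquiv, hc]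
  have hg' : (⟨g, hg⟩ : S) ∈
      ((R.subgroupOf S ⊔ Subgroup.zpowers (⟨x, hx⟩ : S) : Subgroup S) : Set S) := by
    rw [htop]; trivial
  rw [Subgroup.normal_mul] at hg'
  obtain ⟨r, hr, y, hy, he⟩ := hg'
  obtain ⟨i, rfl⟩ := (isOfFinOrder_of_finite _).mem_powers_iff_mem_zpowers.2 hy
  exact ⟨r, hr, i, (congrArg Subtype.val he).symm⟩

theorem quotient_facts [Finite S] [hp : Fact p.Prime] (hS : IsPGroup p S)
    (hidx : (Subgroup.center S).index = p ^ 2) :
    (∀ g h : S, ⁅g, h⁆ ∈ Subgroup.center S) ∧ ∀ g ∈ S, g ^ p ∈ Zc S := by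
  have hcard : Nat.card (S ⧸ Subgroup.center S) = p ^ 2 := by rw [← Subgroup.index_eq_card, hidx]
  have hncyc : ¬ IsCyclic (S ⧸ Subgroup.center S) := by
    intro hc
    have h := commutative_of_cyclic_center_quotient (QuotientGroup.mk' (Subgroup.center S))
      (by rw [QuotientGroup.ker_mk'])
    have htop : Subgroup.center S = ⊤ := eq_top_iff.2 fun g _ =>
      Subgroup.mem_center_iff.2 fun k => h k g
    rw [htop, Subgroup.index_top] at hidx
    exact (Nat.one_lt_pow two_ne_zero hp.out.one_lt).ne hidx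
  have hexp : ∀ q : S ⧸ Subgroup.center S, q ^ p = 1 := by
    intro q
    obtain ⟨i, hi, hi'⟩ := (Nat.dvd_prime_pow hp.out).1 (hcard ▸ orderOf_dvd_natCard q)
    interval_cases i
    · have h1 : q = 1 := orderOf_eq_one_iff.1 (by simpa using hi')
      rw [h1, one_pow]
    · rw [pow_one] at hi'; rw [← hi']; exact pow_orderOf_eq_one q
    · exact absurd (isCyclic_of_orderOf_eq_card q (hi'.trans hcard.symm)) hncyc
  refine ⟨fun g h => ?_, fun g hg => ?_⟩
  · rw [← QuotientGroup.eq_one_iff, ← QuotientGroup.mk'_apply, map_commutatorElement,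
      commutatorElement_eq_one_iff_mul_comm]
    exact (IsPGroup.isMulCommutative_of_card_eq_prime_sq hcard).is_comm.comm _ _
  · rw [Zc_eq]
    exact ⟨⟨g, hg⟩ ^ p, (QuotientGroup.eq_one_iff _).1 (by rw [QuotientGroup.mk_pow]; exact hexp _),
      rfl⟩

/-- The derived subgroup is generated by one commutator of generators modulo the centre. -/
theorem commutator_eq_zpowers [Finite S] {R : Subgroup Ω} (a x : S)
    (hcl : ∀ g h : S, ⁅g, h⁆ ∈ Subgroup.center S)
    (hR : ∀ r ∈ R, ∃ w ∈ Zc S, ∃ i : ℤ, r = w * (a : Ω) ^ i)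
    (hgen : ∀ g ∈ S, ∃ r ∈ R, ∃ i : ℕ, g = r * (x : Ω) ^ i) :
    commutator S = Subgroup.zpowers ⁅a, x⁆ := by
  set W := Subgroup.zpowers ⁅a, x⁆ with hW
  refine le_antisymm ?_ (Subgroup.zpowers_le.2 ?_)
  swap
  · rw [commutator_def]
    exact Subgroup.commutator_mem_commutator (Subgroup.mem_top _) (Subgroup.mem_top _)
  have hWc : W ≤ Subgroup.center S := Subgroup.zpowers_le.2 (hcl a x)
  have hWn : W.Normal := ⟨fun n hn g => by
    rw [Subgroup.mem_center_iff.1 (hWc hn) g, mul_inv_cancel_right]; exact hn⟩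
  have hax : Commute (QuotientGroup.mk' W a) (QuotientGroup.mk' W x) := by
    refine commutatorElement_eq_one_iff_mul_comm.1 ?_
    rw [← map_commutatorElement]
    exact (QuotientGroup.eq_one_iff _).2 (Subgroup.mem_zpowers _)
  have hform : ∀ g : S, ∃ w : S, w ∈ Subgroup.center S ∧ ∃ (i : ℤ) (j : ℕ), g = w * a ^ i * x ^ j := by
    intro g
    obtain ⟨r, hr, j, hj⟩ := hgen g g.2
    obtain ⟨w, hw, i, hi⟩ := hR r hr
    refine ⟨⟨w, hw.1⟩, Subgroup.mem_center_iff.2 fun k => Subtype.ext (Zc_comm hw k.2), i, j,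
      Subtype.ext ?_⟩
    push_cast
    rw [hj, hi]
  rw [commutator_def, Subgroup.commutator_le]
  intro g _ h _
  rw [← QuotientGroup.eq_one_iff, ← QuotientGroup.mk'_apply, map_commutatorElement,
    commutatorElement_eq_one_iff_mul_comm]
  obtain ⟨u, hu, i, j, rfl⟩ := hform g
  obtain ⟨v, hv, k, l, rfl⟩ := hform h
  have hc : ∀ (u : S), u ∈ Subgroup.center S → ∀ q, Commute (QuotientGroup.mk' W u) q := by
    intro u hu q
    obtain ⟨k, rfl⟩ := QuotientGroup.mk'_surjective W q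
    show _ * _ = _ * _
    rw [← map_mul, ← map_mul, Subgroup.mem_center_iff.1 hu k]
  simp only [map_mul, map_zpow, map_pow]
  set A := QuotientGroup.mk' W a
  set X := QuotientGroup.mk' W x
  have h1 : Commute (A ^ i * X ^ j) (A ^ k * X ^ l) :=
    ((Commute.zpow_zpow_self A i k).mul_right ((hax.zpow_left i).pow_right l)).mul_left
      (((hax.zpow_left k).pow_right j).symm.mul_right (Commute.pow_pow_self X j l))
  rw [mul_assoc (QuotientGroup.mk' W u), mul_assoc (QuotientGroup.mk' W v)]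
  exact ((hc u hu _).mul_left ((hc v hv _).symm.mul_right h1)).eq

/-- A centric radical subgroup `R < S` has the decomposition. -/
theorem exists_data [Finite S] [hp : Fact p.Prime] (hS : IsPGroup p S) (hF : F.IsSaturated p)
    (hidx : (Subgroup.center S).index = p ^ 2) {R : Subgroup Ω} (hRS : R < S)
    (hRn : F.IsFullyNormalized R) (hRc : F.IsCentric R) (hRr : F.IsRadical p R) :
    ∃ D C, Data F p R D C := by
  have hRle : R ≤ S := hRS.le
  have := finite_of_le (Ω := Ω) hRle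
  have := finite_mulAut (Ω := Ω) hRle
  obtain ⟨hcl, hpow⟩ := quotient_facts hS hidx
  have hcent := isCentric_centralizerIn_le hRc
  have hZR : Zc S ≤ R := fun w hw => hcent (mem_centralizerIn.2
    ⟨hw.1, fun y hy => Zc_comm hw (hRle hy)⟩)
  have hZne : Zc S ≠ R := by
    intro h
    refine hRS.ne (le_antisymm hRle fun g hg => hcent (mem_centralizerIn.2 ⟨hg, fun y hy => ?_⟩))
    rw [← h] at hy
    exact (Zc_comm hy hg).symm
  have hcS : Nat.card S = Nat.card (Zc S) * p ^ 2 := by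
    rw [Zc_eq, Subgroup.card_map_of_injective S.subtype_injective, ← hidx, Subgroup.card_mul_index]
  have hcR : Nat.card R = Nat.card (Zc S) * p := by
    have h1 : ∀ H : Subgroup Ω, H ≤ S → ∃ k, Nat.card H = p ^ k := fun H hH => by
      have := finite_of_le (Ω := Ω) hH
      exact IsPGroup.iff_card.1 (hS.to_le hH)
    obtain ⟨i, hi⟩ := h1 _ (Zc_le S)
    obtain ⟨j, hj⟩ := h1 _ hRle
    obtain ⟨k, hk⟩ := h1 _ le_rfl
    have hij : p ^ i < p ^ j :=
      hi ▸ hj ▸ card_lt_of_lt hRle (lt_of_le_of_ne hZR hZne)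
    have hjk : p ^ j < p ^ k := hj ▸ hk ▸ card_lt_of_lt le_rfl hRS
    rw [Nat.pow_lt_pow_iff_right hp.out.one_lt] at hij hjk
    rw [hi, hk, ← pow_add] at hcS
    have := Nat.pow_right_injective hp.out.two_le hcS
    rw [hi, hj, ← pow_succ, show j = i + 1 by omega]
  obtain ⟨a, haR, haZ⟩ := SetLike.exists_of_lt (lt_of_le_of_ne hZR hZne)
  obtain ⟨x, hxS, hxR⟩ := SetLike.exists_of_lt hRS
  have haS := hRle haR
  have hRgen : ∀ r ∈ R, ∃ w ∈ Zc S, ∃ i : ℕ, r = w * a ^ i := by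
    intro r hr
    have : Finite R := inferInstance
    have hZn : ((Zc S).subgroupOf R).Normal := ⟨fun n hn g => by
      refine Subgroup.mem_subgroupOf.2 ?_
      have hn' : (n : Ω) ∈ Zc S := hn
      show (g : Ω) * n * (g : Ω)⁻¹ ∈ Zc S
      rw [Zc_comm hn' (hRle g.2), mul_inv_cancel_right]
      exact hn'⟩
    have htop : (Zc S).subgroupOf R ⊔ Subgroup.zpowers (⟨a, haR⟩ : R) = ⊤ := by
      refine Subgroup.eq_top_of_card_eq _ ?_
      rw [PGroup.card_sup_zpowers _ (fun h => haZ (Subgroup.mem_subgroupOf.1 h))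
        (Subgroup.mem_subgroupOf.2 (by exact hpow a haS)),
        Nat.card_congr (Subgroup.subgroupOfEquivOfLe hZR).toEquiv, hcR]
    have hr' : (⟨r, hr⟩ : R) ∈
        (((Zc S).subgroupOf R ⊔ Subgroup.zpowers (⟨a, haR⟩ : R) : Subgroup R) : Set R) := by
      rw [htop]; trivial
    rw [Subgroup.normal_mul] at hr'
    obtain ⟨w, hw, y, hy, he⟩ := hr'
    obtain ⟨i, rfl⟩ := (isOfFinOrder_of_finite _).mem_powers_iff_mem_zpowers.2 hy
    exact ⟨w, hw, i, (congrArg Subtype.val he).symm⟩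
  have hRab : ∀ r r' : R, r * r' = r' * r := by
    intro r r'
    obtain ⟨u, hu, i, hi⟩ := hRgen r r.2
    obtain ⟨v, hv, j, hj⟩ := hRgen r' r'.2
    refine Subtype.ext ?_
    push_cast
    rw [hi, hj]
    have hc : ∀ w ∈ Zc S, ∀ n : ℕ, Commute w (a ^ n) := fun w hw n =>
      (Zc_comm hw (S.pow_mem haS n)).symm
    exact (((show Commute u v from (Zc_comm hu hv.1).symm).mul_right (hc u hu j)).mul_left
      ((hc v hv i).symm.mul_right (Commute.pow_pow_self a i j))).eq
  have hRnorm : S ≤ Subgroup.normalizer (R : Set Ω) := by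
    have h1 : ∀ g ∈ S, ∀ r ∈ R, g * r * g⁻¹ ∈ R := by
      intro g hg r hr
      have h2 : g * r * g⁻¹ * r⁻¹ ∈ Zc S := by
        rw [Zc_eq]
        exact ⟨⁅(⟨g, hg⟩ : S), (⟨r, hRle hr⟩ : S)⁆, hcl _ _, rfl⟩
      simpa using R.mul_mem (hZR h2) hr
    intro g hg
    refine Subgroup.mem_normalizer_iff.2 fun y => ⟨h1 g hg y, fun hy => ?_⟩
    simpa [mul_assoc] using h1 g⁻¹ (S.inv_mem hg) _ hy
  have hcS' : Nat.card S = Nat.card R * p := by rw [hcS, hcR]; ring
  have hgen : ∀ g ∈ S, ∃ r ∈ R, ∃ i : ℕ, g = r * x ^ i := fun g hg =>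
    exists_mul_pow hRle hRnorm hcS' hxS hxR (hZR (hpow x hxS)) hg
  have hxN := hRnorm hxS
  let t : MulAut R := conjAut hxN
  have htG : t ∈ F.autGroup R :=
    autInducedBy_le_autGroup F hRle (conjAut_mem_autInducedBy hxS hxN)
  have htfix : ∀ r : R, (r : Ω) ∈ Zc S → t r = r := fun r hr => Subtype.ext (by
    show x * r * x⁻¹ = r
    rw [Zc_comm hr hxS, mul_inv_cancel_right])
  set aR : R := ⟨a, haR⟩ with haR'
  set w : R := aR⁻¹ * t aR with hw
  have hwZ : (w : Ω) ∈ Zc S := by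
    rw [Zc_eq]
    refine ⟨⁅(⟨a, haS⟩ : S)⁻¹, (⟨x, hxS⟩ : S)⁆, hcl _ _, ?_⟩
    show a⁻¹ * x * a⁻¹⁻¹ * x⁻¹ = a⁻¹ * (x * a * x⁻¹)
    group
  have htw : t w = w := htfix w hwZ
  have htac : ∀ r : R, ∃ i : ℕ, r⁻¹ * t r = w ^ i := by
    intro r
    obtain ⟨u, hu, i, hi⟩ := hRgen r r.2
    refine ⟨i, ?_⟩
    have hr : r = ⟨u, hZR hu⟩ * aR ^ i := Subtype.ext hi
    rw [hr, map_mul, map_pow, htfix ⟨u, hZR hu⟩ hu, mul_inv_rev, mul_assoc, inv_mul_cancel_left,
      hw, (show Commute aR⁻¹ (t aR) from hRab _ _).mul_pow, inv_pow]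
  have hx1 : t ≠ 1 := by
    intro h
    refine haZ ⟨haS, Subgroup.mem_centralizer_iff.2 fun g hg => ?_⟩
    obtain ⟨r, hr, i, rfl⟩ := hgen g hg
    have h1 : Commute x a :=
      mul_inv_eq_iff_eq_mul.1 (congrArg (fun f : MulAut R => ((f aR : R) : Ω)) h)
    have h2 : Commute r a := congrArg Subtype.val (hRab ⟨r, hr⟩ aR)
    exact (h2.mul_left (h1.pow_left i)).eq
  have hxpR : x ^ p ∈ R := hZR (hpow x hxS)
  have htp : t ^ p = 1 := by
    rw [show t ^ p = conjAut (Subgroup.pow_mem _ hxN p) from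
      (map_pow R.normalizerMonoidHom ⟨x, hxN⟩ p).symm]
    refine MulEquiv.ext fun r => Subtype.ext ?_
    show x ^ p * r * (x ^ p)⁻¹ = r
    rw [← Zc_comm (hpow x hxS) (hRle r.2), mul_inv_cancel_right]
  have hwp : w ^ p = 1 := by
    have h := aut_pow_apply_of_fixed t (mul_inv_cancel_left aR (t aR)).symm htw p
    rw [htp, MulAut.one_apply] at h
    exact mul_eq_left.1 h.symm
  have hauts : ∀ g ∈ S, ∀ hg : g ∈ Subgroup.normalizer (R : Set Ω),
      conjAut hg ∈ Subgroup.zpowers t := by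
    intro g hg hgN
    obtain ⟨r, hr, i, rfl⟩ := hgen g hg
    have : conjAut hgN = t ^ i := by
      refine MulEquiv.ext fun b => Subtype.ext ?_
      rw [show t ^ i = conjAut (Subgroup.pow_mem _ hxN i) from
        (map_pow R.normalizerMonoidHom ⟨x, hxN⟩ i).symm, coe_conjAut, coe_conjAut]
      have hb : x ^ i * (b : Ω) * (x ^ i)⁻¹ ∈ R :=
        (Subgroup.mem_normalizer_iff.1 (Subgroup.pow_mem _ hxN i) _).1 b.2
      have h2 : Commute r (x ^ i * (b : Ω) * (x ^ i)⁻¹) :=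
        congrArg Subtype.val (hRab ⟨r, hr⟩ ⟨_, hb⟩)
      calc r * x ^ i * b * (r * x ^ i)⁻¹ = r * (x ^ i * b * (x ^ i)⁻¹) * r⁻¹ := by group
        _ = _ := by rw [h2.eq, mul_inv_cancel_right]
    exact this ▸ Subgroup.pow_mem _ (Subgroup.mem_zpowers t) i
  have hAS : autInducedBy S R = Subgroup.zpowers t := by
    refine le_antisymm (fun β hβ => ?_) (Subgroup.zpowers_le.2 (conjAut_mem_autInducedBy hxS hxN))
    obtain ⟨g, hg, hgv⟩ := mem_autInducedBy_iff.1 hβ
    have hgN := mem_normalizer_of_aut hgv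
    rw [show β = conjAut hgN from MulEquiv.ext fun r => Subtype.ext (hgv r)]
    exact hauts g hg hgN
  obtain ⟨-, T, hT⟩ := isFullyAutomized_of_fullyNormalized hS hF hRn
  have hTc : Nat.card (T : Subgroup (F.autGroup R)) = p := by
    rw [hT, Nat.card_congr (Subgroup.subgroupOfEquivOfLe (autInducedBy_le_autGroup F hRle)).toEquiv,
      hAS, Nat.card_zpowers, orderOf_eq_prime htp hx1]
  have hsyl : ∀ B : Subgroup (MulAut R), B ≤ F.autGroup R → IsPGroup p B → Nat.card B ≤ p := by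
    intro B hB hBp
    obtain ⟨Q, hQ⟩ := (hBp.of_equiv (Subgroup.subgroupOfEquivOfLe hB).symm).exists_le_sylow
    obtain ⟨b, hb⟩ := MulAction.exists_smul_eq (F.autGroup R) T Q
    rw [← Nat.card_congr (Subgroup.subgroupOfEquivOfLe hB).toEquiv]
    refine (Subgroup.card_le_of_le hQ).trans ?_
    rw [← hb, Sylow.coe_subgroup_smul]
    exact ((Subgroup.card_map_of_injective (MulEquiv.injective _)).trans hTc).le
  have hInn : Inn R = ⊥ := by
    rw [eq_bot_iff]
    rintro _ ⟨r, rfl⟩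
    refine Subgroup.mem_bot.2 (MulEquiv.ext fun r' => ?_)
    rw [MulAut.conj_apply, hRab r r', mul_inv_cancel_right, MulAut.one_apply]
  have hnn : ∃ g ∈ F.autGroup R, g * t * g⁻¹ ∉ Subgroup.zpowers t := by
    by_contra hcon
    push Not at hcon
    let N := Subgroup.normalClosure ({⟨t, htG⟩} : Set (F.autGroup R))
    have hNle : N ≤ (Subgroup.zpowers t).comap (F.autGroup R).subtype := by
      refine (Subgroup.closure_le _).2 fun u hu => ?_
      obtain ⟨y, hy, hyu⟩ := Group.mem_conjugatesOfSet_iff.1 hu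
      rw [Set.mem_singleton_iff.1 hy] at hyu
      obtain ⟨c, hc⟩ := isConj_iff.1 hyu
      exact hc ▸ hcon c c.2
    have hNp : IsPGroup p N := by
      have htP : IsPGroup p (Subgroup.zpowers t) :=
        IsPGroup.of_card (n := 1) (by rw [pow_one, Nat.card_zpowers, orderOf_eq_prime htp hx1])
      exact (htP.comap_of_injective _ (Subgroup.subtype_injective _)).to_le hNle
    have h1 : t ∈ Inn R := hRr.2.le
      ⟨⟨t, htG⟩, PCore.le_pCore hNp (Subgroup.subset_normalClosure (Set.mem_singleton _)), rfl⟩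
    rw [hInn, Subgroup.mem_bot] at h1
    exact hx1 h1
  obtain ⟨D, C, hdis, hsup, hDc, hDe, hwD, hw1, hCt, hinv, s, hs, hst, hsD, hsC⟩ :=
    transvection_structure hRab (hS.to_le hRle) (F.autGroup R) htG hwp htw
      (fun r => by
        obtain ⟨i, hi⟩ := htac r
        exact hi ▸ Subgroup.pow_mem _ (Subgroup.mem_zpowers w) i) hx1 hsyl hnn
  -- the derived subgroup
  have hSd : Sd S = (Subgroup.zpowers w).map R.subtype := by
    rw [Sd, commutator_eq_zpowers (R := R) (⟨a, haS⟩ : S)⁻¹ (⟨x, hxS⟩ : S) hcl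
      (fun r hr => by
        obtain ⟨u, hu, i, hi⟩ := hRgen r hr
        refine ⟨u, hu, -(i : ℤ), ?_⟩
        show r = u * a⁻¹ ^ (-(i : ℤ))
        rw [zpow_neg, zpow_natCast, inv_pow, inv_inv]
        exact hi) hgen, MonoidHom.map_zpowers, MonoidHom.map_zpowers]
    congr 1
    show a⁻¹ * x * a⁻¹⁻¹ * x⁻¹ = a⁻¹ * (x * a * x⁻¹)
    group
  have hCZ : C.map R.subtype ≤ Zc S := by
    rintro _ ⟨c, hc, rfl⟩
    refine ⟨hRle c.2, Subgroup.mem_centralizer_iff.2 fun g hg => ?_⟩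
    obtain ⟨r, hr, i, rfl⟩ := hgen g hg
    have h1 : Commute x (c : Ω) := mul_inv_eq_iff_eq_mul.1 (congrArg Subtype.val (hCt c hc))
    have h2 : Commute r (c : Ω) := congrArg Subtype.val (hRab ⟨r, hr⟩ c)
    exact (h2.mul_left (h1.pow_left i)).eq
  have hsplit : ∀ r ∈ R, ∃ d ∈ D.map R.subtype, ∃ c ∈ C.map R.subtype, r = d * c := by
    intro r hr
    have hDn : D.Normal := ⟨fun n hn g => by rw [hRab g n, mul_inv_cancel_right]; exact hn⟩
    have h1 : (⟨r, hr⟩ : R) ∈ ((D ⊔ C : Subgroup R) : Set R) := by rw [hsup]; trivial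
    rw [Subgroup.normal_mul] at h1
    obtain ⟨d, hd, c, hc, he⟩ := h1
    exact ⟨d, ⟨d, hd, rfl⟩, c, ⟨c, hc, rfl⟩, (congrArg Subtype.val he).symm⟩
  have hSdD : Sd S ≤ D.map R.subtype := hSd ▸ Subgroup.map_mono (Subgroup.zpowers_le.2 hwD)
  -- the extension of the inversion
  obtain ⟨ψ, hψ, hψv⟩ := exists_extension_of_normalizes
    (isReceptive_of_fullyNormalized hS hF hRn) hs (by
      rw [hAS]
      intro β hβ
      obtain ⟨i, rfl⟩ := Subgroup.mem_zpowers_iff.1 hβ
      rw [← conj_zpow, hst]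
      exact Subgroup.zpow_mem _ (Subgroup.mem_zpowers t) i)
  have hSN : S ≤ normalizerIn S R := le_inf le_rfl hRnorm
  have hψS := restrict_mem hψ hSN
  have hrange := range_eq_of_le hψS le_rfl (fun y => apply_mem hψS y) le_rfl
  refine ⟨D.map R.subtype, C.map R.subtype,
    { le_S := hRle
      Zc_le' := hZR
      D_le := Subgroup.map_subtype_le D
      C_le := hCZ
      split := hsplit
      disj := by
        rw [← Subgroup.map_inf _ _ _ R.subtype_injective, hdis, Subgroup.map_bot]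
      card_D := by rw [Subgroup.card_map_of_injective R.subtype_injective, hDc]
      card_R := hcR
      card_Sd := by
        rw [hSd, Subgroup.card_map_of_injective R.subtype_injective, Nat.card_zpowers,
          orderOf_eq_prime hwp hw1]
      exp_D := by rintro _ ⟨d, hd, rfl⟩; rw [← map_pow, hDe d hd, map_one]
      Sd_le := hSdD
      D_inf := ?_
      inv := fun g hg r => ⟨?_, ?_⟩
      invol := ⟨toAut hψS hrange, toAut_mem hψS hrange, fun y hy => ?_, fun y hy => ?_⟩ }⟩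
  · refine le_antisymm ?_ (le_inf hSdD ?_)
    · intro d hd
      by_contra hdn
      have hlt : Sd S < D.map R.subtype ⊓ Zc S := lt_of_le_not_ge (le_inf hSdD (by
        rw [hSd]; rintro _ ⟨u, hu, rfl⟩
        obtain ⟨i, rfl⟩ := Subgroup.mem_zpowers_iff.1 hu
        rw [map_zpow]
        exact (Zc S).zpow_mem hwZ i)) fun h => hdn (h hd)
      have hDS : D.map R.subtype ≤ S := (Subgroup.map_subtype_le D).trans hRle
      have hc1 := card_lt_of_lt (inf_le_left.trans hDS) hlt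
      rw [hSd, Subgroup.card_map_of_injective R.subtype_injective, Nat.card_zpowers,
        orderOf_eq_prime hwp hw1] at hc1
      have := finite_of_le (Ω := Ω) hDS
      have hdvd : Nat.card ↥(D.map R.subtype ⊓ Zc S) ∣ p ^ 2 := by
        rw [← hDc, ← Subgroup.card_map_of_injective R.subtype_injective (K := D)]
        exact Subgroup.card_dvd_of_le inf_le_left
      obtain ⟨i, hi, hi'⟩ := (Nat.dvd_prime_pow hp.out).1 hdvd
      have hi2 : i = 2 := by
        interval_cases i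
        · rw [hi'] at hc1; simp at hc1; exact absurd hc1 (by have := hp.out.two_le; omega)
        · rw [hi'] at hc1; simp at hc1
        · rfl
      have heq : D.map R.subtype ⊓ Zc S = D.map R.subtype := eq_of_le_of_card_le hDS inf_le_left (by
        rw [hi', hi2, Subgroup.card_map_of_injective R.subtype_injective, hDc])
      refine hZne (le_antisymm hZR fun r hr => ?_)
      obtain ⟨d', hd', c, hc, rfl⟩ := hsplit r hr
      exact (Zc S).mul_mem (heq.ge hd').2 (hCZ hc)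
    · rw [hSd]; rintro _ ⟨u, hu, rfl⟩
      obtain ⟨i, rfl⟩ := Subgroup.mem_zpowers_iff.1 hu
      rw [map_zpow]
      exact (Zc S).zpow_mem hwZ i
  · rintro ⟨d, hd, he⟩
    exact ⟨g d, (hinv g hg).1 d hd, by rw [show d = r from Subtype.ext he]; rfl⟩
  · rintro ⟨c, hc, he⟩
    exact ⟨g c, (hinv g hg).2 c hc, by rw [show c = r from Subtype.ext he]; rfl⟩
  · obtain ⟨d, hd, he⟩ := hSdD hy
    refine Subtype.ext ?_
    rw [coe_toAut]
    show ψ ⟨(y : Ω), hSN y.2⟩ = (y : Ω)⁻¹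
    have h1 : ψ ⟨(y : Ω), hSN y.2⟩ = ((s d : R) : Ω) :=
      (congrArg ψ (Subtype.ext he.symm)).trans (hψv d (le_normalizerIn hRle d.2))
    rw [hsD d hd] at h1
    rw [h1, Subgroup.coe_inv]
    exact congrArg _ he
  · obtain ⟨c, hc, he⟩ := hy
    refine Subtype.ext ?_
    rw [coe_toAut]
    show ψ ⟨(y : Ω), hSN y.2⟩ = (y : Ω)
    have h1 : ψ ⟨(y : Ω), hSN y.2⟩ = ((s c : R) : Ω) :=
      (congrArg ψ (Subtype.ext he.symm)).trans (hψv c (le_normalizerIn hRle c.2))
    rw [hsC c hc] at h1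
    rw [h1]
    exact he

end Cfsg.Agent.Fusion.CentreIndexSq
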