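import Cfsg.Agent.Lib.Fusion.ConstrainedSubsystem
import Cfsg.Agent.Lib.PGroup.Thompson

/-!
If `Z` is normal in `F` and `Aut_F(Z)` is a `p`-group, then `F` is of inner type as soon as `F/Z`
is. Hence a tame saturated system not of inner type has a nontrivial characteristic subgroup of
`S` whose automorphism group is not a `p`-group.
-/

set_option autoImplicit false

universe u v

namespace Cfsg.Agent.Fusion

open Cfsg Cfsg.FusionSystem

variable {Ω : Type u} [Group Ω] {S : Subgroup Ω} {F : FusionSystem S} {p : ℕ}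

/-- The factor by a normal subgroup with `p`-group automorphisms keeps the non-inner type. -/
theorem not_isInnerType_factorSystem {Ω' : Type v} [Group Ω'] {S' : Subgroup Ω'} {θ : S →* Ω'}
    {Z : Subgroup Ω} [Finite S] [Fact p.Prime] (hS : IsPGroup p S) (hne : ¬ IsInnerType F p)
    (hZn : F.IsNormal Z) (hAutZ : IsPGroup p (F.autGroup Z)) {E : FusionSystem S'}
    (hE : F.IsFactorSystem Z θ E) : ¬ IsInnerType E p := by
  have hZS := hZn.1
  have hZcl := stronglyClosed_of_isNormal hZn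
  obtain ⟨-, hker, hr, -⟩ := id hE
  intro hin
  obtain ⟨P, hP, a, ha, hco, ha1⟩ := exists_of_not_isInnerType hne
  obtain ⟨ha', har⟩ := hom_of_mem_autGroup hP ha
  obtain ⟨ψ, hψ, hψe, hψZ⟩ := hZn.2 P _ ha'
  have hψr : ψ.range = P ⊔ Z := by rw [range_sup_eq hψe hψZ, har]
  obtain ⟨b, hb, hco', hb1⟩ : ∃ b ∈ F.autGroup (P ⊔ Z), (orderOf b).Coprime p ∧ b ≠ 1 := by
    have : Finite (MulAut ↥(P ⊔ Z)) := finite_mulAut (sup_le hP hZS)
    obtain ⟨k, hk⟩ := exists_pow_coprime (p := p) (toAut hψ hψr)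
    refine ⟨_, Subgroup.pow_mem _ (toAut_mem hψ hψr) _, hk, fun h1 => ha1 ?_⟩
    refine eq_one_of_coprime hco (j := k) (MulEquiv.ext fun x => Subtype.ext ?_)
    have hpow : ∀ (i : ℕ) (x : P),
        (((toAut hψ hψr ^ i) (Subgroup.inclusion le_sup_left x) : ↥(P ⊔ Z)) : Ω) =
          ((a ^ i) x : Ω) := by
      intro i
      induction i with
      | zero => intro x; rfl
      | succ i hi =>
        intro x
        rw [pow_succ', pow_succ', MulAut.mul_apply, MulAut.mul_apply,
          show (toAut hψ hψr ^ i) (Subgroup.inclusion le_sup_left x) =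
            Subgroup.inclusion le_sup_left ((a ^ i) x) from Subtype.ext (hi x), coe_toAut, hψe]
        rfl
    rw [← hpow, h1]
    rfl
  have hPZ : preimageAlong θ (imageAlong θ (P ⊔ Z)) = P ⊔ Z := by
    rw [preimage_image hker hZS (sup_le hP hZS), sup_assoc, sup_idem]
  have hsupS : preimageAlong θ (imageAlong θ (P ⊔ Z)) ≤ S := preimageAlong_le θ _
  obtain ⟨c, hc, hcoc, hc1⟩ : ∃ c ∈ F.autGroup (preimageAlong θ (imageAlong θ (P ⊔ Z))),
      (orderOf c).Coprime p ∧ c ≠ 1 := by
    rw [hPZ]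
    exact ⟨b, hb, hco', hb1⟩
  have himg : imageAlong θ (P ⊔ Z) ≤ S' := hr ▸ Subgroup.map_le_range _ _
  obtain ⟨ind, -, hind⟩ := exists_inducedHom (p := p) hZcl hE
    himg
  obtain ⟨j, hj⟩ := hin _ himg (ind ⟨c, hc⟩)
  have hind1 : ind ⟨c, hc⟩ = 1 := eq_one_of_coprime
    (Nat.Coprime.coprime_dvd_left (orderOf_map_dvd ind _) (by rwa [Subgroup.orderOf_mk])) hj
  refine hc1 (MulEquiv.ext fun x => Subtype.ext ?_)
  have hZX : Z ≤ (preimageAlong θ (imageAlong θ (P ⊔ Z))) := ker_le_preimage hker hZS _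
  have hq : ((x⁻¹ * c x : (preimageAlong θ (imageAlong θ (P ⊔ Z)))) : Ω) ∈ Z := by
    have h1 := hind ⟨c, hc⟩ x (mem_preimageAlong.1 x.2).2 (hsupS (c x).2)
    rw [hind1] at h1
    refine (hker (⟨(x : Ω), hsupS x.2⟩⁻¹ * ⟨(c x : Ω), hsupS (c x).2⟩)).1 ?_
    rw [map_mul, map_inv, inv_mul_eq_one]
    exact h1
  -- `c` is trivial on `Z`
  have hcZ : ∀ z : (preimageAlong θ (imageAlong θ (P ⊔ Z))), (z : Ω) ∈ Z → c z = z := by
    have hres := restrict_mem ((mem_autGroup_iff hsupS).1 hc) hZX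
    have hrZ := range_eq_of_le hres hZS (fun z => hZcl.2 _ le_rfl _ hres z) le_rfl
    have hpow : ∀ (i : ℕ) (z : Z), (((toAut hres hrZ ^ i) z : Z) : Ω) =
        ((c ^ i) ⟨z, hZX z.2⟩ : (preimageAlong θ (imageAlong θ (P ⊔ Z)))) := by
      intro i
      induction i with
      | zero => intro z; rfl
      | succ i hi =>
        intro z
        rw [pow_succ', pow_succ', MulAut.mul_apply, MulAut.mul_apply, coe_toAut,
          show (c ^ i) ⟨z, hZX z.2⟩ = ⟨((toAut hres hrZ ^ i) z : Ω), hZX ((toAut hres hrZ ^ i) z).2⟩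
            from Subtype.ext (hi z).symm]
        rfl
    obtain ⟨j, hj⟩ := hAutZ ⟨_, toAut_mem hres hrZ⟩
    have h1 : toAut hres hrZ ^ orderOf c = 1 := MulEquiv.ext fun z => Subtype.ext (by
      rw [hpow, pow_orderOf_eq_one]; rfl)
    have h2 : toAut hres hrZ = 1 := eq_one_of_coprime
      (Nat.Coprime.coprime_dvd_left (orderOf_dvd_of_pow_eq_one h1) hcoc)
      (congrArg Subtype.val hj)
    intro z hz
    refine Subtype.ext ?_
    have h3 := hpow 1 ⟨z, hz⟩
    rw [pow_one, pow_one, h2] at h3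
    exact h3.symm
  have hpow : ∀ i : ℕ, (c ^ i) x = x * (x⁻¹ * c x) ^ i := by
    intro i
    induction i with
    | zero => simp
    | succ i hi =>
      rw [pow_succ' c, MulAut.mul_apply, hi, map_mul, map_pow, hcZ _ hq, pow_succ' (x⁻¹ * c x), ← mul_assoc x, mul_inv_cancel_left]
  have h1 : (x⁻¹ * c x) ^ orderOf c = 1 := by
    have := hpow (orderOf c)
    rw [pow_orderOf_eq_one] at this
    exact mul_eq_left.1 this.symm
  obtain ⟨j, hj⟩ := (hS.to_le hsupS) (x⁻¹ * c x)
  have h2 := eq_one_of_coprime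
    (Nat.Coprime.coprime_dvd_left (orderOf_dvd_of_pow_eq_one h1) hcoc) hj
  rw [inv_mul_eq_one] at h2
  rw [← h2]
  rfl

/-- A subgroup lying over a characteristic subgroup of a characteristic quotient is
characteristic. -/
theorem characteristic_comap {G H : Type*} [Group G] [Group H] (θ : G →* H)
    (hθ : Function.Surjective θ) (hk : θ.ker.Characteristic) {Q : Subgroup H}
    (hQ : Q.Characteristic) : (Q.comap θ).Characteristic := by
  refine Subgroup.characteristic_iff_comap_le.2 fun e x hx => ?_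
  rw [Subgroup.characteristic_iff_comap_eq] at hk
  have hle : θ.ker ≤ (θ.comp e.toMonoidHom).ker := fun y hy => (hk e).ge hy
  have hle' : θ.ker ≤ (θ.comp e.symm.toMonoidHom).ker := fun y hy => (hk e.symm).ge hy
  let d := θ.liftOfSurjective hθ ⟨θ.comp e.toMonoidHom, hle⟩
  let d' := θ.liftOfSurjective hθ ⟨θ.comp e.symm.toMonoidHom, hle'⟩
  have hd : ∀ y, d (θ y) = θ (e y) := fun y =>
    MonoidHom.liftOfRightInverse_comp_apply _ _ _ ⟨θ.comp e.toMonoidHom, hle⟩ y
  have hd' : ∀ y, d' (θ y) = θ (e.symm y) := fun y =>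
    MonoidHom.liftOfRightInverse_comp_apply _ _ _ ⟨θ.comp e.symm.toMonoidHom, hle'⟩ y
  let d₀ : H ≃* H := MonoidHom.toMulEquiv d d'
    (MonoidHom.ext fun z => by
      obtain ⟨y, rfl⟩ := hθ z
      simp [hd, hd'])
    (MonoidHom.ext fun z => by
      obtain ⟨y, rfl⟩ := hθ z
      simp [hd, hd'])
  have h1 : θ (e x) ∈ Q := hx
  rw [← hd] at h1
  exact (Subgroup.characteristic_iff_comap_le.1 hQ d₀) h1

theorem exists_char_witness_aux (n : ℕ) : ∀ {Ω : Type u} [Group Ω] {S : Subgroup Ω} [Finite S]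
    {p : ℕ} [Fact p.Prime] (F : FusionSystem S), Nat.card S = n → IsPGroup p S → F.IsSaturated p →
    IsTame F p → ¬ IsInnerType F p →
    ∃ Q : Subgroup Ω, Q ≤ S ∧ Q ≠ ⊥ ∧ (Q.subgroupOf S).Characteristic ∧
      ¬ IsPGroup p (F.autGroup Q) := by
  induction n using Nat.strong_induction_on with
  | _ n ih =>
  intro Ω _ S _ p _ F₀ hn hS hF₀ ht₀ hne₀
  obtain ⟨F, hF, hFle, hne, hmin⟩ := exists_minimal_not_isInnerType hS hF₀ hne₀
  have ht : IsTame F p := IsTame.mono le_rfl hFle ht₀
  suffices h : ∃ Q : Subgroup Ω, Q ≤ S ∧ Q ≠ ⊥ ∧ (Q.subgroupOf S).Characteristic ∧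
      ¬ IsPGroup p (F.autGroup Q) by
    obtain ⟨Q, hQ, hQ1, hQc, hQp⟩ := h
    exact ⟨Q, hQ, hQ1, hQc, fun h0 => hQp (h0.to_le (autGroup_le_of_subsystem hFle hQ))⟩
  obtain ⟨W, hWS, hWne, hWc, hWm⟩ : ∃ W : Subgroup Ω, W ≤ S ∧ W ≠ ⊥ ∧
      (W.subgroupOf S).Characteristic ∧ Moves F p W := by
    obtain ⟨P, hP, a, -, -, ha1⟩ := exists_of_not_isInnerType hne
    have hSne : Nontrivial S := by
      by_contra hnt
      rw [not_nontrivial_iff_subsingleton] at hnt
      exact ha1 (MulEquiv.ext fun x => Subtype.ext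
        (congrArg Subtype.val (hnt.elim ⟨_, hP (a x).2⟩ ⟨_, hP x.2⟩) :))
    rcases moves_of_not_isInnerType hS hF ht hne with h | h
    · refine ⟨_, thompsonSubgroupAOf_le' S, ?_, ?_, h⟩
      · show (thompsonSubgroupA S).map S.subtype ≠ ⊥
        rw [Ne, Subgroup.map_eq_bot_iff_of_injective _ S.subtype_injective]
        exact PComplement.isCharPFunctor_jA.1 S hS hSne
      · rw [thompsonSubgroupAOf, Subgroup.subgroupOf,
          Subgroup.comap_map_eq_self_of_injective S.subtype_injective]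
        exact PGroup.thompsonSubgroupA_characteristic
    · have he : (S ⊓ Subgroup.centralizer (S : Set Ω)).subgroupOf S = Subgroup.center S := by
        ext z
        rw [Subgroup.mem_subgroupOf, Subgroup.mem_inf, Subgroup.mem_centralizer_iff,
          Subgroup.mem_center_iff]
        exact ⟨fun h' y => Subtype.ext (h'.2 y y.2),
          fun h' => ⟨z.2, fun y hy => congrArg Subtype.val (h' ⟨y, hy⟩)⟩⟩
      refine ⟨_, inf_le_left, fun hbot => ?_, by rw [he]; infer_instance, h.moves⟩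
      rw [hbot, Subgroup.bot_subgroupOf] at he
      have := hS.center_nontrivial
      rw [← he] at this
      exact not_subsingleton _ (inferInstance : Subsingleton (⊥ : Subgroup S))
  by_cases hAut : IsPGroup p (F.autGroup W)
  swap
  · exact ⟨W, hWS, hWne, hWc, hAut⟩
  have hWn' : (W.subgroupOf S).Normal := inferInstance
  have hSW : S ≤ Subgroup.normalizer (W : Set Ω) :=
    (Subgroup.normal_subgroupOf_iff_le_normalizer hWS).1 hWn'
  -- `W` is normal in `F`
  have hWfn : F.IsFullyNormalized W := ⟨hWS, fun R' _ => by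
    rw [show normalizerIn S W = S from le_antisymm inf_le_left (le_inf le_rfl hSW)]
    exact card_le_of_le le_rfl (normalizerIn_le S R')⟩
  have hWn : F.IsNormal W := by
    obtain ⟨E, hE, hEs⟩ := exists_normalizerSystem_self F hWS hSW
    have hEsat := hEs _ (normalizerSystem_spec F W hWS)
      (normalizerSystem_saturated hS hF hWfn (normalizerSystem_spec F W hWS))
    have hEne : ¬ IsInnerType E p := by
      intro hin
      refine hWm.not_isInnerType hSW rfl (normalizerSystem_spec F W hWS) fun P hP => ?_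
      have hPS := hP.trans (normalizerIn_le S W)
      refine (hin P hPS).to_le fun α hα => ?_
      refine (mem_autGroup_iff hPS).2 ?_
      rw [hE]
      exact (mem_autGroup_iff hP).1 hα
    have heq := hmin E hEsat (fun P φ hφ => by rw [hE] at hφ; exact hφ.1) hEne
    refine ⟨hWS, fun P φ hφ => ?_⟩
    rw [← heq P, hE] at hφ
    exact hφ.2.2.2
  have hWcl := stronglyClosed_of_isNormal hWn
  let θ : S →* S ⧸ W.subgroupOf S := QuotientGroup.mk' _
  have hker : ∀ s : S, θ s = 1 ↔ (s : Ω) ∈ W := fun s => QuotientGroup.eq_one_iff s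
  have hθs : Function.Surjective θ := QuotientGroup.mk'_surjective _
  have hr : θ.range = ⊤ := MonoidHom.range_eq_top.2 hθs
  have hFb := factorSystem_spec F hWcl θ hker hr
  have hFbs := isSaturated_factorSystem hS hF hWcl hFb
  have hTop : IsPGroup p (⊤ : Subgroup (S ⧸ W.subgroupOf S)) :=
    (hS.to_quotient _).to_subgroup ⊤
  have hcard : Nat.card (⊤ : Subgroup (S ⧸ W.subgroupOf S)) < n := by
    rw [Subgroup.card_top, ← hn, Subgroup.card_eq_card_quotient_mul_card_subgroup (W.subgroupOf S)]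
    refine lt_mul_of_one_lt_right Nat.card_pos (Finite.one_lt_card_iff_nontrivial.2 ?_)
    rw [Subgroup.nontrivial_iff_ne_bot, Ne, Subgroup.subgroupOf_eq_bot]
    exact fun hd => hWne (le_bot_iff.1 (hd le_rfl hWS))
  obtain ⟨Qb, -, hQbne, hQbc, hQbp⟩ := ih _ hcard (factorSystem F hWcl θ hker hr) rfl hTop hFbs
    (isTame_factorSystem hWcl hFb ht) (not_isInnerType_factorSystem hS hne hWn hAut hFb)
  refine ⟨preimageAlong θ Qb, preimageAlong_le θ _, fun h0 => ?_, ?_, fun h0 => hQbp ?_⟩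
  · exact hWne (le_bot_iff.1 ((ker_le_preimage hker hWS Qb).trans h0.le))
  · have he : (preimageAlong θ Qb).subgroupOf S = Qb.comap θ := by
      ext x
      rw [Subgroup.mem_subgroupOf, mem_preimageAlong, Subgroup.mem_comap]
      exact ⟨fun ⟨_, h⟩ => h, fun h => ⟨x.2, h⟩⟩
    rw [he]
    refine characteristic_comap θ hθs (by rw [QuotientGroup.ker_mk']; exact hWc) ?_
    refine Subgroup.characteristic_iff_comap_le.2 fun e x hx => ?_
    exact (Subgroup.characteristic_iff_comap_le.1 hQbc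
      ((Subgroup.topEquiv.trans e).trans Subgroup.topEquiv.symm)
      (show _ ∈ (Qb.subgroupOf ⊤).comap _ from hx) : (⟨x, trivial⟩ : (⊤ : Subgroup _)) ∈ _)
  · obtain ⟨ind, hind, -⟩ := exists_inducedHom (p := p) hWcl hFb (le_top : Qb ≤ ⊤)
    exact h0.of_surjective ind hind

/-- A tame saturated system not of inner type has a nontrivial characteristic subgroup of `S`
whose automorphism group is not a `p`-group. -/
theorem exists_char_witness [Finite S] [Fact p.Prime] (hS : IsPGroup p S) (hF : F.IsSaturated p)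
    (ht : IsTame F p) (hne : ¬ IsInnerType F p) :
    ∃ Q : Subgroup Ω, Q ≤ S ∧ Q ≠ ⊥ ∧ (Q.subgroupOf S).Characteristic ∧
      ¬ IsPGroup p (F.autGroup Q) :=
  exists_char_witness_aux _ F rfl hS hF ht hne

end Cfsg.Agent.Fusion
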