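import Mathlib

/-!
A group of automorphisms `G` of a finite `p`-group `V` whose Sylow subgroup `P` stabilizes the chain
`V > Z > 1`, `Z` its fixed points, with `[v, P] = Z` off `Z`: if any two conjugates of `Z` meet
nontrivially, then `Z` is invariant.
-/

set_option autoImplicit false

namespace Cfsg.Agent.Fusion.CommonFixed

variable {V : Type*} [Group V] {p : ℕ}

/-- The automorphisms in `G` trivial on `Z` and on the cosets of `Z`. -/
def chainStab (G : Subgroup (MulAut V)) (Z : Subgroup V) : Subgroup G where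
  carrier := {a | (∀ z ∈ Z, (a : MulAut V) z = z) ∧ ∀ v, v⁻¹ * (a : MulAut V) v ∈ Z}
  one_mem' := ⟨fun _ _ => rfl, fun v => by simp⟩
  mul_mem' := by
    rintro a b ⟨ha, ha'⟩ ⟨hb, hb'⟩
    refine ⟨fun z hz => ?_, fun v => ?_⟩
    · rw [Subgroup.coe_mul, MulAut.mul_apply, hb z hz, ha z hz]
    · rw [Subgroup.coe_mul, MulAut.mul_apply,
        show v⁻¹ * (a : MulAut V) ((b : MulAut V) v) = (v⁻¹ * (b : MulAut V) v) *
          (((b : MulAut V) v)⁻¹ * (a : MulAut V) ((b : MulAut V) v)) by group]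
      exact Z.mul_mem (hb' v) (ha' _)
  inv_mem' := by
    rintro a ⟨ha, ha'⟩
    refine ⟨fun z hz => ?_, fun v => ?_⟩
    · rw [Subgroup.coe_inv]
      conv_lhs => rw [← ha z hz]
      rw [MulAut.inv_apply_self]
    · have h := Z.inv_mem (ha' ((a : MulAut V)⁻¹ v))
      rw [Subgroup.coe_inv]
      rwa [MulAut.apply_inv_self, mul_inv_rev, inv_inv] at h

theorem isPGroup_chainStab [Finite V] (hV : IsPGroup p V) (G : Subgroup (MulAut V))
    (Z : Subgroup V) : IsPGroup p (chainStab G Z) := by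
  intro a
  obtain ⟨a, ha, ha'⟩ := a
  have key : ∀ (n : ℕ) (v : V), ((a : MulAut V) ^ n) v = v * (v⁻¹ * (a : MulAut V) v) ^ n := by
    intro n v
    induction n with
    | zero => simp
    | succ n ih =>
      rw [pow_succ' (a : MulAut V), MulAut.mul_apply, ih, map_mul, map_pow, ha _ (ha' v),
        pow_succ', ← mul_assoc v, mul_inv_cancel_left]
  choose k hk using fun v => hV (v⁻¹ * (a : MulAut V) v)
  cases nonempty_fintype V
  refine ⟨Finset.univ.sup k, Subtype.ext (Subtype.ext (MulEquiv.ext fun v => ?_))⟩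
  show ((a : MulAut V) ^ p ^ Finset.univ.sup k) v = v
  have h1 : k v ≤ Finset.univ.sup k := Finset.le_sup (Finset.mem_univ v)
  rw [key, ← Nat.add_sub_cancel' h1, pow_add, pow_mul, hk, one_pow, mul_one]

/-- `Z` is invariant under `G`. -/
theorem apply_mem [Finite V] [Fact p.Prime] (hV : IsPGroup p V) (G : Subgroup (MulAut V))
    (P : Sylow p G) (Z : Subgroup V)
    (hfixed : ∀ z ∈ Z, ∀ a ∈ P, (a : MulAut V) z = z)
    (hsurj : ∀ v ∉ Z, ∀ z ∈ Z, ∃ a ∈ P, (a : MulAut V) v = v * z)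
    (hcomm : ∀ a ∈ P, ∀ v, v⁻¹ * (a : MulAut V) v ∈ Z)
    (hmeet : ∀ g : G, ∃ z ∈ Z, (g : MulAut V) z ∈ Z ∧ z ≠ 1) :
    ∀ g : G, ∀ z ∈ Z, (g : MulAut V) z ∈ Z := by
  classical
  have : Finite (MulAut V) := Finite.of_injective _ MulEquiv.toEquiv_injective
  cases nonempty_fintype G
  by_contra hne
  push Not at hne
  let W : G → Set V := fun g => {z | z ∈ Z ∧ (g : MulAut V) z ∈ Z}
  obtain ⟨g, hg, hmax⟩ := Finset.exists_max_image
    (Finset.univ.filter fun g : G => ∃ z ∈ Z, (g : MulAut V) z ∉ Z) (fun g => (W g).ncard)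
    (by obtain ⟨g, hg⟩ := hne; exact ⟨g, Finset.mem_filter.2 ⟨Finset.mem_univ _, hg⟩⟩)
  obtain ⟨v, hvZ, hv⟩ := (Finset.mem_filter.1 hg).2
  obtain ⟨w, hwZ, hgw, hw1⟩ := hmeet g
  obtain ⟨s, hsP, hs⟩ := hsurj _ hv _ hgw
  set t : G := g⁻¹ * s * g with ht
  have htv : (t : MulAut V) v = v * w := by
    rw [ht, Subgroup.coe_mul, Subgroup.coe_mul, Subgroup.coe_inv, MulAut.mul_apply,
      MulAut.mul_apply, hs, map_mul, MulAut.inv_apply_self, MulAut.inv_apply_self]
  have hWt : ∀ z ∈ W g, (t : MulAut V) z = z := fun z hz => by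
    rw [ht, Subgroup.coe_mul, Subgroup.coe_mul, Subgroup.coe_inv, MulAut.mul_apply,
      MulAut.mul_apply, hfixed _ hz.2 s hsP, MulAut.inv_apply_self]
  have hlt : (W g).ncard < (W t).ncard := by
    refine Set.ncard_lt_ncard ((Set.ssubset_iff_of_subset fun z hz => ?_).2 ⟨v, ?_, ?_⟩)
      (Set.toFinite _)
    · exact ⟨hz.1, by rw [hWt z hz]; exact hz.1⟩
    · exact ⟨hvZ, by rw [htv]; exact Z.mul_mem hvZ hwZ⟩
    · exact fun h => hv h.2
  have htZ : ∀ z ∈ Z, (t : MulAut V) z ∈ Z := by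
    by_contra h
    push Not at h
    exact absurd (hmax t (Finset.mem_filter.2 ⟨Finset.mem_univ _, h⟩)) (not_le.2 hlt)
  -- `t` normalizes `P`, hence lies in it
  have hPK : (P : Subgroup G) ≤ chainStab G Z := fun a ha => ⟨fun z hz => hfixed z hz a ha, hcomm a ha⟩
  have hKP : chainStab G Z = (P : Subgroup G) := P.is_maximal' (isPGroup_chainStab hV G Z) hPK
  have htN : ∀ a ∈ (P : Subgroup G), t * a * t⁻¹ ∈ (P : Subgroup G) := by
    intro a ha
    rw [← hKP] at ha ⊢
    have hinv : ∀ z ∈ Z, (t : MulAut V)⁻¹ z ∈ Z := by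
      intro z hz
      let f : Z → Z := fun y => ⟨(t : MulAut V) y, htZ y y.2⟩
      have hf : Function.Bijective f := Finite.injective_iff_bijective.1 fun a b hab =>
        Subtype.ext ((t : MulAut V).injective (congrArg Subtype.val hab))
      obtain ⟨y, hy⟩ := hf.2 ⟨z, hz⟩
      rw [show z = (t : MulAut V) y from (congrArg Subtype.val hy).symm, MulAut.inv_apply_self]
      exact y.2
    refine ⟨fun z hz => ?_, fun u => ?_⟩
    · rw [Subgroup.coe_mul, Subgroup.coe_mul, Subgroup.coe_inv, MulAut.mul_apply,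
        MulAut.mul_apply, ha.1 _ (hinv z hz), MulAut.apply_inv_self]
    · have h1 := htZ _ (ha.2 ((t : MulAut V)⁻¹ u))
      rwa [map_mul, map_inv, MulAut.apply_inv_self] at h1
  have htmem : t ∈ Subgroup.normalizer ((P : Subgroup G) : Set G) := by
    have : Finite G := inferInstance
    exact Subgroup.mem_normalizer_iff.2 fun a => ⟨htN a, fun ha => by
      let f : ↥(P : Subgroup G) → ↥(P : Subgroup G) := fun b => ⟨t * (b : G) * t⁻¹, htN b b.2⟩
      have hf : Function.Bijective f := Finite.injective_iff_bijective.1 fun b c hbc =>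
        Subtype.ext (mul_left_cancel (mul_right_cancel (congrArg Subtype.val hbc)))
      obtain ⟨b, hb⟩ := hf.2 ⟨_, ha⟩
      rw [← mul_left_cancel (mul_right_cancel (congrArg Subtype.val hb))]
      exact b.2⟩
  have hzp : IsPGroup p (Subgroup.zpowers t) := by
    obtain ⟨k, hk⟩ := P.isPGroup' ⟨s, hsP⟩
    have hk' : s ^ p ^ k = 1 := congrArg Subtype.val hk
    rintro ⟨_, i, rfl⟩
    refine ⟨k, Subtype.ext ?_⟩
    show (t ^ i) ^ p ^ k = 1
    have h2 : t ^ p ^ k = 1 := by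
      rw [ht, show g⁻¹ * s * g = g⁻¹ * s * g⁻¹⁻¹ by rw [inv_inv], conj_pow, hk']
      group
    rw [← zpow_natCast (t ^ i), ← zpow_mul, mul_comm, zpow_mul, zpow_natCast, h2, one_zpow]
  have hsup : IsPGroup p ↥(Subgroup.zpowers t ⊔ (P : Subgroup G)) :=
    hzp.to_sup_of_normal_right' P.isPGroup' (Subgroup.zpowers_le.2 htmem)
  have htP : t ∈ (P : Subgroup G) := by
    rw [← P.is_maximal' hsup le_sup_right]
    exact Subgroup.mem_sup_left (Subgroup.mem_zpowers t)
  have h := hfixed v hvZ t htP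
  rw [htv] at h
  exact hw1 (mul_eq_left.1 h)

end Cfsg.Agent.Fusion.CommonFixed
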