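import Cfsg.Agent.Lib.Fusion.Realized
import Cfsg.Agent.Lib.Fusion.NormalCriteria

/-!
The inner system of a subgroup normal in `F` is weakly normal in `F`; conversely a strongly closed
chain criterion through maps extending to automorphisms of `Q`.
-/

set_option autoImplicit false

namespace Cfsg.Agent.Fusion

open Cfsg Cfsg.FusionSystem
open scoped commutatorElement

variable {Ω : Type*} [Group Ω] {S : Subgroup Ω} {p : ℕ}

theorem innerFusionSystem_realizedBy (Q : Subgroup Ω) :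
    (innerFusionSystem Q).IsRealizedBy (MonoidHom.id ↥Q) := by
  refine ⟨Function.injective_id, fun P hP φ hφ => ⟨?_, ?_⟩⟩
  · rintro ⟨-, g, hg, hgx⟩
    exact ⟨⟨g, hg⟩, fun x => Subtype.ext (hgx x)⟩
  · rintro ⟨g, hg⟩
    exact ⟨hP, g, g.2, fun x => congrArg Subtype.val (hg x)⟩

theorem innerFusionSystem_saturated [Fact p.Prime] {Q : Subgroup Ω} [Finite Q]
    (hQ : IsPGroup p Q) : (innerFusionSystem Q).IsSaturated p := by
  refine isSaturated_of_realized (innerFusionSystem_realizedBy Q) ?_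
  obtain ⟨T, hT⟩ := (hQ.to_subgroup ⊤).exists_le_sylow
  refine ⟨T, (top_le_iff.1 hT).trans ?_⟩
  rw [MonoidHom.range_eq_top.2 Function.surjective_id]

/-- The inner system of a normal subgroup is weakly normal. -/
theorem inner_isWeaklyNormal [Finite S] [Fact p.Prime] (hS : IsPGroup p S) {F : FusionSystem S}
    (hF : F.IsSaturated p) {Q : Subgroup Ω} (hQ : F.IsNormal Q) :
    (innerFusionSystem Q).IsWeaklyNormalIn F p := by
  have := finite_of_le hQ.1
  refine ⟨innerFusionSystem_saturated (hS.to_le hQ.1), hF, fun P φ hφ => ?_,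
    stronglyClosed_of_isNormal hQ, fun P hPQ φ hφ α _ => ?_, fun P hPQ φ hφ => ?_⟩
  · obtain ⟨hP, g, hg, hgx⟩ := hφ
    exact mem_of_conj (hP.trans hQ.1) (hQ.1 hg) hgx
  · obtain ⟨-, g, hg, hgx⟩ := hφ
    refine ⟨conjHom _ (α ⟨g, hg⟩ : Q), (innerFusionSystem Q).conj_mem ?_ (α ⟨g, hg⟩).2,
      fun x hφx hαx => ?_⟩
    · rintro _ ⟨y, -, rfl⟩
      exact (α y).2
    · show ((α ⟨g, hg⟩ : Q) : Ω) * ((α ⟨x, hPQ x.2⟩ : Q) : Ω) * ((α ⟨g, hg⟩ : Q) : Ω)⁻¹ = _
      rw [show (⟨φ x, hφx⟩ : Q) = ⟨g, hg⟩ * ⟨x, hPQ x.2⟩ * ⟨g, hg⟩⁻¹ from Subtype.ext (hgx x),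
        map_mul, map_mul, map_inv]
      rfl
  · obtain ⟨ψ, hψ, hψe, hψQ⟩ := hQ.2 P φ hφ
    have hle : Q ≤ P ⊔ Q := le_sup_right
    have hψ' : ψ.comp (Subgroup.inclusion hle) ∈ F.Hom Q := restrict_mem hψ hle
    have hr : (ψ.comp (Subgroup.inclusion hle)).range = Q := by
      rw [MonoidHom.range_comp, Subgroup.inclusion_range, hψQ]
    refine ⟨toAut hψ' hr, toAut_mem hψ' hr, P.subtype, subtype_mem _ hPQ, fun x hx => ?_⟩
    rw [coe_toAut]
    exact (hψe x).symm

/-- The ascending central series of a subgroup, as subgroups of the ambient group. -/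
def upperOf (Q : Subgroup Ω) (i : ℕ) : Subgroup Ω := (Subgroup.upperCentralSeries Q i).map Q.subtype

theorem apply_upperOf {Q : Subgroup Ω} (ψ : MulAut Q) {i : ℕ} {x : Q} (hx : (x : Ω) ∈ upperOf Q i) :
    ((ψ x : Q) : Ω) ∈ upperOf Q i := by
  obtain ⟨x', hx', he⟩ := hx
  obtain rfl : x' = x := Subtype.ext he
  exact ⟨_, Subgroup.characteristic_iff_map_le.1 inferInstance ψ
    (Subgroup.mem_map_of_mem _ hx'), rfl⟩

/-- If every map between subgroups of the strongly closed `Q` maps each term of the central series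
of `Q` into itself, then `Q` is normal. -/
theorem isNormal_of_upper_closed [Finite S] [Fact p.Prime] (hS : IsPGroup p S) {F : FusionSystem S}
    (hF : F.IsSaturated p) {Q : Subgroup Ω} (hQ : Q ≤ S)
    (h : ∀ (i : ℕ) (R : Subgroup Ω), R ≤ upperOf Q i → ∀ φ ∈ F.Hom R, ∀ x : R, φ x ∈ upperOf Q i) :
    F.IsNormal Q := by
  have := finite_of_le hQ
  have : Group.IsNilpotent ↥Q := (hS.to_le hQ).isNilpotent
  obtain ⟨n, hn⟩ := Group.IsNilpotent.nilpotent (G := ↥Q)
  refine isNormal_of_chain hS hF (T := upperOf Q) (n := n) ?_ ?_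
    (fun i _ => ⟨(Subgroup.map_subtype_le _).trans hQ, h i⟩) fun i _ => ?_
  · rw [upperOf, Subgroup.upperCentralSeries_zero, Subgroup.map_bot]
  · rw [upperOf, hn, ← MonoidHom.range_eq_map, Subgroup.range_subtype]
  · rw [Subgroup.commutator_le]
    rintro q hq _ ⟨x, hx, rfl⟩
    refine ⟨⁅(⟨q, hq⟩ : Q), x⁆, ?_, by simp [commutatorElement_def]⟩
    have h1 := Subgroup.mem_upperCentralSeries_succ_iff.1 hx ⟨q, hq⟩
    rw [← commutatorElement_inv x]
    exact Subgroup.inv_mem _ h1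

end Cfsg.Agent.Fusion
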