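import Cfsg.Agent.Lib.Fusion.NormalCentralizer
import Cfsg.Agent.Lib.Fusion.ResidualLimit
import Cfsg.Agent.Lib.Fusion.Constrained
import Cfsg.Agent.Lib.PCore.Basic

/-!
Every map of a normal subsystem `E` over `T` extends to a map of `F` on the join with a normal
subgroup `R` acting trivially on `R` modulo `R ⊓ T` (Aschbacher).
-/

set_option autoImplicit false
set_option linter.unusedSectionVars false

namespace Cfsg.Agent.Fusion.TrivialExtension

open Cfsg Cfsg.FusionSystem Cfsg.Agent.Fusion Cfsg.Agent.Fusion.NormalCentralizer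

universe u

variable {Ω : Type u} [Group Ω] {S T R : Subgroup Ω} {F : FusionSystem S} {E : FusionSystem T}
  {p : ℕ}

/-- `φ` extends to `P R` moving each element of `R` inside `R ⊓ T`. -/
def Triv (F : FusionSystem S) (R T P : Subgroup Ω) (φ : P →* Ω) : Prop :=
  ∃ ψ ∈ F.Hom (P ⊔ R), (∀ x : P, ψ (Subgroup.inclusion le_sup_left x) = φ x) ∧
    ∀ r : R, (r : Ω)⁻¹ * ψ (Subgroup.inclusion le_sup_right r) ∈ R ⊓ T

theorem apply_mem_R {P : Subgroup Ω} {ψ : ↥(P ⊔ R) →* Ω}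
    (h : ∀ r : R, (r : Ω)⁻¹ * ψ (Subgroup.inclusion le_sup_right r) ∈ R ⊓ T) (r : R) :
    ψ (Subgroup.inclusion le_sup_right r) ∈ R := by
  have := R.mul_mem r.2 (h r).1
  rwa [mul_inv_cancel_left] at this

theorem triv_restrict {P N : Subgroup Ω} (hPN : P ≤ N) {φ : P →* Ω} {φ' : N →* Ω}
    (he : ∀ x : P, φ' (Subgroup.inclusion hPN x) = φ x) (h : Triv F R T N φ') :
    Triv F R T P φ := by
  obtain ⟨ψ, hψ, hP, hR⟩ := h
  have hle : P ⊔ R ≤ N ⊔ R := sup_le_sup_right hPN R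
  exact ⟨_, restrict_mem hψ hle, fun x => (hP (Subgroup.inclusion hPN x)).trans (he x), fun r => hR r⟩

theorem triv_comp {P Q : Subgroup Ω} {φ : P →* Ω} {χ : Q →* Ω} (h : ∀ x : P, φ x ∈ Q)
    (hφ : Triv F R T P φ) (hχ : Triv F R T Q χ) :
    Triv F R T P (χ.comp (φ.codRestrict Q h)) := by
  obtain ⟨ψ, hψ, hP, hR⟩ := hφ
  obtain ⟨ψ', hψ', hQ, hR'⟩ := hχ
  have hmem : ∀ z, ψ z ∈ Q ⊔ R := forall_sup_mem ψ
    (fun x => by rw [hP]; exact Subgroup.mem_sup_left (h x))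
    (fun r => Subgroup.mem_sup_right (apply_mem_R hR r))
  refine ⟨_, F.comp_mem hψ hψ' hmem, fun x => ?_, fun r => ?_⟩
  · refine Eq.trans ?_ (hQ ⟨φ x, h x⟩)
    exact congrArg ψ' (Subtype.ext (hP x))
  · have h1 := Subgroup.mul_mem _ (hR r) (hR' ⟨_, apply_mem_R hR r⟩)
    rw [mul_assoc, mul_inv_cancel_left] at h1
    exact h1

theorem triv_inv {P : Subgroup Ω} {φ : P →* Ω} {χ : φ.range →* Ω} [Finite S] (hRS : R ≤ S)
    (hφ : Triv F R T P φ) (hi : ∀ x : P, χ ⟨φ x, x, rfl⟩ = x) : Triv F R T φ.range χ := by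
  obtain ⟨ψ, hψ, hP, hR⟩ := hφ
  obtain ⟨η, hη, -, hηi, -⟩ := exists_inverse hψ (rfl : ψ.range = ψ.range)
  have hmap : (R.subgroupOf (P ⊔ R)).map ψ = R :=
    (map_subgroupOf_eq_iff hψ le_sup_right).2 fun x hx => apply_mem_R hR ⟨x, hx⟩
  have hle : φ.range ⊔ R ≤ ψ.range := sup_le (by rintro _ ⟨x, rfl⟩; exact ⟨_, hP x⟩)
    (fun r hr => by obtain ⟨w, -, hw⟩ := hmap.ge hr; exact ⟨w, hw⟩)
  refine ⟨_, restrict_mem hη hle, ?_, ?_⟩
  · rintro ⟨_, x, rfl⟩
    rw [hi x]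
    exact (congrArg η (Subtype.ext (hP x).symm)).trans
      (hηi (Subgroup.inclusion le_sup_left x) ⟨_, rfl⟩)
  · rintro ⟨r, hr⟩
    obtain ⟨w, hw, hwr⟩ := hmap.ge hr
    have h1 : η (Subgroup.inclusion hle (Subgroup.inclusion le_sup_right ⟨r, hr⟩)) = w :=
      (congrArg η (Subtype.ext hwr.symm)).trans (hηi w ⟨_, rfl⟩)
    show r⁻¹ * η _ ∈ R ⊓ T
    rw [h1]
    have h2 := Subgroup.inv_mem _ (hR ⟨w, hw⟩)
    rw [show ψ (Subgroup.inclusion le_sup_right ⟨(w : Ω), hw⟩) = r from hwr] at h2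
    simpa using h2

theorem triv_conj (hRS : R ≤ S) (hTS : T ≤ S) (hTn : S ≤ Subgroup.normalizer (T : Set Ω))
    (hRn : S ≤ Subgroup.normalizer (R : Set Ω)) {P : Subgroup Ω} (hP : P ≤ T) {g : Ω} (hg : g ∈ T) :
    Triv F R T P (conjHom P g) := by
  refine ⟨conjHom _ g, F.conj_mem (sup_le (hP.trans hTS) hRS) (hTS hg), fun x => rfl, fun r => ⟨?_, ?_⟩⟩
  · exact R.mul_mem (R.inv_mem r.2) ((Subgroup.mem_normalizer_iff.1 (hRn (hTS hg)) r).1 r.2)
  · have h1 := (Subgroup.mem_normalizer_iff''.1 (hTn (hRS r.2)) g).1 hg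
    have h2 := T.mul_mem h1 (T.inv_mem hg)
    show (r : Ω)⁻¹ * (g * r * g⁻¹) ∈ T
    simpa [mul_assoc] using h2

/-- The automorphisms of `P` with such an extension. -/
def trivGroup [Finite S] (F : FusionSystem S) (R T : Subgroup Ω) {P : Subgroup Ω} (hP : P ≤ S)
    (hR : R ≤ S) : Subgroup (MulAut P) where
  carrier := {a | Triv F R T P (P.subtype.comp a.toMonoidHom)}
  one_mem' := ⟨(P ⊔ R).subtype, subtype_mem F (sup_le hP hR), fun _ => rfl, fun r => by simp⟩
  mul_mem' := fun {a b} ha hb => triv_comp (fun x => (b x).2) hb ha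
  inv_mem' := fun {a} ha => by
    have : Finite (MulAut P) := finite_mulAut hP
    rw [show a⁻¹ = a ^ (orderOf a - 1) from inv_eq_of_mul_eq_one_right (by
      rw [← pow_succ', Nat.sub_add_cancel (orderOf_pos a), pow_orderOf_eq_one])]
    induction (orderOf a - 1) with
    | zero => exact ⟨(P ⊔ R).subtype, subtype_mem F (sup_le hP hR), fun _ => rfl, fun r => by simp⟩
    | succ n ih => exact triv_comp (fun x => (a x).2) ha ih

theorem mem_normalizer_of_inf_le {P : Subgroup Ω} (hTn : S ≤ Subgroup.normalizer (T : Set Ω))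
    (hRn : S ≤ Subgroup.normalizer (R : Set Ω)) (hTS : T ≤ S) (hPT : P ≤ T) (hle : R ⊓ T ≤ P)
    (hRS : R ≤ S) : R ≤ Subgroup.normalizer (P : Set Ω) := by
  intro r hr
  have hc : ∀ s ∈ R, ∀ x ∈ P, s * x * s⁻¹ ∈ P := fun s hs x hx => by
    have h1 : s * x * s⁻¹ * x⁻¹ ∈ R ⊓ T := by
      refine ⟨?_, T.mul_mem ((Subgroup.mem_normalizer_iff.1 (hTn (hRS hs)) x).1 (hPT hx)) (T.inv_mem (hPT hx))⟩
      have := (Subgroup.mem_normalizer_iff.1 (hRn (hTS (hPT hx))) s⁻¹).1 (R.inv_mem hs)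
      simpa [mul_assoc] using R.mul_mem hs this
    have h2 := P.mul_mem (hle h1) hx
    rwa [inv_mul_cancel_right] at h2
  refine Subgroup.mem_normalizer_iff.2 fun x => ⟨hc r hr x, fun hx => ?_⟩
  have := hc r⁻¹ (R.inv_mem hr) _ hx
  simpa [mul_assoc] using this

variable [Finite S] [Fact p.Prime]

/-- A `p'`-automorphism with an extension moving `C_S(P)` inside `T` extends trivially. -/
theorem triv_of_ext (hS : IsPGroup p S) (hR : F.IsNormal R) (hE : E.IsInvariantIn F) {P : Subgroup Ω}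
    (hPT : P ≤ T) (hle : R ⊓ T ≤ P) {a : MulAut P} (ha : a ∈ E.autGroup P)
    (hord : (orderOf a).Coprime p) {γ : MulAut ↥(rc S P)} (hγ : γ ∈ F.autGroup (rc S P))
    (hγP : ∀ x : P, γ (Subgroup.inclusion le_sup_left x) = Subgroup.inclusion le_sup_left (a x))
    (hγC : ∀ c : ↥(rc S P), (c : Ω) ∈ centralizerIn S P →
      (c : Ω)⁻¹ * ((γ c : ↥(rc S P)) : Ω) ∈ T)
    (hinn : ∀ r ∈ R, ∀ hN : r ∈ Subgroup.normalizer (P : Set Ω), conjAut hN ∈ E.autGroup P →
      conjAut hN ∈ Inn P) :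
    Triv F R T P (P.subtype.comp a.toMonoidHom) := by
  have hTcl := hE.2.1
  have hTS := hTcl.1
  have hRS := hR.1
  have hPS := hPT.trans hTS
  have hTn := le_normalizer_of_stronglyClosed hTcl
  have hRn := le_normalizer_of_isNormal hR
  have hRcl := stronglyClosed_of_isNormal hR
  have hPN := mem_normalizer_of_inf_le hTn hRn hTS hPT hle hRS
  have hXS : (rc S P) ≤ S := sup_le hPS (centralizerIn_le S P)
  have hYS : (rc S P) ⊔ R ≤ S := sup_le hXS hRS
  obtain ⟨ψ, hψ, hψr, hψX, -⟩ := exists_extension_of_isNormal hR hXS hγ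
  have := finite_of_le (Ω := Ω) hYS
  have := finite_of_le (Ω := Ω) hPS
  have := finite_mulAut (Ω := Ω) hYS
  have := finite_mulAut (Ω := Ω) hPS
  set β₀ := toAut hψ hψr with hβ₀
  have hβ₀m : β₀ ∈ F.autGroup ((rc S P) ⊔ R) := toAut_mem hψ hψr
  have hβX : ∀ x : (rc S P), β₀ (Subgroup.inclusion le_sup_left x) = Subgroup.inclusion le_sup_left (γ x) :=
    fun x => Subtype.ext (hψX x)
  obtain ⟨e, he⟩ := ConstrainedGroup.exists_pow_coprime (p := p) β₀
  show a ∈ trivGroup F R T hPS hRS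
  refine ConstrainedGroup.mem_of_pow_mem_of_coprime _ ?_ (Nat.Coprime.pow_left e hord.symm)
  set n := p ^ e
  have hpowX : ∀ (k : ℕ) (x : (rc S P)), (β₀ ^ k) (Subgroup.inclusion le_sup_left x) =
      Subgroup.inclusion le_sup_left ((γ ^ k) x) := by
    intro k
    induction k with
    | zero => exact fun x => rfl
    | succ k ih => exact fun x => by rw [pow_succ', pow_succ', MulAut.mul_apply, MulAut.mul_apply, ih, hβX]
  have hpowP : ∀ (k : ℕ) (x : P), (γ ^ k) (Subgroup.inclusion le_sup_left x) =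
      Subgroup.inclusion le_sup_left ((a ^ k) x) := by
    intro k
    induction k with
    | zero => exact fun x => rfl
    | succ k ih => exact fun x => by rw [pow_succ', pow_succ', MulAut.mul_apply, MulAut.mul_apply, ih, hγP]
  have hγCm : ∀ c : (rc S P), (c : Ω) ∈ centralizerIn S P → ((γ c : (rc S P)) : Ω) ∈ centralizerIn S P := fun c hc =>
    map_centralizerIn le_sup_left (hom_of_mem_autGroup hXS hγ).1 (fun y hy => by
      show ((γ y : (rc S P)) : Ω) ∈ P
      rw [show y = Subgroup.inclusion le_sup_left (⟨y, hy⟩ : P) from rfl, hγP]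
      exact (a _).2) c hc
  have hpowC : ∀ (k : ℕ) (c : (rc S P)), (c : Ω) ∈ centralizerIn S P →
      (c : Ω)⁻¹ * (((γ ^ k) c : (rc S P)) : Ω) ∈ T := by
    intro k
    induction k with
    | zero => exact fun c _ => by simp
    | succ k ih =>
      intro c hc
      rw [pow_succ, MulAut.mul_apply]
      have h1 := T.mul_mem (hγC c hc) (ih _ (hγCm c hc))
      simpa [mul_assoc] using h1
  set β := β₀ ^ n with hβ
  have hβm : β ∈ F.autGroup ((rc S P) ⊔ R) := pow_mem hβ₀m n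
  have hβT : ∀ y : ↥((rc S P) ⊔ R), (y : Ω) ∈ T → ((β y : ↥((rc S P) ⊔ R)) : Ω) ∈ T :=
    fun y hy => apply_mem_of_stronglyClosed hTcl hYS hβm hy
  have hβR : ∀ y : ↥((rc S P) ⊔ R), (y : Ω) ∈ R → ((β y : ↥((rc S P) ⊔ R)) : Ω) ∈ R :=
    fun y hy => apply_mem_of_stronglyClosed hRcl hYS hβm hy
  obtain ⟨hβh, -⟩ := hom_of_mem_autGroup hYS hβm
  have hle' : P ⊔ R ≤ (rc S P) ⊔ R := sup_le_sup_right le_sup_left R
  refine ⟨_, restrict_mem hβh hle', fun x => ?_, fun r => ⟨?_, ?_⟩⟩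
  · show ((β (Subgroup.inclusion le_sup_left (Subgroup.inclusion le_sup_left x)) : ↥((rc S P) ⊔ R)) : Ω) = _
    rw [hβ, hpowX, hpowP]
    rfl
  · exact R.mul_mem (R.inv_mem r.2) (hβR ⟨r, Subgroup.mem_sup_right r.2⟩ r.2)
  set rY : ↥((rc S P) ⊔ R) := Subgroup.inclusion le_sup_right r with hrY
  set w : ↥((rc S P) ⊔ R) := rY⁻¹ * β rY with hw
  show (w : Ω) ∈ T
  have hwR : (w : Ω) ∈ R := R.mul_mem (R.inv_mem r.2) (hβR _ r.2)
  have hwN : (w : Ω) ∈ Subgroup.normalizer (P : Set Ω) := hPN hwR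
  have haP : (a ^ n) ∈ E.autGroup P := pow_mem ha n
  have hcr : conjAut (hPN r.2) ∈ F.autGroup P :=
    autInducedBy_le_autGroup F hPS (conjAut_mem_autInducedBy (hRS r.2) _)
  have hwE : conjAut hwN ∈ E.autGroup P := by
    have h1 := mul_mem (conj_mem_autGroup_of_invariant hE hPT (inv_mem hcr) haP) (inv_mem haP)
    rw [inv_inv] at h1
    convert h1 using 1
    refine MulEquiv.ext fun x => ?_
    obtain ⟨y, rfl⟩ := (a ^ n).surjective x
    rw [MulAut.mul_apply, MulAut.inv_apply_self, MulAut.mul_apply, MulAut.mul_apply]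
    apply (conjAut (hPN r.2)).injective
    rw [MulAut.apply_inv_self]
    refine Subtype.ext ?_
    show (r : Ω) * ((w : Ω) * ((a ^ n) y : P) * (w : Ω)⁻¹) * (r : Ω)⁻¹ =
      (((a ^ n) (conjAut (hPN r.2) y) : P) : Ω)
    have hval : ∀ x : P, (((a ^ n) x : P) : Ω) =
        ((β (Subgroup.inclusion le_sup_left (Subgroup.inclusion le_sup_left x)) : ↥((rc S P) ⊔ R)) : Ω) :=
      fun x => by rw [hβ, hpowX, hpowP]; rfl
    rw [hval, hval]
    have h2 : Subgroup.inclusion (le_sup_left : (rc S P) ≤ (rc S P) ⊔ R) (Subgroup.inclusion le_sup_left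
        (conjAut (hPN r.2) y)) = rY * Subgroup.inclusion le_sup_left (Subgroup.inclusion le_sup_left y) * rY⁻¹ :=
      Subtype.ext rfl
    rw [h2, map_mul, map_mul, map_inv, hw]
    simp only [Subgroup.coe_mul, Subgroup.coe_inv]
    show (r : Ω) * ((r : Ω)⁻¹ * (β rY : ↥((rc S P) ⊔ R)) * _ * ((r : Ω)⁻¹ * (β rY : ↥((rc S P) ⊔ R)))⁻¹) * (r : Ω)⁻¹ = _
    group
  obtain ⟨q, hq⟩ := hinn w hwR hwN hwE
  -- `w` is fixed modulo `T`
  have hc : (q : Ω)⁻¹ * (w : Ω) ∈ centralizerIn S P := by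
    refine mem_centralizerIn.2 ⟨S.mul_mem (S.inv_mem (hPS q.2)) (hYS w.2), fun x hx => ?_⟩
    have h := congrArg (fun f : MulAut P => ((f ⟨x, hx⟩ : P) : Ω)) hq
    have h' : (q : Ω) * x * (q : Ω)⁻¹ = (w : Ω) * x * (w : Ω)⁻¹ := h
    calc x * ((q : Ω)⁻¹ * (w : Ω)) = (q : Ω)⁻¹ * ((q : Ω) * x * (q : Ω)⁻¹) * (w : Ω) := by group
      _ = (q : Ω)⁻¹ * (w : Ω) * x := by rw [h']; group
  set qY : ↥((rc S P) ⊔ R) := Subgroup.inclusion le_sup_left (Subgroup.inclusion le_sup_left q) with hqY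
  set c : (rc S P) := ⟨(q : Ω)⁻¹ * (w : Ω), Subgroup.mem_sup_right hc⟩ with hcdef
  have hwdec : w = qY * Subgroup.inclusion le_sup_left c :=
    Subtype.ext (mul_inv_cancel_left (q : Ω) (w : Ω)).symm
  have hTc : ∀ (z : Ω) (_ : z ∈ S), ∀ t ∈ T, z⁻¹ * t * z ∈ T := fun z hz t ht =>
    (Subgroup.mem_normalizer_iff''.1 (hTn hz) t).1 ht
  have hβw : (w : Ω)⁻¹ * ((β w : ↥((rc S P) ⊔ R)) : Ω) ∈ T := by
    have h1 : ((β qY : ↥((rc S P) ⊔ R)) : Ω) ∈ T := hβT _ (hPT q.2)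
    have h2 : (c : Ω)⁻¹ * (((γ ^ n) c : (rc S P)) : Ω) ∈ T := hpowC n c hc
    have h3 := T.mul_mem (hTc c (hXS c.2) _ (T.mul_mem (T.inv_mem (hPT q.2)) h1)) h2
    have e0 : (w : Ω) = (q : Ω) * (c : Ω) := congrArg Subtype.val hwdec
    have e1 : ((β w : ↥((rc S P) ⊔ R)) : Ω) =
        ((β qY : ↥((rc S P) ⊔ R)) : Ω) * (((γ ^ n) c : ↥(rc S P)) : Ω) := by
      have e2 : β (Subgroup.inclusion le_sup_left c) = Subgroup.inclusion le_sup_left ((γ ^ n) c) := by
        rw [hβ, hpowX]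
      rw [congrArg β hwdec, map_mul, e2]
      rfl
    rw [e0, e1]
    simpa [mul_assoc] using h3
  have hwpow : ∀ k : ℕ, ((w ^ k : ↥((rc S P) ⊔ R)) : Ω)⁻¹ * ((β (w ^ k) : ↥((rc S P) ⊔ R)) : Ω) ∈ T := by
    intro k
    induction k with
    | zero => simp
    | succ k ih =>
      have h1 := T.mul_mem (hTc w (hYS w.2) _ ih) hβw
      rw [pow_succ, map_mul]
      show (((w ^ k : ↥((rc S P) ⊔ R)) : Ω) * (w : Ω))⁻¹ *
        (((β (w ^ k) : ↥((rc S P) ⊔ R)) : Ω) * ((β w : ↥((rc S P) ⊔ R)) : Ω)) ∈ T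
      simpa [mul_assoc] using h1
  have hiter : ∀ k : ℕ, ((rY * w ^ k : ↥((rc S P) ⊔ R)) : Ω)⁻¹ * (((β ^ k) rY : ↥((rc S P) ⊔ R)) : Ω) ∈ T := by
    intro k
    induction k with
    | zero => simp
    | succ k ih =>
      have h1 := T.mul_mem (hwpow k) (hβT ((rY * w ^ k)⁻¹ * (β ^ k) rY) ih)
      have e3 : β rY = rY * w := (mul_inv_cancel_left rY (β rY)).symm
      have e4 : (rY * w ^ (k + 1))⁻¹ * (β ^ (k + 1)) rY =
          (w ^ k)⁻¹ * β (w ^ k) * β ((rY * w ^ k)⁻¹ * (β ^ k) rY) := by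
        rw [pow_succ' β, MulAut.mul_apply, pow_succ' w, map_mul, map_inv, map_mul, e3]
        group
      exact Set.mem_of_eq_of_mem (congrArg Subtype.val e4) h1
  have h1 := hiter (orderOf β)
  rw [pow_orderOf_eq_one, MulAut.one_apply] at h1
  have h2 : (w : Ω) ^ orderOf β ∈ T := by
    have := T.inv_mem h1
    simpa using this
  refine ConstrainedGroup.mem_of_pow_mem_of_coprime T h2 ?_
  obtain ⟨k, hk⟩ := hS ⟨w, hYS w.2⟩
  refine Nat.Coprime.coprime_dvd_right (orderOf_dvd_of_pow_eq_one (congrArg Subtype.val hk)) ?_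
  exact Nat.Coprime.pow_right k he

/-- The elements of `R` inducing automorphisms of `E` on a radical `P` induce inner ones. -/
theorem inn_of_radical (hS : IsPGroup p S) (hR : F.IsNormal R) (hE : E.IsInvariantIn F) {P : Subgroup Ω}
    (hPr : E.IsRadical p P) (hle : R ⊓ T ≤ P) :
    ∀ r ∈ R, ∀ hN : r ∈ Subgroup.normalizer (P : Set Ω), conjAut hN ∈ E.autGroup P →
      conjAut hN ∈ Inn P := by
  have hPT := hPr.1
  have hTS := hE.2.1.1
  have hPS := hPT.trans hTS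
  have hPN := mem_normalizer_of_inf_le (le_normalizer_of_stronglyClosed hE.2.1)
    (le_normalizer_of_isNormal hR) hTS hPT hle hR.1
  let ν : R →* MulAut P := MonoidHom.mk' (fun r => conjAut (hPN r.2)) fun g k =>
    MulEquiv.ext fun t => Subtype.ext (by
      show ((g : Ω) * k) * (t : Ω) * ((g : Ω) * k)⁻¹ = (g : Ω) * ((k : Ω) * t * (k : Ω)⁻¹) * (g : Ω)⁻¹
      group)
  set A := ν.range.subgroupOf (E.autGroup P) with hA
  have hAn : A.Normal := by
    refine ⟨fun k hk d => ?_⟩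
    obtain ⟨r, hr⟩ := Subgroup.mem_subgroupOf.1 hk
    obtain ⟨ψ, hψ, -, hψP, hψR⟩ := exists_extension_of_isNormal hR hPS
      (autGroup_le_of_subsystem hE.1 hPT d.2)
    have hr' : ψ (Subgroup.inclusion le_sup_right r) ∈ R := hψR.le ⟨_, r.2, rfl⟩
    refine Subgroup.mem_subgroupOf.2 ⟨⟨_, hr'⟩, MulEquiv.ext fun x => ?_⟩
    obtain ⟨y, rfl⟩ := (d : MulAut P).surjective x
    rw [Subgroup.coe_mul, Subgroup.coe_mul, Subgroup.coe_inv, MulAut.mul_apply, MulAut.mul_apply,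
      MulAut.inv_apply_self, ← hr]
    refine Subtype.ext ?_
    show ψ _ * (((d : MulAut P) y : P) : Ω) * (ψ _)⁻¹ = (((d : MulAut P) (ν r y) : P) : Ω)
    rw [← hψP, ← hψP, ← map_inv, ← map_mul, ← map_mul]
    exact congrArg ψ (Subtype.ext rfl)
  have hAp : IsPGroup p A := by
    refine ((isPGroup_autInducedBy hS P).to_le ?_).comap_of_injective _ (E.autGroup P).subtype_injective
    rintro _ ⟨r, rfl⟩
    exact conjAut_mem_autInducedBy (hR.1 r.2) _
  intro r hr hN hrE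
  have h1 : (⟨_, hrE⟩ : E.autGroup P) ∈ pCore p (E.autGroup P) :=
    Cfsg.Agent.PCore.le_pCore hAp (Subgroup.mem_subgroupOf.2 ⟨⟨r, hr⟩, rfl⟩)
  rw [← hPr.2]
  exact ⟨_, h1, rfl⟩

/-- `R ⊓ T` is normal in a saturated subsystem over a strongly closed `T`. -/
theorem isNormal_inf (hS : IsPGroup p S) (hR : F.IsNormal R) (hsub : E.IsSubsystemOf F)
    (hTcl : F.StronglyClosed T) (hEs : E.IsSaturated p) : E.IsNormal (R ⊓ T) := by
  have := finite_of_le (Ω := Ω) hTcl.1
  obtain ⟨n, C, hC0, hCn, -, hCN, hCc⟩ := exists_chain_of_isNormal hS hR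
  refine isNormal_of_chain (hS.to_le hTcl.1) hEs (n := n) (T := fun i => C i ⊓ T) ?_ ?_ (fun i _ => ?_) ?_
  · show C 0 ⊓ T = ⊥
    rw [hC0, bot_inf_eq]
  · show C n ⊓ T = _
    rw [hCn]
  · exact ⟨inf_le_right, fun W hW ψ hψ x =>
      ⟨(stronglyClosed_of_isNormal (hCN i)).2 W (hW.trans inf_le_left) ψ (hsub W hψ) x,
        apply_mem hψ x⟩⟩
  · intro i hi
    refine le_inf ((Subgroup.commutator_mono inf_le_left inf_le_left).trans (hCc i hi)) ?_
    exact (Subgroup.commutator_mono inf_le_right inf_le_right).trans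
      (Subgroup.commutator_le.2 fun a ha b hb => by
        rw [commutatorElement_def]
        exact T.mul_mem (T.mul_mem (T.mul_mem ha hb) (T.inv_mem ha)) (T.inv_mem hb))

/-- Every map of a normal subsystem extends trivially on `R` modulo `R ⊓ T`. -/
theorem triv_hom (hS : IsPGroup p S) (hR : F.IsNormal R) (hE : E.IsNormalIn F p) {Q : Subgroup Ω}
    {φ : Q →* Ω} (hφ : φ ∈ E.Hom Q) : Triv F R T Q φ := by
  obtain ⟨⟨hEs, hF, hinv⟩, hext⟩ := hE
  have hsub := hinv.1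
  have hTcl := hinv.2.1
  have hTS := hTcl.1
  have hRS := hR.1
  have hTn := le_normalizer_of_stronglyClosed hTcl
  have hRn := le_normalizer_of_isNormal hR
  have := finite_of_le (Ω := Ω) hTS
  have hTp : IsPGroup p T := hS.to_le hTS
  have hRTn : E.IsNormal (R ⊓ T) := isNormal_inf hS hR hsub hTcl hEs
  refine alperin_strong_induction (C := fun P φ => Triv F R T P φ) hTp hEs ?_ ?_ ?_ ?_ hφ
  · exact fun P g hP hg => triv_conj hRS hTS hTn hRn hP hg
  · exact fun P W φ ψ _ _ h1 h2 h => triv_comp h h1 h2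
  · exact fun P φ ψ _ h1 _ hi => triv_inv hRS h1 hi
  intro P hPn hPc hPr hbig α hα
  have hPT := hPc.1
  have hPS := hPT.trans hTS
  have hle : R ⊓ T ≤ P := le_of_isNormal hTp hRTn hPc hPr
  show α ∈ trivGroup F R T hPS hRS
  have hAE : E.autGroup P ≤ F.autGroup P := autGroup_le_of_subsystem hsub hPT
  obtain ⟨-, U, hU⟩ := isFullyAutomized_of_fullyNormalized hTp hEs hPn
  have := finite_autGroup (F := E) hPT
  have hUG : autInducedBy T P ≤ trivGroup F R T hPS hRS := fun b hb => by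
    obtain ⟨g, hg, hgx⟩ := mem_autInducedBy_iff.1 hb
    show Triv F R T P _
    rw [show P.subtype.comp b.toMonoidHom = conjHom P g from MonoidHom.ext fun x => hgx x]
    exact triv_conj hRS hTS hTn hRn hPT hg
  by_cases hPT' : P = T
  · subst hPT'
    refine autGroup_le_of_residual (p := p) (isFullyAutomized_of_fullyNormalized hTp hEs hPn) ?_ hUG hα
    rw [Cfsg.pResidual, MonoidHom.map_closure, Subgroup.closure_le]
    rintro _ ⟨b, hb, rfl⟩
    obtain ⟨β, hβ, hβP, hβC⟩ := hext _ b.2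
    exact triv_of_ext hS hR hinv le_rfl hle b.2
      (Eq.subst (motive := fun m : ℕ => m.Coprime p) (Subgroup.orderOf_coe b).symm hb) hβ
      (fun x => Subtype.ext (hβP x)) (fun c hc => (hβC c hc).1) (inn_of_radical hS hR hinv hPr hle)
  -- `P` proper
  obtain ⟨P', hPP', hP'⟩ := exists_fullyNormalized F hPS
  obtain ⟨χ, hχ, -, hχP⟩ := exists_hom_fullyNormalized hS hF hP' hPP'
  have hr : (χ.comp (Subgroup.inclusion (le_normalizerIn hPS))).range = P' := by
    rw [MonoidHom.range_comp, Subgroup.inclusion_range, hχP]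
  have hFC := isFullyCentralized_of_fullyNormalized hS hF hP'
  have hcen := centralizerIn_le_of_isConj hinv hPc hPP'
  set e := homEquiv (restrict_mem hχ (le_normalizerIn hPS)) hr with he
  have hP'T : P' ≤ T := fun y hy => by
    obtain ⟨x, rfl⟩ := hr.ge hy
    exact hTcl.2 P hPT _ (restrict_mem hχ (le_normalizerIn hPS)) x
  let K : Subgroup (E.autGroup P) :=
    (bExt F P').comap ((MulAut.congr e).toMonoidHom.comp (E.autGroup P).subtype)
  have hKn : K.Normal := ⟨fun k hk a => by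
    show MulAut.congr e ((a * k * a⁻¹ : E.autGroup P) : MulAut P) ∈ bExt F P'
    rw [Subgroup.coe_mul, Subgroup.coe_mul, Subgroup.coe_inv, map_mul, map_mul, map_inv]
    exact conj_mem_bExt hS hF hFC (congr_mem_autGroup _ _ (hAE a.2)) hk⟩
  have hUK : (U : Subgroup (E.autGroup P)) ≤ K := by
    intro u hu
    rw [hU] at hu
    obtain ⟨t, ht, hut⟩ := mem_autInducedBy_iff.1 (Subgroup.mem_subgroupOf.1 hu)
    have htN : t ∈ normalizerIn S P := ⟨hTS ht, mem_normalizer_of_aut hut⟩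
    set s := χ ⟨t, htN⟩ with hs
    have hsT : s ∈ T :=
      hTcl.2 (normalizerIn S P ⊓ T) inf_le_right _ (restrict_mem hχ inf_le_left) ⟨t, htN, ht⟩
    have hsx : ∀ x : P', ((MulAut.congr e (u : MulAut P) x : P') : Ω) = s * x * s⁻¹ := by
      intro x
      obtain ⟨y, rfl⟩ := e.surjective x
      show ((e ((u : MulAut P) (e.symm (e y))) : P') : Ω) = s * ((e y : P') : Ω) * s⁻¹
      rw [MulEquiv.symm_apply_apply]
      show χ _ = χ _ * χ _ * (χ _)⁻¹
      rw [← map_inv, ← map_mul, ← map_mul]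
      exact congrArg χ (Subtype.ext (hut y))
    show MulAut.congr e (u : MulAut P) ∈ bExt F P'
    rw [show MulAut.congr e (u : MulAut P) = conjAut (mem_normalizer_of_aut hsx) from
      MulEquiv.ext fun x => Subtype.ext (hsx x)]
    exact conjAut_mem_bExt hP'.1 hTS hTn hcen hsT _
  -- `χ` on `R`
  have hPN := mem_normalizer_of_inf_le hTn hRn hTS hPT hle hRS
  have hRN : R ≤ normalizerIn S P := fun r hr' => ⟨hRS hr', hPN hr'⟩
  have hRcl := stronglyClosed_of_isNormal hR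
  have hχR : (R.subgroupOf (normalizerIn S P)).map χ = R :=
    (map_subgroupOf_eq_iff hχ hRN).2 fun x hx =>
      hRcl.2 R le_rfl _ (restrict_mem hχ hRN) ⟨x, hx⟩
  have hRTN : R ⊓ T ≤ normalizerIn S P := inf_le_left.trans hRN
  have hle' : R ⊓ T ≤ P' := by
    have hmap : ((R ⊓ T).subgroupOf (normalizerIn S P)).map χ = R ⊓ T :=
      (map_subgroupOf_eq_iff hχ hRTN).2 fun x hx =>
        (stronglyClosed_inf hRcl hTcl).2 (R ⊓ T) le_rfl _ (restrict_mem hχ hRTN) ⟨x, hx⟩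
    intro z hz
    obtain ⟨w, hw, rfl⟩ := hmap.ge hz
    exact hr.le ⟨⟨w, hle hw⟩, rfl⟩
  obtain ⟨ρ, hρ, -, hρi, -⟩ := exists_inverse hχ (rfl : χ.range = χ.range)
  have hKH : ∀ k ∈ K, (k : MulAut P) ∈ trivGroup F R T hPS hRS := by
    have h1 : ∀ a ∈ K, (orderOf a).Coprime p → (a : MulAut P) ∈ trivGroup F R T hPS hRS := by
      intro a ha hcop
      obtain ⟨γ, hγ, hγP, hγC⟩ := ha
      have haE : MulAut.congr e (a : MulAut P) ∈ E.autGroup P' :=
        congr_mem_of_invariant hinv hPT _ hr a.2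
      have hinn : ∀ r ∈ R, ∀ hN : r ∈ Subgroup.normalizer (P' : Set Ω), conjAut hN ∈ E.autGroup P' →
          conjAut hN ∈ Inn P' := by
        intro r hrR hN hcE
        obtain ⟨⟨r₀, hr₀⟩, hr₀R, hr₀e⟩ := hχR.ge hrR
        obtain ⟨η, hη, hηr, hηi, -⟩ := exists_inverse (restrict_mem hχ (le_normalizerIn hPS)) hr
        have h1 := congr_mem_of_invariant hinv hP'T hη hηr hcE
        have hback : ∀ y : P, homEquiv hη hηr (e y) = y := fun y => Subtype.ext (hηi y _)
        have hcomp : ∀ y : P, conjAut hN (e y) = e (conjAut (hPN hr₀R) y) := fun y => by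
          refine Subtype.ext ?_
          show r * χ _ * r⁻¹ = χ _
          rw [← hr₀e, ← map_inv, ← map_mul, ← map_mul]
          exact congrArg χ (Subtype.ext rfl)
        have h2 : MulAut.congr (homEquiv hη hηr) (conjAut hN) = conjAut (hPN hr₀R) :=
          MulEquiv.ext fun y => by
            conv_lhs => rw [← hback y, congr_apply, hcomp, hback]
        obtain ⟨q, hq⟩ := inn_of_radical hS hR hinv hPr hle r₀ hr₀R (hPN hr₀R) (h2 ▸ h1)
        refine ⟨e q, MulEquiv.ext fun y => ?_⟩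
        obtain ⟨y, rfl⟩ := e.surjective y
        rw [hcomp]
        refine Eq.trans ?_ (congrArg e (DFunLike.congr_fun hq y))
        simp only [MulAut.conj_apply, map_mul, map_inv]
      have ht : Triv F R T P' (P'.subtype.comp (MulAut.congr e (a : MulAut P)).toMonoidHom) :=
        triv_of_ext hS hR hinv hP'T hle' haE
          (by rw [MulEquiv.orderOf_eq, Subgroup.orderOf_coe]; exact hcop) hγ hγP
          (fun c hc => hP'T (hγC c hc)) hinn
      obtain ⟨ψ, hψ, hψP, hψR⟩ := ht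
      have hW : P ⊔ R ≤ normalizerIn S P := sup_le (le_normalizerIn hPS) hRN
      have hχW : ∀ z, χ (Subgroup.inclusion hW z) ∈ P' ⊔ R := forall_sup_mem
        (χ.comp (Subgroup.inclusion hW)) (fun x => Subgroup.mem_sup_left (hr.le ⟨x, rfl⟩))
        (fun x => Subgroup.mem_sup_right (hχR.le ⟨_, x.2, rfl⟩))
      have hψW : ∀ z, ψ z ∈ χ.range := forall_sup_mem ψ
        (fun x => by
          rw [hψP]
          obtain ⟨w, hw⟩ := hr.ge (MulAut.congr e (a : MulAut P) x).2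
          exact ⟨_, hw⟩)
        (fun x => by
          obtain ⟨w, -, hw⟩ := hχR.ge (apply_mem_R hψR x)
          exact ⟨w, hw⟩)
      refine ⟨ρ.comp ((ψ.comp ((χ.comp (Subgroup.inclusion hW)).codRestrict (P' ⊔ R) hχW)).codRestrict
        χ.range fun z => hψW _), F.comp_mem (F.comp_mem (restrict_mem hχ hW) hψ hχW) hρ
        (fun z => hψW _), fun x => ?_, fun x => ?_⟩
      · refine Eq.trans ?_ (hρi (Subgroup.inclusion (le_normalizerIn hPS) ((a : MulAut P) x)) ⟨_, rfl⟩)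
        refine congrArg ρ (Subtype.ext ?_)
        refine Eq.trans (congrArg ψ (Subtype.ext rfl) : _ = ψ (Subgroup.inclusion le_sup_left (e x))) ?_
        rw [hψP]
        show ((MulAut.congr e (a : MulAut P) (e x) : P') : Ω) = _
        rw [congr_apply]
        rfl
      · set x' : R := ⟨_, hχR.le ⟨Subgroup.inclusion hRN x, x.2, rfl⟩⟩ with hx'
        have h1 := hψR x'
        show (x : Ω)⁻¹ * ρ ⟨ψ _, _⟩ ∈ R ⊓ T
        have hmem : ((x' : Ω))⁻¹ * ψ (Subgroup.inclusion le_sup_right x') ∈ χ.range :=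
          χ.range.mul_mem (χ.range.inv_mem ⟨_, rfl⟩) (hψW _)
        have h2 := (stronglyClosed_inf hRcl hTcl).2 (χ.range ⊓ (R ⊓ T)) inf_le_right _
          (restrict_mem hρ inf_le_left) ⟨_, hmem, h1⟩
        refine Set.mem_of_eq_of_mem ?_ h2
        show _ = ρ ⟨_, hmem⟩
        rw [show (⟨_, hmem⟩ : χ.range) = (⟨χ (Subgroup.inclusion hRN x), ⟨_, rfl⟩⟩ : χ.range)⁻¹ *
          ⟨ψ (Subgroup.inclusion le_sup_right x'), hψW _⟩ from Subtype.ext rfl, map_mul, map_inv,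
          show ρ ⟨χ (Subgroup.inclusion hRN x), ⟨_, rfl⟩⟩ = x from hρi _ _]
        rfl
    have htop := Transfer.sylow_sup_pResidual_eq_top (U.subtype hUK)
    suffices h : ((U.subtype hUK : Subgroup K) ⊔ Cfsg.pResidual p K) ≤
        (trivGroup F R T hPS hRS).comap ((E.autGroup P).subtype.comp K.subtype) by
      rw [htop] at h
      exact fun k hk => h (Subgroup.mem_top ⟨k, hk⟩)
    refine sup_le (fun u hu => ?_) ((Subgroup.closure_le _).2 fun a ha =>
      h1 a a.2 (by rwa [Subgroup.orderOf_coe]))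
    rw [Sylow.coe_subtype, Subgroup.mem_subgroupOf, hU] at hu
    exact hUG (Subgroup.mem_subgroupOf.1 hu)
  have hfr : Subgroup.normalizer ((U : Subgroup (E.autGroup P)) : Set (E.autGroup P)) ⊔ K = ⊤ := by
    have h := Sylow.normalizer_sup_eq_top (U.subtype hUK)
    rwa [Sylow.coe_subtype, Subgroup.subgroupOf_map_subtype, inf_eq_left.2 hUK] at h
  obtain ⟨m, hm, k, hk, hmk⟩ := Subgroup.mem_sup_of_normal_right.1
    (hfr ▸ Subgroup.mem_top (⟨α, hα⟩ : E.autGroup P))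
  rw [show α = (m : MulAut P) * (k : MulAut P) from (congrArg Subtype.val hmk).symm]
  refine mul_mem ?_ (hKH k hk)
  obtain ⟨hφm, hφmr⟩ := hom_of_mem_autGroup hPT m.2
  have hext' : normalizerIn T P ≤ extender T P (P.subtype.comp (m : MulAut P).toMonoidHom) := by
    rintro g ⟨hgT, hgN⟩
    have hc₁ := autInducedBy_le_autGroup E hPT (conjAut_mem_autInducedBy hgT hgN)
    have hcU : (⟨conjAut hgN, hc₁⟩ : E.autGroup P) ∈ (U : Subgroup (E.autGroup P)) := by
      rw [hU]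
      exact conjAut_mem_autInducedBy hgT hgN
    have h2 := (Subgroup.mem_normalizer_iff.1 hm _).1 hcU
    rw [hU] at h2
    obtain ⟨h, hhT, hh⟩ := mem_autInducedBy_iff.1 (Subgroup.mem_subgroupOf.1 h2)
    refine mem_extender_iff.2 ⟨hgT, hgN, h, hhT, fun x hx => ?_⟩
    have h3 := hh ((m : MulAut P) x)
    rw [show ((m * ⟨conjAut hgN, hc₁⟩ * m⁻¹ : E.autGroup P) : MulAut P) ((m : MulAut P) x) =
      (m : MulAut P) (conjAut hgN ((m : MulAut P)⁻¹ ((m : MulAut P) x))) from rfl,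
      MulAut.inv_apply_self] at h3
    exact h3
  obtain ⟨ψ, hψ, hψe⟩ := exists_extension (isReceptive_of_fullyNormalized hTp hEs hPn) hφm hφmr hext'
  have hlt : P < normalizerIn T P := lt_normalizerIn hTp (lt_of_le_of_ne hPT hPT')
  exact triv_restrict (le_normalizerIn hPT) (fun x => hψe x x.2 _)
    (hbig _ (card_lt_of_lt (normalizerIn_le T P) hlt) ψ hψ)

end Cfsg.Agent.Fusion.TrivialExtension
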