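import Cfsg.Agent.S5148
import Cfsg.Agent.Lib.Fusion.TrivialExtension
import Cfsg.Agent.Lib.Fusion.InnerWeaklyNormal
import Cfsg.Agent.Lib.Fusion.Factor

/-!
A normal subgroup of a quasisimple system is central, and the components of a saturated system
lie in the centralizer system of its core (Aschbacher).
-/

set_option autoImplicit false
set_option linter.unusedSectionVars false

namespace Cfsg.Agent.Fusion.ComponentCore

open Cfsg Cfsg.FusionSystem Cfsg.Agent.Fusion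

variable {Ω : Type*} [Group Ω] {S U : Subgroup Ω} {F : FusionSystem S} {K : FusionSystem U} {p : ℕ}

theorem isSubsystem_of_subnormal (h : K.IsSubnormalIn F p) : K.IsSubsystemOf F := by
  induction h with
  | refl F p => exact fun P φ hφ => hφ
  | step _ hD ih => exact fun P φ hφ => hD.1.2.2.1 P (ih P hφ)

theorem le_of_subsystem (h : K.IsSubsystemOf F) : U ≤ S :=
  dom_le (h U (subtype_mem K le_rfl))

theorem isNormal_center [Finite S] (F : FusionSystem S) : F.IsNormal F.center := by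
  obtain ⟨hle, hext⟩ := Cfsg.Agent.S5144.result F
  refine ⟨hle, fun P φ hφ => ?_⟩
  obtain ⟨ψ, hψ, hψP, hψZ⟩ := hext P φ hφ
  refine ⟨ψ, hψ, hψP, le_antisymm ?_ fun z hz => ⟨⟨z, Subgroup.mem_sup_right hz⟩, hz, hψZ ⟨z, hz⟩⟩⟩
  rintro _ ⟨⟨z, hz'⟩, hz, rfl⟩
  exact Set.mem_of_eq_of_mem (hψZ ⟨z, hz⟩) hz

variable [Fact p.Prime]

theorem inner_isNormal [Finite S] (hS : IsPGroup p S) (hF : F.IsSaturated p) {V : Subgroup Ω}
    (hV : F.IsNormal V) : (innerFusionSystem V).IsNormalIn F p := by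
  refine ⟨inner_isWeaklyNormal hS hF hV, fun α hα => ?_⟩
  obtain ⟨-, g, hg, hgx⟩ := (mem_autGroup_iff (F := innerFusionSystem V) le_rfl).1 hα
  have hle : V ⊔ centralizerIn S V ≤ S := sup_le hV.1 (centralizerIn_le S V)
  have hgN : g ∈ Subgroup.normalizer ((V ⊔ centralizerIn S V : Subgroup Ω) : Set Ω) :=
    Subgroup.le_normalizer (Subgroup.mem_sup_left hg)
  refine ⟨conjAut hgN, autInducedBy_le_autGroup F hle (conjAut_mem_autInducedBy (hV.1 hg) _),
    fun x => (hgx x).symm, fun c hc => ?_⟩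
  show (c : Ω)⁻¹ * (g * c * g⁻¹) ∈ _
  rw [(mem_centralizerIn.1 hc).2 g hg, mul_inv_cancel_right, inv_mul_cancel]
  exact Subgroup.one_mem _

/-- A normal subgroup of a quasisimple system is central. -/
theorem normal_le_center [Finite U] (hU : IsPGroup p U) (hq : K.Quasisimple p) {Q : Subgroup Ω}
    (hQ : K.IsNormal Q) : Q ≤ K.center := by
  obtain ⟨hsat, hhyp, hsimple⟩ := hq
  have hfac := S5148.centralQuotient_isFactor K
  have hEsimple := hsimple _ hfac
  obtain ⟨hEsat, hne, hnorm⟩ := hEsimple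
  set θ := QuotientGroup.mk' (K.center.subgroupOf U) with hθ
  have hker : ∀ s : U, θ s = 1 ↔ (s : Ω) ∈ K.center := fun s => QuotientGroup.eq_one_iff s
  have hZ := isNormal_center K
  set M := Q ⊔ K.center with hM
  have hMn : K.IsNormal M := isNormal_sup hQ hZ
  set V := imageAlong θ M with hV
  have hVn : (S5148.centralQuotient K).IsNormal V := by
    refine ⟨le_top, fun P' φ' hφ' => ?_⟩
    obtain ⟨-, φ, hφ, hP, hφS, hm, hind⟩ := hφ'
    obtain ⟨ψ, hψ, hψP, hψM⟩ := hMn.2 _ φ hφ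
    obtain ⟨ψ', hψ', hW, hψS, hm', hind'⟩ := exists_induced hU hsat (stronglyClosed_of_isNormal hZ) hfac hψ
    have hle : P' ⊔ V ≤ imageAlong θ (preimageAlong θ P' ⊔ M) := by
      refine sup_le (fun y hy => ?_) (Subgroup.map_mono (Subgroup.comap_mono le_sup_right))
      obtain ⟨w, rfl⟩ := QuotientGroup.mk'_surjective (K.center.subgroupOf U) y
      exact mem_imageAlong_iff.2 ⟨w, Subgroup.mem_sup_left ((S5148.mem_pre _ _).mpr ⟨w.2, hy⟩), rfl⟩
    refine ⟨_, restrict_mem hψ' hle, ?_, ?_⟩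
    · rintro ⟨y, hy⟩
      obtain ⟨w, rfl⟩ := QuotientGroup.mk'_surjective (K.center.subgroupOf U) y
      have hw : (w : Ω) ∈ preimageAlong θ P' := (S5148.mem_pre _ _).mpr ⟨w.2, hy⟩
      refine ((hind' ⟨w, Subgroup.mem_sup_left hw⟩).trans ?_).trans (hind ⟨w, hw⟩).symm
      exact congrArg θ (Subtype.ext (hψP ⟨w, hw⟩))
    · refine le_antisymm ?_ fun y hy => ?_
      · rintro _ ⟨⟨y, hy'⟩, hy, rfl⟩
        obtain ⟨w, hw, rfl⟩ := mem_imageAlong_iff.1 hy
        refine mem_imageAlong_iff.2 ⟨⟨ψ ⟨w, Subgroup.mem_sup_right hw⟩, apply_mem hψ _⟩,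
          hψM.le ⟨_, hw, rfl⟩, ?_⟩
        exact (hind' ⟨w, Subgroup.mem_sup_right hw⟩).symm
      · obtain ⟨w, hw, rfl⟩ := mem_imageAlong_iff.1 hy
        obtain ⟨⟨z, hz'⟩, hz, hzw⟩ := hψM.ge hw
        have hzM : z ∈ M := hz
        refine ⟨⟨θ ⟨z, hMn.1 hzM⟩,
          Subgroup.mem_sup_right (mem_imageAlong_iff.2 ⟨⟨z, hMn.1 hzM⟩, hzM, rfl⟩)⟩,
          mem_imageAlong_iff.2 ⟨⟨z, hMn.1 hzM⟩, hzM, rfl⟩, ?_⟩
        exact (hind' ⟨z, hz'⟩).trans (congrArg θ (Subtype.ext hzw))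
  have htopp : IsPGroup p (⊤ : Subgroup (U ⧸ K.center.subgroupOf U)) :=
    (hU.to_quotient _).to_subgroup _
  rcases hnorm _ _ (inner_isNormal htopp hEsat hVn) with h | ⟨htop, hHom⟩
  · intro x hx
    have h1 : θ ⟨x, hQ.1 hx⟩ ∈ V := mem_imageAlong_iff.2 ⟨_, Subgroup.mem_sup_left hx, rfl⟩
    rw [h, Subgroup.mem_bot] at h1
    exact (hker _).1 h1
  -- the quotient would be inner, so all automorphisms of order prime to `p` are trivial
  refine absurd ?_ hne
  suffices h0 : K.hyperfocalSubgroup p = ⊥ by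
    rw [Subgroup.eq_bot_iff_forall]
    intro q _
    obtain ⟨x, rfl⟩ := QuotientGroup.mk_surjective q
    have hS1 : x = 1 := Subtype.ext (Subgroup.mem_bot.mp (h0 ▸ hhyp.ge x.2))
    rw [hS1]; rfl
  rw [hyperfocalSubgroup, Subgroup.closure_eq_bot_iff]
  rintro y ⟨P, α, x, hP, hα, rfl⟩
  suffices hres : Cfsg.pResidual p (K.autGroup P) = ⊥ by
    rw [hres, Subgroup.mem_bot] at hα
    rw [hα]; simp
  rw [Cfsg.pResidual, Subgroup.closure_eq_bot_iff]
  intro β hβ
  obtain ⟨hφ, -⟩ := hom_of_mem_autGroup hP β.2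
  obtain ⟨φ', hφ', hP', hφS, hm, hind⟩ :=
    exists_induced hU hsat (stronglyClosed_of_isNormal hZ) hfac hφ
  rw [← hHom] at hφ'
  obtain ⟨-, g, -, hg⟩ := hφ'
  have hmod : ∀ (m : ℕ) (w : P), θ ⟨((((β : MulAut P) ^ m) w : P) : Ω), hP (SetLike.coe_mem _)⟩ =
      g ^ m * θ ⟨w, hP w.2⟩ * (g ^ m)⁻¹ := by
    intro m
    induction m with
    | zero => intro w; simp
    | succ m ih =>
      intro w
      have h1 := (hind (((β : MulAut P) ^ m) w)).symm.trans (hg _)
      refine Eq.trans ?_ (h1.trans ?_)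
      · refine congrArg θ (Subtype.ext ?_)
        rw [pow_succ', MulAut.mul_apply]
        rfl
      · show g * θ _ * g⁻¹ = _
        rw [ih, pow_succ']
        group
  obtain ⟨k, hk⟩ := (hU.to_quotient (K.center.subgroupOf U)) g
  set b := (β : MulAut P) ^ p ^ k with hb
  have hbK : b ∈ K.autGroup P := pow_mem β.2 _
  have hkey : ∀ w : P, ((b w : P) : Ω) * (w : Ω)⁻¹ ∈ K.center := by
    intro w
    have h1 := hmod (p ^ k) w
    rw [hk, one_mul, inv_one, mul_one, ← mul_inv_eq_one, ← map_inv, ← map_mul] at h1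
    exact (hker _).1 h1
  have hfix : ∀ w : P, (w : Ω) ∈ K.center → b w = w := by
    intro w hw
    obtain ⟨ψ, -, hψP, hψZ⟩ := (Cfsg.Agent.S5144.result K).2 P _ (hom_of_mem_autGroup hP hbK).1
    refine Subtype.ext ((hψP w).symm.trans ?_)
    exact (congrArg ψ (Subtype.ext rfl)).trans (hψZ ⟨w, hw⟩)
  have hiter : ∀ (m : ℕ) (w : P), (b ^ m) w = (b w * w⁻¹) ^ m * w := by
    intro m
    induction m with
    | zero => intro w; simp
    | succ m ih =>
      intro w
      have hd : b ((b w * w⁻¹) ^ m) = (b w * w⁻¹) ^ m :=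
        hfix _ (by simpa using K.center.pow_mem (hkey w) m)
      rw [pow_succ' b, MulAut.mul_apply, ih, map_mul, hd, pow_succ, mul_assoc, inv_mul_cancel_right]
  have : Finite P := finite_of_le hP
  obtain ⟨l, hl⟩ := IsPGroup.iff_card.mp (hU.to_le hP)
  have hbl : b ^ (p ^ l) = 1 := by
    refine MulEquiv.ext fun w => ?_
    rw [hiter, ← hl, pow_card_eq_one', one_mul, MulAut.one_apply]
  rw [hb, ← pow_mul, ← pow_add] at hbl
  have hdvd : orderOf β ∣ p ^ (k + l) := orderOf_dvd_of_pow_eq_one (Subtype.ext (by simpa using hbl))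
  exact orderOf_eq_one_iff.mp
    (Nat.eq_one_of_dvd_coprimes (Nat.Coprime.pow_right (k + l) hβ) dvd_rfl hdvd)

/-- A quasisimple system is centralized by its core. -/
theorem self_centralizes [Finite U] (hU : IsPGroup p U) (hq : K.Quasisimple p) (P : Subgroup Ω) :
    K.Hom P ⊆ K.centralizerHom K.core P := by
  intro φ hφ
  have hle : K.core ≤ K.center := normal_le_center hU hq (isNormal_core K)
  have hC : ∀ x ∈ U, x ∈ centralizerIn U K.core := fun x hx => mem_centralizerIn.2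
    ⟨hx, fun z hz => (K.center_le_centralizer (hle hz) x hx).symm⟩
  obtain ⟨ψ, hψ, hψP, hψZ⟩ := (Cfsg.Agent.S5144.result K).2 P φ hφ
  exact ⟨hφ, (dom_le hφ).trans hC, fun x => hC _ (apply_mem hφ x), _,
    restrict_mem hψ (sup_le_sup_left hle P), fun x => hψP x,
    fun x => hψZ (Subgroup.inclusion hle x)⟩

variable {T₁ R : Subgroup Ω} {D : FusionSystem T₁}

/-- Each map of a system inside `C_D(R ⊓ T₁)` extends fixing `R ⊓ T₁` and moving `R` inside it. -/
theorem exists_ext_fixing_inf [Finite S] (hS : IsPGroup p S) (hR : F.IsNormal R)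
    (hD : D.IsNormalIn F p) {P : Subgroup Ω} {φ : P →* Ω}
    (hφ : φ ∈ D.centralizerHom (R ⊓ T₁) P) :
    ∃ ψ ∈ F.Hom (P ⊔ R), (∀ x : P, ψ (Subgroup.inclusion le_sup_left x) = φ x) ∧
      (∀ (z : Ω) (hz : z ∈ R) (_ : z ∈ T₁), ψ ⟨z, Subgroup.mem_sup_right hz⟩ = z) ∧
      ∀ r : R, (r : Ω)⁻¹ * ψ (Subgroup.inclusion le_sup_right r) ∈ R ⊓ T₁ := by
  obtain ⟨-, -, -, ψ₁, hψ₁, hψ₁P, hψ₁R⟩ := hφ
  obtain ⟨ψ, hψ, hψe, hψr⟩ := TrivialExtension.triv_hom hS hR hD hψ₁
  refine ⟨_, restrict_mem hψ (sup_le_sup_right le_sup_left R),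
    fun x => (hψe (Subgroup.inclusion le_sup_left x)).trans (hψ₁P x), fun z hz hz' => ?_,
    fun r => hψr r⟩
  exact (hψe (Subgroup.inclusion le_sup_right ⟨z, hz, hz'⟩)).trans (hψ₁R _)

/-- The automorphisms of order prime to `p` extend fixing `R`. -/
theorem exists_ext_fixing [Finite S] (hS : IsPGroup p S) (hR : F.IsNormal R)
    (hD : D.IsNormalIn F p) {P : Subgroup Ω} (hPS : P ≤ S) {a : MulAut P}
    (ha : P.subtype.comp a.toMonoidHom ∈ D.centralizerHom (R ⊓ T₁) P)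
    (hco : (orderOf a).Coprime p) :
    ∃ ψ ∈ F.Hom (P ⊔ R), (∀ x : P, ψ (Subgroup.inclusion le_sup_left x) = ((a x : P) : Ω)) ∧
      ∀ r : R, ψ (Subgroup.inclusion le_sup_right r) = r := by
  obtain ⟨ψ, hψ, hψP, hψfix, hψR⟩ := exists_ext_fixing_inf hS hR hD ha
  have hW : P ⊔ R ≤ S := sup_le hPS hR.1
  have := finite_of_le (Ω := Ω) hW
  have := finite_mulAut (Ω := Ω) hW
  have hmem : ∀ z, ψ z ∈ P ⊔ R := forall_sup_mem ψ
    (fun x => by rw [hψP]; exact Subgroup.mem_sup_left (a x).2)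
    (fun r => Subgroup.mem_sup_right (TrivialExtension.apply_mem_R hψR r))
  have hr : ψ.range = P ⊔ R := range_eq_of_le hψ hW hmem le_rfl
  set b := toAut hψ hr with hb
  have hbm : b ∈ F.autGroup (P ⊔ R) := toAut_mem hψ hr
  have hbP : ∀ (m : ℕ) (x : P), (b ^ m) (Subgroup.inclusion le_sup_left x) =
      Subgroup.inclusion le_sup_left ((a ^ m) x) := by
    intro m
    induction m with
    | zero => exact fun x => rfl
    | succ m ih =>
      intro x
      rw [pow_succ', pow_succ', MulAut.mul_apply, MulAut.mul_apply, ih]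
      exact Subtype.ext (hψP _)
  obtain ⟨e, he⟩ := ConstrainedGroup.exists_pow_coprime (p := p) b
  have hbR : ∀ r : R, (b ^ p ^ e) (Subgroup.inclusion le_sup_right r) = Subgroup.inclusion le_sup_right r := by
    intro r
    set rW : ↥(P ⊔ R) := Subgroup.inclusion le_sup_right r
    set z := rW⁻¹ * b rW with hz
    have hzRT : (z : Ω) ∈ R ⊓ T₁ := hψR r
    have hbz : b z = z := Subtype.ext (hψfix _ hzRT.1 hzRT.2)
    have hk : ∀ m : ℕ, (b ^ m) rW = rW * z ^ m := by
      intro m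
      induction m with
      | zero => simp
      | succ m ih =>
        rw [pow_succ', MulAut.mul_apply, ih, map_mul, map_pow, hbz, pow_succ', ← mul_assoc, hz,
          mul_inv_cancel_left]
    rw [hk]
    suffices h : z ^ p ^ e = 1 by rw [h, mul_one]
    have h1 := hk (p ^ e * orderOf (b ^ p ^ e))
    rw [pow_mul, pow_orderOf_eq_one, MulAut.one_apply, left_eq_mul, pow_mul] at h1
    obtain ⟨l, hl⟩ := hS ⟨z, hW z.2⟩
    refine Subgroup.mem_bot.1 (ConstrainedGroup.mem_of_pow_mem_of_coprime ⊥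
      (Subgroup.mem_bot.2 h1) (Nat.Coprime.coprime_dvd_right (orderOf_dvd_of_pow_eq_one
        (n := p ^ l) ?_) (Nat.Coprime.pow_right l he)))
    rw [← pow_mul, mul_comm, pow_mul, show z ^ p ^ l = 1 from Subtype.ext (by simpa using congrArg Subtype.val hl),
      one_pow]
  obtain ⟨j, hj⟩ := exists_pow_eq_self_of_coprime (x := a) (Nat.Coprime.pow_left e hco.symm)
  obtain ⟨hbh, -⟩ := hom_of_mem_autGroup hW (pow_mem (pow_mem hbm (p ^ e)) j)
  refine ⟨_, hbh, fun x => ?_, fun r => ?_⟩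
  · show ((((b ^ p ^ e) ^ j) (Subgroup.inclusion le_sup_left x) : ↥(P ⊔ R)) : Ω) = _
    rw [← pow_mul, hbP, pow_mul, hj]
    rfl
  · show ((((b ^ p ^ e) ^ j) (Subgroup.inclusion le_sup_right r) : ↥(P ⊔ R)) : Ω) = r
    have : ∀ m : ℕ, ((b ^ p ^ e) ^ m) (Subgroup.inclusion le_sup_right r) =
        Subgroup.inclusion le_sup_right r := by
      intro m
      induction m with
      | zero => rfl
      | succ m ih => rw [pow_succ, MulAut.mul_apply, hbR, ih]
    rw [this]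
    rfl

/-- A saturated system over a hyperfocal base inside `C_D(R ⊓ T₁)` lies in `C_F(R)`. -/
theorem centralizes_step [Finite S] (hS : IsPGroup p S) (hR : F.IsNormal R)
    (hD : D.IsNormalIn F p) (hKD : K.IsSubsystemOf D) (hK : K.IsSaturated p)
    (hhyp : K.hyperfocalSubgroup p = U)
    (hKC : ∀ P : Subgroup Ω, K.Hom P ⊆ D.centralizerHom (R ⊓ T₁) P) (P : Subgroup Ω) :
    K.Hom P ⊆ F.centralizerHom R P := by
  have hTcl := hD.1.2.2.2.1
  have hUT : U ≤ T₁ := le_of_subsystem hKD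
  have hUS : U ≤ S := hUT.trans hTcl.1
  have := finite_of_le (Ω := Ω) hUS
  have hsub : ∀ Q, K.Hom Q ⊆ F.Hom Q := fun Q φ hφ => hD.1.2.2.1 Q (hKD Q hφ)
  have hext : ∀ (Q : Subgroup Ω) (hQ : Q ≤ U) (a : MulAut Q), a ∈ K.autGroup Q →
      (orderOf a).Coprime p →
      ∃ ψ ∈ F.Hom (Q ⊔ R), (∀ x : Q, ψ (Subgroup.inclusion le_sup_left x) = ((a x : Q) : Ω)) ∧
        ∀ r : R, ψ (Subgroup.inclusion le_sup_right r) = r := fun Q hQ a ha hco =>
    exists_ext_fixing hS hR hD (hQ.trans hUS) (hKC Q ((mem_autGroup_iff hQ).1 ha)) hco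
  have hUC : U ≤ centralizerIn S R := by
    rw [← hhyp, hyperfocalSubgroup, Subgroup.closure_le]
    rintro _ ⟨Q, α, x, hQ, hα, rfl⟩
    revert x
    induction hα using Subgroup.closure_induction with
    | mem a ha =>
      intro x
      obtain ⟨ψ, hψ, hψQ, hψR⟩ := hext Q hQ a a.2 (by rw [Subgroup.orderOf_coe]; exact ha)
      refine mem_centralizerIn.2 ⟨S.mul_mem (S.inv_mem (hUS (hQ x.2)))
        (hUS (hQ ((a : MulAut Q) x).2)), fun r hr => ?_⟩
      have hxS : (x : Ω) ∈ S := hUS (hQ x.2)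
      have hzR : r * (x : Ω) * r⁻¹ * (x : Ω)⁻¹ ∈ R := by
        have h := (Subgroup.mem_normalizer_iff.1 (le_normalizer_of_isNormal hR hxS) r⁻¹).1 (R.inv_mem hr)
        simpa [mul_assoc] using R.mul_mem hr h
      have h1 := hψR ⟨_, hzR⟩
      have he : Subgroup.inclusion (le_sup_right : R ≤ Q ⊔ R) ⟨_, hzR⟩ =
          Subgroup.inclusion le_sup_right ⟨r, hr⟩ * Subgroup.inclusion le_sup_left x *
          (Subgroup.inclusion le_sup_right ⟨r, hr⟩)⁻¹ * (Subgroup.inclusion le_sup_left x)⁻¹ :=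
        Subtype.ext rfl
      rw [he, map_mul, map_mul, map_mul, map_inv, map_inv, hψR, hψQ] at h1
      show r * ((x : Ω)⁻¹ * (((a : MulAut Q) x : Q) : Ω)) = (x : Ω)⁻¹ * (((a : MulAut Q) x : Q) : Ω) * r
      have h2 : r * (((a : MulAut Q) x : Q) : Ω) * r⁻¹ =
          r * (x : Ω) * r⁻¹ * (x : Ω)⁻¹ * (((a : MulAut Q) x : Q) : Ω) := eq_mul_of_mul_inv_eq h1
      calc r * ((x : Ω)⁻¹ * (((a : MulAut Q) x : Q) : Ω))
          = (r * (x : Ω) * r⁻¹)⁻¹ * (r * (((a : MulAut Q) x : Q) : Ω) * r⁻¹) * r := by group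
        _ = (x : Ω)⁻¹ * (((a : MulAut Q) x : Q) : Ω) * r := by rw [h2]; group
    | one => intro x; simp
    | mul a b _ _ iha ihb =>
      intro x
      rw [show (x : Ω)⁻¹ * ((((a * b : K.autGroup Q) : MulAut Q) x : Q) : Ω) =
        ((x : Ω)⁻¹ * (((b : MulAut Q) x : Q) : Ω)) * ((((b : MulAut Q) x : Q) : Ω)⁻¹ *
          ((((a : MulAut Q) ((b : MulAut Q) x)) : Q) : Ω)) by
        rw [mul_assoc, mul_inv_cancel_left]; rfl]
      exact Subgroup.mul_mem _ (ihb x) (iha _)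
    | inv a _ iha =>
      intro x
      have h := Subgroup.inv_mem _ (iha ((a : MulAut Q)⁻¹ x))
      rw [MulAut.apply_inv_self] at h
      simpa using h
  intro φ hφ
  refine alperin_strong_induction
    (C := fun Q φ => φ ∈ (centralizerSystem F R hR.1).Hom Q) (hS.to_le hUS) hK ?_ ?_ ?_ ?_ hφ
  · exact fun Q g hQ hg => (centralizerSystem F R hR.1).conj_mem (hQ.trans hUC) (hUC hg)
  · exact fun Q W φ ψ _ _ h1 h2 h => (centralizerSystem F R hR.1).comp_mem h1 h2 h
  · exact fun Q φ ψ _ h1 _ hi => inv_mem' h1 rfl fun x _ => hi x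
  intro Q hQn _ _ _ α hα
  have hQC : Q ≤ centralizerIn S R := hQn.1.trans hUC
  refine (mem_autGroup_iff (F := centralizerSystem F R hR.1) hQC).1
    (autGroup_le_of_residual (isFullyAutomized_of_fullyNormalized (hS.to_le hUS) hK hQn) ?_
      (fun b hb => autInducedBy_le_autGroup (centralizerSystem F R hR.1) hQC
        (autInducedBy_mono hUC hb)) hα)
  rw [Cfsg.pResidual, MonoidHom.map_closure, Subgroup.closure_le]
  rintro _ ⟨b, hb, rfl⟩
  obtain ⟨ψ, hψ, hψQ, hψR⟩ := hext Q hQn.1 b b.2 (by rw [Subgroup.orderOf_coe]; exact hb)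
  exact (mem_autGroup_iff (F := centralizerSystem F R hR.1) hQC).2
    ⟨hsub Q ((mem_autGroup_iff hQn.1).1 b.2), hQC, fun x => hQC ((b : MulAut Q) x).2, ψ, hψ, hψQ, hψR⟩

/-- A quasisimple subnormal system centralizes the core. -/
theorem centralizes_core (h : K.IsSubnormalIn F p) :
    Finite S → Fact p.Prime → IsPGroup p S → F.IsSaturated p → K.Quasisimple p →
      ∀ P : Subgroup Ω, K.Hom P ⊆ F.centralizerHom F.core P := by
  induction h with
  | refl F p =>
    intro _ _ hS _ hq P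
    exact self_centralizes hS hq P
  | step hED hDF ih =>
    rename_i V W E₀ D F p
    intro _ _ hS hF hq
    have hVW := hDF.1.2.2.2.1.1
    have := finite_of_le (Ω := Ω) hVW
    have hR := isNormal_core F
    have hR1 : D.IsNormal (F.core ⊓ V) :=
      TrivialExtension.isNormal_inf hS hR hDF.1.2.2.1 hDF.1.2.2.2.1 hDF.1.1
    have hVp := hS.to_le hVW
    exact centralizes_step hS hR hDF (isSubsystem_of_subnormal hED) hq.1 hq.2.1 fun P φ hφ =>
      NormalCentralizer.centralizerHom_mono (le_core hR1) (isNormal_core D).1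
        (ih inferInstance inferInstance hVp hDF.1.1 hq P hφ)

end Cfsg.Agent.Fusion.ComponentCore
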