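import Cfsg.Agent.Lib.Fusion.SameBase
import Cfsg.Agent.Lib.Fusion.Constructions

/-!
Craven's theorem: for a weakly normal subsystem `E` on `T`, the subsystem `O^{p'}(E)` is normal.
Its maps on centric subgroups extend to `C_S(T)` centralizing it modulo `T`; for the automorphisms
of `T` this is obtained by lifting along the normalizers.
-/

set_option autoImplicit false
set_option linter.unusedSectionVars false

namespace Cfsg.Agent.Fusion.ResidualNormal

open Cfsg Cfsg.FusionSystem Cfsg.Agent.Fusion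

variable {Ω : Type*} [Group Ω] {S T : Subgroup Ω} {F : FusionSystem S} {E : FusionSystem T}
  {p : ℕ}

theorem comm_cent {t c : Ω} (ht : t ∈ T) (hc : c ∈ centralizerIn S T) : t * c = c * t :=
  (mem_centralizerIn.1 hc).2 t ht

theorem exists_mul {R : Subgroup Ω} (hR : R ≤ T) {x : Ω} (hx : x ∈ R ⊔ centralizerIn S T) :
    ∃ r ∈ R, ∃ c ∈ centralizerIn S T, x = r * c := by
  let K : Subgroup Ω :=
    { carrier := {x | ∃ r ∈ R, ∃ c ∈ centralizerIn S T, x = r * c}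
      one_mem' := ⟨1, one_mem _, 1, one_mem _, (one_mul 1).symm⟩
      mul_mem' := by
        rintro a b ⟨r, hr, c, hc, rfl⟩ ⟨r', hr', c', hc', rfl⟩
        refine ⟨r * r', mul_mem hr hr', c * c', mul_mem hc hc', ?_⟩
        rw [mul_assoc r c, ← mul_assoc c r' c', ← comm_cent (hR hr') hc]
        group
      inv_mem' := by
        rintro a ⟨r, hr, c, hc, rfl⟩
        refine ⟨r⁻¹, inv_mem hr, c⁻¹, inv_mem hc, ?_⟩
        rw [mul_inv_rev, comm_cent (hR (inv_mem hr)) (inv_mem hc)] }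
  exact (sup_le (fun r hr => ⟨r, hr, 1, one_mem _, (mul_one r).symm⟩)
    (fun c hc => ⟨1, one_mem _, c, hc, (one_mul c).symm⟩) : R ⊔ centralizerIn S T ≤ K) hx

/-- Elements of `T` normalizing `R` normalize `R C_S(T)`. -/
theorem mem_normalizer_sup {R : Subgroup Ω} (hR : R ≤ T) {n : Ω} (hn : n ∈ T)
    (hnR : n ∈ Subgroup.normalizer (R : Set Ω)) :
    n ∈ Subgroup.normalizer ((R ⊔ centralizerIn S T : Subgroup Ω) : Set Ω) := by
  refine Subgroup.mem_normalizer_iff.2 fun z => ⟨fun hz => ?_, fun hz => ?_⟩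
  · obtain ⟨r, hr, c, hc, rfl⟩ := exists_mul hR hz
    rw [show n * (r * c) * n⁻¹ = n * r * (c * n⁻¹) by group, ← comm_cent (inv_mem hn) hc,
      show n * r * (n⁻¹ * c) = n * r * n⁻¹ * c by group]
    exact Subgroup.mul_mem_sup ((Subgroup.mem_normalizer_iff.1 hnR r).1 hr) hc
  · obtain ⟨r, hr, c, hc, he⟩ := exists_mul hR hz
    have h1 : z = n⁻¹ * r * n * c := by
      calc z = n⁻¹ * (n * z * n⁻¹) * n := by group
        _ = n⁻¹ * r * (c * n) := by rw [he]; group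
        _ = n⁻¹ * r * n * c := by rw [← comm_cent hn hc]; group
    rw [h1]
    refine Subgroup.mul_mem_sup ((Subgroup.mem_normalizer_iff.1 hnR _).2 ?_) hc
    rwa [show n * (n⁻¹ * r * n) * n⁻¹ = r by group]

/-! ### Lifting a fixed automorphism -/

/-- `R C_S(T)` has an automorphism in `F` fixing `R` and agreeing with `δ` on `C_S(T)` modulo `R`. -/
def FixLift (F : FusionSystem S) (T : Subgroup Ω) (δ : MulAut ↥(T ⊔ centralizerIn S T))
    (R : Subgroup Ω) : Prop :=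
  ∃ a ∈ F.autGroup (R ⊔ centralizerIn S T),
    (∀ r : R, ((a (Subgroup.inclusion le_sup_left r) : ↥(R ⊔ centralizerIn S T)) : Ω) = (r : Ω)) ∧
      ∀ c : centralizerIn S T,
        ((δ (Subgroup.inclusion le_sup_right c) : ↥(T ⊔ centralizerIn S T)) : Ω)⁻¹ *
          ((a (Subgroup.inclusion le_sup_right c) : ↥(R ⊔ centralizerIn S T)) : Ω) ∈ R

theorem pow_mod {δ : MulAut ↥(T ⊔ centralizerIn S T)}
    (hδC : ∀ x : ↥(T ⊔ centralizerIn S T), (x : Ω) ∈ centralizerIn S T → ((δ x : ↥(T ⊔ centralizerIn S T)) : Ω) ∈ centralizerIn S T)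
    {R : Subgroup Ω} {a : MulAut ↥(R ⊔ centralizerIn S T)}
    (hfix : ∀ r : R, ((a (Subgroup.inclusion le_sup_left r) : ↥(R ⊔ centralizerIn S T)) : Ω) = (r : Ω))
    (hmod : ∀ c : centralizerIn S T,
      ((δ (Subgroup.inclusion le_sup_right c) : ↥(T ⊔ centralizerIn S T)) : Ω)⁻¹ *
        ((a (Subgroup.inclusion le_sup_right c) : ↥(R ⊔ centralizerIn S T)) : Ω) ∈ R)
    (i : ℕ) (c : centralizerIn S T) :
    (((δ ^ i) (Subgroup.inclusion le_sup_right c) : ↥(T ⊔ centralizerIn S T)) : Ω)⁻¹ *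
      (((a ^ i) (Subgroup.inclusion le_sup_right c) : ↥(R ⊔ centralizerIn S T)) : Ω) ∈ R := by
  have key : ∀ i : ℕ, ∃ d : centralizerIn S T,
      ((((δ ^ i) (Subgroup.inclusion le_sup_right c)) : ↥(T ⊔ centralizerIn S T)) : Ω) = (d : Ω) ∧
      ∃ r : R, (a ^ i) (Subgroup.inclusion le_sup_right c) =
        Subgroup.inclusion le_sup_right d * Subgroup.inclusion le_sup_left r := by
    intro i
    induction i with
    | zero => exact ⟨c, rfl, 1, by simp⟩
    | succ i ih =>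
      obtain ⟨d, hd, r, hr⟩ := ih
      have hd' : ((δ (Subgroup.inclusion le_sup_right d) : ↥(T ⊔ centralizerIn S T)) : Ω) ∈
          centralizerIn S T := hδC _ d.2
      refine ⟨⟨_, hd'⟩, ?_, ⟨_, hmod d⟩ * r, ?_⟩
      · rw [pow_succ', MulAut.mul_apply,
          show (δ ^ i) (Subgroup.inclusion le_sup_right c) = Subgroup.inclusion le_sup_right d from
            Subtype.ext hd]
      · rw [pow_succ', MulAut.mul_apply, hr, map_mul]
        refine Subtype.ext ?_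
        simp only [Subgroup.coe_mul, Subgroup.coe_inclusion, hfix r]
        rw [← mul_assoc, mul_inv_cancel_left]
  obtain ⟨d, hd, r, hr⟩ := key i
  rw [hd, hr]
  simp only [Subgroup.coe_mul, Subgroup.coe_inclusion, inv_mul_cancel_left]
  exact r.2

theorem pow_fix {R : Subgroup Ω} {a : MulAut ↥(R ⊔ centralizerIn S T)}
    (hfix : ∀ r : R, ((a (Subgroup.inclusion le_sup_left r) : ↥(R ⊔ centralizerIn S T)) : Ω) = (r : Ω))
    (i : ℕ) (r : R) :
    (((a ^ i) (Subgroup.inclusion le_sup_left r) : ↥(R ⊔ centralizerIn S T)) : Ω) = (r : Ω) := by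
  induction i with
  | zero => rfl
  | succ i ih =>
    rw [pow_succ, MulAut.mul_apply,
      show a (Subgroup.inclusion le_sup_left r) = Subgroup.inclusion le_sup_left r from
        Subtype.ext (hfix r)]
    exact ih

variable [Finite S] [Fact p.Prime]

/-- The lifting step from `R` to `N_T(R)`. -/
theorem FixLift.step (hS : IsPGroup p S) (hE : E.IsWeaklyNormalIn F p)
    {δ : MulAut ↥(T ⊔ centralizerIn S T)}
    (hδC : ∀ x : ↥(T ⊔ centralizerIn S T), (x : Ω) ∈ centralizerIn S T → ((δ x : ↥(T ⊔ centralizerIn S T)) : Ω) ∈ centralizerIn S T)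
    (hδp : (orderOf δ).Coprime p) {R : Subgroup Ω} (hR : E.IsCentric R) (h : FixLift F T δ R) :
    FixLift F T δ (normalizerIn T R) := by
  have hT := hE.2.2.2.1
  have hTS := hT.1
  have hF := hE.2.1
  have := finite_of_le (Ω := Ω) hTS
  obtain ⟨a, ha, hfix, hmod⟩ := h
  have hCS : (centralizerIn S T) ≤ S := centralizerIn_le S T
  set N := normalizerIn T R with hN
  have hNT : N ≤ T := normalizerIn_le T R
  have hRT := hR.1
  have hRN : R ≤ N := le_normalizerIn hRT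
  have hPQ : (R ⊔ centralizerIn S T : Subgroup Ω) ≤ (N ⊔ centralizerIn S T : Subgroup Ω) := sup_le_sup_right hRN (centralizerIn S T)
  have hQS : (N ⊔ centralizerIn S T : Subgroup Ω) ≤ S := sup_le (hNT.trans hTS) hCS
  have hPS : (R ⊔ centralizerIn S T : Subgroup Ω) ≤ S := hPQ.trans hQS
  have := finite_mulAut (Ω := Ω) hPS
  have haR : ∀ (x : ↥(R ⊔ centralizerIn S T : Subgroup Ω)), (x : Ω) ∈ R → a x = x := fun x hx => Subtype.ext (hfix ⟨x, hx⟩)
  have haR' : ∀ (x : ↥(R ⊔ centralizerIn S T : Subgroup Ω)), (x : Ω) ∈ R → a⁻¹ x = x := fun x hx => by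
    conv_lhs => rw [← haR x hx]
    exact MulAut.inv_apply_self _ _ _
  have hnP : ∀ n ∈ N, n ∈ Subgroup.normalizer ((R ⊔ centralizerIn S T : Subgroup Ω) : Set Ω) := fun n hn =>
    mem_normalizer_sup hRT (hNT hn) hn.2
  -- the `p`-group `Aut_N((R ⊔ centralizerIn S T : Subgroup Ω)) K₀`
  set K₀ := fixingTranslations F (R ⊔ centralizerIn S T : Subgroup Ω) R with hK₀
  have hAN : autInducedBy N (R ⊔ centralizerIn S T : Subgroup Ω) ≤ F.autGroup (R ⊔ centralizerIn S T : Subgroup Ω) := fun u hu => by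
    obtain ⟨n, hn, hv⟩ := mem_autInducedBy_iff.1 hu
    exact autInducedBy_le_autGroup F hPS (mem_autInducedBy_iff.2 ⟨n, hTS (hNT hn), hv⟩)
  have hnorm : autInducedBy N (R ⊔ centralizerIn S T : Subgroup Ω) ≤ Subgroup.normalizer (K₀ : Set (MulAut (R ⊔ centralizerIn S T : Subgroup Ω))) := by
    intro u hu
    have hpres : ∀ w ∈ autInducedBy N (R ⊔ centralizerIn S T : Subgroup Ω), ∀ g : ↥(R ⊔ centralizerIn S T : Subgroup Ω), (g : Ω) ∈ R → ((w g : ↥(R ⊔ centralizerIn S T : Subgroup Ω)) : Ω) ∈ R := by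
      intro w hw g hg
      obtain ⟨n, hn, hv⟩ := mem_autInducedBy_iff.1 hw
      rw [hv]
      exact (Subgroup.mem_normalizer_iff.1 hn.2 _).1 hg
    refine Subgroup.mem_normalizer_iff.2 fun β => ⟨fun hβ => mem_fixingTranslations_conj (hAN hu)
      (hpres u hu) (hpres _ (inv_mem hu)) hβ, fun hβ => ?_⟩
    have h1 := mem_fixingTranslations_conj (y := u⁻¹) (hAN (inv_mem hu))
      (hpres _ (inv_mem hu)) (by rw [inv_inv]; exact hpres u hu) hβ
    simpa [mul_assoc] using h1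
  set U := autInducedBy N (R ⊔ centralizerIn S T : Subgroup Ω) ⊔ K₀ with hU
  have hUp : IsPGroup p U :=
    (isPGroup_autInducedBy (hS.to_le (hNT.trans hTS)) (R ⊔ centralizerIn S T : Subgroup Ω)).to_sup_of_normal_right'
      (isPGroup_fixingTranslations hS hPS) hnorm
  have hUF : U ≤ F.autGroup (R ⊔ centralizerIn S T : Subgroup Ω) := sup_le hAN fun β hβ => hβ.1
  have hUa : ∀ u ∈ U, a * u * a⁻¹ ∈ U := by
    suffices h : U ≤ U.comap (MulAut.conj a).toMonoidHom from fun u hu => h hu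
    refine sup_le (fun u hu => ?_) (fun β hβ => Subgroup.mem_sup_right
      (mem_fixingTranslations_conj ha (fun g hg => by rw [haR g hg]; exact hg)
        (fun g hg => by rw [haR' g hg]; exact hg) hβ))
    obtain ⟨n, hn, hv⟩ := mem_autInducedBy_iff.1 hu
    have hvR : ∀ x : ↥(R ⊔ centralizerIn S T : Subgroup Ω), (x : Ω) ∈ R → ((u x : ↥(R ⊔ centralizerIn S T : Subgroup Ω)) : Ω) ∈ R := fun x hx => by
      rw [hv]
      exact (Subgroup.mem_normalizer_iff.1 hn.2 _).1 hx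
    have hcomm : u⁻¹ * (a * u * a⁻¹) ∈ K₀ := by
      refine ⟨mul_mem (inv_mem (hAN hu)) (mul_mem (mul_mem ha (hAN hu)) (inv_mem ha)),
        fun g hg => ?_, fun g => ?_⟩
      · rw [MulAut.mul_apply, MulAut.mul_apply, MulAut.mul_apply, haR' g hg, haR _ (hvR g hg),
          MulAut.inv_apply_self]
      · obtain ⟨r, hr, c, hc, hg⟩ := exists_mul hRT (a⁻¹ g).2
        set rP : ↥(R ⊔ centralizerIn S T : Subgroup Ω) := ⟨r, Subgroup.mem_sup_left hr⟩ with hrP
        set cP : ↥(R ⊔ centralizerIn S T : Subgroup Ω) := ⟨c, Subgroup.mem_sup_right hc⟩ with hcP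
        have hg' : g = rP * a cP := by
          rw [← MulAut.apply_inv_self _ a g, show a⁻¹ g = rP * cP from Subtype.ext hg, map_mul,
            haR rP hr]
        obtain ⟨r₀, hr₀, c₀, hc₀, h₀⟩ := exists_mul hRT (a cP).2
        have huc : u cP = cP := Subtype.ext (by
          rw [hv]
          show n * c * n⁻¹ = c
          rw [comm_cent (hNT hn) hc, mul_inv_cancel_right])
        have hur : (u⁻¹ * (a * u * a⁻¹)) rP = rP := by
          rw [MulAut.mul_apply, MulAut.mul_apply, MulAut.mul_apply, haR' rP hr, haR _ (hvR rP hr),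
            MulAut.inv_apply_self]
        have hwc : (u⁻¹ * (a * u * a⁻¹)) (a cP) = u⁻¹ (a cP) := by
          rw [MulAut.mul_apply, MulAut.mul_apply, MulAut.mul_apply, MulAut.inv_apply_self, huc]
        set w := u⁻¹ (a cP) with hw
        have hu' : n * (w : Ω) * n⁻¹ = r₀ * c₀ := by
          rw [← hv, hw, MulAut.apply_inv_self, h₀]
        rw [hg', map_mul, hur, hwc, mul_inv_rev, mul_assoc, inv_mul_cancel_left]
        show ((a cP : ↥(R ⊔ centralizerIn S T : Subgroup Ω)) : Ω)⁻¹ * (w : Ω) ∈ R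
        rw [h₀]
        have hw' : (w : Ω) = n⁻¹ * r₀ * n * c₀ := by
          calc (w : Ω) = n⁻¹ * (n * (w : Ω) * n⁻¹) * n := by group
            _ = n⁻¹ * r₀ * (c₀ * n) := by rw [hu']; group
            _ = n⁻¹ * r₀ * n * c₀ := by rw [← comm_cent (hNT hn) hc₀]; group
        have hmem : r₀⁻¹ * (n⁻¹ * r₀ * n) ∈ R := by
          refine mul_mem (inv_mem hr₀) ?_
          refine (Subgroup.mem_normalizer_iff.1 hn.2 _).2 ?_
          rwa [show n * (n⁻¹ * r₀ * n) * n⁻¹ = r₀ by group]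
        rw [hw', show (r₀ * c₀)⁻¹ * (n⁻¹ * r₀ * n * c₀) = c₀⁻¹ * (r₀⁻¹ * (n⁻¹ * r₀ * n) * c₀) by
          group, comm_cent (hRT hmem) hc₀, inv_mul_cancel_left]
        exact hmem
    have h2 := Subgroup.mul_mem_sup hu hcomm
    rw [mul_inv_cancel_left] at h2
    exact h2
  -- move `U` into the automorphisms induced by `S` on a fully normalized conjugate
  obtain ⟨P', ⟨θ₀, hθ₀, hr₀⟩, hP'n⟩ := exists_fullyNormalized F hPS
  have hP'S := hP'n.1
  have := finite_mulAut (Ω := Ω) hP'S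
  obtain ⟨-, Y, hY⟩ := isFullyAutomized_of_fullyNormalized hS hF hP'n
  set U₀ := (U.map (MulAut.congr (homEquiv hθ₀ hr₀)).toMonoidHom).subgroupOf (F.autGroup P') with hU₀
  have hU₀le : U.map (MulAut.congr (homEquiv hθ₀ hr₀)).toMonoidHom ≤ F.autGroup P' := by
    rintro _ ⟨u, hu, rfl⟩
    exact congr_mem_autGroup hθ₀ hr₀ (hUF hu)
  have hU₀p : IsPGroup p U₀ :=
    (hUp.map _).of_equiv (Subgroup.subgroupOfEquivOfLe hU₀le).symm
  obtain ⟨Y', hY'⟩ := hU₀p.exists_le_sylow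
  obtain ⟨d, hd⟩ := MulAction.exists_smul_eq (F.autGroup P') Y' Y
  set θ : ↥(R ⊔ centralizerIn S T : Subgroup Ω) →* Ω := (P'.subtype.comp (d : MulAut P').toMonoidHom).comp
    (homEquiv hθ₀ hr₀).toMonoidHom with hθdef
  have hθv : ∀ x : ↥(R ⊔ centralizerIn S T : Subgroup Ω), θ x = (((d : MulAut P') (homEquiv hθ₀ hr₀ x) : P') : Ω) := fun x => rfl
  have hθ : θ ∈ F.Hom (R ⊔ centralizerIn S T : Subgroup Ω) := aut_comp_mem hθ₀ hr₀ d.2 hθv
  have hθr : θ.range = P' := range_eq_of_aut hθ₀ hr₀ _ hθv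
  have hθU : ∀ u ∈ U, ∃ s ∈ S, ∀ x : ↥(R ⊔ centralizerIn S T : Subgroup Ω), θ (u x) = s * θ x * s⁻¹ := by
    intro u hu
    set u₀ : F.autGroup P' := ⟨_, hU₀le ⟨u, hu, rfl⟩⟩ with hu₀
    have h1 : d * u₀ * d⁻¹ ∈ (Y : Subgroup (F.autGroup P')) := by
      rw [← hd, Sylow.coe_subgroup_smul]
      exact Subgroup.smul_mem_pointwise_smul _ (MulAut.conj d) _ (hY' ⟨u, hu, rfl⟩)
    rw [hY] at h1
    obtain ⟨s, hs, hsx⟩ := mem_autInducedBy_iff.1 (Subgroup.mem_subgroupOf.1 h1)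
    refine ⟨s, hs, fun x => ?_⟩
    refine Eq.trans ?_ (hsx ((d : MulAut P') (homEquiv hθ₀ hr₀ x)))
    show (((d : MulAut P') (homEquiv hθ₀ hr₀ (u x)) : P') : Ω) =
      (((d : MulAut P') ((u₀ : MulAut P') ((d : MulAut P')⁻¹ ((d : MulAut P')
        (homEquiv hθ₀ hr₀ x)))) : P') : Ω)
    rw [MulAut.inv_apply_self, hu₀]
    show _ = (((d : MulAut P') (MulAut.congr (homEquiv hθ₀ hr₀) u (homEquiv hθ₀ hr₀ x)) : P') : Ω)
    rw [congr_apply]
  have hrec : F.IsReceptive P' := isReceptive_of_fullyNormalized hS hF hP'n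
  -- extend `θ` to `N (centralizerIn S T)`
  have hNext : (N ⊔ centralizerIn S T : Subgroup Ω) ≤ extender S (R ⊔ centralizerIn S T : Subgroup Ω) θ := by
    refine sup_le (fun n hn => ?_) (le_sup_right.trans (le_extender hPS (apply_mem hθ)))
    obtain ⟨s, hs, hsx⟩ :=
      hθU _ (Subgroup.mem_sup_left (conjAut_mem_autInducedBy hn (hnP n hn)))
    exact mem_extender_iff.2 ⟨hTS (hNT hn), hnP n hn, s, hs, fun x _ => hsx x⟩
  obtain ⟨Θ, hΘ, hΘe⟩ := exists_extension hrec hθ hθr hNext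
  have hΘP : ∀ x : ↥(R ⊔ centralizerIn S T : Subgroup Ω), Θ (Subgroup.inclusion hPQ x) = θ x := fun x => hΘe x x.2 _
  obtain ⟨η, hη, hηr, hηi, -⟩ := exists_inverse hθ hθr
  -- the transported automorphism
  obtain ⟨κ, hκ, hκv⟩ : ∃ κ ∈ F.Hom P', ∀ x : ↥(R ⊔ centralizerIn S T : Subgroup Ω), ∀ hx : θ x ∈ P', κ ⟨θ x, hx⟩ = θ (a x) := by
    have hηP : ∀ y, η y ∈ (R ⊔ centralizerIn S T : Subgroup Ω) := fun y => hηr.le ⟨y, rfl⟩
    have ha' := (mem_autGroup_iff hPS).1 ha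
    have h1 := F.comp_mem hη ha' hηP
    refine ⟨_, F.comp_mem h1 hθ (fun y => (a _).2), fun x hx => ?_⟩
    exact congrArg (fun z => θ (a z)) (Subtype.ext (hηi x hx))
  have hκr : κ.range = P' := by
    refine range_eq_of_le hκ hP'S (fun y => ?_) le_rfl
    obtain ⟨x, hx⟩ := hθr.ge y.2
    rw [show y = ⟨θ x, hx.symm ▸ y.2⟩ from Subtype.ext hx.symm, hκv]
    exact hθr.le ⟨_, rfl⟩
  have hκext : Θ.range ≤ extender S P' κ := by
    have := finite_of_le (Ω := Ω) hP'S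
    rintro _ ⟨q, rfl⟩
    have hP'ext : P' ≤ extender S P' κ := le_extender hP'S (apply_mem hκ)
    refine forall_sup_mem Θ (fun n => ?_) (fun c => hP'ext ?_) q
    · have hnm := hnP n n.2
      set u : MulAut (R ⊔ centralizerIn S T : Subgroup Ω) := conjAut hnm with hu
      have hΘn : ∀ x : ↥(R ⊔ centralizerIn S T : Subgroup Ω), Θ (Subgroup.inclusion le_sup_left n) * θ x *
          (Θ (Subgroup.inclusion le_sup_left n))⁻¹ = θ (u x) := fun x => by
        rw [← hΘP, ← hΘP, ← map_inv, ← map_mul, ← map_mul]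
        rfl
      obtain ⟨s, hs, hsx⟩ :=
        hθU _ (hUa u (Subgroup.mem_sup_left (conjAut_mem_autInducedBy n.2 hnm)))
      refine mem_extender_iff.2 ⟨apply_mem hΘ _,
        mem_normalizer_of_forall fun y hy => ?_, s, hs, fun y hy => ?_⟩
      · obtain ⟨x, rfl⟩ := hθr.ge hy
        rw [hΘn]
        exact hθr.le ⟨_, rfl⟩
      · obtain ⟨x, hx⟩ := hθr.ge y.2
        obtain rfl : y = ⟨θ x, hθr.le ⟨x, rfl⟩⟩ := Subtype.ext hx.symm
        have h1 := hsx (a x)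
        rw [MulAut.mul_apply, MulAut.mul_apply, MulAut.inv_apply_self] at h1
        rw [show (⟨Θ (Subgroup.inclusion le_sup_left n) * θ x *
            (Θ (Subgroup.inclusion le_sup_left n))⁻¹, hy⟩ : P') =
          ⟨θ (u x), hθr.le ⟨_, rfl⟩⟩ from Subtype.ext (hΘn x), hκv, hκv]
        exact h1
    · rw [show Θ (Subgroup.inclusion le_sup_right c) = θ (Subgroup.inclusion le_sup_right c) from
        hΘP (Subgroup.inclusion le_sup_right c)]
      exact hθr.le ⟨_, rfl⟩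
  obtain ⟨κ', hκ', hκ'e⟩ := exists_extension hrec hκ hκr hκext
  set Ψ₀ : ↥(N ⊔ centralizerIn S T : Subgroup Ω) →* Ω := κ'.comp (Θ.codRestrict Θ.range fun q => ⟨q, rfl⟩) with hΨ₀
  have hΨ₀F : Ψ₀ ∈ F.Hom (N ⊔ centralizerIn S T : Subgroup Ω) := F.comp_mem hΘ hκ' _
  have hΨ₀P : ∀ x : ↥(R ⊔ centralizerIn S T : Subgroup Ω), Ψ₀ (Subgroup.inclusion hPQ x) = Θ (Subgroup.inclusion hPQ (a x)) := fun x => by
    rw [hΘP, ← hκv x (hθr.le ⟨x, rfl⟩)]
    exact (congrArg κ' (Subtype.ext (hΘP x))).trans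
      (hκ'e (θ x) (hθr.le ⟨x, rfl⟩) ⟨Subgroup.inclusion hPQ x, hΘP x⟩)
  -- on `N` it is a translation by the image of `R`
  have hΨ₀N : ∀ n : N, ∃ r : R, Ψ₀ (Subgroup.inclusion le_sup_left n) =
      Θ (Subgroup.inclusion le_sup_left (n * Subgroup.inclusion hRN r)) := by
    intro n
    set ρ := θ.comp (Subgroup.inclusion (le_sup_left : R ≤ (R ⊔ centralizerIn S T : Subgroup Ω))) with hρ
    have hρc : E.IsCentric ρ.range :=
      (SameBase.relData_top hE).isCentric_image hR (restrict_mem hθ le_sup_left)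
    set y := (Θ (Subgroup.inclusion le_sup_left n))⁻¹ * Ψ₀ (Subgroup.inclusion le_sup_left n) with hy
    have hyC : y ∈ centralizerIn T ρ.range := by
      refine mem_centralizerIn.2 ⟨T.mul_mem (T.inv_mem (hT.2 N hNT _ (restrict_mem hΘ le_sup_left) n))
        (hT.2 N hNT _ (restrict_mem hΨ₀F le_sup_left) n), ?_⟩
      rintro _ ⟨r, rfl⟩
      set rQ : ↥(N ⊔ centralizerIn S T : Subgroup Ω) := Subgroup.inclusion hPQ (Subgroup.inclusion le_sup_left r) with hrQ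
      set nQ : ↥(N ⊔ centralizerIn S T : Subgroup Ω) := Subgroup.inclusion le_sup_left n with hnQ
      have hr' : (n : Ω) * r * (n : Ω)⁻¹ ∈ R := (Subgroup.mem_normalizer_iff.1 n.2.2 _).1 r.2
      have hf : ∀ (x : ↥(R ⊔ centralizerIn S T : Subgroup Ω)), (x : Ω) ∈ R → Ψ₀ (Subgroup.inclusion hPQ x) =
          Θ (Subgroup.inclusion hPQ x) := fun x hx => by rw [hΨ₀P, haR x hx]
      have e1 := hf (Subgroup.inclusion le_sup_left r) r.2
      have e2 : Ψ₀ (nQ * rQ * nQ⁻¹) = Θ (nQ * rQ * nQ⁻¹) :=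
        hf ⟨_, Subgroup.mem_sup_left hr'⟩ hr'
      rw [map_mul, map_mul, map_inv, map_mul, map_mul, map_inv, e1] at e2
      have hρr : ρ r = Θ rQ := (hΘP _).symm
      rw [hρr, hy]
      calc Θ rQ * ((Θ nQ)⁻¹ * Ψ₀ nQ) = (Θ nQ)⁻¹ * (Θ nQ * Θ rQ * (Θ nQ)⁻¹) * Ψ₀ nQ := by group
        _ = (Θ nQ)⁻¹ * (Ψ₀ nQ * Θ rQ * (Ψ₀ nQ)⁻¹) * Ψ₀ nQ := by rw [e2]
        _ = (Θ nQ)⁻¹ * Ψ₀ nQ * Θ rQ := by group
    obtain ⟨r, hr⟩ := isCentric_centralizerIn_le hρc hyC
    refine ⟨r, ?_⟩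
    rw [map_mul, map_mul,
      show Θ (Subgroup.inclusion le_sup_left (Subgroup.inclusion hRN r)) = ρ r from
        hΘP (Subgroup.inclusion le_sup_left r), hr, hy, mul_inv_cancel_left]
  have hΨ₀R : ∀ q, Ψ₀ q ∈ Θ.range := forall_sup_mem Ψ₀
    (fun n => by obtain ⟨r, hr⟩ := hΨ₀N n; exact ⟨_, hr.symm⟩)
    (fun c => ⟨_, (hΨ₀P (Subgroup.inclusion le_sup_right c)).symm⟩)
  obtain ⟨ρ', hρ', hρ'r, hρ'i, -⟩ := exists_inverse hΘ (rfl : Θ.range = Θ.range)
  have hΨF := F.comp_mem hΨ₀F hρ' hΨ₀R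
  have := finite_of_le (Ω := Ω) hQS
  have hΨr : (ρ'.comp (Ψ₀.codRestrict Θ.range hΨ₀R)).range = (N ⊔ centralizerIn S T : Subgroup Ω) :=
    range_eq_of_le hΨF hQS (fun q => hρ'r.le ⟨_, rfl⟩) le_rfl
  set γ : MulAut (N ⊔ centralizerIn S T : Subgroup Ω) := toAut hΨF hΨr with hγ
  have hγv : ∀ q q' : ↥(N ⊔ centralizerIn S T : Subgroup Ω), Ψ₀ q = Θ q' → γ q = q' := fun q q' h => by
    refine Subtype.ext ?_
    show ρ' ⟨Ψ₀ q, hΨ₀R q⟩ = (q' : Ω)
    rw [show (⟨Ψ₀ q, hΨ₀R q⟩ : Θ.range) = ⟨Θ q', q', rfl⟩ from Subtype.ext h]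
    exact hρ'i q' _
  have hγP : ∀ x : ↥(R ⊔ centralizerIn S T : Subgroup Ω), ((γ (Subgroup.inclusion hPQ x) : ↥(N ⊔ centralizerIn S T : Subgroup Ω)) : Ω) = ((a x : ↥(R ⊔ centralizerIn S T : Subgroup Ω)) : Ω) := fun x =>
    congrArg Subtype.val (hγv _ _ (hΨ₀P x))
  -- take a power
  obtain ⟨e, he⟩ := IsPGroup.iff_card.1 (hS.to_le hTS)
  have hcop : (orderOf δ).Coprime (p ^ e) := hδp.pow_right e
  obtain ⟨i, hi1, hi0⟩ := Nat.chineseRemainder hcop 1 0
  refine ⟨γ ^ i, pow_mem (toAut_mem hΨF hΨr) i, fun n => ?_, fun c => ?_⟩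
  · obtain ⟨r, hr⟩ := hΨ₀N n
    have h1 : γ (Subgroup.inclusion le_sup_left n) = Subgroup.inclusion le_sup_left n *
        Subgroup.inclusion le_sup_left (Subgroup.inclusion hRN r) := by
      rw [← map_mul]
      exact hγv _ _ hr
    have h2 : γ (Subgroup.inclusion le_sup_left (Subgroup.inclusion hRN r)) =
        Subgroup.inclusion le_sup_left (Subgroup.inclusion hRN r) :=
      Subtype.ext ((hγP (Subgroup.inclusion le_sup_left r)).trans (hfix r))
    rw [aut_pow_apply_of_fixed γ h1 h2 i]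
    obtain ⟨k, rfl⟩ := Nat.modEq_zero_iff_dvd.1 hi0
    have h3 : ((r : Ω)) ^ (p ^ e * k) = 1 := by
      rw [pow_mul, ← he]
      have h4 : ((⟨r, hRT r.2⟩ : T) ^ Nat.card T) = 1 := pow_card_eq_one'
      rw [show (r : Ω) ^ Nat.card T = 1 from congrArg Subtype.val h4, one_pow]
    simp only [Subgroup.coe_mul, Subgroup.coe_pow, Subgroup.coe_inclusion, h3, mul_one]
  · have hδi : δ ^ i = δ := by
      conv_rhs => rw [← pow_one δ]
      exact pow_eq_pow_iff_modEq.2 hi1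
    rw [show (((γ ^ i) (Subgroup.inclusion le_sup_right c) : ↥(N ⊔ centralizerIn S T : Subgroup Ω)) : Ω) =
        (((a ^ i) (Subgroup.inclusion le_sup_right c) : ↥(R ⊔ centralizerIn S T : Subgroup Ω)) : Ω) from
      hom_aut_pow hPQ hγP i (Subgroup.inclusion le_sup_right c)]
    have h1 := pow_mod hδC hfix hmod i c
    rw [hδi] at h1
    exact hRN h1

/-- Lifting up to `T`. -/
theorem FixLift.top (hS : IsPGroup p S) (hE : E.IsWeaklyNormalIn F p)
    {δ : MulAut ↥(T ⊔ centralizerIn S T)}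
    (hδC : ∀ x : ↥(T ⊔ centralizerIn S T), (x : Ω) ∈ centralizerIn S T →
      ((δ x : ↥(T ⊔ centralizerIn S T)) : Ω) ∈ centralizerIn S T)
    (hδp : (orderOf δ).Coprime p) :
    ∀ (n : ℕ) (R : Subgroup Ω), Nat.card T ≤ Nat.card R + n → E.IsCentric R → FixLift F T δ R →
      FixLift F T δ T := by
  have hTS := hE.2.2.2.1.1
  have := finite_of_le (Ω := Ω) hTS
  intro n
  induction n with
  | zero =>
    intro R hn hR h
    obtain rfl : R = T := eq_of_le_of_card_le le_rfl hR.1 (by omega)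
    exact h
  | succ n ih =>
    intro R hn hR h
    by_cases hRe : R = T
    · subst hRe
      exact h
    have hNT : normalizerIn T R ≤ T := normalizerIn_le T R
    have hlt : R < normalizerIn T R :=
      lt_normalizerIn (hS.to_le hTS) (lt_of_le_of_ne hR.1 hRe)
    have hcard := card_lt_of_lt hNT hlt
    exact ih _ (by omega) (isCentric_of_le hR hlt.le hNT) (h.step hS hE hδC hδp hR)

/-! ### Extending maps to `C_S(T)` -/

/-- The map extends to `P C_S(T)`, acting trivially on `C_S(T)` modulo `T`. -/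
def ExtMap (F : FusionSystem S) (T P : Subgroup Ω) (φ : P →* Ω) : Prop :=
  ∃ Φ ∈ F.Hom (P ⊔ centralizerIn S T),
    (∀ x : P, Φ (Subgroup.inclusion le_sup_left x) = φ x) ∧
      ∀ c : centralizerIn S T, (c : Ω)⁻¹ * Φ (Subgroup.inclusion le_sup_right c) ∈ T

/-- The translation on `C_S(T)` lies in the image, for centric source. -/
theorem mem_range_of_ext {P : Subgroup Ω} (hP : E.IsCentric P) {φ : P →* Ω} (hφ : φ ∈ E.Hom P)
    {Φ : ↥(P ⊔ centralizerIn S T) →* Ω}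
    (he : ∀ x : P, Φ (Subgroup.inclusion le_sup_left x) = φ x) (c : centralizerIn S T)
    (hc : (c : Ω)⁻¹ * Φ (Subgroup.inclusion le_sup_right c) ∈ T) :
    (c : Ω)⁻¹ * Φ (Subgroup.inclusion le_sup_right c) ∈ φ.range := by
  refine isCentric_centralizerIn_le (isCentric_of_isConj hP ⟨φ, hφ, rfl⟩)
    (mem_centralizerIn.2 ⟨hc, ?_⟩)
  rintro _ ⟨x, rfl⟩
  have h1 : φ x * Φ (Subgroup.inclusion le_sup_right c) =
      Φ (Subgroup.inclusion le_sup_right c) * φ x := by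
    rw [← he, ← map_mul, ← map_mul]
    exact congrArg Φ (Subtype.ext (comm_cent (dom_le hφ x.2) c.2))
  have h2 : φ x * (c : Ω)⁻¹ = (c : Ω)⁻¹ * φ x := comm_cent (apply_mem hφ x) (inv_mem c.2)
  rw [← mul_assoc, h2, mul_assoc, h1, mul_assoc]

theorem ext_conj {P : Subgroup Ω} (hP : P ≤ T) (hTS : T ≤ S) {g : Ω} (hg : g ∈ T) :
    ExtMap F T P (conjHom P g) := by
  refine ⟨conjHom _ g, F.conj_mem (sup_le (hP.trans hTS) (centralizerIn_le S T)) (hTS hg),
    fun x => rfl, fun c => ?_⟩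
  show (c : Ω)⁻¹ * (g * c * g⁻¹) ∈ T
  rw [comm_cent hg c.2, mul_inv_cancel_right, inv_mul_cancel]
  exact one_mem _

/-- The subsystem of `E` of the maps extending, if their source is centric. -/
def extSystem (hE : E.IsWeaklyNormalIn F p) : FusionSystem T :=
  subsystemOf E (fun P φ => E.IsCentric P → ExtMap F T P φ)
    (fun P g hP hg _ => ext_conj hP hE.2.2.2.1.1 hg)
    (fun P Q φ ψ hφ hψ hC hD h hPc => by
      have hQc : E.IsCentric Q :=
        isCentric_of_le (isCentric_of_isConj hPc ⟨φ, hφ, rfl⟩)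
          (fun _ ⟨x, hx⟩ => hx ▸ h x) (dom_le hψ)
      obtain ⟨Φ, hΦ, hΦe, hΦc⟩ := hC hPc
      obtain ⟨Ψ, hΨ, hΨe, hΨc⟩ := hD hQc
      have hz : ∀ c : centralizerIn S T, (c : Ω)⁻¹ * Φ (Subgroup.inclusion le_sup_right c) ∈ Q :=
        fun c => by
          obtain ⟨x, hx⟩ := mem_range_of_ext hPc hφ hΦe c (hΦc c)
          exact hx ▸ h x
      have hsplit : ∀ c : centralizerIn S T, Φ (Subgroup.inclusion le_sup_right c) =
          (c : Ω) * ((c : Ω)⁻¹ * Φ (Subgroup.inclusion le_sup_right c)) := fun c =>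
        (mul_inv_cancel_left _ _).symm
      have hmem : ∀ y, Φ y ∈ Q ⊔ centralizerIn S T := forall_sup_mem Φ
        (fun x => by rw [hΦe]; exact Subgroup.mem_sup_left (h x))
        (fun c => by
          rw [hsplit]
          exact mul_mem (Subgroup.mem_sup_right c.2) (Subgroup.mem_sup_left (hz c)))
      refine ⟨_, F.comp_mem hΦ hΨ hmem, fun x => ?_, fun c => ?_⟩
      · show Ψ ⟨Φ (Subgroup.inclusion le_sup_left x), _⟩ = ψ ⟨φ x, h x⟩
        rw [show (⟨Φ (Subgroup.inclusion le_sup_left x), hmem _⟩ : ↥(Q ⊔ centralizerIn S T)) =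
          Subgroup.inclusion le_sup_left ⟨φ x, h x⟩ from Subtype.ext (hΦe x), hΨe]
      · show (c : Ω)⁻¹ * Ψ ⟨Φ (Subgroup.inclusion le_sup_right c), _⟩ ∈ T
        rw [show (⟨Φ (Subgroup.inclusion le_sup_right c), hmem _⟩ : ↥(Q ⊔ centralizerIn S T)) =
          Subgroup.inclusion le_sup_right c * Subgroup.inclusion le_sup_left ⟨_, hz c⟩ from
          Subtype.ext (hsplit c), map_mul, hΨe, ← mul_assoc]
        exact mul_mem (hΨc c) (apply_mem hψ _))
    (fun P φ ψ hφ hC hψ hi hPc => by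
      have hconj : E.IsConj φ.range P := isConj_symm ⟨φ, hφ, rfl⟩
      have hP : E.IsCentric P := isCentric_of_isConj hPc hconj
      obtain ⟨Φ, hΦ, hΦe, hΦc⟩ := hC hP
      have hz := fun c => mem_range_of_ext hP hφ hΦe c (hΦc c)
      have hr : Φ.range = φ.range ⊔ centralizerIn S T := by
        refine le_antisymm ?_ (sup_le ?_ ?_)
        · rintro _ ⟨y, rfl⟩
          refine forall_sup_mem Φ (fun x => ?_) (fun c => ?_) y
          · rw [hΦe]
            exact Subgroup.mem_sup_left ⟨x, rfl⟩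
          · rw [← mul_inv_cancel_left (c : Ω) (Φ _)]
            exact mul_mem (Subgroup.mem_sup_right c.2) (Subgroup.mem_sup_left (hz c))
        · rintro _ ⟨x, rfl⟩
          exact ⟨_, hΦe x⟩
        · intro c hc
          obtain ⟨x, hx⟩ := hz ⟨c, hc⟩
          refine ⟨Subgroup.inclusion le_sup_right ⟨c, hc⟩ * (Subgroup.inclusion le_sup_left x)⁻¹, ?_⟩
          rw [map_mul, map_inv, hΦe, hx, mul_inv_rev, inv_inv, mul_inv_cancel_left]
      obtain ⟨Ψ, hΨ, hΨr, hΨi, -⟩ := exists_inverse hΦ hr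
      refine ⟨Ψ, hΨ, ?_, fun c => ?_⟩
      · rintro ⟨_, x, rfl⟩
        rw [hi]
        have hm : Φ (Subgroup.inclusion le_sup_left x) ∈ φ.range ⊔ centralizerIn S T := by
          rw [hΦe]
          exact Subgroup.mem_sup_left ⟨x, rfl⟩
        exact (congrArg Ψ (Subtype.ext (hΦe x).symm :
          Subgroup.inclusion le_sup_left (⟨φ x, x, rfl⟩ : φ.range) =
            (⟨_, hm⟩ : ↥(φ.range ⊔ centralizerIn S T)))).trans (hΨi _ hm)
      · obtain ⟨x, hx⟩ := hz c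
        set cP : ↥(P ⊔ centralizerIn S T) :=
          Subgroup.inclusion le_sup_right c * (Subgroup.inclusion le_sup_left x)⁻¹ with hcP
        have hv : Φ cP = (c : Ω) := by
          rw [hcP, map_mul, map_inv, hΦe, hx, mul_inv_rev, inv_inv, mul_inv_cancel_left]
        rw [show Subgroup.inclusion le_sup_right c =
          (⟨Φ cP, hv.symm ▸ Subgroup.mem_sup_right c.2⟩ : ↥(φ.range ⊔ centralizerIn S T)) from
          Subtype.ext hv.symm, hΨi]
        show (c : Ω)⁻¹ * ((c : Ω) * ((x : Ω))⁻¹) ∈ T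
        rw [inv_mul_cancel_left]
        exact inv_mem (dom_le hφ x.2))

theorem extSystem_le (hE : E.IsWeaklyNormalIn F p) : (extSystem hE).IsSubsystemOf E :=
  fun _ _ hφ => hφ.1

/-- The automorphisms of `p`-power order of centric subgroups extend. -/
theorem isLarge_extSystem (hS : IsPGroup p S) (hE : E.IsWeaklyNormalIn F p) :
    IsLargeOnCentric (extSystem hE) E p := by
  intro R hR
  rw [Subgroup.map_le_iff_le_comap]
  refine (Subgroup.closure_le _).2 fun γ₀ ⟨k, hk⟩ => ?_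
  show (γ₀ : MulAut R) ∈ (extSystem hE).autGroup R
  refine (mem_autGroup_iff hR.1).2 ⟨(mem_autGroup_iff hR.1).1 γ₀.2, fun _ => ?_⟩
  set γ : MulAut R := (γ₀ : MulAut R) with hγ
  have hT := hE.2.2.2.1
  have hTS := hT.1
  have := finite_of_le (Ω := Ω) hTS
  obtain ⟨θ, hθ, t, ht, hθt⟩ := exists_conj_of_pElement (hS.to_le hTS) hE.1 hR.1 γ₀.2 (k := k)
    (show γ ^ p ^ k = 1 by rw [hγ, ← SubgroupClass.coe_pow, ← hk, pow_orderOf_eq_one]; rfl)
  have hθF := hE.2.2.1 R hθ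
  have hR1S : θ.range ≤ S := range_le hθF
  obtain ⟨R2, hR12, hR2n⟩ := exists_fullyNormalized F hR1S
  obtain ⟨ψ, hψ, -, hψm⟩ := exists_hom_normalizerIn hS
    (isFullyAutomized_of_fullyNormalized hS hE.2.1 hR2n)
    (isReceptive_of_fullyNormalized hS hE.2.1 hR2n) hR12
  have htN : t ∈ normalizerIn T θ.range := by
    refine ⟨ht, ?_⟩
    refine mem_normalizer_of_aut (α := MulAut.congr (homEquiv hθ rfl) γ) fun y => ?_
    obtain ⟨x, rfl⟩ := (homEquiv hθ rfl).surjective y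
    rw [congr_apply, coe_homEquiv, coe_homEquiv]
    exact hθt x
  have hNN : normalizerIn T θ.range ≤ normalizerIn S θ.range := inf_le_inf_right _ hTS
  have hθN : ∀ x : R, θ x ∈ normalizerIn S θ.range := fun x => le_normalizerIn hR1S ⟨x, rfl⟩
  set t' : Ω := ψ (Subgroup.inclusion hNN ⟨t, htN⟩) with ht'
  have ht'T : t' ∈ T := hT.2 _ (normalizerIn_le T θ.range) _ (restrict_mem hψ hNN) ⟨t, htN⟩
  set θ' : R →* Ω := ψ.comp (θ.codRestrict _ hθN) with hθ'
  have hθ'F : θ' ∈ F.Hom R := F.comp_mem hθF hψ hθN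
  have hθ'r : θ'.range = R2 := by
    rw [← hψm]
    ext z
    constructor
    · rintro ⟨x, rfl⟩
      exact ⟨⟨θ x, hθN x⟩, ⟨x, rfl⟩, rfl⟩
    · rintro ⟨⟨w, hw⟩, ⟨x, hx⟩, rfl⟩
      exact ⟨x, congrArg ψ (Subtype.ext hx)⟩
  have hθ'v : ∀ x : R, θ' (γ x) = t' * θ' x * t'⁻¹ := fun x => by
    rw [ht', hθ', MonoidHom.comp_apply, MonoidHom.comp_apply, ← map_inv, ← map_mul, ← map_mul]
    exact congrArg ψ (Subtype.ext (hθt x))
  have hRC : centralizerIn S T ≤ centralizerIn S R := centralizerIn_anti hR.1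
  obtain ⟨Θ, hΘ, hΘe⟩ := exists_extension (N := R ⊔ centralizerIn S T)
    (isReceptive_of_fullyNormalized hS hE.2.1 hR2n) hθ'F hθ'r
    (sup_le (le_extender (hR.1.trans hTS) (apply_mem hθ'F))
      (hRC.trans (centralizerIn_le_extender _)))
  have hΘR : ∀ x : R, Θ (Subgroup.inclusion le_sup_left x) = θ' x := fun x => hΘe x x.2 _
  have hR2c : E.IsCentric R2 := hθ'r ▸ (SameBase.relData_top hE).isCentric_image hR hθ'F
  have ht'S : t' ∈ S := hTS ht'T
  set conjt := conjHom Θ.range t' with hconjt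
  have hΘC : ∀ c : centralizerIn S T, ∃ r : R, t' * Θ (Subgroup.inclusion le_sup_right c) * t'⁻¹ =
      Θ (Subgroup.inclusion le_sup_right c * Subgroup.inclusion le_sup_left r) := by
    intro c
    set y := Θ (Subgroup.inclusion le_sup_right c) with hy
    have hyS : y ∈ S := apply_mem hΘ _
    have hyR : ∀ x : R, θ' x * y = y * θ' x := fun x => by
      rw [hy, ← hΘR, ← map_mul, ← map_mul]
      exact congrArg Θ (Subtype.ext (comm_cent (hR.1 x.2) c.2))
    have hw : y⁻¹ * (t' * y * t'⁻¹) ∈ centralizerIn T R2 := by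
      refine mem_centralizerIn.2 ⟨?_, ?_⟩
      · rw [show y⁻¹ * (t' * y * t'⁻¹) = y⁻¹ * t' * y * t'⁻¹ by group]
        refine T.mul_mem ?_ (T.inv_mem ht'T)
        have h1 := (Subgroup.mem_normalizer_iff.1
          (le_normalizer_of_stronglyClosed hT (inv_mem hyS)) t').1 ht'T
        rwa [inv_inv] at h1
      · rw [← hθ'r]
        rintro _ ⟨x, rfl⟩
        obtain ⟨x', rfl⟩ := γ.surjective x
        have h1 := hyR (γ x')
        have h2 := hyR x'
        rw [hθ'v] at h1 ⊢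
        calc t' * θ' x' * t'⁻¹ * (y⁻¹ * (t' * y * t'⁻¹))
            = y⁻¹ * (y * (t' * θ' x' * t'⁻¹)) * y⁻¹ * (t' * y * t'⁻¹) := by group
          _ = y⁻¹ * ((t' * θ' x' * t'⁻¹) * y) * y⁻¹ * (t' * y * t'⁻¹) := by rw [h1]
          _ = y⁻¹ * (t' * (θ' x' * y) * t'⁻¹) := by group
          _ = y⁻¹ * (t' * (y * θ' x') * t'⁻¹) := by rw [h2]
          _ = y⁻¹ * (t' * y * t'⁻¹) * (t' * θ' x' * t'⁻¹) := by group
    obtain ⟨r, hr⟩ : y⁻¹ * (t' * y * t'⁻¹) ∈ θ'.range :=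
      hθ'r.symm ▸ isCentric_centralizerIn_le hR2c hw
    refine ⟨r, ?_⟩
    rw [map_mul, hΘR, hr, ← hy, mul_inv_cancel_left]
  have hmem : ∀ y : Θ.range, conjt y ∈ Θ.range := by
    rintro ⟨_, q, rfl⟩
    refine forall_sup_mem (K := Θ.range) (conjt.comp (Θ.codRestrict Θ.range fun q => ⟨q, rfl⟩))
      (fun x => ?_) (fun c => ?_) q
    · show t' * Θ _ * t'⁻¹ ∈ Θ.range
      rw [hΘR, ← hθ'v, ← hΘR]
      exact ⟨_, rfl⟩
    · obtain ⟨r, hr⟩ := hΘC c
      show t' * Θ _ * t'⁻¹ ∈ Θ.range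
      rw [hr]
      exact ⟨_, rfl⟩
  obtain ⟨η, hη, hηr, hηi, -⟩ := exists_inverse hΘ (rfl : Θ.range = Θ.range)
  have hΘmem : ∀ q, Θ q ∈ Θ.range := fun q => ⟨q, rfl⟩
  refine ⟨_, F.comp_mem hΘ (F.comp_mem (F.conj_mem (range_le hΘ) ht'S) hη hmem) hΘmem,
    fun x => ?_, fun c => ?_⟩
  · show η ⟨t' * Θ _ * t'⁻¹, _⟩ = ((γ x : R) : Ω)
    refine Eq.trans (congrArg η (Subtype.ext ?_)) (hηi (Subgroup.inclusion le_sup_left (γ x)) ⟨_, rfl⟩)
    show t' * Θ (Subgroup.inclusion le_sup_left x) * t'⁻¹ =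
      Θ (Subgroup.inclusion le_sup_left (γ x))
    rw [hΘR, hΘR, hθ'v]
  · obtain ⟨r, hr⟩ := hΘC c
    suffices h : ∀ z (hz : z ∈ Θ.range), z = Θ (Subgroup.inclusion le_sup_right c *
        Subgroup.inclusion le_sup_left r) → (c : Ω)⁻¹ * η ⟨z, hz⟩ ∈ T from h _ _ hr
    rintro z hz rfl
    rw [hηi]
    show (c : Ω)⁻¹ * ((c : Ω) * r) ∈ T
    rw [inv_mul_cancel_left]
    exact hR.1 r.2

theorem minimal_le_extSystem (hS : IsPGroup p S) (hE : E.IsWeaklyNormalIn F p) :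
    minimalPrimeToP E p ≤ extSystem hE :=
  minimalPrimeToP_le (isLarge_extSystem hS hE)

/-- An automorphism of `T` in `E` lying in the minimal system on a centric subgroup extends. -/
theorem mem_extSystem_of_agree (hS : IsPGroup p S) (hE : E.IsWeaklyNormalIn F p) {R : Subgroup Ω}
    (hR : E.IsCentric R) {b : MulAut T} (hb : b ∈ E.autGroup T) {φ₀ : R →* Ω}
    (hφ₀ : φ₀ ∈ (minimalPrimeToP E p).Hom R)
    (hv : ∀ (x : R) (hx : (x : Ω) ∈ T), φ₀ x = ((b ⟨x, hx⟩ : T) : Ω)) :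
    b ∈ (extSystem hE).autGroup T := by
  have hT := hE.2.2.2.1
  have hTS := hT.1
  have hF := hE.2.1
  have := finite_of_le (Ω := Ω) hTS
  have hRT := hR.1
  have hTCS : T ⊔ centralizerIn S T ≤ S := sup_le hTS (centralizerIn_le S T)
  have := finite_mulAut (Ω := Ω) hTCS
  -- extend `b` to `T C_S(T)`
  have hNT : normalizerIn S T = S := normalizerIn_eq_of_le (le_normalizer_of_stronglyClosed hT)
  have hTn : F.IsFullyNormalized T :=
    ⟨hTS, fun Q _ => by rw [hNT]; exact card_le_of_le le_rfl (normalizerIn_le S Q)⟩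
  obtain ⟨hbF, hbr⟩ := hom_of_mem_autGroup hTS (autGroup_le_of_subsystem hE.2.2.1 le_rfl hb)
  obtain ⟨β₀, hβ₀, hβ₀e⟩ := exists_extension (N := T ⊔ centralizerIn S T)
    (isReceptive_of_fullyNormalized hS hF hTn) hbF hbr
    (sup_le (le_extender hTS (apply_mem hbF)) (centralizerIn_le_extender _))
  have hβ₀T : ∀ x : T, β₀ (Subgroup.inclusion le_sup_left x) = ((b x : T) : Ω) :=
    fun x => hβ₀e x x.2 _
  have hβ₀C : ∀ c : centralizerIn S T, β₀ (Subgroup.inclusion le_sup_right c) ∈ centralizerIn S T := by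
    refine fun c => mem_centralizerIn.2 ⟨apply_mem hβ₀ _, fun t ht => ?_⟩
    obtain ⟨x, hx⟩ := b.surjective ⟨t, ht⟩
    rw [show t = β₀ (Subgroup.inclusion le_sup_left x) by rw [hβ₀T, hx], ← map_mul, ← map_mul]
    exact congrArg β₀ (Subtype.ext (comm_cent x.2 c.2))
  have hβ₀r : β₀.range = T ⊔ centralizerIn S T := by
    refine range_eq_of_le hβ₀ hTCS (forall_sup_mem β₀ (fun x => ?_) (fun c => ?_)) le_rfl
    · rw [hβ₀T]
      exact Subgroup.mem_sup_left (b x).2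
    · exact Subgroup.mem_sup_right (hβ₀C c)
  set β : MulAut ↥(T ⊔ centralizerIn S T) := toAut hβ₀ hβ₀r with hβdef
  have hβF : β ∈ F.autGroup (T ⊔ centralizerIn S T) := toAut_mem hβ₀ hβ₀r
  have hβT : ∀ x : T, β (Subgroup.inclusion le_sup_left x) = Subgroup.inclusion le_sup_left (b x) :=
    fun x => Subtype.ext (hβ₀T x)
  set δ := β⁻¹ with hδdef
  have hδT : ∀ x : T, δ (Subgroup.inclusion le_sup_left (b x)) = Subgroup.inclusion le_sup_left x :=
    fun x => by rw [hδdef, ← hβT, MulAut.inv_apply_self]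
  have hδC : ∀ x : ↥(T ⊔ centralizerIn S T), (x : Ω) ∈ centralizerIn S T →
      ((δ x : ↥(T ⊔ centralizerIn S T)) : Ω) ∈ centralizerIn S T := by
    refine fun x hx => mem_centralizerIn.2 ⟨hTCS (δ x).2, fun t ht => ?_⟩
    have h1 : Subgroup.inclusion le_sup_left (b ⟨t, ht⟩) * x =
        x * Subgroup.inclusion le_sup_left (b ⟨t, ht⟩) := Subtype.ext (comm_cent (b _).2 hx)
    have h2 := congrArg Subtype.val (congrArg δ h1)
    rw [map_mul, map_mul, hδT] at h2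
    exact h2
  -- the automorphism of `R C_S(T)`
  obtain ⟨Φ, hΦ, hΦe, hΦc⟩ := (minimal_le_extSystem hS hE R hφ₀).2 hR
  have hφ₀E := minimalPrimeToP_isSubsystemOf R hφ₀
  have hz := fun c => mem_range_of_ext hR hφ₀E hΦe c (hΦc c)
  have hΦmem : ∀ y, Φ y ∈ T ⊔ centralizerIn S T := forall_sup_mem Φ
    (fun x => by rw [hΦe]; exact Subgroup.mem_sup_left (apply_mem hφ₀E x))
    (fun c => by
      rw [← mul_inv_cancel_left (c : Ω) (Φ _)]
      exact mul_mem (Subgroup.mem_sup_right c.2) (Subgroup.mem_sup_left (hΦc c)))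
  set a₀ : ↥(R ⊔ centralizerIn S T) →* Ω :=
    ((T ⊔ centralizerIn S T).subtype.comp δ.toMonoidHom).comp (Φ.codRestrict _ hΦmem) with ha₀
  have ha₀F : a₀ ∈ F.Hom (R ⊔ centralizerIn S T) :=
    F.comp_mem hΦ ((mem_autGroup_iff hTCS).1 (inv_mem hβF)) hΦmem
  have ha₀R : ∀ x : R, a₀ (Subgroup.inclusion le_sup_left x) = (x : Ω) := fun x => by
    show ((δ ⟨Φ _, _⟩ : ↥(T ⊔ centralizerIn S T)) : Ω) = _
    rw [show (⟨Φ (Subgroup.inclusion le_sup_left x), hΦmem _⟩ : ↥(T ⊔ centralizerIn S T)) =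
      Subgroup.inclusion le_sup_left (b ⟨x, hRT x.2⟩) from
      Subtype.ext ((hΦe x).trans (hv x (hRT x.2))), hδT]
    rfl
  have ha₀C : ∀ c : centralizerIn S T, ∃ r : R, a₀ (Subgroup.inclusion le_sup_right c) =
      ((δ (Subgroup.inclusion le_sup_right c) : ↥(T ⊔ centralizerIn S T)) : Ω) * r := fun c => by
    obtain ⟨r, hr⟩ := hz c
    refine ⟨r, ?_⟩
    show ((δ ⟨Φ _, _⟩ : ↥(T ⊔ centralizerIn S T)) : Ω) = _
    rw [show (⟨Φ (Subgroup.inclusion le_sup_right c), hΦmem _⟩ : ↥(T ⊔ centralizerIn S T)) =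
      Subgroup.inclusion le_sup_right c * Subgroup.inclusion le_sup_left (b ⟨r, hRT r.2⟩) from
      Subtype.ext (by
        show Φ _ = (c : Ω) * ((b ⟨r, hRT r.2⟩ : T) : Ω)
        rw [← hv r (hRT r.2), hr, mul_inv_cancel_left]), map_mul, hδT]
    rfl
  have hRCS : R ⊔ centralizerIn S T ≤ S := (sup_le_sup_right hRT _).trans hTCS
  have ha₀r : a₀.range = R ⊔ centralizerIn S T := by
    refine range_eq_of_le ha₀F hRCS (forall_sup_mem a₀ (fun x => ?_) (fun c => ?_)) le_rfl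
    · rw [ha₀R]
      exact Subgroup.mem_sup_left x.2
    · obtain ⟨r, hr⟩ := ha₀C c
      rw [hr]
      exact mul_mem (Subgroup.mem_sup_right (hδC _ c.2)) (Subgroup.mem_sup_left r.2)
  have hlift : FixLift F T δ R := by
    refine ⟨toAut ha₀F ha₀r, toAut_mem ha₀F ha₀r, ha₀R, fun c => ?_⟩
    obtain ⟨r, hr⟩ := ha₀C c
    show _ * a₀ _ ∈ R
    rw [hr, inv_mul_cancel_left]
    exact r.2
  -- the part of order prime to `p`
  obtain ⟨e, m, hm, hord⟩ := Nat.exists_eq_pow_mul_and_not_dvd (orderOf_pos β).ne' p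
    (Fact.out : p.Prime).ne_one
  have hcop : m.Coprime (p ^ e) :=
    (((Fact.out : p.Prime).coprime_iff_not_dvd.2 hm).pow_left e).symm
  obtain ⟨j, hj1, hj0⟩ := Nat.chineseRemainder hcop 1 0
  obtain ⟨q, rfl⟩ := Nat.modEq_zero_iff_dvd.1 hj0
  have hδ' : δ ^ (p ^ e * q) ∈ F.autGroup (T ⊔ centralizerIn S T) := pow_mem (inv_mem hβF) _
  have hδ'p : (orderOf (δ ^ (p ^ e * q))).Coprime p := by
    refine Nat.Coprime.of_dvd_left (orderOf_dvd_of_pow_eq_one (n := m) ?_)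
      ((Fact.out : p.Prime).coprime_iff_not_dvd.2 hm).symm
    rw [← pow_mul, show p ^ e * q * m = p ^ e * m * q by ring, ← hord, pow_mul, hδdef, inv_pow,
      pow_orderOf_eq_one, inv_one, one_pow]
  have hδ'C : ∀ i : ℕ, ∀ x : ↥(T ⊔ centralizerIn S T), (x : Ω) ∈ centralizerIn S T →
      (((δ ^ i) x : ↥(T ⊔ centralizerIn S T)) : Ω) ∈ centralizerIn S T := by
    intro i
    induction i with
    | zero => exact fun x hx => hx
    | succ i ih =>
      intro x hx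
      rw [pow_succ', MulAut.mul_apply]
      exact hδC _ (ih x hx)
  obtain ⟨a, ha, hafix, hamod⟩ := hlift
  obtain ⟨A, hA, hAfix, hAmod⟩ := FixLift.top hS hE (hδ'C _) hδ'p (Nat.card T) R (by omega) hR
    ⟨a ^ (p ^ e * q), pow_mem ha _, pow_fix hafix _, pow_mod hδC hafix hamod _⟩
  set β' := β ^ (p ^ e * q) with hβ'def
  have hbT : ∀ (i : ℕ) (x : T), (β ^ i) (Subgroup.inclusion le_sup_left x) =
      Subgroup.inclusion le_sup_left ((b ^ i) x) := by
    intro i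
    induction i with
    | zero => exact fun _ => rfl
    | succ i ih =>
      intro x
      rw [pow_succ, pow_succ, MulAut.mul_apply, MulAut.mul_apply, hβT, ih]
  have hbj : b ^ (p ^ e * q) ∈ (extSystem hE).autGroup T := by
    refine (mem_autGroup_iff le_rfl).2 ⟨(mem_autGroup_iff le_rfl).1 (pow_mem hb _), fun _ => ?_⟩
    refine ⟨_, (mem_autGroup_iff hTCS).1 (mul_mem (pow_mem hβF (p ^ e * q)) hA),
      fun x => ?_, fun c => ?_⟩
    · show (((β' * A) (Subgroup.inclusion le_sup_left x) : ↥(T ⊔ centralizerIn S T)) : Ω) = _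
      rw [MulAut.mul_apply, show A (Subgroup.inclusion le_sup_left x) =
        Subgroup.inclusion le_sup_left x from Subtype.ext (hAfix x), hβ'def, hbT]
      rfl
    · show (c : Ω)⁻¹ *
        (((β' * A) (Subgroup.inclusion le_sup_right c) : ↥(T ⊔ centralizerIn S T)) : Ω) ∈ T
      set t₀ : T := ⟨_, hAmod c⟩ with ht₀
      have h1 : A (Subgroup.inclusion le_sup_right c) =
          (δ ^ (p ^ e * q)) (Subgroup.inclusion le_sup_right c) * Subgroup.inclusion le_sup_left t₀ :=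
        Subtype.ext (mul_inv_cancel_left _ _).symm
      have h2 : β' ((δ ^ (p ^ e * q)) (Subgroup.inclusion le_sup_right c)) =
          Subgroup.inclusion le_sup_right c := by
        rw [hδdef, inv_pow, hβ'def, MulAut.apply_inv_self]
      rw [MulAut.mul_apply, h1, map_mul, h2, hβ'def, hbT]
      show (c : Ω)⁻¹ * ((c : Ω) * (((b ^ (p ^ e * q)) t₀ : T) : Ω)) ∈ T
      rw [inv_mul_cancel_left]
      exact Subtype.property _
  have hbm : b ^ m ∈ (extSystem hE).autGroup T := by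
    have h1 : (b ^ m) ^ p ^ e = 1 := by
      refine MulEquiv.ext fun x => ?_
      have h2 := hbT (m * p ^ e) x
      rw [show m * p ^ e = p ^ e * m by ring, ← hord, pow_orderOf_eq_one, hord,
        show p ^ e * m = m * p ^ e by ring] at h2
      rw [← pow_mul]
      exact (Subgroup.inclusion_injective le_sup_left h2).symm
    exact (mem_autGroup_iff le_rfl).2 (minimal_le_extSystem hS hE T ((mem_autGroup_iff le_rfl).1
      (pElement_mem_minimalPrimeToP (hS.to_le hTS) hE.1 le_rfl (pow_mem hb m)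
        (Nat.dvd_prime_pow Fact.out |>.1 (orderOf_dvd_of_pow_eq_one h1)).choose_spec.2)))
  refine SameBase.mem_of_pow_coprime _ ?_ hbj hbm
  exact Nat.coprime_of_mul_modEq_one 1 (by rw [mul_one]; exact hj1)

/-! ### Invariance and normality -/

/-- Pullbacks along `Aut_F(T)` of large subsystems are large. -/
theorem isLarge_pull (hE : E.IsWeaklyNormalIn F p) {E' : FusionSystem T}
    (hE' : IsLargeOnCentric E' E p) {α : MulAut T} (hα : α ∈ F.autGroup T) :
    IsLargeOnCentric (pullSystem E E' α) E p := by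
  intro R hR
  rw [Subgroup.map_le_iff_le_comap]
  refine (Subgroup.closure_le _).2 fun γ ⟨k, hk⟩ => ?_
  show (γ : MulAut R) ∈ (pullSystem E E' α).autGroup R
  have hRT := hR.1
  have hTS := hE.2.2.2.1.1
  have := finite_of_le (Ω := Ω) hTS
  set R' := (R.subgroupOf T).map (T.subtype.comp α.toMonoidHom) with hR'
  obtain ⟨θ, hθ, hθe⟩ : ∃ θ ∈ F.Hom R, ∀ x : R, θ x = ((α ⟨x, hRT x.2⟩ : T) : Ω) :=
    ⟨_, restrict_mem ((mem_autGroup_iff hTS).1 hα) hRT, fun x => rfl⟩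
  have hθr : θ.range = R' := imageOfAut hRT hθe
  have hR'c : E.IsCentric R' := hθr ▸ (SameBase.relData_top hE).isCentric_image hR hθ
  obtain ⟨χ, hχ, hχv⟩ := hE.2.2.2.2.1 R hRT _ ((mem_autGroup_iff hRT).1 γ.2) α hα
  set b : MulAut R' := MulAut.congr (homEquiv hθ hθr) (γ : MulAut R) with hb
  have hbv : ∀ x : R, ∀ hx : ((α ⟨x, hRT x.2⟩ : T) : Ω) ∈ R',
      ((b ⟨_, hx⟩ : R') : Ω) = ((α ⟨((γ : MulAut R) x : R), hRT ((γ : MulAut R) x).2⟩ : T) : Ω) := by
    intro x hx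
    rw [hb, show (⟨((α ⟨x, hRT x.2⟩ : T) : Ω), hx⟩ : R') = homEquiv hθ hθr x from
      Subtype.ext (hθe x).symm, congr_apply, coe_homEquiv, hθe]
  have hbE : b ∈ E.autGroup R' := by
    refine (mem_autGroup_iff hR'c.1).2 ?_
    convert hχ using 1
    refine MonoidHom.ext fun y => ?_
    obtain ⟨_, ⟨z, hzT⟩, hz, rfl⟩ := y
    exact (hbv ⟨z, hz⟩ ⟨⟨z, hzT⟩, hz, rfl⟩).trans
      (hχv ⟨z, hz⟩ (hRT ((γ : MulAut R) _).2) ⟨⟨z, hzT⟩, hz, rfl⟩).symm
  have hb' : b ∈ E'.autGroup R' := pElement_mem_autGroup hE' hR'c hbE (k := k) (by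
    rw [hb, MulEquiv.orderOf_eq, Subgroup.orderOf_coe]; exact hk)
  refine (mem_autGroup_iff hRT).2 ⟨(mem_autGroup_iff hRT).1 γ.2, hRT, _,
    (mem_autGroup_iff hR'c.1).1 hb', fun x hx hy => hbv x hy⟩

/-- `Aut_F(T)` transports the minimal system of `E`. -/
theorem transports_minimal (hE : E.IsWeaklyNormalIn F p) :
    Transports (minimalPrimeToP E p) F := by
  intro P hPT φ hφ α hα
  obtain ⟨hφE, hall⟩ := hφ
  obtain ⟨χ, hχ, hv⟩ := hE.2.2.2.2.1 P hPT φ hφE α hα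
  refine ⟨χ, ⟨hχ, fun E' hE' => ?_⟩, hv⟩
  obtain ⟨-, _, χ', hχ', hv'⟩ := hall _ (isLarge_pull hE hE' hα)
  have heq : χ = χ' := MonoidHom.ext fun y => by
    obtain ⟨_, z, hz, rfl⟩ := y
    exact (hv ⟨z, hz⟩ (apply_mem hφE _) ⟨z, hz, rfl⟩).trans
      (hv' ⟨z, hz⟩ (apply_mem hφE _) ⟨z, hz, rfl⟩).symm
  exact heq ▸ hχ'

theorem gamma_conj_of_normal (hE : E.IsWeaklyNormalIn F p) {d : MulAut T} (hd : d ∈ F.autGroup T)
    {a : MulAut T} (ha : a ∈ PPrimeResidual.gamma E p) :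
    d * a * d⁻¹ ∈ PPrimeResidual.gamma E p := by
  suffices h : PPrimeResidual.gamma E p ≤
      (PPrimeResidual.gamma E p).comap (MulAut.conj d).toMonoidHom from h ha
  refine (Subgroup.closure_le _).2 ?_
  rintro b ⟨hb, P, hP, φ₀, hφ₀, hv⟩
  have hTS := hE.2.2.2.1.1
  have := finite_of_le (Ω := Ω) hTS
  obtain ⟨χ, hχ, hχv⟩ := transports_minimal hE P hP.1 φ₀ hφ₀ d hd
  obtain ⟨θ, hθ, hθe⟩ : ∃ θ ∈ F.Hom P, ∀ x : P, θ x = ((d ⟨x, hP.1 x.2⟩ : T) : Ω) :=
    ⟨_, restrict_mem ((mem_autGroup_iff hTS).1 hd) hP.1, fun x => rfl⟩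
  refine Subgroup.subset_closure ⟨conj_mem_autGroup_of_invariant hE.2.2 le_rfl hd hb, _,
    imageOfAut hP.1 hθe ▸ (SameBase.relData_top hE).isCentric_image hP hθ, χ, hχ, ?_⟩
  rintro ⟨_, z, hz, rfl⟩ hzS
  refine (hχv ⟨z, hz⟩ (apply_mem hφ₀ _) ⟨z, hz, rfl⟩).trans ?_
  show _ = (((d * b * d⁻¹) (d z) : T) : Ω)
  rw [MulAut.mul_apply, MulAut.mul_apply, MulAut.inv_apply_self]
  exact congrArg (fun s : T => ((d s : T) : Ω)) (Subtype.ext (hv ⟨z, hz⟩ z.2))

theorem transports_residual [Finite T] (hE : E.IsWeaklyNormalIn F p) :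
    Transports (PPrimeResidual.residual E p) F := by
  intro P hPT φ hφ β hβ
  obtain ⟨hφE, α, hα, φ₀, hφ₀, he⟩ := PPrimeResidual.mem_residual hφ
  obtain ⟨χ, hχ, hv⟩ := hE.2.2.2.2.1 P hPT φ hφE β hβ
  obtain ⟨χ₀, hχ₀, hv₀⟩ := transports_minimal hE P hPT φ₀ hφ₀ β hβ
  refine ⟨χ, PPrimeResidual.residual_of hχ (gamma_conj_of_normal hE hβ hα) hχ₀ ?_, hv⟩
  rintro ⟨_, z, hz, rfl⟩ hzT
  refine (hv ⟨z, hz⟩ (apply_mem hφE _) ⟨z, hz, rfl⟩).trans ?_
  show ((β ⟨φ ⟨z, hz⟩, _⟩ : T) : Ω) = (((β * α * β⁻¹) ⟨χ₀ _, hzT⟩ : T) : Ω)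
  rw [show (⟨χ₀ _, hzT⟩ : T) = β ⟨φ₀ ⟨z, hz⟩, apply_mem hφ₀ _⟩ from
      Subtype.ext (hv₀ ⟨z, hz⟩ (apply_mem hφ₀ _) ⟨z, hz, rfl⟩),
    MulAut.mul_apply, MulAut.mul_apply, MulAut.inv_apply_self]
  exact congrArg (fun s : T => ((β s : T) : Ω)) (Subtype.ext (he ⟨z, hz⟩ _))

/-- `O^{p'}(E)` is normal in `F`. -/
theorem isNormalIn_residual [Finite T] (hS : IsPGroup p S) (hE : E.IsWeaklyNormalIn F p) :
    (PPrimeResidual.residual E p).IsNormalIn F p := by
  have hT := hE.2.2.2.1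
  have hTS := hT.1
  have hpT : IsPGroup p T := hS.to_le hTS
  refine ⟨⟨PPrimeResidual.isSaturated_residual hpT hE.1, hE.2.1,
    fun P φ hφ => hE.2.2.1 P hφ.1, hT, transports_residual hE, fun P hP φ hφ => ?_⟩, fun α hα => ?_⟩
  · obtain ⟨a, ha, φ₁, hφ₁, he⟩ := hE.2.2.2.2.2 P hP φ hφ
    obtain ⟨β, hβ, φ₀, hφ₀, he'⟩ := frattini_minimalPrimeToP hpT hE.1 hφ₁ P le_rfl hP
    refine ⟨a * β, mul_mem ha (autGroup_le_of_subsystem hE.2.2.1 le_rfl hβ), φ₀,
      PPrimeResidual.minimal_le_residual P hφ₀, fun x hx => ?_⟩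
    rw [MulAut.mul_apply, he x (apply_mem hφ₁ x)]
    exact congrArg (fun s : T => ((a s : T) : Ω)) (Subtype.ext (he' x hx))
  · have hext : PPrimeResidual.gamma E p ≤ (extSystem hE).autGroup T :=
      (Subgroup.closure_le _).2 fun b ⟨hb, R, hR, φ₀, hφ₀, hv⟩ =>
        mem_extSystem_of_agree hS hE hR hb hφ₀ hv
    obtain ⟨Φ, hΦ, hΦe, hΦc⟩ := ((mem_autGroup_iff le_rfl).1
      (hext ((PPrimeResidual.mem_autGroup_residual_iff α).1 hα))).2 (isCentric_self E)
    have hTCS : T ⊔ centralizerIn S T ≤ S := sup_le hTS (centralizerIn_le S T)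
    have hΦr : Φ.range = T ⊔ centralizerIn S T := by
      refine range_eq_of_le hΦ hTCS (forall_sup_mem Φ (fun x => ?_) (fun c => ?_)) le_rfl
      · rw [hΦe]
        exact Subgroup.mem_sup_left (α x).2
      · rw [← mul_inv_cancel_left (c : Ω) (Φ _)]
        exact mul_mem (Subgroup.mem_sup_right c.2) (Subgroup.mem_sup_left (hΦc c))
    refine ⟨toAut hΦ hΦr, toAut_mem hΦ hΦr, hΦe, fun c hc => ⟨hΦc ⟨c, hc⟩, ?_⟩⟩
    refine mul_mem (Subgroup.inv_mem _ hc.2) (Subgroup.mem_centralizer_iff.2 fun t ht => ?_)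
    obtain ⟨x, hx⟩ := α.surjective ⟨t, ht⟩
    have h1 := congrArg Φ (Subtype.ext (comm_cent x.2 hc) :
      Subgroup.inclusion (le_sup_left : T ≤ T ⊔ centralizerIn S T) x * c =
        c * Subgroup.inclusion le_sup_left x)
    have h2 : ((α x : T) : Ω) = t := congrArg Subtype.val hx
    rw [map_mul, map_mul, hΦe] at h1
    rw [← h2]
    exact h1

end Cfsg.Agent.Fusion.ResidualNormal
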