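import Cfsg.Agent.Lib.Fusion.Iso
import Cfsg.Agent.Lib.Fusion.Constructions
import Cfsg.Agent.Lib.Fusion.Hyperfocal
import Cfsg.Agent.Lib.Fusion.Factor

/-!
Transport of normal, subnormal, simple and quasisimple subsystems along isomorphisms of fusion systems.
-/

set_option autoImplicit false
set_option linter.unusedSectionVars false

namespace Cfsg.Agent.Fusion.Transport

open Cfsg Cfsg.FusionSystem Cfsg.Agent.Fusion

universe u v w

variable {Ω : Type u} [Group Ω] {S : Subgroup Ω} {Ω' : Type v} [Group Ω'] {S' : Subgroup Ω'}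
  {F : FusionSystem S} {F' : FusionSystem S'} {α : S →* Ω'}

theorem subgroupOf_bot_ker {α : S →* Ω'} (hα : Function.Injective α) (s : S) :
    α s = 1 ↔ (s : Ω) ∈ (⊥ : Subgroup Ω) := by
  rw [Subgroup.mem_bot, map_eq_one_iff α hα, OneMemClass.coe_eq_one]

theorem imageAlong_self (α : S →* Ω') : imageAlong α S = α.range := by
  rw [imageAlong, Subgroup.subgroupOf_self, MonoidHom.range_eq_map]

theorem imageAlong_restrict {T P : Subgroup Ω} (hT : T ≤ S) (hP : P ≤ T) :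
    imageAlong (α.comp (Subgroup.inclusion hT)) P = imageAlong α P := by
  ext y
  rw [mem_imageAlong hP, mem_imageAlong (hP.trans hT)]
  rfl

theorem range_restrict {T : Subgroup Ω} (hT : T ≤ S) :
    (α.comp (Subgroup.inclusion hT)).range = imageAlong α T := by
  rw [← imageAlong_self, imageAlong_restrict hT le_rfl]

theorem induced_unique {P : Subgroup Ω} {φ : P →* Ω} {P' : Subgroup Ω'} (hP' : imageAlong α P = P')
    {φ' φ'' : P' →* Ω'} (h' : InducedAlong α φ φ') (h'' : InducedAlong α φ φ'') : φ' = φ'' := by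
  obtain ⟨hP, _, _, h1⟩ := h'
  obtain ⟨_, _, _, h2⟩ := h''
  refine MonoidHom.ext fun y => ?_
  obtain ⟨x, hx⟩ := (mem_imageAlong hP).1 (hP'.ge y.2)
  rw [show y = ⟨α ⟨x, hP x.2⟩, hx.symm ▸ y.2⟩ from Subtype.ext hx.symm]
  exact (h1 x).trans (h2 x).symm

theorem hom_fwd (h : IsIsoAlong F F' α) {P : Subgroup Ω} {P' : Subgroup Ω'} (hP' : imageAlong α P = P')
    {φ : P →* Ω} (hφ : φ ∈ F.Hom P) : ∃ φ' ∈ F'.Hom P', InducedAlong α φ φ' := by
  subst hP'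
  exact ⟨_, h.trans_mem hφ, dom_le hφ, apply_mem hφ, fun x => (mem_imageAlong (dom_le hφ)).2 ⟨x, rfl⟩,
    fun x => transHom_apply h.inj _ _ x⟩

theorem hom_bwd (h : IsIsoAlong F F' α) {P : Subgroup Ω} {P' : Subgroup Ω'} (hP : P ≤ S)
    (hP' : imageAlong α P = P') {φ' : P' →* Ω'} (hφ' : φ' ∈ F'.Hom P') :
    ∃ φ ∈ F.Hom P, InducedAlong α φ φ' := by
  subst hP'
  obtain ⟨φ, hφ, hφS, hx⟩ := h.exists_hom hP hφ'
  exact ⟨φ, hφ, hP, hφS, fun x => (mem_imageAlong hP).2 ⟨x, rfl⟩, fun x => (hx x).symm⟩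

theorem mem_fwd (h : IsIsoAlong F F' α) {P : Subgroup Ω} {P' : Subgroup Ω'} (hP' : imageAlong α P = P')
    {φ : P →* Ω} {φ' : P' →* Ω'} (hφ : φ ∈ F.Hom P) (hi : InducedAlong α φ φ') : φ' ∈ F'.Hom P' := by
  obtain ⟨χ, hχ, hi'⟩ := hom_fwd h hP' hφ
  rwa [induced_unique hP' hi hi']

theorem mem_bwd (h : IsIsoAlong F F' α) {P : Subgroup Ω} {P' : Subgroup Ω'} (hP' : imageAlong α P = P')
    {φ : P →* Ω} {φ' : P' →* Ω'} (hφ' : φ' ∈ F'.Hom P') (hi : InducedAlong α φ φ') : φ ∈ F.Hom P := by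
  obtain ⟨hP, hφS, h1, hx⟩ := hi
  obtain ⟨χ, hχ, _, hχS, _, hy⟩ := hom_bwd h hP hP' hφ'
  convert hχ using 1
  exact MonoidHom.ext fun x => congrArg Subtype.val (h.inj ((hx x).symm.trans (hy x)))

/-- An isomorphism is a factor system modulo the trivial subgroup. -/
theorem isFactorSystem (h : IsIsoAlong F F' α) : F.IsFactorSystem ⊥ α F' := by
  refine ⟨bot_le, subgroupOf_bot_ker h.inj, h.range_eq, fun P' φ' => ⟨fun hφ' => ?_, ?_⟩⟩
  · have hP' := dom_le hφ'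
    refine ⟨hP', hom_bwd h (preimageAlong_le α P') ?_ hφ'⟩
    exact image_preimage h.range_eq hP'
  · rintro ⟨hP', φ, hφ, hi⟩
    exact mem_fwd h (image_preimage h.range_eq hP') hφ hi

theorem symm_hom_ex (h : IsIsoAlong F F' α) (y : S') : ∃ s : S, α s = y := h.range_eq.ge y.2

/-- The inverse of an isomorphism. -/
theorem exists_symm (h : IsIsoAlong F F' α) :
    ∃ β : S' →* Ω, IsIsoAlong F' F β ∧ (∀ (s : S) (hs : α s ∈ S'), β ⟨α s, hs⟩ = s) ∧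
      ∀ P : Subgroup Ω, P ≤ S → imageAlong β (imageAlong α P) = P := by
  let a := MonoidHom.ofInjective h.inj
  let β : S' →* Ω := S.subtype.comp (a.symm.toMonoidHom.comp (Subgroup.inclusion h.range_eq.ge))
  have hβ : ∀ (s : S) (hs : α s ∈ S'), β ⟨α s, hs⟩ = s := fun s hs => by
    show ((a.symm ⟨α s, _⟩ : S) : Ω) = s
    rw [show (⟨α s, h.range_eq.ge hs⟩ : α.range) = a s from rfl, a.symm_apply_apply]
  have himg : ∀ P : Subgroup Ω, P ≤ S → imageAlong β (imageAlong α P) = P := by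
    intro P hP
    ext x
    rw [mem_imageAlong (h.img_le P)]
    constructor
    · rintro ⟨⟨y, hy⟩, rfl⟩
      obtain ⟨z, rfl⟩ := (mem_imageAlong hP).1 hy
      rw [hβ]
      exact z.2
    · intro hx
      exact ⟨⟨α ⟨x, hP hx⟩, (mem_imageAlong hP).2 ⟨⟨x, hx⟩, rfl⟩⟩, hβ _ _⟩
  have hinj : Function.Injective β := fun x y hxy => by
    obtain ⟨s, hs⟩ := symm_hom_ex h x
    obtain ⟨t, ht⟩ := symm_hom_ex h y
    have hx : x = ⟨α s, hs ▸ x.2⟩ := Subtype.ext hs.symm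
    have hy : y = ⟨α t, ht ▸ y.2⟩ := Subtype.ext ht.symm
    rw [hx, hy, hβ, hβ] at hxy
    rw [hx, hy]
    exact Subtype.ext (congrArg α (Subtype.ext hxy))
  have hr : β.range = S :=
    (imageAlong_self β).symm.trans
      ((congrArg (imageAlong β) (h.range_eq.symm.trans (imageAlong_self α).symm)).trans (himg S le_rfl))
  refine ⟨β, ⟨hinj, hr, fun {P'} hP' φ' hφ' => ?_⟩, hβ, himg⟩
  obtain ⟨P, hP, rfl⟩ := h.exists_preimage hP'
  set ψ := transHom hinj hP' φ' hφ' with hψ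
  have hψS : ∀ x, ψ x ∈ S := fun x => hr.le (MonoidHom.mem_range.2 ⟨_, rfl⟩)
  let φ : P →* Ω := ψ.comp (Subgroup.inclusion (himg P hP).ge)
  have hi : InducedAlong α φ φ' := by
    refine ⟨hP, fun x => hψS _, fun x => (mem_imageAlong hP).2 ⟨x, rfl⟩, fun x => ?_⟩
    have hx : Subgroup.inclusion (himg P hP).ge x = imgEquiv hinj hP' ⟨α ⟨x, hP x.2⟩, (mem_imageAlong hP).2 ⟨x, rfl⟩⟩ :=
      Subtype.ext (hβ ⟨x, hP x.2⟩ (h.img_le P ((mem_imageAlong hP).2 ⟨x, rfl⟩))).symm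
    obtain ⟨s, hs⟩ := symm_hom_ex h ⟨_, hφ' ⟨α ⟨x, hP x.2⟩, (mem_imageAlong hP).2 ⟨x, rfl⟩⟩⟩
    refine hs.symm.trans (congrArg α (Subtype.ext ?_))
    show (s : Ω) = ψ _
    rw [hx, hψ, transHom_apply, ← hβ s (hs ▸ hφ' _)]
    exact congrArg β (Subtype.ext hs)
  constructor
  · intro hm
    have hm' : φ ∈ F.Hom P := mem_bwd h rfl hm hi
    exact mem_congr hm' (himg P hP) fun x hx => rfl
  · intro hm
    exact mem_fwd h rfl (mem_congr hm (himg P hP).symm fun x hx => rfl) hi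

theorem isSaturated_fwd [Finite S] {p : ℕ} [Fact p.Prime] (h : IsIsoAlong F F' α)
    (hF : F.IsSaturated p) : F'.IsSaturated p := by
  obtain ⟨β, hβ, -, -⟩ := exists_symm h
  have : Finite S' := Finite.of_injective
    (fun x : S' => (⟨β x, hβ.range_eq.le ⟨x, rfl⟩⟩ : S)) fun x y hxy => hβ.inj (congrArg Subtype.val hxy)
  exact hβ.isSaturated hF

theorem preimage_congr {Ω₂ : Type w} [Group Ω₂] {S₁ : Subgroup Ω'} {θ₁ : S →* Ω'} {θ₂ : S →* Ω₂}
    {β : S₁ →* Ω₂} (hinj : Function.Injective β) (hθ : ∀ s : S, ∃ hs : θ₁ s ∈ S₁, β ⟨θ₁ s, hs⟩ = θ₂ s)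
    {P₁ : Subgroup Ω'} (hP₁ : P₁ ≤ S₁) :
    preimageAlong θ₂ (imageAlong β P₁) = preimageAlong θ₁ P₁ := by
  ext x
  rw [mem_preimageAlong, mem_preimageAlong]
  refine exists_congr fun hx => ?_
  obtain ⟨hs, he⟩ := hθ ⟨x, hx⟩
  rw [← he, mem_imageAlong hP₁]
  constructor
  · rintro ⟨y, hy⟩
    have h2 : (y : Ω') = θ₁ ⟨x, hx⟩ :=
      Subtype.ext_iff.1 (hinj hy)
    exact h2 ▸ y.2
  · exact fun hm => ⟨⟨_, hm⟩, rfl⟩

/-- Two factor systems modulo one subgroup are isomorphic. -/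
theorem isIsoAlong_of_factors {Ω₂ : Type w} [Group Ω₂] {S₂ : Subgroup Ω₂} {S₀ : Subgroup Ω}
    {θ₁ : S →* Ω'} {E₁ : FusionSystem S'} {θ₂ : S →* Ω₂} {E₂ : FusionSystem S₂}
    (h₁ : F.IsFactorSystem S₀ θ₁ E₁) (h₂ : F.IsFactorSystem S₀ θ₂ E₂) :
    ∃ β : S' →* Ω₂, IsIsoAlong E₁ E₂ β ∧ ∀ s : S, ∃ hs : θ₁ s ∈ S', β ⟨θ₁ s, hs⟩ = θ₂ s := by
  obtain ⟨-, hk₁, hr₁, hm₁⟩ := h₁
  obtain ⟨-, hk₂, hr₂, hm₂⟩ := h₂
  let q : S →* S' := θ₁.codRestrict S' fun s => hr₁.le ⟨s, rfl⟩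
  have hq : Function.Surjective q := fun y => by
    obtain ⟨s, hs⟩ := hr₁.ge y.2
    exact ⟨s, Subtype.ext hs⟩
  let β : S' →* Ω₂ := q.liftOfSurjective hq ⟨θ₂, fun s hs => (hk₂ s).2 ((hk₁ s).1 (congrArg Subtype.val hs))⟩
  have hβ : ∀ s, β (q s) = θ₂ s := fun s => MonoidHom.liftOfRightInverse_comp_apply _ _ _ _ s
  have hθ : ∀ s : S, ∃ hs : θ₁ s ∈ S', β ⟨θ₁ s, hs⟩ = θ₂ s := fun s => ⟨_, hβ s⟩
  have hinj : Function.Injective β := by
    rw [injective_iff_map_eq_one]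
    intro y hy
    obtain ⟨s, rfl⟩ := hq y
    rw [hβ] at hy
    exact Subtype.ext ((hk₁ s).2 ((hk₂ s).1 hy))
  have hr : β.range = S₂ := by
    rw [← hr₂]
    ext y
    constructor
    · rintro ⟨z, rfl⟩; obtain ⟨s, rfl⟩ := hq z; exact ⟨s, (hβ s).symm⟩
    · rintro ⟨s, rfl⟩; exact ⟨q s, hβ s⟩
  refine ⟨β, ⟨hinj, hr, fun {P₁} hP₁ φ₁ hφ₁ => ?_⟩, hθ⟩
  rw [hm₁, hm₂, preimage_congr hinj hθ hP₁]
  have key : ∀ φ : preimageAlong θ₁ P₁ →* Ω,
      InducedAlong θ₁ φ φ₁ ↔ InducedAlong θ₂ φ (transHom hinj hP₁ φ₁ hφ₁) := by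
    intro φ
    constructor
    · rintro ⟨hP, hφS, hP', hx⟩
      refine ⟨hP, hφS, fun x => ?_, fun x => ?_⟩
      · obtain ⟨hs, he⟩ := hθ ⟨x, hP x.2⟩
        exact (mem_imageAlong hP₁).2 ⟨⟨_, hP' x⟩, he⟩
      · obtain ⟨hs, he⟩ := hθ ⟨x, hP x.2⟩
        obtain ⟨hs', he'⟩ := hθ ⟨φ x, hφS x⟩
        refine Eq.trans (congrArg (transHom hinj hP₁ φ₁ hφ₁) (Subtype.ext he.symm :
          _ = imgEquiv hinj hP₁ ⟨_, hP' x⟩)) ?_
        rw [transHom_apply, ← he']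
        exact congrArg β (Subtype.ext (hx x))
    · rintro ⟨hP, hφS, hP', hx⟩
      refine ⟨hP, hφS, fun x => (mem_preimageAlong.1 x.2).2, fun x => ?_⟩
      obtain ⟨hs, he⟩ := hθ ⟨x, hP x.2⟩
      obtain ⟨hs', he'⟩ := hθ ⟨φ x, hφS x⟩
      have h1 := hx x
      rw [show (⟨θ₂ ⟨x, hP x.2⟩, hP' x⟩ : imageAlong β P₁) =
        imgEquiv hinj hP₁ ⟨θ₁ ⟨x, hP x.2⟩, (mem_preimageAlong.1 x.2).2⟩ from Subtype.ext he.symm,
        transHom_apply, ← he'] at h1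
      exact congrArg Subtype.val (hinj h1)
  simp only [key]
  exact and_congr_left fun _ => ⟨fun _ => (imageAlong_le_range β P₁).trans hr.le, fun _ => hP₁⟩

/-- The composite of an isomorphism and a factor system. -/
theorem factor_comp {Ω₂ : Type w} [Group Ω₂] {S₂ : Subgroup Ω₂} {E₂ : FusionSystem S₂}
    (h : IsIsoAlong F F' α) {Z : Subgroup Ω} (hZ : Z ≤ S) {θ : S' →* Ω₂}
    (hE : F'.IsFactorSystem (imageAlong α Z) θ E₂) :
    F.IsFactorSystem Z (θ.comp (α.codRestrict S' fun s => h.range_eq.le ⟨s, rfl⟩)) E₂ := by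
  obtain ⟨-, hk, hr, hm⟩ := hE
  set θ' := θ.comp (α.codRestrict S' fun s => h.range_eq.le ⟨s, rfl⟩) with hθ'
  have hθ'v : ∀ s, θ' s = θ ⟨α s, h.range_eq.le ⟨s, rfl⟩⟩ := fun s => rfl
  have himg : ∀ P₂ : Subgroup Ω₂, imageAlong α (preimageAlong θ' P₂) = preimageAlong θ P₂ := by
    intro P₂
    ext y
    rw [mem_imageAlong (preimageAlong_le θ' P₂), mem_preimageAlong]
    constructor
    · rintro ⟨x, rfl⟩
      exact ⟨_, (mem_preimageAlong.1 x.2).2⟩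
    · rintro ⟨hy, hy'⟩
      obtain ⟨s, hs⟩ := h.range_eq.ge hy
      refine ⟨⟨s, mem_preimageAlong.2 ⟨s.2, ?_⟩⟩, hs⟩
      convert hy' using 1
      exact congrArg θ (Subtype.ext hs)
  refine ⟨hZ, fun s => ?_, ?_, fun P₂ φ₂ => ?_⟩
  · rw [hθ'v, hk, mem_imageAlong hZ]
    constructor
    · rintro ⟨z, hz⟩
      exact (congrArg Subtype.val (h.inj hz) : (z : Ω) = s) ▸ z.2
    · exact fun hs => ⟨⟨s, hs⟩, rfl⟩
  · rw [← hr]
    ext y
    constructor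
    · rintro ⟨s, rfl⟩; exact ⟨_, rfl⟩
    · rintro ⟨z, rfl⟩
      obtain ⟨s, hs⟩ := h.range_eq.ge z.2
      exact ⟨s, congrArg θ (Subtype.ext hs)⟩
  · rw [hm]
    refine and_congr_right fun _ => ⟨?_, ?_⟩
    · rintro ⟨φ', hφ', hP', hφ'S, hP2', hx'⟩
      obtain ⟨φ, hφ, hP, hφS, hP', hx⟩ := hom_bwd h (preimageAlong_le θ' P₂) (himg P₂) hφ'
      refine ⟨φ, hφ, hP, hφS, fun x => (mem_preimageAlong.1 x.2).2, fun x => ?_⟩
      refine (hx' ⟨α ⟨x, hP x.2⟩, hP' x⟩).trans ?_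
      exact congrArg θ (Subtype.ext (hx x))
    · rintro ⟨φ, hφ, hP, hφS, hP2, hx⟩
      obtain ⟨φ', hφ', _, _, hP', hx'⟩ := hom_fwd h (himg P₂) hφ
      refine ⟨φ', hφ', dom_le hφ', apply_mem hφ', fun y => (mem_preimageAlong.1 y.2).2, fun y => ?_⟩
      obtain ⟨x, hxy⟩ := (mem_imageAlong (preimageAlong_le θ' P₂)).1 ((himg P₂).ge y.2)
      obtain rfl : y = ⟨α ⟨x, hP x.2⟩, hP' x⟩ := Subtype.ext hxy.symm
      refine (hx x).trans ?_
      exact congrArg θ (Subtype.ext (hx' x).symm)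

theorem aut_fwd (h : IsIsoAlong F F' α) {P : Subgroup Ω} {P' : Subgroup Ω'} (hP : P ≤ S)
    (hP' : imageAlong α P = P') {β : MulAut P} (hβ : β ∈ F.autGroup P) :
    ∃ β' ∈ F'.autGroup P', ∀ (x : P) (hx : α ⟨x, hP x.2⟩ ∈ P'),
      ((β' ⟨α ⟨x, hP x.2⟩, hx⟩ : P') : Ω') = α ⟨β x, hP (β x).2⟩ := by
  subst hP'
  refine ⟨MulAut.congr (imgEquiv h.inj hP) β, (h.map_autGroup hP).le ⟨β, hβ, rfl⟩, fun x hx => ?_⟩
  show ((imgEquiv h.inj hP (β ((imgEquiv h.inj hP).symm _)) : imageAlong α P) : Ω') = _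
  rw [show (⟨α ⟨x, hP x.2⟩, hx⟩ : imageAlong α P) = imgEquiv h.inj hP x from rfl,
    MulEquiv.symm_apply_apply]
  rfl

theorem aut_bwd (h : IsIsoAlong F F' α) {P : Subgroup Ω} {P' : Subgroup Ω'} (hP : P ≤ S)
    (hP' : imageAlong α P = P') {β' : MulAut P'} (hβ' : β' ∈ F'.autGroup P') :
    ∃ β ∈ F.autGroup P, ∀ (x : P) (hx : α ⟨x, hP x.2⟩ ∈ P'),
      ((β' ⟨α ⟨x, hP x.2⟩, hx⟩ : P') : Ω') = α ⟨β x, hP (β x).2⟩ := by
  subst hP'
  obtain ⟨β, hβ, rfl⟩ := (h.map_autGroup hP).ge hβ'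
  refine ⟨β, hβ, fun x hx => ?_⟩
  show ((imgEquiv h.inj hP (β ((imgEquiv h.inj hP).symm _)) : imageAlong α P) : Ω') = _
  rw [show (⟨α ⟨x, hP x.2⟩, hx⟩ : imageAlong α P) = imgEquiv h.inj hP x from rfl,
    MulEquiv.symm_apply_apply]
  rfl

theorem imageAlong_inj_mem (h : IsIsoAlong F F' α) {P : Subgroup Ω} (hP : P ≤ S) {s : S}
    (hs : α s ∈ imageAlong α P) : (s : Ω) ∈ P := by
  obtain ⟨z, hz⟩ := (mem_imageAlong hP).1 hs
  exact (congrArg Subtype.val (h.inj hz) : (z : Ω) = s) ▸ z.2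

theorem stronglyClosed_fwd (h : IsIsoAlong F F' α) {T : Subgroup Ω} (hT : F.StronglyClosed T) :
    F'.StronglyClosed (imageAlong α T) := by
  refine ⟨h.img_le T, fun R' hR' φ' hφ' y => ?_⟩
  obtain ⟨R, hR, rfl⟩ := h.exists_preimage (hR'.trans (h.img_le T))
  obtain ⟨φ, hφ, _, hφS, _, hx⟩ := hom_bwd h hR rfl hφ'
  obtain ⟨x, hxy⟩ := (mem_imageAlong hR).1 y.2
  obtain rfl : y = ⟨α ⟨x, hR x.2⟩, (mem_imageAlong hR).2 ⟨x, rfl⟩⟩ := Subtype.ext hxy.symm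
  rw [hx x]
  exact (mem_imageAlong hT.1).2 ⟨⟨φ x, hT.2 R (h.le_of_img_le hR hR') φ hφ x⟩, rfl⟩

section Sub

variable {T : Subgroup Ω} {E : FusionSystem T} {T' : Subgroup Ω'} {E' : FusionSystem T'}

theorem imageAlong_sub (hTS : T ≤ S) (hE : IsIsoAlong E E' (α.comp (Subgroup.inclusion hTS))) :
    imageAlong α T = T' := by rw [← range_restrict hTS, hE.range_eq]

/-- Normality is preserved by isomorphisms. -/
theorem isNormalIn_fwd [Finite S] {p : ℕ} [Fact p.Prime] (h : IsIsoAlong F F' α) (hTS : T ≤ S)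
    (hE : IsIsoAlong E E' (α.comp (Subgroup.inclusion hTS))) (hn : E.IsNormalIn F p) :
    E'.IsNormalIn F' p := by
  obtain ⟨⟨hEs, hFs, hsub, hclosed, hinv, hfrat⟩, hext⟩ := hn
  have := finite_of_le hTS
  have hT' := imageAlong_sub hTS hE
  refine ⟨⟨isSaturated_fwd hE hEs, isSaturated_fwd h hFs, ?_, hT' ▸ stronglyClosed_fwd h hclosed, ?_, ?_⟩, ?_⟩
  · intro P' φ' hφ'
    obtain ⟨P, hP, rfl⟩ := hE.exists_preimage (dom_le hφ')
    obtain ⟨φ, hφ, _, hφT, hP', hx⟩ := hom_bwd hE hP rfl hφ'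
    exact mem_fwd h (imageAlong_restrict hTS hP).symm (hsub P hφ)
      ⟨hP.trans hTS, fun x => hTS (hφT x), hP', hx⟩
  · intro P' hP'T φ' hφ' a' ha'
    obtain ⟨P, hP, hPP⟩ := hE.exists_preimage hP'T
    obtain ⟨φ, hφ, _, hφT, hmemP, hx⟩ := hom_bwd hE hP hPP hφ'
    obtain ⟨a, ha, hav⟩ := aut_bwd h hTS hT' ha'
    obtain ⟨χ, hχ, hχv⟩ := hinv P hP φ hφ a ha
    set R := (P.subgroupOf T).map (T.subtype.comp a.toMonoidHom) with hR
    have hav' : ∀ (x : T) (hx : α ⟨x, hTS x.2⟩ ∈ T'),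
        ((a' ⟨α ⟨x, hTS x.2⟩, hx⟩ : T') : Ω') = α ⟨a x, hTS (a x).2⟩ := hav
    have hmem : ∀ x : T, α ⟨x, hTS x.2⟩ ∈ T' := fun x => hT'.le ((mem_imageAlong hTS).2 ⟨x, rfl⟩)
    have hRR : imageAlong (α.comp (Subgroup.inclusion hTS)) R =
        (P'.subgroupOf T').map (T'.subtype.comp a'.toMonoidHom) := by
      ext y
      rw [mem_imageAlong (dom_le hχ)]
      constructor
      · rintro ⟨⟨_, x, hxP, rfl⟩, rfl⟩
        refine ⟨⟨α ⟨x, hTS x.2⟩, hmem x⟩, hPP.le ((mem_imageAlong hP).2 ⟨⟨x, hxP⟩, rfl⟩), ?_⟩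
        exact hav' x (hmem x)
      · rintro ⟨⟨y', hy'⟩, hy'P, rfl⟩
        obtain ⟨x, hxy⟩ := (mem_imageAlong hP).1 (hPP.ge hy'P)
        have hxy' : α ⟨x, hTS (hP x.2)⟩ = y' := hxy
        subst hxy'
        exact ⟨⟨_, ⟨x, hP x.2⟩, x.2, rfl⟩, (hav' ⟨x, hP x.2⟩ hy').symm⟩
    obtain ⟨χ', hχ', _, hχT, hmR, hχx⟩ := hom_fwd hE hRR hχ
    refine ⟨χ', hχ', fun y hφy hαy => ?_⟩
    obtain ⟨x, hxy⟩ := (mem_imageAlong hP).1 (hPP.ge y.2)
    obtain rfl : y = ⟨_, hmemP x⟩ := Subtype.ext hxy.symm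
    have hφT' : φ x ∈ T := hφT x
    have hax : ((a ⟨x, hP x.2⟩ : T) : Ω) ∈ R := ⟨⟨x, hP x.2⟩, x.2, rfl⟩
    have hc := hχx ⟨_, hax⟩
    have hs := hχv x hφT' hax
    have h1 : ((a' ⟨α ⟨x, hTS (hP x.2)⟩, hmem ⟨x, hP x.2⟩⟩ : T') : Ω') = α ⟨_, hTS (a ⟨x, hP x.2⟩).2⟩ :=
      hav' ⟨x, hP x.2⟩ _
    refine Eq.trans ?_ (hc.trans ?_)
    · exact congrArg χ' (Subtype.ext h1)
    refine Eq.trans ?_ ((hav' ⟨φ x, hφT'⟩ (hmem _)).symm.trans ?_)
    · exact congrArg α (Subtype.ext hs)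
    · exact congrArg (fun z : T' => ((a' z : T') : Ω')) (Subtype.ext (hx x).symm)
  · intro P' hP'T φ' hφ'
    obtain ⟨P, hP, hPP⟩ := hE.exists_preimage hP'T
    rw [imageAlong_restrict hTS hP] at hPP
    obtain ⟨φ, hφ, hPS, hφS, hmemP, hx⟩ := hom_bwd h (hP.trans hTS) hPP hφ'
    obtain ⟨a, ha, φ₀, hφ₀, heq⟩ := hfrat P hP φ hφ
    obtain ⟨a', ha', hav⟩ := aut_fwd h hTS hT' ha
    obtain ⟨φ₀', hφ₀', _, hφ₀T, _, hx₀⟩ := hom_fwd hE ((imageAlong_restrict hTS hP).trans hPP) hφ₀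
    refine ⟨a', ha', φ₀', hφ₀', fun y hy => ?_⟩
    obtain ⟨x, hxy⟩ := (mem_imageAlong hPS).1 (hPP.ge y.2)
    obtain rfl : y = ⟨_, hmemP x⟩ := Subtype.ext hxy.symm
    have hm : α ⟨φ₀ x, hTS (hφ₀T x)⟩ ∈ T' := hT'.le ((mem_imageAlong hTS).2 ⟨⟨_, hφ₀T x⟩, rfl⟩)
    refine (hx x).trans ((congrArg α (Subtype.ext (heq x (hφ₀T x)))).trans
      ((hav ⟨_, hφ₀T x⟩ hm).symm.trans ?_))
    exact congrArg (fun z : T' => ((a' z : T') : Ω')) (Subtype.ext (hx₀ x).symm)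
  · intro a' ha'
    obtain ⟨a, ha, hav⟩ := aut_bwd hE le_rfl (by rw [imageAlong_self, hE.range_eq]) ha'
    obtain ⟨b, hb, hb1, hb2⟩ := hext a ha
    have hC : centralizerIn S T ≤ S := centralizerIn_le S T
    have hTC : T ⊔ centralizerIn S T ≤ S := sup_le hTS hC
    have hCC : imageAlong α (centralizerIn S T) = centralizerIn S' T' := by
      rw [h.img_centralizerIn hTS, hT']
    have hTC' : imageAlong α (T ⊔ centralizerIn S T) = T' ⊔ centralizerIn S' T' := by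
      rw [imageAlong_sup hTS hC, hT', hCC]
    obtain ⟨b', hb', hbv⟩ := aut_fwd h hTC hTC' hb
    refine ⟨b', hb', fun y => ?_, fun c hc => ?_⟩
    · obtain ⟨y, hy⟩ := y
      obtain ⟨x, rfl⟩ := (mem_imageAlong hTS).1 (hT'.ge hy)
      refine (hbv (Subgroup.inclusion le_sup_left x) (Subgroup.mem_sup_left hy)).trans ?_
      refine Eq.trans ?_ (hav x hy).symm
      exact congrArg α (Subtype.ext (hb1 x))
    · obtain ⟨c, hcm⟩ := c
      obtain ⟨x, rfl⟩ := (mem_imageAlong hC).1 (hCC.ge hc)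
      have hz := hb2 (Subgroup.inclusion le_sup_right x) x.2
      have hv : ((b' ⟨α ⟨x, hC x.2⟩, hcm⟩ : ↥(T' ⊔ centralizerIn S' T')) : Ω') =
          α ⟨_, hTC (b (Subgroup.inclusion le_sup_right x)).2⟩ :=
        hbv (Subgroup.inclusion le_sup_right x) _
      show (α ⟨x, hC x.2⟩)⁻¹ * ((b' _ : ↥(T' ⊔ centralizerIn S' T')) : Ω') ∈ _
      rw [hv, ← map_inv, ← map_mul]
      refine ⟨hT'.le ((mem_imageAlong hTS).2 ⟨⟨_, hz.1⟩, rfl⟩), Subgroup.mem_centralizer_iff.2 fun y hy => ?_⟩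
      obtain ⟨t, rfl⟩ := (mem_imageAlong hTS).1 (hT'.ge hy)
      rw [← map_mul α, ← map_mul α]
      exact congrArg α (Subtype.ext (Subgroup.mem_centralizer_iff.1 hz.2 t t.2))

end Sub

theorem eq_of_hom {T : Subgroup Ω} {E : FusionSystem T} (hT : T = S) (hhom : ∀ P, E.Hom P = F.Hom P)
    (p : ℕ) : E.IsSubnormalIn F p := by
  subst hT
  obtain rfl : E = F := by
    cases E; cases F
    congr
    exact funext hhom
  exact IsSubnormalIn.refl _ _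

theorem hom_eq_of_iso {F₁ F₂ : FusionSystem S'} {α₁ α₂ : S →* Ω'} (h₁ : IsIsoAlong F F₁ α₁)
    (h₂ : IsIsoAlong F F₂ α₂) (he : α₁ = α₂) (P' : Subgroup Ω') : F₁.Hom P' = F₂.Hom P' := by
  subst he
  ext φ'
  rw [(isFactorSystem h₁).2.2.2 P' φ', (isFactorSystem h₂).2.2.2 P' φ']

/-- A system is its own factor system modulo the trivial subgroup. -/
theorem isFactorSystem_self {T : Subgroup Ω} (E : FusionSystem T) : E.IsFactorSystem ⊥ T.subtype E := by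
  refine ⟨bot_le, fun s => by simp [Subgroup.mem_bot], T.range_subtype, fun P' φ' => ⟨fun hφ' => ?_, ?_⟩⟩
  · have hP' := dom_le hφ'
    have he : preimageAlong T.subtype P' = P' := by
      rw [preimageAlong, ← Subgroup.subgroupOf, Subgroup.map_subgroupOf_eq_of_le hP']
    exact ⟨hP', φ'.comp (Subgroup.inclusion he.le), restrict_mem hφ' he.le,
      he.le.trans hP', fun x => apply_mem hφ' _, fun x => he.le x.2, fun x => rfl⟩
  · rintro ⟨hP', φ, hφ, hP, hφS, hP2, hx⟩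
    refine mem_of_le hφ (show P' ≤ preimageAlong T.subtype P' from fun x hx' =>
      mem_preimageAlong.2 ⟨hP' hx', hx'⟩) fun x => ?_
    exact hx ⟨x, _⟩

/-- The image of a subsystem. -/
theorem exists_image [Finite S] (h : IsIsoAlong F F' α) {T : Subgroup Ω} (E : FusionSystem T) (hTS : T ≤ S) :
    ∃ E' : FusionSystem (imageAlong α T), IsIsoAlong E E' (α.comp (Subgroup.inclusion hTS)) := by
  have := finite_of_le hTS
  have hk : ∀ s : T, α.comp (Subgroup.inclusion hTS) s = 1 ↔ (s : Ω) ∈ (⊥ : Subgroup Ω) :=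
    subgroupOf_bot_ker (h.inj.comp (Subgroup.inclusion_injective hTS))
  have hsc : E.StronglyClosed ⊥ := ⟨bot_le, fun R hR φ _ x => by
    obtain rfl : x = 1 := Subtype.ext (Subgroup.mem_bot.1 (hR x.2))
    rw [map_one]; exact Subgroup.one_mem _⟩
  have hf := factorSystem_spec E hsc (α.comp (Subgroup.inclusion hTS)) hk (range_restrict hTS)
  refine ⟨factorSystem E hsc _ hk (range_restrict hTS), ?_⟩
  have hid := isFactorSystem_self E
  obtain ⟨β, hβ, hθ⟩ := isIsoAlong_of_factors hid hf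
  convert hβ using 1
  refine MonoidHom.ext fun x => ?_
  obtain ⟨_, he⟩ := hθ x
  exact he.symm

theorem subnormal_le {T : Subgroup Ω} {E : FusionSystem T} {p : ℕ} (hE : E.IsSubnormalIn F p) : T ≤ S := by
  induction hE with
  | refl => exact le_rfl
  | step _ hn ih => exact ih.trans hn.1.2.2.2.1.1

/-- Subnormality is preserved by isomorphisms. -/
theorem isSubnormalIn_fwd {p : ℕ} {T : Subgroup Ω} {E : FusionSystem T}
    (hE : E.IsSubnormalIn F p) : ∀ [Finite S] [Fact p.Prime], ∀ {S' : Subgroup Ω'} {F' : FusionSystem S'} {α : S →* Ω'},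
      IsIsoAlong F F' α → ∀ (hTS : T ≤ S) {T' : Subgroup Ω'} {E' : FusionSystem T'},
        IsIsoAlong E E' (α.comp (Subgroup.inclusion hTS)) → E'.IsSubnormalIn F' p := by
  induction hE with
  | refl F p =>
    intro _ _ S' F' α h hTS T' E' hE'
    have hT : T' = S' := (imageAlong_sub hTS hE').symm.trans ((imageAlong_self α).trans h.range_eq)
    subst hT
    exact eq_of_hom rfl (hom_eq_of_iso hE' h (MonoidHom.ext fun x => rfl)) p
  | step hED hn ih =>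
    intro _ _ S' F' α h hTS T' E' hE'
    have hUS := hn.1.2.2.2.1.1
    have := finite_of_le hUS
    obtain ⟨D', hD'⟩ := exists_image h _ hUS
    exact IsSubnormalIn.step (ih hD' (subnormal_le hED) hE') (isNormalIn_fwd h hUS hD' hn)

theorem isSimple_fwd [Finite S] {p : ℕ} [Fact p.Prime] (h : IsIsoAlong F F' α) (hF : F.IsSimple p) :
    F'.IsSimple p := by
  obtain ⟨hs, hne, hmax⟩ := hF
  obtain ⟨β, hβ, hβv, himg⟩ := exists_symm h
  have : Finite S' := Finite.of_injective (fun x : S' => (⟨β x, hβ.range_eq.le ⟨x, rfl⟩⟩ : S))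
    fun x y hxy => hβ.inj (congrArg Subtype.val hxy)
  refine ⟨isSaturated_fwd h hs, fun hb => hne ?_, fun T' E' hE' => ?_⟩
  · rw [eq_bot_iff]
    intro x hx
    have h1 : α ⟨x, hx⟩ ∈ S' := h.range_eq.le ⟨_, rfl⟩
    have h2 : β ⟨α ⟨x, hx⟩, h1⟩ = x := hβv ⟨x, hx⟩ h1
    have h3 : (⟨α ⟨x, hx⟩, h1⟩ : S') = 1 := Subtype.ext (Subgroup.mem_bot.1 (hb.le h1))
    rw [h3, map_one] at h2
    exact Subgroup.mem_bot.2 h2.symm
  have hT'S : T' ≤ S' := hE'.1.2.2.2.1.1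
  obtain ⟨E, hE⟩ := exists_image hβ E' hT'S
  have hn := isNormalIn_fwd hβ hT'S hE hE'
  rcases hmax _ E hn with hb | ⟨hS, hhom⟩
  · left
    rw [eq_bot_iff]
    intro y hy
    have h1 := hb.le ((mem_imageAlong hT'S).2 ⟨⟨y, hy⟩, rfl⟩)
    exact Subgroup.mem_bot.2 (congrArg Subtype.val (hβ.inj ((Subgroup.mem_bot.1 h1).trans (map_one β).symm)))
  · have hT : T' = S' := hβ.eq_of_img_eq hT'S le_rfl (hS.trans (by rw [imageAlong_self, hβ.range_eq]))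
    subst hT
    refine Or.inr ⟨rfl, fun P' => Set.Subset.antisymm (hE'.1.2.2.1 P') fun φ' hφ' => ?_⟩
    have hP' := dom_le hφ'
    obtain ⟨φ, hφ, hi⟩ := hom_fwd hβ (P' := imageAlong β P') rfl hφ'
    have hi' : InducedAlong (β.comp (Subgroup.inclusion hT'S)) φ' φ := hi
    exact mem_bwd hE (imageAlong_restrict hT'S hP') ((hhom _).ge hφ) hi'

theorem pResidual_map {G H : Type*} [Group G] [Group H] (p : ℕ) (f : G →* H) :
    (pResidual p G).map f ≤ pResidual p H := by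
  rw [pResidual, MonoidHom.map_closure]
  refine Subgroup.closure_mono ?_
  rintro _ ⟨g, hg, rfl⟩
  exact hg.coprime_dvd_left (orderOf_map_dvd f g)

theorem hyperfocal_le_fwd (h : IsIsoAlong F F' α) (p : ℕ) :
    imageAlong α (F.hyperfocalSubgroup p) ≤ F'.hyperfocalSubgroup p := by
  intro y hy
  obtain ⟨x, rfl⟩ := (mem_imageAlong (hyperfocal_le F p)).1 hy
  suffices h1 : (F.hyperfocalSubgroup p) ≤ ((F'.hyperfocalSubgroup p).comap α).map S.subtype by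
    obtain ⟨z, hz, hzx⟩ := h1 x.2
    have : z = ⟨x, hyperfocal_le F p x.2⟩ := Subtype.ext hzx
    exact this ▸ hz
  rw [hyperfocalSubgroup, Subgroup.closure_le]
  rintro _ ⟨P, a, x, hP, ha, rfl⟩
  refine ⟨⟨_, S.mul_mem (S.inv_mem (hP x.2)) (hP ((a : MulAut P) x).2)⟩, Subgroup.subset_closure ?_, rfl⟩
  let Φ : F.autGroup P →* F'.autGroup (imageAlong α P) :=
    ((MulAut.congr (imgEquiv h.inj hP)).toMonoidHom.comp (F.autGroup P).subtype).codRestrict _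
      fun b => (h.map_autGroup hP).le ⟨b, b.2, rfl⟩
  refine ⟨imageAlong α P, Φ a, imgEquiv h.inj hP x, h.img_le P, pResidual_map p Φ ⟨a, ha, rfl⟩, ?_⟩
  show α _ = (α ⟨x, hP x.2⟩)⁻¹ * ((imgEquiv h.inj hP ((a : MulAut P) ((imgEquiv h.inj hP).symm
    (imgEquiv h.inj hP x))) : imageAlong α P) : Ω')
  rw [MulEquiv.symm_apply_apply, coe_imgEquiv, ← map_inv, ← map_mul]
  rfl

theorem hyperfocal_fwd (h : IsIsoAlong F F' α) (p : ℕ) :
    imageAlong α (F.hyperfocalSubgroup p) = F'.hyperfocalSubgroup p := by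
  refine le_antisymm (hyperfocal_le_fwd h p) ?_
  obtain ⟨β, hβ, hβv, himg⟩ := exists_symm h
  obtain ⟨P, hP, hPe⟩ := h.exists_preimage (hyperfocal_le F' p)
  rw [← hPe]
  refine imageAlong_mono ?_
  have := hyperfocal_le_fwd hβ p
  rwa [← hPe, himg P hP] at this

theorem isCentral_fwd (h : IsIsoAlong F F' α) {Q : Subgroup Ω} (hQ : F.IsCentral Q) :
    F'.IsCentral (imageAlong α Q) := by
  refine ⟨h.img_le Q, fun P' φ' hφ' => ?_⟩
  obtain ⟨P, hP, rfl⟩ := h.exists_preimage (dom_le hφ')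
  obtain ⟨φ, hφ, _, hφS, hmem, hx⟩ := hom_bwd h hP rfl hφ'
  obtain ⟨ψ, hψ, hψP, hψQ⟩ := hQ.2 P φ hφ
  obtain ⟨ψ', hψ', _, hψS, hmem', hy⟩ := hom_fwd h (imageAlong_sup hP hQ.1) hψ
  refine ⟨ψ', hψ', fun y => ?_, fun y => ?_⟩
  · obtain ⟨x, hxy⟩ := (mem_imageAlong hP).1 y.2
    obtain rfl : y = ⟨_, hmem x⟩ := Subtype.ext hxy.symm
    rw [hx x]
    exact (hy (Subgroup.inclusion le_sup_left x)).trans (congrArg α (Subtype.ext (hψP x)))
  · obtain ⟨y, hy'⟩ := y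
    obtain ⟨x, rfl⟩ := (mem_imageAlong hQ.1).1 hy'
    exact (hy (Subgroup.inclusion le_sup_right x)).trans (congrArg α (Subtype.ext (hψQ x)))

theorem center_le (F : FusionSystem S) : F.center ≤ S := sSup_le fun _ hQ => hQ.1

theorem center_le_fwd (h : IsIsoAlong F F' α) : imageAlong α F.center ≤ F'.center := by
  intro y hy
  obtain ⟨x, rfl⟩ := (mem_imageAlong (center_le F)).1 hy
  suffices h1 : F.center ≤ ((F'.center).comap α).map S.subtype by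
    obtain ⟨z, hz, hzx⟩ := h1 x.2
    have : z = ⟨x, center_le F x.2⟩ := Subtype.ext hzx
    exact this ▸ hz
  refine sSup_le fun Q hQ z hz => ⟨⟨z, hQ.1 hz⟩, ?_, rfl⟩
  have hle : imageAlong α Q ≤ F'.center := le_sSup (isCentral_fwd h hQ)
  exact hle ((mem_imageAlong hQ.1).2 ⟨⟨z, hz⟩, rfl⟩)

theorem center_fwd (h : IsIsoAlong F F' α) : imageAlong α F.center = F'.center := by
  refine le_antisymm (center_le_fwd h) ?_
  obtain ⟨β, hβ, hβv, himg⟩ := exists_symm h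
  obtain ⟨P, hP, hPe⟩ := h.exists_preimage (center_le F')
  rw [← hPe]
  refine imageAlong_mono ?_
  have := center_le_fwd hβ
  rwa [← hPe, himg P hP] at this

theorem isCentral_sup {Q₁ Q₂ : Subgroup Ω} (h₁ : F.IsCentral Q₁) (h₂ : F.IsCentral Q₂) :
    F.IsCentral (Q₁ ⊔ Q₂) := by
  refine ⟨sup_le h₁.1 h₂.1, fun P φ hφ => ?_⟩
  obtain ⟨ψ₁, hψ₁, hP₁, hQ₁⟩ := h₁.2 P φ hφ
  obtain ⟨ψ₂, hψ₂, hP₂, hQ₂⟩ := h₂.2 _ ψ₁ hψ₁
  let ψ := ψ₂.comp (Subgroup.inclusion (sup_assoc P Q₁ Q₂).ge)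
  refine ⟨ψ, restrict_mem hψ₂ _, fun x => ?_, ?_⟩
  · rw [← hP₁ x]
    exact hP₂ (Subgroup.inclusion le_sup_left x)
  · have he : ψ.comp (Subgroup.inclusion le_sup_right) = (Q₁ ⊔ Q₂).subtype := by
      refine hom_sup_ext (fun x => ?_) (fun x => ?_)
      · show ψ₂ _ = (x : Ω)
        rw [← hQ₁ x]
        exact hP₂ (Subgroup.inclusion le_sup_right x)
      · exact hQ₂ x
    exact fun x => DFunLike.congr_fun he x

theorem center_central [Finite S] (F : FusionSystem S) : F.IsCentral F.center := by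
  have hbot : F.IsCentral ⊥ := ⟨bot_le, fun P φ hφ => by
    refine ⟨φ.comp (Subgroup.inclusion (sup_bot_eq P).le), restrict_mem hφ _, fun x => rfl, fun x => ?_⟩
    obtain rfl : x = 1 := Subtype.ext (Subgroup.mem_bot.1 x.2)
    simp⟩
  have hfin : {Q : Subgroup Ω | F.IsCentral Q}.Finite := by
    refine Set.Finite.subset (Set.finite_range fun H : Subgroup S => H.map S.subtype) fun Q hQ => ?_
    exact ⟨Q.subgroupOf S, Subgroup.map_subgroupOf_eq_of_le hQ.1⟩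
  obtain ⟨C, hC⟩ := hfin.exists_maximal ⟨⊥, hbot⟩
  have : F.center = C := le_antisymm
    (sSup_le fun Q hQ => le_sup_right.trans (hC.2 (isCentral_sup hC.1 hQ) le_sup_left)) (le_sSup hC.1)
  rw [this]
  exact hC.1

theorem stronglyClosed_center [Finite S] (F : FusionSystem S) : F.StronglyClosed F.center := by
  refine ⟨center_le F, fun R hR φ hφ x => ?_⟩
  obtain ⟨ψ, -, hψR, hψC⟩ := (center_central F).2 R φ hφ
  rw [← hψR x, show ψ (Subgroup.inclusion le_sup_left x) = ψ (Subgroup.inclusion le_sup_right ⟨x, hR x.2⟩) from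
    congrArg ψ (Subtype.ext rfl), hψC]
  exact hR x.2

theorem quasisimple_fwd [Finite S] {p : ℕ} [Fact p.Prime] (h : IsIsoAlong F F' α)
    (hF : F.Quasisimple p) : F'.Quasisimple p := by
  obtain ⟨hs, hh, hsimp⟩ := hF
  refine ⟨isSaturated_fwd h hs, by rw [← hyperfocal_fwd h, hh, imageAlong_self, h.range_eq], fun E' hE' => ?_⟩
  set Z := F.center.subgroupOf S with hZ
  have hsc := stronglyClosed_center F
  have hk : ∀ s : S, QuotientGroup.mk' Z s = 1 ↔ (s : Ω) ∈ F.center := fun s => by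
    rw [QuotientGroup.mk'_apply, QuotientGroup.eq_one_iff]; rfl
  have hr : (QuotientGroup.mk' Z).range = ⊤ := MonoidHom.range_eq_top.2 (QuotientGroup.mk'_surjective _)
  have hspec := factorSystem_spec F hsc (QuotientGroup.mk' Z) hk hr
  have hsim := hsimp _ hspec
  have hE'' := factor_comp h (center_le F) (θ := QuotientGroup.mk' ((F'.center).subgroupOf S'))
    (E₂ := E') (by rw [center_fwd h]; exact hE')
  obtain ⟨β, hβ, -⟩ := isIsoAlong_of_factors hspec hE''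
  exact isSimple_fwd hβ hsim

end Cfsg.Agent.Fusion.Transport
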