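import Cfsg.Agent.Lib.Fusion.ComponentCore
import Cfsg.Agent.Lib.Fusion.CoreCentralizer
import Cfsg.Agent.Lib.Fusion.ConstrainedExtensions
import Cfsg.Agent.Lib.Fusion.PPowerIndex
import Cfsg.Agent.Lib.Fusion.ResidualNormal
import Cfsg.Agent.Lib.Fusion.SameBase
import Cfsg.Agent.Lib.Fusion.InnerType
import Cfsg.Agent.Lib.Fusion.Transport
import Cfsg.Agent.Lib.Fusion.Lift.Saturation

/-!
A saturated system is constrained exactly when it has no component. The step about central
quotients takes the invariance of the lift as a hypothesis `LiftInvariant`.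
-/

set_option autoImplicit false
set_option linter.unusedSectionVars false

namespace Cfsg.Agent.Fusion.ConstrainedComponent

open Cfsg Cfsg.FusionSystem Cfsg.Agent.Fusion

universe u

variable {Ω : Type u} [Group Ω] {S : Subgroup Ω} {F : FusionSystem S} {p : ℕ}

/-- A quasisimple system is not constrained. -/
theorem not_constrained_of_quasisimple [Finite S] [Fact p.Prime] (hS : IsPGroup p S)
    (hq : F.Quasisimple p) : ¬ F.IsConstrained p := by
  intro hc
  have hcore : F.core ≤ F.center := ComponentCore.normal_le_center hS hq (isNormal_core F)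
  have hcl := (isCentric_core hc).2 F.core (isConj_refl F (isNormal_core F).1)
  obtain ⟨-, -, hsimple⟩ := hq
  obtain ⟨-, hne, -⟩ := hsimple _ (S5148.centralQuotient_isFactor F)
  refine hne ?_
  rw [Subgroup.eq_bot_iff_forall]
  intro q _
  obtain ⟨x, rfl⟩ := QuotientGroup.mk_surjective q
  refine (QuotientGroup.eq_one_iff x).2 (hcore (hcl (mem_centralizerIn.2 ⟨x.2, fun y hy => ?_⟩)))
  exact (Subgroup.mem_centralizer_iff.1 (F.center_le_centralizer (hcore hy)) _ x.2).symm

theorem constrained_subnormal {T : Subgroup Ω} {E : FusionSystem T} (h : E.IsSubnormalIn F p) :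
    ∀ [Finite S] [Fact p.Prime], IsPGroup p S → F.IsConstrained p → E.IsConstrained p := by
  induction h with
  | refl => exact fun _ hc => hc
  | step _ hD ih =>
    intro _ _ hS hc
    have hcl := hD.1.2.2.2.1
    have := finite_of_le (Ω := Ω) hcl.1
    exact ih (hS.to_le hcl.1) (isConstrained_of_subsystem hS hc hcl _ hD.1.2.2.1 hD.1.1)

theorem subnormal_trans {T U : Subgroup Ω} {E : FusionSystem T} {D : FusionSystem U}
    (h : E.IsSubnormalIn D p) (hD : D.IsNormalIn F p) : E.IsSubnormalIn F p := .step h hD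

theorem subnormal_le {T : Subgroup Ω} {E : FusionSystem T} (h : E.IsSubnormalIn F p) : T ≤ S :=
  ComponentCore.le_of_subsystem (ComponentCore.isSubsystem_of_subnormal h)

/-- A constrained system has no component. -/
theorem no_component [Finite S] [Fact p.Prime] (hS : IsPGroup p S) (hc : F.IsConstrained p)
    {T : Subgroup Ω} {C : FusionSystem T} : ¬ C.IsComponentIn F p := fun ⟨hs, hq⟩ => by
  have := finite_of_le (Ω := Ω) (subnormal_le hs)
  exact not_constrained_of_quasisimple (hS.to_le (subnormal_le hs)) hq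
    (constrained_subnormal hs hS hc)

variable [Finite S] [Fact p.Prime]

theorem isWeaklyNormalIn_self (hF : F.IsSaturated p) : F.IsWeaklyNormalIn F p := by
  refine ⟨hF, hF, fun _ _ h => h, stronglyClosed_self F, ?_, fun P hP φ hφ =>
    ⟨1, one_mem _, φ, hφ, fun _ _ => rfl⟩⟩
  intro P hPS φ hφ α hα
  set P' := (P.subgroupOf S).map (S.subtype.comp α.toMonoidHom) with hP'
  have hP'S : P' ≤ S := by
    rintro _ ⟨x, -, rfl⟩
    exact (α x).2
  have hinv := restrict_mem ((mem_autGroup_iff le_rfl).1 (Subgroup.inv_mem _ hα)) hP'S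
  have hval : ∀ (x : P) (h : ((α ⟨x, hPS x.2⟩ : S) : Ω) ∈ P'),
      ((S.subtype.comp (α⁻¹ : MulAut S).toMonoidHom).comp (Subgroup.inclusion hP'S)) ⟨_, h⟩ = x :=
    fun x h => congrArg Subtype.val (MulAut.inv_apply_self S α ⟨x, hPS x.2⟩)
  have hmem : ∀ y, ((S.subtype.comp (α⁻¹ : MulAut S).toMonoidHom).comp
      (Subgroup.inclusion hP'S)) y ∈ P := by
    rintro ⟨_, z, hz, rfl⟩
    exact Set.mem_of_eq_of_mem (hval ⟨z, hz⟩ ⟨z, hz, rfl⟩) hz
  have h1 := F.comp_mem hinv hφ hmem
  refine ⟨_, F.comp_mem h1 ((mem_autGroup_iff le_rfl).1 hα) (apply_mem h1), fun x hx hy => ?_⟩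
  refine congrArg (fun t : S => ((α t : S) : Ω)) (Subtype.ext ?_)
  exact congrArg φ (Subtype.ext (hval x hy))

theorem residual_le_of_weaklyNormal (hS : IsPGroup p S) (hF : F.IsSaturated p) {T : Subgroup Ω}
    (hT : T = S) {E : FusionSystem T} (hE : E.IsWeaklyNormalIn F p) (P : Subgroup Ω) :
    (PPrimeResidual.residual F p).Hom P ⊆ E.Hom P := by
  subst hT
  exact SameBase.residual_isSubsystemOf hS (isWeaklyNormalIn_self hF) hE P

/-- The `p'`-residual is its own residual. -/
theorem residual_idem (hS : IsPGroup p S) (hF : F.IsSaturated p) (P : Subgroup Ω) :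
    (PPrimeResidual.residual F p).Hom P ⊆
      (PPrimeResidual.residual (PPrimeResidual.residual F p) p).Hom P := by
  set K := PPrimeResidual.residual F p with hK
  obtain ⟨hKs, hKi, hmin⟩ := PPrimeResidual.isPPrimeResidual_residual hS hF
  obtain ⟨hLs, hLi, -⟩ := PPrimeResidual.isPPrimeResidual_residual hS hKs
  refine hmin _ hLs ⟨fun Q φ hφ => hKi.1 Q (hLi.1 Q hφ), fun Q hQ => ?_⟩ P
  rw [Subgroup.map_le_iff_le_comap]
  refine (Subgroup.closure_le _).2 fun a ⟨k, hk⟩ => ?_
  have haK : (a : MulAut Q) ∈ K.autGroup Q :=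
    hKi.2 Q hQ (Subgroup.mem_map_of_mem _ (Subgroup.subset_closure ⟨k, hk⟩))
  refine hLi.2 Q hQ ⟨⟨a, haK⟩, Subgroup.subset_closure ⟨k, ?_⟩, rfl⟩
  rw [← Subgroup.orderOf_coe] at hk ⊢
  exact hk

/-- A system without nontrivial automorphisms of order prime to `p` is constrained. -/
theorem isConstrained_of_inner (hS : IsPGroup p S) (hF : F.IsSaturated p)
    (h : IsInnerType F p) : F.IsConstrained p := by
  have hhom := (isInnerType_iff hS hF).1 h
  refine ConstrainedExtensions.isConstrained_of_normal_core hF (Q := S) ⟨le_rfl, fun P φ hφ => ?_⟩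
    (centralizerIn_le S S)
  obtain ⟨hP, g, hg, he⟩ := (hhom P).le hφ
  have hPS : P ⊔ S ≤ S := sup_le hP le_rfl
  refine ⟨conjHom _ g, F.conj_mem hPS hg, fun x => (he x).symm, le_antisymm ?_ fun y hy => ?_⟩
  · rintro _ ⟨⟨z, hz'⟩, hz, rfl⟩
    exact S.mul_mem (S.mul_mem hg hz) (S.inv_mem hg)
  · have hz : g⁻¹ * y * g ∈ S := S.mul_mem (S.mul_mem (S.inv_mem hg) hy) hg
    refine ⟨⟨g⁻¹ * y * g, Subgroup.mem_sup_right hz⟩, hz, ?_⟩
    show g * (g⁻¹ * y * g) * g⁻¹ = y
    group

/-- Central hyperfocal subgroup forces constrained. -/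
theorem isConstrained_of_hyperfocal_le (hS : IsPGroup p S) (hF : F.IsSaturated p)
    {Z : Subgroup Ω} (hZ : F.IsCentral Z) (hh : F.hyperfocalSubgroup p ≤ Z) :
    F.IsConstrained p := by
  refine isConstrained_of_inner hS hF fun P hP => ?_
  have := finite_mulAut (Ω := Ω) hP
  -- a `p'`-automorphism is trivial
  have htriv : ∀ a : F.autGroup P, (orderOf a).Coprime p → a = 1 := by
    intro a ha
    have haR : a ∈ Cfsg.pResidual p (F.autGroup P) := Subgroup.subset_closure ha
    have hm : ∀ x : P, (x : Ω)⁻¹ * (((a : MulAut P) x : P) : Ω) ∈ Z := fun x =>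
      hh (inv_mul_apply_mem_hyperfocal hP haR x)
    have hfix : ∀ x : P, (x : Ω) ∈ Z → (((a : MulAut P) x : P) : Ω) = x := fun x hx => by
      obtain ⟨ψ, -, hψP, hψZ⟩ := hZ.2 P _ ((mem_autGroup_iff hP).1 a.2)
      exact (hψP x).symm.trans ((congrArg ψ (Subtype.ext rfl)).trans (hψZ ⟨x, hx⟩))
    have hiter : ∀ (n : ℕ) (x : P),
        ((a : MulAut P) ^ n) x = x * (x⁻¹ * (a : MulAut P) x) ^ n := by
      intro n
      induction n with
      | zero => exact fun x => by simp
      | succ n ih =>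
        intro x
        have h2 : (a : MulAut P) ((x⁻¹ * (a : MulAut P) x) ^ n) = (x⁻¹ * (a : MulAut P) x) ^ n :=
          Subtype.ext (hfix _ (by simpa using Z.pow_mem (hm x) n))
        rw [pow_succ', MulAut.mul_apply, ih, map_mul, h2]
        rw [pow_succ', ← mul_assoc, mul_inv_cancel_left]
    have : Finite P := finite_of_le (Ω := Ω) hP
    obtain ⟨k, hk⟩ := IsPGroup.iff_card.1 (hS.to_le hP)
    have h1 : a ^ p ^ k = 1 := by
      refine Subtype.ext (MulEquiv.ext fun x => ?_)
      show ((a : MulAut P) ^ p ^ k) x = x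
      rw [hiter, ← hk, pow_card_eq_one', mul_one]
    exact orderOf_eq_one_iff.1 (Nat.eq_one_of_dvd_coprimes (ha.pow_right k) dvd_rfl
      (orderOf_dvd_of_pow_eq_one h1))
  intro a
  obtain ⟨g₁, g₂, hg, hg₁, hg₂, -⟩ := ConjFun.exists_decomp (p := p) a
  rw [htriv g₂ hg₂, mul_one] at hg
  obtain ⟨k, hk⟩ := hg₁ ⟨g₁, Subgroup.mem_zpowers g₁⟩
  exact ⟨k, hg ▸ congrArg Subtype.val hk⟩

/-- The invariance of the lift of a normal subsystem through a central quotient. -/
def LiftInvariant.{v} (Ω : Type v) [Group Ω] : Prop :=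
  ∀ {U Z : Subgroup Ω} [Finite U] {p : ℕ} [Fact p.Prime] {Ω' : Type v} [Group Ω']
    {U' T' : Subgroup Ω'} {K : FusionSystem U} {Kb : FusionSystem U'} {θ : U →* Ω'}
    {D : FusionSystem T'} (c : Lift.Ctx K Z θ Kb D p), (Lift.liftSystem c).IsInvariantIn K

/-- A saturated system that is not constrained has a component. -/
theorem exists_component (hinv : LiftInvariant Ω) (n : ℕ) :
    ∀ {U : Subgroup Ω} [Finite U] (K : FusionSystem U), Nat.card U ≤ n → IsPGroup p U →
      K.IsSaturated p → ¬ K.IsConstrained p →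
      ∃ (T : Subgroup Ω) (C : FusionSystem T), C.IsComponentIn K p := by
  induction n using Nat.strong_induction_on with
  | _ n ih =>
  intro U _ K hn hU hK hKnc
  set K₀ := PPrimeResidual.residual K p with hK₀
  have hK₀n : K₀.IsNormalIn K p := PPrimeResidual.isNormalIn_residual hU hK
  have hK₀s : K₀.IsSaturated p := hK₀n.1.1
  have hK₀nc : ¬ K₀.IsConstrained p := fun h =>
    hKnc (ConstrainedExtensions.isConstrained_of_invariant hU hK hK₀n.1.2.2 h)
  suffices h : ∃ (T : Subgroup Ω) (C : FusionSystem T), C.IsComponentIn K₀ p by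
    obtain ⟨T, C, hC, hq⟩ := h
    exact ⟨T, C, subnormal_trans hC hK₀n, hq⟩
  by_cases hex : ∃ (T : Subgroup Ω) (E : FusionSystem T), E.IsNormalIn K₀ p ∧ T ≠ U ∧
      ¬ E.IsConstrained p
  · obtain ⟨T, E, hE, hTU, hEnc⟩ := hex
    have hTle : T ≤ U := hE.1.2.2.2.1.1
    have := finite_of_le (Ω := Ω) hTle
    have hlt := card_lt_of_lt (S := U) le_rfl (lt_of_le_of_ne hTle hTU)
    obtain ⟨V, C, hC, hq⟩ := ih (Nat.card T) (by omega) E le_rfl (hU.to_le hTle) hE.1.1 hEnc
    refine ⟨V, C, ?_, hq⟩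
    exact subnormal_trans hC hE
  push Not at hex
  set R := K₀.core with hR
  have hRn : K₀.IsNormal R := isNormal_core K₀
  have hidem : ∀ P, K₀.Hom P ⊆ (PPrimeResidual.residual K₀ p).Hom P := residual_idem hU hK
  have hCR : centralizerIn U R = U := by
    by_contra hne
    have hCn := CoreCentralizer.isNormalIn hU hK₀s hRn
    have := finite_of_le (Ω := Ω) (centralizerIn_le U R)
    have hcc := hex _ _ hCn hne
    have hQ := ConstrainedExtensions.isNormal_core_of_invariant hU hK₀s hCn.1.2.2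
    refine hK₀nc (ConstrainedExtensions.isConstrained_of_normal_core hK₀s hRn fun x hx => ?_)
    refine le_core hQ (isCentric_centralizerIn_le (isCentric_core hcc)
      (mem_centralizerIn.2 ⟨hx, fun y hy => ?_⟩))
    exact (mem_centralizerIn.1 hx).2 y (le_core hQ hy)
  have hRc : K₀.IsCentral R := by
    refine ⟨hRn.1, fun P φ hφ => ?_⟩
    have h := residual_le_of_weaklyNormal hU hK₀s hCR (CoreCentralizer.isNormalIn hU hK₀s hRn).1 P
      (hidem P hφ)
    exact h.2.2.2
  have hRZ : R = K₀.center :=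
    le_antisymm (le_sSup hRc) (le_core (ComponentCore.isNormal_center K₀))
  have hsmall : ∀ (T : Subgroup Ω) (E : FusionSystem T), E.IsNormalIn K₀ p → T ≠ U →
      T ≤ K₀.center := by
    intro T E hE hTU x hx
    have := finite_of_le (Ω := Ω) hE.1.2.2.2.1.1
    have hcc := hex T E hE hTU
    have hQ := ConstrainedExtensions.isNormal_core_of_invariant hU hK₀s hE.1.2.2
    rw [← hRZ]
    refine le_core hQ (isCentric_centralizerIn_le (isCentric_core hcc)
      (mem_centralizerIn.2 ⟨hx, fun y hy => ?_⟩))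
    exact ((mem_centralizerIn.1 (hCR.ge (hE.1.2.2.2.1.1 hx))).2 y (le_core hQ hy))
  have hZc : K₀.IsCentral K₀.center := Cfsg.Agent.S5144.result K₀
  -- the hyperfocal subgroup
  have hhyp : K₀.hyperfocalSubgroup p = U := by
    by_contra hne
    obtain ⟨B, hB, hBi⟩ := exists_pPowerIndex hU hK₀s (hyperfocal_le K₀ p) le_rfl
    exact hK₀nc (isConstrained_of_hyperfocal_le hU hK₀s hZc (hsmall _ B
      (isNormalIn_of_pPowerIndex hU hK₀s (stronglyClosed_hyperfocal hU hK₀s) hB hBi) hne))
  refine ⟨U, K₀, .refl _ _, hK₀s, hhyp, fun Kb hfac => ?_⟩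
  have hZn := stronglyClosed_of_isNormal (ComponentCore.isNormal_center K₀)
  refine ⟨isSaturated_factorSystem hU hK₀s hZn hfac, fun htop => ?_, fun T' D hD => ?_⟩
  · refine hK₀nc (ConstrainedExtensions.isConstrained_of_normal_core hK₀s hRn fun x hx => ?_)
    rw [hRZ]
    refine (QuotientGroup.eq_one_iff (N := K₀.center.subgroupOf U) (⟨x, hx.1⟩ : U)).1 ?_
    exact Subgroup.mem_bot.1 (htop ▸ Subgroup.mem_top _)
  set θ := QuotientGroup.mk' (K₀.center.subgroupOf U) with hθ
  have c : Lift.Ctx K₀ K₀.center θ Kb D p := ⟨hU, hK₀s, hZc, hfac, hD⟩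
  have := c.finiteT
  have hE : (Lift.liftSystem c).IsWeaklyNormalIn K₀ p :=
    ⟨Lift.isSaturated_liftSystem c, hK₀s, hinv c⟩
  by_cases hT : Lift.base θ T' = U
  · refine Or.inr ⟨?_, fun P' => Set.Subset.antisymm (hD.1.2.2.1 P') fun φ' hφ' => ?_⟩
    · rw [← c.image_base, hT, Transport.imageAlong_self, c.range]
    obtain ⟨hP', φ, hφ, he⟩ := (hfac.2.2.2 P' φ').1 hφ'
    have him := image_preimage c.range hP'
    obtain ⟨d, hd, hde⟩ :=
      (Lift.liftSystem_le c (residual_le_of_weaklyNormal hU hK₀s hT hE _ (hidem _ hφ))).2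
    obtain ⟨hP, hφU, hm, he⟩ := he
    obtain ⟨_, _, hm', he'⟩ := hde
    refine mem_congr hd him.symm fun y hy => ?_
    obtain ⟨z, rfl⟩ : ∃ z : U, θ z = y := QuotientGroup.mk'_surjective _ y
    exact (he ⟨z, mem_preimageAlong.2 ⟨z.2, hy⟩⟩).trans
      (he' ⟨z, mem_preimageAlong.2 ⟨z.2, hy⟩⟩).symm
  · refine Or.inl ?_
    have h := hsmall _ _ (ResidualNormal.isNormalIn_residual hU hE) hT
    rw [Subgroup.eq_bot_iff_forall]
    intro y hy
    rw [← c.image_base] at hy
    obtain ⟨x, hx, rfl⟩ := mem_imageAlong_iff.1 hy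
    exact (c.hker x).2 (h hx)

/-- **Constrained exactly when there is no component.** -/
theorem isConstrained_iff (hinv : LiftInvariant Ω) (hS : IsPGroup p S) (hF : F.IsSaturated p) :
    F.IsConstrained p ↔ ¬ ∃ (T : Subgroup Ω) (C : FusionSystem T), C.IsComponentIn F p := by
  refine ⟨fun hc ⟨T, C, hC⟩ => no_component hS hc hC, fun h => ?_⟩
  by_contra hnc
  exact h (exists_component hinv _ F le_rfl hS hF hnc)

end Cfsg.Agent.Fusion.ConstrainedComponent
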