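import Cfsg.Agent.Lib.Fusion.TransferHom
import Cfsg.Agent.Lib.Fusion.KNormalizer
import Cfsg.Agent.Lib.Fusion.NormalSubsystem
import Cfsg.Agent.Lib.Fusion.StrongInduction
import Cfsg.Agent.Lib.Fusion.NormalCriteria
import Cfsg.Agent.Lib.Fusion.Hyperfocal
import Cfsg.Agent.Lib.Fusion.ModelEmbed

/-!
The focal subgroup of `C_F(T)` centralizes a normal subsystem over `T` (Aschbacher): an automorphism
`β` of order prime to `p` of `R C_S(R)`, `R` fully centralized, with `[β, C_S(R)] ≤ R` fixes the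
focal subgroup of `C_F(R)`, by transfer in `C_F(R)`.
-/

set_option autoImplicit false

namespace Cfsg.Agent.Fusion.NormalCentralizer

open Cfsg Cfsg.FusionSystem Cfsg.Agent.Fusion

universe u

variable {Ω : Type u} [Group Ω] {S : Subgroup Ω} {F : FusionSystem S} {p : ℕ}
variable [Finite S] [Fact p.Prime]

/-- `R C_S(R)`. -/
abbrev rc (S R : Subgroup Ω) : Subgroup Ω := R ⊔ centralizerIn S R

theorem centralizerHom_mono {R T : Subgroup Ω} (hRT : R ≤ T) (hTS : T ≤ S) {P : Subgroup Ω}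
    {φ : P →* Ω} (h : φ ∈ F.centralizerHom T P) : φ ∈ F.centralizerHom R P := by
  obtain ⟨hφ, hP, hφC, ψ, hψ, hψP, hψT⟩ := h
  have hCC : centralizerIn S T ≤ centralizerIn S R := centralizerIn_anti hRT
  refine ⟨hφ, hP.trans hCC, fun x => hCC (hφC x), _,
    restrict_mem hψ (sup_le_sup_left hRT P), fun x => hψP x, fun x => ?_⟩
  exact hψT (Subgroup.inclusion hRT x)


variable {R : Subgroup Ω}

theorem map_centralizerIn {Q : Subgroup Ω} (hRQ : R ≤ Q) {f : Q →* Ω} (hf : f ∈ F.Hom Q)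
    (hR : ∀ x : Q, (x : Ω) ∈ R → f x ∈ R) (c : Q) (hc : (c : Ω) ∈ centralizerIn S R) :
    f c ∈ centralizerIn S R := by
  refine mem_centralizerIn.2 ⟨apply_mem hf c, fun y hy => ?_⟩
  obtain ⟨w, hw, hwy⟩ := ((map_subgroupOf_eq_iff hf hRQ).2 fun x hx => hR ⟨x, hRQ hx⟩ hx).ge hy
  rw [← hwy, ← map_mul, ← map_mul]
  exact congrArg f (Subtype.ext ((mem_centralizerIn.1 hc).2 _ hw))

/-- An automorphism of `R C_S(R)` preserving `R` preserves the focal subgroup of `C_F(R)`. -/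
theorem apply_mem_focal (hRS : R ≤ S) {β : MulAut ↥(rc S R)}
    (hβ : β ∈ F.autGroup (rc S R))
    (hR : ∀ (b : MulAut ↥(rc S R)), b = β ∨ b = β⁻¹ →
      ∀ x : ↥(rc S R), (x : Ω) ∈ R → ((b x : ↥(rc S R)) : Ω) ∈ R)
    {y : ↥(rc S R)}
    (hy : (y : Ω) ∈ (centralizerSystem F R hRS).focalSubgroup) :
    ((β y : ↥(rc S R)) : Ω) ∈ (centralizerSystem F R hRS).focalSubgroup := by
  have hQS : (rc S R) ≤ S := sup_le hRS (centralizerIn_le S R)
  obtain ⟨hb, -⟩ := hom_of_mem_autGroup hQS hβ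
  obtain ⟨hb', -⟩ := hom_of_mem_autGroup hQS (inv_mem hβ)
  set b := (rc S R).subtype.comp β.toMonoidHom with hbdef
  set b' := (rc S R).subtype.comp (β⁻¹).toMonoidHom with hb'def
  suffices h : (centralizerSystem F R hRS).focalSubgroup ≤
      (((centralizerSystem F R hRS).focalSubgroup.comap b).map (rc S R).subtype) by
    obtain ⟨w, hw, hwy⟩ := h hy
    exact (Subtype.ext hwy : w = y) ▸ hw
  refine (Subgroup.closure_le _).2 ?_
  rintro _ ⟨P, φ, x, hφ, rfl⟩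
  obtain ⟨hφF, hP, hφC, ψ, hψ, hψP, hψR⟩ := hφ
  have hPQ : P ≤ (rc S R) := hP.trans le_sup_right
  have hφQ : ∀ z : P, φ z ∈ (rc S R) := fun z => Subgroup.mem_sup_right (hφC z)
  refine ⟨⟨(x : Ω)⁻¹ * φ x, (rc S R).mul_mem ((rc S R).inv_mem (hPQ x.2)) (hφQ x)⟩, ?_, rfl⟩
  have hcentC : ∀ z : (rc S R), (z : Ω) ∈ centralizerIn S R → b z ∈ centralizerIn S R := fun z hz =>
    map_centralizerIn le_sup_left hb (hR β (Or.inl rfl)) z hz
  set P₂ := (P.subgroupOf (rc S R)).map b with hP₂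
  have hP₂C : P₂ ≤ centralizerIn S R := by
    rintro _ ⟨z, hz, rfl⟩
    exact hcentC z (hP hz)
  have hW : P₂ ⊔ R ≤ (rc S R) := sup_le (hP₂C.trans le_sup_right) le_sup_left
  have hb'W : ∀ z : ↥(P₂ ⊔ R), b' (Subgroup.inclusion hW z) ∈ P ⊔ R := by
    refine forall_sup_mem (b'.comp (Subgroup.inclusion hW)) (fun z => ?_) fun z => ?_
    · obtain ⟨w, hw, hwz⟩ := z.2
      refine Subgroup.mem_sup_left ?_
      show ((β⁻¹ ⟨z, _⟩ : (rc S R)) : Ω) ∈ P
      rw [show (⟨(z : Ω), hW (Subgroup.mem_sup_left z.2)⟩ : (rc S R)) = β w from Subtype.ext hwz.symm,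
        MulAut.inv_apply_self]
      exact hw
    · exact Subgroup.mem_sup_right (hR β⁻¹ (Or.inr rfl) ⟨z, hW (Subgroup.mem_sup_right z.2)⟩ z.2)
  have hψQ : ∀ z : ↥(P ⊔ R), ψ z ∈ (rc S R) := forall_sup_mem ψ (fun z => by rw [hψP]; exact hφQ z)
    fun z => Subgroup.mem_sup_left (by rw [hψR]; exact z.2)
  set f := b.comp ((ψ.comp ((b'.comp (Subgroup.inclusion hW)).codRestrict (P ⊔ R) hb'W)).codRestrict (rc S R)
    (fun z => hψQ _)) with hf
  have hfF : f ∈ F.Hom (P₂ ⊔ R) :=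
    F.comp_mem (F.comp_mem (restrict_mem hb' hW) hψ hb'W) hb fun z => hψQ _
  have hfx : ∀ (z : P) (h : b ⟨z, hPQ z.2⟩ ∈ P₂ ⊔ R), f ⟨_, h⟩ = b ⟨φ z, hφQ z⟩ := by
    intro z h
    refine congrArg b (Subtype.ext ?_)
    show ψ ⟨_, _⟩ = φ z
    rw [← hψP z]
    refine congrArg ψ (Subtype.ext ?_)
    show ((β⁻¹ ⟨_, hW h⟩ : (rc S R)) : Ω) = z
    rw [show (⟨b ⟨z, hPQ z.2⟩, hW h⟩ : (rc S R)) = β ⟨z, hPQ z.2⟩ from Subtype.ext rfl,
      MulAut.inv_apply_self]
  have hfR : ∀ z : R, f (Subgroup.inclusion le_sup_right z) = z := by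
    intro z
    show ((β _ : (rc S R)) : Ω) = z
    have h1 : (b' (Subgroup.inclusion hW (Subgroup.inclusion le_sup_right z))) ∈ R :=
      hR β⁻¹ (Or.inr rfl) _ z.2
    have h2 := hψR ⟨_, h1⟩
    refine Eq.trans (congrArg (fun w : (rc S R) => ((β w : (rc S R)) : Ω)) (Subtype.ext h2 :
      (⟨ψ (Subgroup.inclusion le_sup_right ⟨_, h1⟩), hψQ _⟩ : (rc S R)) =
        β⁻¹ (Subgroup.inclusion hW (Subgroup.inclusion le_sup_right z)))) ?_
    show ((β (β⁻¹ _) : (rc S R)) : Ω) = z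
    rw [MulAut.apply_inv_self]
    rfl
  have hmem : f.comp (Subgroup.inclusion le_sup_left) ∈ F.centralizerHom R P₂ := by
    refine ⟨restrict_mem hfF _, hP₂C, fun z => ?_, f, hfF, fun z => rfl, hfR⟩
    obtain ⟨⟨w, hwQ⟩, hw, hwz⟩ := z.2
    show f ⟨(z : Ω), Subgroup.mem_sup_left z.2⟩ ∈ _
    have h : b ⟨w, hPQ hw⟩ ∈ P₂ ⊔ R := Subgroup.mem_sup_left ⟨⟨w, hwQ⟩, hw, rfl⟩
    rw [show (⟨(z : Ω), Subgroup.mem_sup_left z.2⟩ : ↥(P₂ ⊔ R)) = ⟨_, h⟩ from Subtype.ext hwz.symm,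
      hfx ⟨w, hw⟩]
    exact hcentC _ (hφC _)
  refine Subgroup.mem_comap.2 ?_
  have hbx : b ⟨x, hPQ x.2⟩ ∈ P₂ := ⟨_, x.2, rfl⟩
  refine Subgroup.subset_closure ⟨P₂, _, ⟨_, hbx⟩, hmem, ?_⟩
  show _ = (b ⟨x, hPQ x.2⟩)⁻¹ * f ⟨_, _⟩
  rw [hfx x, ← map_inv, ← map_mul]
  rfl

/-- A `p'`-automorphism of `R C_S(R)` preserving `R` and moving `C_S(R)` inside `R` fixes the focal
subgroup of `C_F(R)`. -/
theorem fixes_focal (hS : IsPGroup p S) (hF : F.IsSaturated p) (hR : F.IsFullyCentralized R)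
    {β : MulAut ↥(rc S R)} (hβ : β ∈ F.autGroup (rc S R))
    (hord : (orderOf β).Coprime p)
    (hβR : ∀ x : ↥(rc S R), (x : Ω) ∈ R →
      ((β x : ↥(rc S R)) : Ω) ∈ R)
    (hβC : ∀ c : ↥(rc S R), (c : Ω) ∈ centralizerIn S R →
      (c : Ω)⁻¹ * ((β c : ↥(rc S R)) : Ω) ∈ R)
    {x : ↥(rc S R)}
    (hx : (x : Ω) ∈ (centralizerSystem F R hR.1).focalSubgroup) : β x = x := by
  have hQS : (rc S R) ≤ S := sup_le hR.1 (centralizerIn_le S R)
  have := finite_of_le (Ω := Ω) hQS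
  obtain ⟨hb, -⟩ := hom_of_mem_autGroup hQS hβ
  have hRinv : ∀ (b : MulAut (rc S R)), b = β ∨ b = β⁻¹ → ∀ x : (rc S R), (x : Ω) ∈ R → ((b x : (rc S R)) : Ω) ∈ R := by
    rintro b (rfl | rfl) z hz
    · exact hβR z hz
    · have h : β⁻¹ ∈ Subgroup.zpowers β := inv_mem (Subgroup.mem_zpowers β)
      obtain ⟨n, hn⟩ := (mem_powers_iff_mem_zpowers).2 h
      have hpow : ∀ (n : ℕ) (z : (rc S R)), (z : Ω) ∈ R → (((β ^ n) z : (rc S R)) : Ω) ∈ R := by
        intro n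
        induction n with
        | zero => exact fun z hz => hz
        | succ n ih => exact fun z hz => by rw [pow_succ']; exact hβR _ (ih z hz)
      rw [← hn]
      exact hpow n z hz
  have hC : ∀ c : (rc S R), (c : Ω) ∈ centralizerIn S R → ((β c : (rc S R)) : Ω) ∈ centralizerIn S R := fun c hc =>
    map_centralizerIn le_sup_left hb hβR c hc
  set C := centralizerIn S R with hCdef
  set A := R ⊓ C with hA
  letI : CommGroup A := { (inferInstance : Group A) with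
    mul_comm := fun a b => Subtype.ext ((mem_centralizerIn.1 b.2.2).2 a a.2.1) }
  let iC : C →* (rc S R) := Subgroup.inclusion le_sup_right
  have hzmem : ∀ c : C, (c : Ω)⁻¹ * ((β (iC c) : (rc S R)) : Ω) ∈ A := fun c =>
    ⟨hβC (iC c) c.2, C.mul_mem (C.inv_mem c.2) (hC (iC c) c.2)⟩
  let z : C →* A := MonoidHom.mk' (fun c => ⟨_, hzmem c⟩) fun c d => Subtype.ext (by
    show ((c * d : C) : Ω)⁻¹ * ((β (iC (c * d)) : (rc S R)) : Ω) =
      (c : Ω)⁻¹ * ((β (iC c) : (rc S R)) : Ω) * ((d : Ω)⁻¹ * ((β (iC d) : (rc S R)) : Ω))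
    rw [map_mul, map_mul, Subgroup.coe_mul, Subgroup.coe_mul, mul_inv_rev]
    have hcomm : (d : Ω)⁻¹ * ((c : Ω)⁻¹ * ((β (iC c) : (rc S R)) : Ω)) =
        (c : Ω)⁻¹ * ((β (iC c) : (rc S R)) : Ω) * (d : Ω)⁻¹ :=
      ((mem_centralizerIn.1 (C.inv_mem d.2)).2 _ (hzmem c).1).symm
    calc _ = (d : Ω)⁻¹ * ((c : Ω)⁻¹ * ((β (iC c) : (rc S R)) : Ω)) * ((β (iC d) : (rc S R)) : Ω) := by group
      _ = _ := by rw [hcomm]; group)
  have hD := centralizerSystem_spec F R hR.1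
  have hsat := centralizerSystem_saturated hS hF hR hD
  have hCp : IsPGroup p C := hS.to_le (centralizerIn_le S R)
  have := finite_of_le (Ω := Ω) (centralizerIn_le S R)
  obtain ⟨D⟩ := exists_transferData hCp hsat z
  have hxC : (x : Ω) ∈ C := focalSubgroup_le _ hx
  set w := z ⟨x, hxC⟩ with hw
  have hwC : (w : Ω) ∈ C := w.2.2
  have hwfoc : (w : Ω) ∈ (centralizerSystem F R hR.1).focalSubgroup :=
    Subgroup.mul_mem _ (Subgroup.inv_mem _ hx) (apply_mem_focal hR.1 hβ hRinv hx)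
  have htr : D.tr ⟨w, hwC⟩ = z ⟨w, hwC⟩ ^ Fintype.card D.Y := by
    refine D.tr_eq_pow _ fun y r hy => ?_
    obtain ⟨P, φ, hφ, hfix⟩ := D.fixed y
    obtain ⟨h1, h2⟩ := hfix ((⟨w, hwC⟩ : C) ^ r)
    rw [h2 (h1.1 hy), ← map_pow]
    refine congrArg z (Subtype.ext ?_)
    obtain ⟨-, -, -, ψ, -, hψP, hψR⟩ := hφ
    show φ _ = _
    rw [← hψP]
    have hr : (((⟨w, hwC⟩ : C) ^ r : C) : Ω) ∈ R := by
      rw [Subgroup.coe_pow]
      exact R.pow_mem w.2.1 r
    exact hψR ⟨_, hr⟩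
  rw [D.tr_focal hwC hwfoc] at htr
  have hzw : z ⟨w, hwC⟩ = 1 := by
    have hcop : (Fintype.card D.Y).Coprime (orderOf (z ⟨w, hwC⟩)) := by
      obtain ⟨k, hk⟩ := hCp ⟨w, hwC⟩
      have hd : z ⟨w, hwC⟩ ^ p ^ k = 1 := by rw [← map_pow, hk, map_one]
      exact ((((Fact.out : p.Prime).coprime_iff_not_dvd.2 D.not_dvd_card).symm).pow_right k).coprime_dvd_right
        (orderOf_dvd_of_pow_eq_one hd)
    have h := orderOf_dvd_of_pow_eq_one htr.symm
    exact orderOf_eq_one_iff.1 (Nat.eq_one_of_dvd_coprimes hcop h dvd_rfl)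
  have hβw : β (iC ⟨w, hwC⟩) = iC ⟨w, hwC⟩ := Subtype.ext (by
    have h : (w : Ω)⁻¹ * ((β (iC ⟨w, hwC⟩) : (rc S R)) : Ω) = 1 := congrArg Subtype.val hzw
    exact (inv_mul_eq_one.1 h).symm)
  have hx' : β x = x * iC ⟨w, hwC⟩ := Subtype.ext (by
    show ((β x : (rc S R)) : Ω) = (x : Ω) * ((x : Ω)⁻¹ * ((β (iC ⟨x, hxC⟩) : (rc S R)) : Ω))
    rw [mul_inv_cancel_left]
    rfl)
  have hiter : ∀ n : ℕ, (β ^ n) x = x * iC ⟨w, hwC⟩ ^ n := by
    intro n
    induction n with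
    | zero => simp
    | succ n ih =>
      rw [pow_succ' β, MulAut.mul_apply, ih, map_mul, map_pow, hx', hβw, mul_assoc, pow_succ']
  have h1 := hiter (orderOf β)
  rw [pow_orderOf_eq_one, MulAut.one_apply, left_eq_mul] at h1
  obtain ⟨k, hk⟩ := hCp ⟨w, hwC⟩
  have h2 : iC ⟨w, hwC⟩ ^ Nat.gcd (orderOf β) (p ^ k) = 1 :=
    pow_gcd_eq_one.2 ⟨h1, by rw [← map_pow, hk, map_one]⟩
  rw [(hord.pow_right k).gcd_eq_one, pow_one] at h2
  rw [hx', h2, mul_one]

/-- If `β` has order prime to `p`, `β x = x u`, `β u = u` and `u` is a `p`-element then `u = 1`. -/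
theorem eq_one_of_coprime {A : Type*} [Group A] {β : MulAut A} (hord : (orderOf β).Coprime p)
    {x u : A} {k : ℕ} (hx : β x = x * u) (hu : β u = u) (hk : u ^ p ^ k = 1) : u = 1 := by
  have hiter : ∀ n : ℕ, (β ^ n) x = x * u ^ n := by
    intro n
    induction n with
    | zero => simp
    | succ n ih =>
      rw [pow_succ' β, MulAut.mul_apply, ih, map_mul, map_pow, hx, hu, mul_assoc, pow_succ']
  have h1 := hiter (orderOf β)
  rw [pow_orderOf_eq_one, MulAut.one_apply, left_eq_mul] at h1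
  have h2 : u ^ Nat.gcd (orderOf β) (p ^ k) = 1 := pow_gcd_eq_one.2 ⟨h1, hk⟩
  rwa [(hord.pow_right k).gcd_eq_one, pow_one] at h2

/-- A `p'`-automorphism `β` as in `fixes_focal` fixes `y ∈ C_S(R)` as soon as some map of the system
agrees with `β` on `R` and fixes `y`. -/
theorem fixes_of_map (hS : IsPGroup p S) (hF : F.IsSaturated p) (hR : F.IsFullyCentralized R)
    {β : MulAut ↥(rc S R)} (hβ : β ∈ F.autGroup (rc S R)) (hord : (orderOf β).Coprime p)
    (hβR : ∀ x : ↥(rc S R), (x : Ω) ∈ R → ((β x : ↥(rc S R)) : Ω) ∈ R)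
    (hβC : ∀ c : ↥(rc S R), (c : Ω) ∈ centralizerIn S R →
      (c : Ω)⁻¹ * ((β c : ↥(rc S R)) : Ω) ∈ R)
    {y : Ω} (hy : y ∈ centralizerIn S R) {f : ↥(Subgroup.zpowers y ⊔ R) →* Ω}
    (hf : f ∈ F.Hom (Subgroup.zpowers y ⊔ R))
    (hfR : ∀ r : R, f (Subgroup.inclusion le_sup_right r) =
      ((β (Subgroup.inclusion le_sup_left r) : ↥(rc S R)) : Ω))
    (hfy : f ⟨y, Subgroup.mem_sup_left (Subgroup.mem_zpowers y)⟩ = y) :
    β ⟨y, Subgroup.mem_sup_right hy⟩ = ⟨y, Subgroup.mem_sup_right hy⟩ := by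
  have hQS : rc S R ≤ S := sup_le hR.1 (centralizerIn_le S R)
  obtain ⟨hb, -⟩ := hom_of_mem_autGroup hQS hβ
  obtain ⟨hb', -⟩ := hom_of_mem_autGroup hQS (inv_mem hβ)
  set yQ : ↥(rc S R) := ⟨y, Subgroup.mem_sup_right hy⟩ with hyQ
  have hfy' : ∀ z : Subgroup.zpowers y, f (Subgroup.inclusion le_sup_left z) = z := by
    rintro ⟨z, n, rfl⟩
    show f ⟨y ^ n, _⟩ = y ^ n
    conv_rhs => rw [← hfy, ← map_zpow]
    exact congrArg f (Subtype.ext rfl)
  have hfQ : ∀ z, f z ∈ rc S R := forall_sup_mem f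
    (fun z => by rw [hfy']; exact Subgroup.mem_sup_right (Subgroup.zpowers_le.2 hy z.2))
    (fun r => by rw [hfR]; exact (_ : ↥(rc S R)).2)
  set g := ((rc S R).subtype.comp (β⁻¹).toMonoidHom).comp (f.codRestrict (rc S R) hfQ) with hg
  have hgF : g ∈ F.Hom _ := F.comp_mem hf hb' hfQ
  have hgR : ∀ r : R, g (Subgroup.inclusion le_sup_right r) = r := by
    intro r
    show ((β⁻¹ ⟨f _, _⟩ : ↥(rc S R)) : Ω) = r
    rw [show (⟨f (Subgroup.inclusion le_sup_right r), hfQ _⟩ : ↥(rc S R)) =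
      β (Subgroup.inclusion le_sup_left r) from Subtype.ext (hfR r), MulAut.inv_apply_self]
    rfl
  set y' := β⁻¹ yQ with hy'
  have hgy : g ⟨y, Subgroup.mem_sup_left (Subgroup.mem_zpowers y)⟩ = y' := by
    show ((β⁻¹ ⟨f _, _⟩ : ↥(rc S R)) : Ω) = _
    exact congrArg (fun z : ↥(rc S R) => ((β⁻¹ z : ↥(rc S R)) : Ω)) (Subtype.ext hfy)
  have hy'C : (y' : Ω) ∈ centralizerIn S R := by
    rw [← hgy]
    refine map_centralizerIn le_sup_right hgF (fun r hr => ?_) _ hy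
    rw [show r = Subgroup.inclusion le_sup_right (⟨(r : Ω), hr⟩ : R) from rfl, hgR]
    exact hr
  set g₀ := g.comp (Subgroup.inclusion (le_sup_left : Subgroup.zpowers y ≤ _ ⊔ R)) with hg₀
  have hg₀C : g₀ ∈ F.centralizerHom R (Subgroup.zpowers y) := by
    refine ⟨restrict_mem hgF _, Subgroup.zpowers_le.2 hy, fun z => ?_, g, hgF, fun z => rfl, hgR⟩
    refine map_centralizerIn le_sup_right hgF (fun r hr => ?_) _ (Subgroup.zpowers_le.2 hy z.2)
    rw [show r = Subgroup.inclusion le_sup_right (⟨(r : Ω), hr⟩ : R) from rfl, hgR]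
    exact hr
  set w := yQ⁻¹ * y' with hw
  have hwfoc : (w : Ω) ∈ (centralizerSystem F R hR.1).focalSubgroup :=
    Subgroup.subset_closure ⟨_, g₀, ⟨y, Subgroup.mem_zpowers y⟩, hg₀C, by
      show y⁻¹ * (y' : Ω) = y⁻¹ * g ⟨y, _⟩
      rw [hgy]⟩
  have hwR : (w : Ω) ∈ R := by
    have h1 := R.inv_mem (hβC y' hy'C)
    rw [hy', MulAut.apply_inv_self, mul_inv_rev, inv_inv] at h1
    exact h1
  have hβw : β w = w := fixes_focal hS hF hR hβ hord hβR hβC hwfoc
  have hx : β yQ = yQ * w⁻¹ := by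
    have h1 : yQ = β (yQ * w) := by rw [hw, mul_inv_cancel_left, hy', MulAut.apply_inv_self]
    rw [map_mul, hβw] at h1
    exact eq_mul_inv_of_mul_eq h1.symm
  have := finite_of_le (Ω := Ω) hQS
  obtain ⟨k, hk⟩ := hS.to_le hQS w⁻¹
  have h1 := eq_one_of_coprime hord hx (by rw [map_inv, hβw]) hk
  rw [h1, mul_one] at hx
  exact hx

/-! ### Automorphisms with an extension moving `C_S(R)` inside `R` -/

/-- The automorphisms of `R` with an extension to `R C_S(R)` which moves `C_S(R)` inside `R`. -/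
def bExt (F : FusionSystem S) (R : Subgroup Ω) : Subgroup (MulAut R) where
  carrier := {α | ∃ γ ∈ F.autGroup (rc S R),
    (∀ x : R, γ (Subgroup.inclusion le_sup_left x) = Subgroup.inclusion le_sup_left (α x)) ∧
    ∀ c : ↥(rc S R), (c : Ω) ∈ centralizerIn S R →
      (c : Ω)⁻¹ * ((γ c : ↥(rc S R)) : Ω) ∈ R}
  one_mem' := ⟨1, one_mem _, fun x => rfl, fun c _ => by simp⟩
  mul_mem' := by
    rintro a b ⟨γ, hγ, hγR, hγC⟩ ⟨δ, hδ, hδR, hδC⟩
    refine ⟨γ * δ, mul_mem hγ hδ, fun x => ?_, fun c hc => ?_⟩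
    · rw [MulAut.mul_apply, hδR, hγR]
      rfl
    · have h1 := hδC c hc
      have he : δ c = c * Subgroup.inclusion le_sup_left (⟨_, h1⟩ : R) :=
        Subtype.ext (mul_inv_cancel_left _ _).symm
      rw [MulAut.mul_apply, he, map_mul, hγR, Subgroup.coe_mul, ← mul_assoc]
      exact R.mul_mem (hγC c hc) (a ⟨_, h1⟩).2
  inv_mem' := by
    rintro a ⟨γ, hγ, hγR, hγC⟩
    have hinv : ∀ x : R, γ⁻¹ (Subgroup.inclusion le_sup_left x) =
        Subgroup.inclusion le_sup_left (a⁻¹ x) := by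
      intro x
      have h := hγR (a⁻¹ x)
      rw [MulAut.apply_inv_self] at h
      rw [← h, MulAut.inv_apply_self]
    refine ⟨γ⁻¹, inv_mem hγ, hinv, fun c hc => ?_⟩
    have h1 := hγC c hc
    have he : γ c = c * Subgroup.inclusion le_sup_left (⟨_, h1⟩ : R) :=
      Subtype.ext (mul_inv_cancel_left _ _).symm
    have h2 := congrArg (fun d => γ⁻¹ d) he
    rw [MulAut.inv_apply_self, map_mul, hinv] at h2
    have h3 : (c : Ω)⁻¹ * ((γ⁻¹ c : ↥(rc S R)) : Ω) = (((a⁻¹ ⟨_, h1⟩ : R)⁻¹ : R) : Ω) := by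
      have h4 : (c : Ω) = ((γ⁻¹ c : ↥(rc S R)) : Ω) * ((a⁻¹ ⟨_, h1⟩ : R) : Ω) :=
        congrArg Subtype.val h2
      generalize hr1 : ((a⁻¹ ⟨_, h1⟩ : R) : Ω) = r1 at h4
      rw [Subgroup.coe_inv, hr1, h4]
      group
    rw [h3]
    exact (_ : R).2

theorem conj_mem_bExt (hS : IsPGroup p S) (hF : F.IsSaturated p) (hR : F.IsFullyCentralized R)
    {a α : MulAut R} (ha : a ∈ F.autGroup R) (hα : α ∈ bExt F R) :
    a * α * a⁻¹ ∈ bExt F R := by
  have hQS : (rc S R) ≤ S := sup_le hR.1 (centralizerIn_le S R)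
  obtain ⟨γ, hγ, hγR, hγC⟩ := hα
  obtain ⟨hφ, hφr⟩ := hom_of_mem_autGroup hR.1 ha
  obtain ⟨ψ, hψ, hψe⟩ := exists_extension (isReceptive_of_fullyCentralized hS hF hR) hφ hφr
    (N := (rc S R)) (sup_le (le_extender hR.1 fun x => apply_mem hφ x) (centralizerIn_le_extender _))
  have hψR : ∀ x : (rc S R), (x : Ω) ∈ R → ψ x ∈ R := fun x hx => by
    rw [show x = ⟨(x : Ω), x.2⟩ from rfl, hψe x hx x.2]
    exact (a ⟨x, hx⟩).2
  have hψQ : ψ.range = (rc S R) := range_eq_of_le hψ hQS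
    (forall_sup_mem ψ (fun x => Subgroup.mem_sup_left (hψR _ x.2))
      fun c => Subgroup.mem_sup_right (map_centralizerIn le_sup_left hψ hψR _ c.2)) le_rfl
  set τ := toAut hψ hψQ with hτ
  have hτR : ∀ x : R, τ (Subgroup.inclusion le_sup_left x) = Subgroup.inclusion le_sup_left (a x) :=
    fun x => Subtype.ext (hψe x x.2 _)
  have hτR' : ∀ x : R,
      τ⁻¹ (Subgroup.inclusion le_sup_left x) = Subgroup.inclusion le_sup_left (a⁻¹ x) := by
    intro x
    have h := hτR (a⁻¹ x)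
    rw [MulAut.apply_inv_self] at h
    rw [← h, MulAut.inv_apply_self]
  have hτm := toAut_mem hψ hψQ
  refine ⟨τ * γ * τ⁻¹, mul_mem (mul_mem hτm hγ) (inv_mem hτm), fun x => ?_, fun c hc => ?_⟩
  · rw [MulAut.mul_apply, MulAut.mul_apply, hτR', hγR, hτR]
    rfl
  · obtain ⟨hb', -⟩ := hom_of_mem_autGroup hQS (inv_mem hτm)
    have hd : ((τ⁻¹ c : (rc S R)) : Ω) ∈ centralizerIn S R := map_centralizerIn le_sup_left hb'
      (fun x hx => by
        show ((τ⁻¹ x : (rc S R)) : Ω) ∈ R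
        rw [show x = Subgroup.inclusion le_sup_left (⟨x, hx⟩ : R) from rfl, hτR']
        exact (a⁻¹ ⟨x, hx⟩).2) c hc
    have h1 := hγC _ hd
    have he : γ (τ⁻¹ c) = τ⁻¹ c * Subgroup.inclusion le_sup_left (⟨_, h1⟩ : R) :=
      Subtype.ext (mul_inv_cancel_left _ _).symm
    rw [MulAut.mul_apply, MulAut.mul_apply, he, map_mul, MulAut.apply_inv_self, hτR, Subgroup.coe_mul,
      inv_mul_cancel_left]
    exact (a ⟨_, h1⟩).2

/-- Conjugation by an element of a strongly closed `T ≥ R` with `C_T(R) ≤ R` is in `bExt`. -/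
theorem conjAut_mem_bExt (hRS : R ≤ S) {T : Subgroup Ω} (hTS : T ≤ S)
    (hTn : S ≤ Subgroup.normalizer (T : Set Ω)) (hcen : centralizerIn T R ≤ R) {t : Ω} (ht : t ∈ T)
    (htN : t ∈ Subgroup.normalizer (R : Set Ω)) : conjAut htN ∈ bExt F R := by
  set C := centralizerIn S R with hC
  have hQS : (rc S R) ≤ S := sup_le hRS (centralizerIn_le S R)
  have hNC : ∀ g ∈ S, g ∈ Subgroup.normalizer (R : Set Ω) → ∀ c ∈ C, g * c * g⁻¹ ∈ C := by
    intro g hg hgN c hc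
    obtain ⟨hcS, hcc⟩ := mem_centralizerIn.1 hc
    refine mem_centralizerIn.2 ⟨S.mul_mem (S.mul_mem hg hcS) (S.inv_mem hg), fun y hy => ?_⟩
    have h := hcc _ ((Subgroup.mem_normalizer_iff''.1 hgN y).1 hy)
    calc y * (g * c * g⁻¹) = g * ((g⁻¹ * y * g) * c) * g⁻¹ := by group
      _ = g * (c * (g⁻¹ * y * g)) * g⁻¹ := by rw [h]
      _ = _ := by group
  have := finite_of_le (Ω := Ω) hQS
  have htQ : t ∈ Subgroup.normalizer ((rc S R) : Set Ω) := by
    refine ModelEmbed.mem_normalizer_of_finite ?_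
    have hle : (rc S R) ≤ (rc S R).comap (MulAut.conj t).toMonoidHom :=
      sup_le (fun y hy => Subgroup.mem_sup_left ((Subgroup.mem_normalizer_iff.1 htN y).1 hy))
        fun y hy => Subgroup.mem_sup_right (hNC t (hTS ht) htN y hy)
    exact fun y hy => hle hy
  refine ⟨conjAut htQ, autInducedBy_le_autGroup F hQS (conjAut_mem_autInducedBy (hTS ht) htQ),
    fun x => rfl, fun c hc => ?_⟩
  show (c : Ω)⁻¹ * (t * c * t⁻¹) ∈ R
  refine hcen ⟨?_, ?_⟩
  · have h1 := (Subgroup.mem_normalizer_iff.1 (hTn (S.inv_mem hc.1)) t).1 ht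
    have h2 := T.mul_mem h1 (T.inv_mem ht)
    simpa [mul_assoc] using h2
  · exact (Subgroup.centralizer (R : Set Ω)).mul_mem (Subgroup.inv_mem _ hc.2)
      (hNC t (hTS ht) htN c hc).2

/-- For `α ∈ bExt F R` some `α ^ p ^ k` has a witness of order prime to `p`. -/
theorem exists_coprime_ext (hRS : R ≤ S) {α : MulAut R} (hα : α ∈ bExt F R) :
    ∃ (k : ℕ), ∃ γ ∈ F.autGroup (rc S R), (orderOf γ).Coprime p ∧
      (∀ x : R, γ (Subgroup.inclusion le_sup_left x) =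
        Subgroup.inclusion le_sup_left ((α ^ p ^ k) x)) ∧
      ∀ c : ↥(rc S R), (c : Ω) ∈ centralizerIn S R →
        (c : Ω)⁻¹ * ((γ c : ↥(rc S R)) : Ω) ∈ R := by
  obtain ⟨γ₀, hγ₀, hγ₀R, hγ₀C⟩ := hα
  have := finite_mulAut (Ω := Ω) (sup_le hRS (centralizerIn_le S R) : rc S R ≤ S)
  obtain ⟨k, m, hm, hord⟩ := Nat.exists_eq_pow_mul_and_not_dvd (orderOf_pos γ₀).ne' p
    (Fact.out : p.Prime).ne_one
  have hpow : ∀ n : ℕ, (∀ x : R, (γ₀ ^ n) (Subgroup.inclusion le_sup_left x) =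
      Subgroup.inclusion le_sup_left ((α ^ n) x)) ∧
      ∀ c : (rc S R), (c : Ω) ∈ centralizerIn S R →
        (c : Ω)⁻¹ * (((γ₀ ^ n) c : (rc S R)) : Ω) ∈ R := by
    intro n
    induction n with
    | zero => exact ⟨fun x => rfl, fun c _ => by simp⟩
    | succ n ih =>
      refine ⟨fun x => ?_, fun c hc => ?_⟩
      · rw [pow_succ', MulAut.mul_apply, ih.1, hγ₀R, pow_succ', MulAut.mul_apply]
      · have h1 := ih.2 c hc
        have he' : (γ₀ ^ n) c = c * Subgroup.inclusion le_sup_left (⟨_, h1⟩ : R) :=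
          Subtype.ext (mul_inv_cancel_left _ _).symm
        rw [pow_succ', MulAut.mul_apply, he', map_mul, hγ₀R, Subgroup.coe_mul, ← mul_assoc]
        exact R.mul_mem (hγ₀C c hc) (α ⟨_, h1⟩).2
  exact ⟨k, γ₀ ^ p ^ k, pow_mem hγ₀ _, Nat.Coprime.coprime_dvd_left (k := m)
    (orderOf_dvd_of_pow_eq_one (by rw [← pow_mul, ← hord, pow_orderOf_eq_one]))
    ((Fact.out : p.Prime).coprime_iff_not_dvd.2 hm).symm, hpow _⟩

/-! ### Centralizing a normal subsystem -/

variable {T : Subgroup Ω} {E : FusionSystem T}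

/-- Centricity in an invariant subsystem is stable under the maps of the ambient system. -/
theorem centralizerIn_le_of_isConj (hE : E.IsInvariantIn F) (hc : E.IsCentric R) {R' : Subgroup Ω}
    (h : F.IsConj R R') : centralizerIn T R' ≤ R' := by
  obtain ⟨φ, hφ, rfl⟩ := h
  obtain ⟨hsub, hT, -, hfr⟩ := hE
  obtain ⟨α, hα, φ₀, hφ₀, he⟩ := hfr R hc.1 φ hφ
  have hle := hc.2 _ ⟨φ₀, hφ₀, rfl⟩
  intro c hc'
  obtain ⟨hcT, hcc⟩ := mem_centralizerIn.1 hc'
  obtain ⟨d, hd⟩ := α.surjective ⟨c, hcT⟩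
  have hdR : (d : Ω) ∈ φ₀.range := hle (mem_centralizerIn.2 ⟨d.2, by
    rintro _ ⟨x, rfl⟩
    have h1 := hcc (φ x) ⟨x, rfl⟩
    rw [he x (apply_mem hφ₀ x), show c = ((α d : T) : Ω) from congrArg Subtype.val hd.symm] at h1
    have h2 : α (⟨φ₀ x, apply_mem hφ₀ x⟩ * d) = α (d * ⟨φ₀ x, apply_mem hφ₀ x⟩) := by
      rw [map_mul, map_mul]
      exact Subtype.ext h1
    exact congrArg Subtype.val (α.injective h2)⟩)
  obtain ⟨x, hx⟩ := hdR
  refine ⟨x, ?_⟩
  rw [he x (apply_mem hφ₀ x), show (⟨φ₀ x, apply_mem hφ₀ x⟩ : T) = d from Subtype.ext hx, hd]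

/-- Every `p'`-automorphism of `R' C_S(R')` which moves `C_S(R')` inside `R'` and extends an element
of `Aut_E(R)`, read through `χ : N_S(R) → S` onto a fully centralized `R'`, fixes `χ(X)`. -/
def FixedByExt (F : FusionSystem S) (E : FusionSystem T) (p : ℕ) (X : Subgroup Ω) : Prop :=
  ∀ (R R' : Subgroup Ω), R ≤ T → F.IsFullyCentralized R' →
    ∀ χ : normalizerIn S R →* Ω, χ ∈ F.Hom (normalizerIn S R) →
    ∀ hRN : R ≤ normalizerIn S R, (χ.comp (Subgroup.inclusion hRN)).range = R' →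
    ∀ α ∈ E.autGroup R, ∀ γ ∈ F.autGroup (rc S R'), (orderOf γ).Coprime p →
    (∀ (r : R) (h : χ (Subgroup.inclusion hRN r) ∈ rc S R'),
      ((γ ⟨_, h⟩ : ↥(rc S R')) : Ω) = χ (Subgroup.inclusion hRN (α r))) →
    (∀ c : ↥(rc S R'), (c : Ω) ∈ centralizerIn S R' →
      (c : Ω)⁻¹ * ((γ c : ↥(rc S R')) : Ω) ∈ R') →
    ∀ x ∈ X, ∀ (hxN : x ∈ normalizerIn S R) (h : χ ⟨x, hxN⟩ ∈ rc S R'),
      ((γ ⟨_, h⟩ : ↥(rc S R')) : Ω) = χ ⟨x, hxN⟩

theorem apply_mem_centralizer_image {R R' : Subgroup Ω} {χ : normalizerIn S R →* Ω}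
    (hχ : χ ∈ F.Hom (normalizerIn S R)) (hRN : R ≤ normalizerIn S R)
    (hr : (χ.comp (Subgroup.inclusion hRN)).range = R') (c : normalizerIn S R)
    (hc : (c : Ω) ∈ centralizerIn S R) : χ c ∈ centralizerIn S R' := by
  refine mem_centralizerIn.2 ⟨apply_mem hχ _, fun y hy => ?_⟩
  obtain ⟨r, rfl⟩ := hr.ge hy
  show χ _ * χ _ = χ _ * χ _
  rw [← map_mul, ← map_mul]
  exact congrArg χ (Subtype.ext ((mem_centralizerIn.1 hc).2 r r.2))

/-- The focal subgroup of `C_F(T)` is fixed by these extensions. -/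
theorem fixedByExt_focal (hS : IsPGroup p S) (hF : F.IsSaturated p) (hTS : T ≤ S) :
    FixedByExt F E p (centralizerSystem F T hTS).focalSubgroup := by
  intro R R' hRT hR' χ hχ hRN hr α _ γ hγ hord hγR hγC
  have hRS := hRT.trans hTS
  set X := (centralizerSystem F T hTS).focalSubgroup with hX
  set X' := (centralizerSystem F R' hR'.1).focalSubgroup with hX'
  have hCRN : centralizerIn S T ≤ normalizerIn S R :=
    (centralizerIn_anti hRT).trans (centralizerIn_le_normalizerIn S R)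
  obtain ⟨ρ, hρ, hρr, hρi, -⟩ := exists_inverse hχ (rfl : χ.range = χ.range)
  have hCR : ∀ (c : Ω) (hcN : c ∈ (normalizerIn S R)), c ∈ centralizerIn S R →
      χ ⟨c, hcN⟩ ∈ centralizerIn S R' := fun c hcN hc =>
    apply_mem_centralizer_image hχ hRN hr ⟨c, hcN⟩ hc
  -- `χ` carries `X` into `X'`
  have hχX : X ≤ (X'.comap χ).map (normalizerIn S R).subtype := by
    refine (Subgroup.closure_le _).2 ?_
    rintro _ ⟨P, φ, x, hφ, rfl⟩
    obtain ⟨hφF, hP, hφC, ψ, hψ, hψP, hψT⟩ := hφ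
    have hPN : P ≤ (normalizerIn S R) := hP.trans hCRN
    have hφN : ∀ z : P, φ z ∈ (normalizerIn S R) := fun z => hCRN (hφC z)
    refine ⟨⟨(x : Ω)⁻¹ * φ x, (normalizerIn S R).mul_mem ((normalizerIn S R).inv_mem (hPN x.2)) (hφN x)⟩, ?_, rfl⟩
    set χP := χ.comp (Subgroup.inclusion hPN) with hχP
    have hP'C : χP.range ≤ centralizerIn S R' := by
      rintro _ ⟨z, rfl⟩
      exact hCR _ _ (centralizerIn_anti hRT (hP z.2))
    have hW : χP.range ⊔ R' ≤ χ.range :=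
      sup_le (by rintro _ ⟨z, rfl⟩; exact ⟨_, rfl⟩) (hr ▸ by rintro _ ⟨z, rfl⟩; exact ⟨_, rfl⟩)
    have hρW : ∀ z : ↥(χP.range ⊔ R'), ρ (Subgroup.inclusion hW z) ∈ P ⊔ R := by
      refine forall_sup_mem (ρ.comp (Subgroup.inclusion hW)) ?_ ?_
      · rintro ⟨_, z, rfl⟩
        refine Subgroup.mem_sup_left ?_
        exact Set.mem_of_eq_of_mem (hρi (Subgroup.inclusion hPN z) ⟨_, rfl⟩) z.2
      · rintro ⟨y, hy⟩
        obtain ⟨r, rfl⟩ := hr.ge hy
        refine Subgroup.mem_sup_right ?_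
        exact Set.mem_of_eq_of_mem (hρi (Subgroup.inclusion hRN r) ⟨_, rfl⟩) r.2
    have hle : P ⊔ R ≤ P ⊔ T := sup_le_sup_left hRT P
    have hψN : ∀ z : ↥(P ⊔ R), ψ (Subgroup.inclusion hle z) ∈ (normalizerIn S R) :=
      forall_sup_mem (ψ.comp (Subgroup.inclusion hle))
        (fun z => by show ψ _ ∈ (normalizerIn S R); rw [show Subgroup.inclusion hle (Subgroup.inclusion le_sup_left z) =
          Subgroup.inclusion le_sup_left z from rfl, hψP]; exact hφN z)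
        (fun z => by show ψ _ ∈ (normalizerIn S R); rw [show Subgroup.inclusion hle (Subgroup.inclusion le_sup_right z) =
          Subgroup.inclusion le_sup_right (Subgroup.inclusion hRT z) from rfl, hψT]; exact hRN z.2)
    set g₁ := (ρ.comp (Subgroup.inclusion hW)).codRestrict (P ⊔ R) hρW with hg₁
    set g := χ.comp (((ψ.comp (Subgroup.inclusion hle)).comp g₁).codRestrict (normalizerIn S R) fun z => hψN _) with hg
    have hgF : g ∈ F.Hom (χP.range ⊔ R') :=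
      F.comp_mem (F.comp_mem (restrict_mem hρ hW) (restrict_mem hψ hle) hρW) hχ fun z => hψN _
    have hgP : ∀ (z : P) (h : χP z ∈ χP.range ⊔ R'), g ⟨χP z, h⟩ = χ ⟨φ z, hφN z⟩ := by
      intro z h
      refine congrArg χ (Subtype.ext ?_)
      show ψ _ = φ z
      rw [← hψP z]
      refine congrArg ψ (Subtype.ext ?_)
      exact hρi (Subgroup.inclusion hPN z) _
    have hmem : g.comp (Subgroup.inclusion le_sup_left) ∈ F.centralizerHom R' χP.range := by
      refine ⟨restrict_mem hgF _, hP'C, ?_, g, hgF, fun z => rfl, ?_⟩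
      · rintro ⟨_, z, rfl⟩
        show g ⟨_, _⟩ ∈ _
        rw [hgP z]
        exact hCR _ _ (centralizerIn_anti hRT (hφC z))
      · rintro ⟨y, hy⟩
        obtain ⟨r, rfl⟩ := hr.ge hy
        refine congrArg χ (Subtype.ext ?_)
        show ψ _ = r
        refine Eq.trans (congrArg ψ (Subtype.ext ?_)) (hψT (Subgroup.inclusion hRT r))
        exact hρi (Subgroup.inclusion hRN r) _
    show χ _ ∈ X'
    refine Subgroup.subset_closure ⟨χP.range, _, ⟨χP x, x, rfl⟩, hmem, ?_⟩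
    show _ = (χP x)⁻¹ * g ⟨_, _⟩
    rw [hgP x]
    show _ = (χ (Subgroup.inclusion hPN x))⁻¹ * _
    rw [← map_inv, ← map_mul]
    rfl
  intro x hx hxN h
  obtain ⟨w, hw, hwx⟩ := hχX hx
  have hx' : χ ⟨x, hxN⟩ ∈ X' := (Subtype.ext hwx : w = ⟨x, hxN⟩) ▸ hw
  exact congrArg Subtype.val (fixes_focal hS hF hR' hγ hord (fun y hy => by
    obtain ⟨r, hry⟩ := hr.ge hy
    rw [show y = (⟨χ (Subgroup.inclusion hRN r), Set.mem_of_eq_of_mem hry y.2⟩ : ↥(rc S R')) from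
      Subtype.ext hry.symm, hγR]
    exact hr.le ⟨α r, rfl⟩) hγC (x := ⟨_, h⟩) hx')

/-- A `p'`-automorphism in `bExt` of a conjugate gives an automorphism fixing `X`. -/
theorem fixes_of_transport (hS : IsPGroup p S) (hF : F.IsSaturated p) (hsub : E.IsSubsystemOf F)
    (hTS : T ≤ S) {X : Subgroup Ω} (hXC : X ≤ centralizerIn S T) (hX : FixedByExt F E p X)
    (hRT : R ≤ T) {R' : Subgroup Ω} (hR' : F.IsFullyCentralized R') {χ : normalizerIn S R →* Ω}
    (hχ : χ ∈ F.Hom (normalizerIn S R))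
    (hr : (χ.comp (Subgroup.inclusion (le_normalizerIn (hRT.trans hTS)))).range = R')
    {α : MulAut R} (hαE : α ∈ E.autGroup R) (hcop : (orderOf α).Coprime p)
    (hb : MulAut.congr (homEquiv (restrict_mem hχ (le_normalizerIn (hRT.trans hTS))) hr) α ∈
      bExt F R') :
    R.subtype.comp α.toMonoidHom ∈ F.centralizerHom X R := by
  have hRS := hRT.trans hTS
  have hα := autGroup_le_of_subsystem hsub hRT hαE
  set e := homEquiv (restrict_mem hχ (le_normalizerIn hRS)) hr with he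
  have hCRN : centralizerIn S T ≤ (normalizerIn S R) :=
    (centralizerIn_anti hRT).trans (centralizerIn_le_normalizerIn S R)
  have hXN : X ≤ (normalizerIn S R) := hXC.trans hCRN
  have hRN : R ≤ (normalizerIn S R) := le_normalizerIn hRS
  obtain ⟨ρ, hρ, hρr, hρi, -⟩ := exists_inverse hχ (rfl : χ.range = χ.range)
  have hCR : ∀ (c : Ω) (hcN : c ∈ (normalizerIn S R)), c ∈ centralizerIn S R →
      χ ⟨c, hcN⟩ ∈ centralizerIn S R' := fun c hcN hc =>
    apply_mem_centralizer_image hχ hRN hr ⟨c, hcN⟩ hc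
  -- adjust the order of the extension
  obtain ⟨k, γ, hγ, hγord, hγR, hγC⟩ := exists_coprime_ext (p := p) hR'.1 hb
  have hQ'S : (rc S R') ≤ S := sup_le hR'.1 (centralizerIn_le S R')
  suffices h : R.subtype.comp (α ^ p ^ k).toMonoidHom ∈ F.centralizerHom X R by
    have hXS : X ≤ S := hXC.trans (centralizerIn_le S T)
    have hRX : R ≤ centralizerIn S X := h.2.1
    have h1 : α ^ p ^ k ∈ (centralizerSystem F X hXS).autGroup R := (mem_autGroup_iff hRX).2 h
    exact (mem_autGroup_iff (F := centralizerSystem F X hXS) hRX).1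
      (Subgroup.zpowers_le.2 h1 (mem_zpowers_pow_iff.2 (hcop.pow_right k).symm))
  rw [← map_pow] at hγR
  set α₁ := α ^ p ^ k with hα₁
  have hχx : ∀ (x : Ω), x ∈ X → ∀ (hxN : x ∈ (normalizerIn S R)), χ ⟨x, hxN⟩ ∈ rc S R' :=
    fun x hx hxN => Subgroup.mem_sup_right (hCR x hxN (centralizerIn_anti hRT (hXC hx)))
  have hfix : ∀ (x : Ω), x ∈ X → ∀ (hxN : x ∈ (normalizerIn S R)) (h : χ ⟨x, hxN⟩ ∈ rc S R'),
      ((γ ⟨_, h⟩ : ↥(rc S R')) : Ω) = χ ⟨x, hxN⟩ := by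
    refine hX R R' hRT hR' χ hχ hRN hr α₁ (pow_mem hαE _) γ hγ hγord (fun r h => ?_) hγC
    rw [show (⟨_, h⟩ : ↥(rc S R')) = Subgroup.inclusion le_sup_left (e r) from Subtype.ext rfl, hγR]
    show ((e (α₁ (e.symm (e r))) : R') : Ω) = _
    rw [MulEquiv.symm_apply_apply]
    rfl
  -- pull back
  have hW : R ⊔ X ≤ (normalizerIn S R) := sup_le hRN hXN
  set χW := χ.comp (Subgroup.inclusion hW) with hχW
  have hχWQ : ∀ z, χW z ∈ (rc S R') := forall_sup_mem χW
    (fun r => Subgroup.mem_sup_left (hr.le ⟨r, rfl⟩))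
    (fun x => hχx x x.2 _)
  obtain ⟨hγF, -⟩ := hom_of_mem_autGroup hQ'S hγ
  set μ := ((rc S R').subtype.comp γ.toMonoidHom).comp (χW.codRestrict (rc S R') hχWQ) with hμ
  have hμF : μ ∈ F.Hom (R ⊔ X) := F.comp_mem (restrict_mem hχ hW) hγF hχWQ
  have hμR : ∀ r : R, μ (Subgroup.inclusion le_sup_left r) = χ ⟨α₁ r, hRN (α₁ r).2⟩ := by
    intro r
    show ((γ ⟨_, _⟩ : (rc S R')) : Ω) = _
    refine Eq.trans (congrArg (fun y => ((γ y : (rc S R')) : Ω))
      (Subtype.ext rfl : _ = Subgroup.inclusion le_sup_left (e r))) ?_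
    rw [hγR]
    show ((e (α₁ (e.symm (e r))) : R') : Ω) = _
    rw [MulEquiv.symm_apply_apply]
    rfl
  have hμX : ∀ x : X, μ (Subgroup.inclusion le_sup_right x) = χ ⟨x, hXN x.2⟩ := fun x => by
    show ((γ ⟨_, _⟩ : (rc S R')) : Ω) = _
    exact hfix x x.2 (hXN x.2) _
  have hμr : ∀ z, μ z ∈ χ.range := forall_sup_mem μ (fun r => ⟨_, (hμR r).symm⟩)
    fun x => ⟨_, (hμX x).symm⟩
  set ν := ρ.comp (μ.codRestrict χ.range hμr) with hν
  have hνF : ν ∈ F.Hom (R ⊔ X) := F.comp_mem hμF hρ hμr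
  have hRX : R ≤ centralizerIn S X := fun r hrR => mem_centralizerIn.2 ⟨hRS hrR, fun x hx =>
    ((mem_centralizerIn.1 (hXC hx)).2 r (hRT hrR)).symm⟩
  refine ⟨(mem_autGroup_iff hRS).1 (pow_mem hα _), hRX, fun r => hRX (α₁ r).2, ν, hνF,
    fun r => ?_, fun x => ?_⟩
  · show ρ ⟨μ _, _⟩ = ((α₁ r : R) : Ω)
    rw [← hρi ⟨α₁ r, hRN (α₁ r).2⟩ ⟨_, rfl⟩]
    exact congrArg ρ (Subtype.ext (hμR r))
  · show ρ ⟨μ _, _⟩ = (x : Ω)
    rw [← hρi ⟨x, hXN x.2⟩ ⟨_, rfl⟩]
    exact congrArg ρ (Subtype.ext (hμX x))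

/-- The normal subsystem is centralized by every subgroup of `C_S(T)` fixed by the extensions. -/
theorem hom_subset_centralizerHom_of_fixed (hS : IsPGroup p S) (hE : E.IsNormalIn F p) (hTS : T ≤ S)
    {X : Subgroup Ω} (hXC : X ≤ centralizerIn S T) (hX : FixedByExt F E p X) (P : Subgroup Ω) :
    E.Hom P ⊆ F.centralizerHom X P := by
  obtain ⟨⟨hEs, hF, hinv⟩, hext⟩ := hE
  have hsub := hinv.1
  have hTcl := hinv.2.1
  have hTn := le_normalizer_of_stronglyClosed hTcl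
  have hXS : X ≤ S := hXC.trans (centralizerIn_le S T)
  have hTX : T ≤ centralizerIn S X := fun t ht => mem_centralizerIn.2 ⟨hTS ht, fun x hx =>
    ((mem_centralizerIn.1 (hXC hx)).2 t ht).symm⟩
  set G := centralizerSystem F X hXS with hG
  have := finite_of_le (Ω := Ω) hTS
  have hTp : IsPGroup p T := hS.to_le hTS
  intro φ hφ
  show φ ∈ G.Hom P
  refine alperin_strong_induction (C := fun P φ => φ ∈ G.Hom P) hTp hEs ?_ ?_ ?_ ?_ hφ
  · exact fun P g hP hg => G.conj_mem (hP.trans hTX) (hTX hg)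
  · exact fun P Q φ ψ _ _ h1 h2 h => G.comp_mem h1 h2 h
  · exact fun P φ ψ _ h1 _ hi => inv_mem' h1 rfl fun x _ => hi x
  intro R hRn hRc _ hbig α hα
  have hRT := hRc.1
  have hRS := hRT.trans hTS
  have hRX : R ≤ centralizerIn S X := hRT.trans hTX
  refine (mem_autGroup_iff (F := G) hRX).1 ?_
  have hAE : E.autGroup R ≤ F.autGroup R := autGroup_le_of_subsystem hsub hRT
  have hauto := isFullyAutomized_of_fullyNormalized hTp hEs hRn
  obtain ⟨-, U, hU⟩ := hauto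
  have hUG : autInducedBy T R ≤ G.autGroup R :=
    (autInducedBy_mono hTX).trans (autInducedBy_le_autGroup G hRX)
  have := finite_autGroup (F := E) hRT
  by_cases hRT' : R = T
  · subst hRT'
    have hFC : F.IsFullyCentralized R := isFullyCentralized_of_fullyNormalized hS hF
      ⟨hRS, fun Q' _ => by
        rw [normalizerIn_eq_of_le hTn]
        exact card_le_of_le le_rfl (normalizerIn_le S Q')⟩
    have hres : ∀ a : E.autGroup R, (orderOf a).Coprime p → (a : MulAut R) ∈ G.autGroup R := by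
      intro a ha
      have hid := subtype_mem F (normalizerIn_le S R)
      have hidr : ((normalizerIn S R).subtype.comp
          (Subgroup.inclusion (le_normalizerIn hRS))).range = R := by
        rw [Subgroup.subtype_comp_inclusion, Subgroup.range_subtype]
      refine (mem_autGroup_iff (F := G) hRX).2 (fixes_of_transport hS hF hsub hTS hXC hX le_rfl hFC
        hid hidr a.2 (by rwa [Subgroup.orderOf_coe]) ?_)
      rw [show MulAut.congr (homEquiv (restrict_mem hid (le_normalizerIn hRS)) hidr) (a : MulAut R) =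
          (a : MulAut R) from ?_]
      · obtain ⟨β, hβ, hβR, hβC⟩ := hext _ a.2
        exact ⟨β, hβ, fun x => Subtype.ext (hβR x), fun c hc => (hβC c hc).1⟩
      · refine MulEquiv.ext fun x => ?_
        obtain ⟨y, rfl⟩ := (homEquiv (restrict_mem hid (le_normalizerIn hRS)) hidr).surjective x
        refine Subtype.ext ?_
        show (((a : MulAut R) ((homEquiv _ hidr).symm (homEquiv _ hidr y)) : R) : Ω) = _
        rw [MulEquiv.symm_apply_apply]
        rfl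
    refine autGroup_le_of_residual (p := p) (isFullyAutomized_of_fullyNormalized hTp hEs hRn) ?_ hUG hα
    rw [Cfsg.pResidual, MonoidHom.map_closure, Subgroup.closure_le]
    rintro _ ⟨a, ha, rfl⟩
    exact hres a ha
  -- `R` proper
  obtain ⟨R', hRR', hR'⟩ := exists_fullyNormalized F hRS
  obtain ⟨χ, hχ, -, hχR⟩ := exists_hom_fullyNormalized hS hF hR' hRR'
  have hr : (χ.comp (Subgroup.inclusion (le_normalizerIn hRS))).range = R' := by
    rw [MonoidHom.range_comp, Subgroup.inclusion_range, hχR]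
  have hFC := isFullyCentralized_of_fullyNormalized hS hF hR'
  have hcen := centralizerIn_le_of_isConj hinv hRc hRR'
  set e := homEquiv (restrict_mem hχ (le_normalizerIn hRS)) hr with he
  let K : Subgroup (E.autGroup R) :=
    (bExt F R').comap ((MulAut.congr e).toMonoidHom.comp (E.autGroup R).subtype)
  have hKn : K.Normal := ⟨fun k hk a => by
    show MulAut.congr e ((a * k * a⁻¹ : E.autGroup R) : MulAut R) ∈ bExt F R'
    rw [Subgroup.coe_mul, Subgroup.coe_mul, Subgroup.coe_inv, map_mul, map_mul, map_inv]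
    exact conj_mem_bExt hS hF hFC (congr_mem_autGroup _ _ (hAE a.2)) hk⟩
  have hUK : (U : Subgroup (E.autGroup R)) ≤ K := by
    intro u hu
    rw [hU] at hu
    obtain ⟨t, ht, hut⟩ := mem_autInducedBy_iff.1 (Subgroup.mem_subgroupOf.1 hu)
    have htN : t ∈ normalizerIn S R := ⟨hTS ht, mem_normalizer_of_aut hut⟩
    set s := χ ⟨t, htN⟩ with hs
    have hsT : s ∈ T := hTcl.2 (normalizerIn S R ⊓ T) inf_le_right _ (restrict_mem hχ inf_le_left) ⟨t, htN, ht⟩
    have hsx : ∀ x : R', ((MulAut.congr e (u : MulAut R) x : R') : Ω) = s * x * s⁻¹ := by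
      intro x
      obtain ⟨y, rfl⟩ := e.surjective x
      show ((e ((u : MulAut R) (e.symm (e y))) : R') : Ω) = s * ((e y : R') : Ω) * s⁻¹
      rw [MulEquiv.symm_apply_apply]
      show χ _ = χ _ * χ _ * (χ _)⁻¹
      rw [← map_inv, ← map_mul, ← map_mul]
      exact congrArg χ (Subtype.ext (hut y))
    show MulAut.congr e (u : MulAut R) ∈ bExt F R'
    rw [show MulAut.congr e (u : MulAut R) = conjAut (mem_normalizer_of_aut hsx) from
      MulEquiv.ext fun x => Subtype.ext (hsx x)]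
    exact conjAut_mem_bExt hR'.1 hTS hTn hcen hsT _
  have hKH : ∀ k ∈ K, (k : MulAut R) ∈ G.autGroup R := by
    have h1 : ∀ a ∈ K, (orderOf a).Coprime p → (a : MulAut R) ∈ G.autGroup R := fun a ha hc =>
      (mem_autGroup_iff (F := G) hRX).2 (fixes_of_transport hS hF hsub hTS hXC hX hRT hFC hχ hr a.2
        (by rwa [Subgroup.orderOf_coe]) ha)
    have htop := Transfer.sylow_sup_pResidual_eq_top (U.subtype hUK)
    suffices h : ((U.subtype hUK : Subgroup K) ⊔ Cfsg.pResidual p K) ≤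
        (G.autGroup R).comap ((E.autGroup R).subtype.comp K.subtype) by
      rw [htop] at h
      exact fun k hk => h (Subgroup.mem_top ⟨k, hk⟩)
    refine sup_le (fun u hu => ?_) ((Subgroup.closure_le _).2 fun a ha =>
      h1 a a.2 (by rwa [Subgroup.orderOf_coe]))
    rw [Sylow.coe_subtype, Subgroup.mem_subgroupOf, hU] at hu
    exact hUG (Subgroup.mem_subgroupOf.1 hu)
  have hfr : Subgroup.normalizer ((U : Subgroup (E.autGroup R)) : Set (E.autGroup R)) ⊔ K = ⊤ := by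
    have h := Sylow.normalizer_sup_eq_top (U.subtype hUK)
    rwa [Sylow.coe_subtype, Subgroup.subgroupOf_map_subtype, inf_eq_left.2 hUK] at h
  obtain ⟨m, hm, k, hk, hmk⟩ := Subgroup.mem_sup_of_normal_right.1
    (hfr ▸ Subgroup.mem_top (⟨α, hα⟩ : E.autGroup R))
  rw [show α = (m : MulAut R) * (k : MulAut R) from (congrArg Subtype.val hmk).symm]
  refine mul_mem ?_ (hKH k hk)
  obtain ⟨hφm, hφmr⟩ := hom_of_mem_autGroup hRT m.2
  have hext' : normalizerIn T R ≤ extender T R (R.subtype.comp (m : MulAut R).toMonoidHom) := by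
    rintro g ⟨hgT, hgN⟩
    have hc₁ := autInducedBy_le_autGroup E hRT (conjAut_mem_autInducedBy hgT hgN)
    have hcU : (⟨conjAut hgN, hc₁⟩ : E.autGroup R) ∈ (U : Subgroup (E.autGroup R)) := by
      rw [hU]
      exact conjAut_mem_autInducedBy hgT hgN
    have h2 := (Subgroup.mem_normalizer_iff.1 hm _).1 hcU
    rw [hU] at h2
    obtain ⟨h, hhT, hh⟩ := mem_autInducedBy_iff.1 (Subgroup.mem_subgroupOf.1 h2)
    refine mem_extender_iff.2 ⟨hgT, hgN, h, hhT, fun x hx => ?_⟩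
    have h3 := hh ((m : MulAut R) x)
    rw [show ((m * ⟨conjAut hgN, hc₁⟩ * m⁻¹ : E.autGroup R) : MulAut R) ((m : MulAut R) x) =
      (m : MulAut R) (conjAut hgN ((m : MulAut R)⁻¹ ((m : MulAut R) x))) from rfl,
      MulAut.inv_apply_self] at h3
    exact h3
  obtain ⟨ψ, hψ, hψe⟩ := exists_extension (isReceptive_of_fullyNormalized hTp hEs hRn) hφm hφmr hext'
  have hlt : R < normalizerIn T R := lt_normalizerIn hTp (lt_of_le_of_ne hRT hRT')
  refine (mem_autGroup_iff (F := G) hRX).2 ?_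
  exact mem_of_le (F := G) (hbig _ (card_lt_of_lt (normalizerIn_le T R) hlt) ψ hψ)
    (le_normalizerIn hRT) fun x => (hψe x x.2 _).symm

/-- The normal subsystem is centralized by the focal subgroup of `C_F(T)`. -/
theorem hom_subset_centralizerHom_focal (hS : IsPGroup p S) (hE : E.IsNormalIn F p) (hTS : T ≤ S)
    (P : Subgroup Ω) :
    E.Hom P ⊆ F.centralizerHom (centralizerSystem F T hTS).focalSubgroup P :=
  hom_subset_centralizerHom_of_fixed hS hE hTS (focalSubgroup_le _)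
    (fixedByExt_focal hS hE.1.2.1 hTS) P

/-- The subgroups of `C_S(T)` centralizing `E`. -/
def centralizing (F : FusionSystem S) (E : FusionSystem T) : Set (Subgroup Ω) :=
  {Y : Subgroup Ω | Y ≤ centralizerIn S T ∧ ∀ P : Subgroup Ω, E.Hom P ⊆ F.centralizerHom Y P}

theorem fixedByExt_sSup (hS : IsPGroup p S) (hF : F.IsSaturated p) :
    FixedByExt F E p (sSup (centralizing F E)) := by
  intro R R' hRT hR' χ hχ hRN hr α hα γ hγ hord hγR hγC x hx hxN h
  let fix : Subgroup Ω :=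
    ((((MonoidHom.eqLocus γ.toMonoidHom (MonoidHom.id _)).map (rc S R').subtype).comap χ).map
      (normalizerIn S R).subtype)
  suffices hle : sSup (centralizing F E) ≤ fix by
    obtain ⟨n, ⟨q, hq, hqn⟩, hnx⟩ := hle hx
    obtain rfl : n = ⟨x, hxN⟩ := Subtype.ext hnx
    rw [show (⟨_, h⟩ : ↥(rc S R')) = q from Subtype.ext hqn.symm]
    exact (congrArg Subtype.val (hq : γ q = q)).trans hqn
  refine sSup_le fun Y ⟨hYC, hYE⟩ y hy => ?_
  have hCN : centralizerIn S R ≤ normalizerIn S R := centralizerIn_le_normalizerIn S R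
  have hyR : y ∈ centralizerIn S R := centralizerIn_anti hRT (hYC hy)
  have hyC' := apply_mem_centralizer_image hχ hRN hr ⟨y, hCN hyR⟩ hyR
  refine ⟨⟨y, hCN hyR⟩, ⟨⟨_, Subgroup.mem_sup_right hyC'⟩, ?_, rfl⟩, rfl⟩
  obtain ⟨-, -, -, ψ, hψ, hψR, hψY⟩ := hYE R ((mem_autGroup_iff hRT).1 hα)
  obtain ⟨ρ, hρ, -, hρi, -⟩ := exists_inverse hχ (rfl : χ.range = χ.range)
  set y' := χ ⟨y, hCN hyR⟩ with hy'
  have hW : Subgroup.zpowers y' ⊔ R' ≤ χ.range :=
    sup_le (Subgroup.zpowers_le.2 ⟨_, rfl⟩) (hr ▸ by rintro _ ⟨z, rfl⟩; exact ⟨_, rfl⟩)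
  have hρW : ∀ z, ρ (Subgroup.inclusion hW z) ∈ R ⊔ Y := by
    refine forall_sup_mem (ρ.comp (Subgroup.inclusion hW)) ?_ ?_
    · rintro ⟨_, n, rfl⟩
      refine Subgroup.mem_sup_right (Set.mem_of_eq_of_mem ?_ (Y.zpow_mem hy n))
      rw [← show ρ (⟨y', ⟨_, rfl⟩⟩ : χ.range) = y from hρi _ _, ← map_zpow]
      exact congrArg ρ (Subtype.ext rfl)
    · rintro ⟨_, hz⟩
      obtain ⟨r, rfl⟩ := hr.ge hz
      exact Subgroup.mem_sup_left (Set.mem_of_eq_of_mem (hρi (Subgroup.inclusion hRN r) _) r.2)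
  have hψN : ∀ z, ψ z ∈ normalizerIn S R := forall_sup_mem ψ
    (fun r => by rw [hψR]; exact hRN (α r).2)
    (fun z => by rw [hψY]; exact hCN (centralizerIn_anti hRT (hYC z.2)))
  set f := χ.comp ((ψ.comp ((ρ.comp (Subgroup.inclusion hW)).codRestrict (R ⊔ Y) hρW)).codRestrict
    (normalizerIn S R) fun z => hψN _) with hf
  have hfF : f ∈ F.Hom _ :=
    F.comp_mem (F.comp_mem (restrict_mem hρ hW) hψ hρW) hχ fun z => hψN _
  refine fixes_of_map hS hF hR' hγ hord (fun z hz => ?_) hγC hyC' hfF (fun r' => ?_) ?_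
  · obtain ⟨r, hrz⟩ := hr.ge hz
    rw [show z = (⟨χ (Subgroup.inclusion hRN r), Set.mem_of_eq_of_mem hrz z.2⟩ : ↥(rc S R')) from
      Subtype.ext hrz.symm, hγR]
    exact hr.le ⟨α r, rfl⟩
  · obtain ⟨r, hrr⟩ := hr.ge r'.2
    rw [show Subgroup.inclusion (le_sup_left : R' ≤ rc S R') r' =
      ⟨χ (Subgroup.inclusion hRN r), Subgroup.mem_sup_left (hr.le ⟨r, rfl⟩)⟩ from
        Subtype.ext hrr.symm, hγR]
    refine congrArg χ (Subtype.ext ?_)
    show ψ ⟨_, _⟩ = _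
    refine Eq.trans (congrArg ψ (Subtype.ext ?_)) (hψR r)
    refine Eq.trans (congrArg ρ (Subtype.ext ?_)) (hρi (Subgroup.inclusion hRN r) ⟨_, rfl⟩)
    exact hrr.symm
  · refine congrArg χ (Subtype.ext ?_)
    show ψ ⟨_, _⟩ = y
    refine Eq.trans (congrArg ψ (Subtype.ext ?_)) (hψY ⟨y, hy⟩)
    exact hρi ⟨y, hCN hyR⟩ _

/-- The join of the subgroups centralizing `E` centralizes `E`. -/
theorem sSup_mem_centralizing (hS : IsPGroup p S) (hE : E.IsNormalIn F p) :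
    sSup (centralizing F E) ∈ centralizing F E := by
  have hC : sSup (centralizing F E) ≤ centralizerIn S T := sSup_le fun Y hY => hY.1
  exact ⟨hC, hom_subset_centralizerHom_of_fixed hS hE hE.1.2.2.2.1.1 hC
    (fixedByExt_sSup hS hE.1.2.1)⟩

end Cfsg.Agent.Fusion.NormalCentralizer
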