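import Mathlib.GroupTheory.Sylow
import Mathlib.GroupTheory.QuotientGroup.Basic

/-!
Lifting fusion through a quotient by a normal subgroup.
-/

set_option autoImplicit false

namespace Cfsg.Agent.Fusion.QuotientLift

open Pointwise

/-- If a conjugate of a `p`-subgroup lies in `S` modulo `H ⊴ G`, some element of `H` moves it into `S`. -/
theorem exists_mem_conj_le {G : Type*} [Group G] [Finite G] {p : ℕ} [Fact p.Prime] (S : Sylow p G)
    (H : Subgroup G) [H.Normal] {P : Subgroup G} (hP : IsPGroup p P) (g : G)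
    (hg : ∀ x ∈ P, (QuotientGroup.mk (g * x * g⁻¹) : G ⧸ H) ∈ ((S : Subgroup G).map (QuotientGroup.mk' H))) :
    ∃ h ∈ H, ∀ x ∈ P, (h * g) * x * (h * g)⁻¹ ∈ S := by
  set M := (S : Subgroup G) ⊔ H with hM
  set Q := P.map (MulAut.conj g).toMonoidHom
  have hQM : Q ≤ M := by
    rintro _ ⟨x, hx, rfl⟩
    obtain ⟨s, hs, hsx⟩ := hg x hx
    have h1 : s⁻¹ * (g * x * g⁻¹) ∈ H := QuotientGroup.eq.mp hsx
    have h2 := M.mul_mem (Subgroup.mem_sup_left (T := H) hs) (Subgroup.mem_sup_right (S := (S : Subgroup G)) h1)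
    rw [mul_inv_cancel_left] at h2
    exact h2
  obtain ⟨T, hT⟩ := ((hP.map (MulAut.conj g).toMonoidHom).comap_of_injective M.subtype M.subtype_injective).exists_le_sylow
  obtain ⟨m, hm⟩ := MulAction.exists_smul_eq M T (S.subtype (le_sup_left : (S : Subgroup G) ≤ M))
  obtain ⟨s, hs, h, hh, hsh⟩ := Subgroup.mem_sup_of_normal_right.mp (show (m : G) ∈ (S : Subgroup G) ⊔ H from m.2)
  refine ⟨h, hh, fun x hx => ?_⟩
  have hxM : g * x * g⁻¹ ∈ M := hQM ⟨x, hx, rfl⟩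
  have h1 : m * ⟨_, hxM⟩ * m⁻¹ ∈ (S.subtype (le_sup_left : (S : Subgroup G) ≤ M) : Subgroup M) := by
    rw [← hm, Sylow.coe_subgroup_smul]
    exact Subgroup.smul_mem_pointwise_smul _ (MulAut.conj m) _ (hT (show g * x * g⁻¹ ∈ Q from ⟨x, hx, rfl⟩))
  have h2 : (m : G) * (g * x * g⁻¹) * (m : G)⁻¹ ∈ (S : Subgroup G) := h1
  have h3 := (S : Subgroup G).mul_mem ((S : Subgroup G).mul_mem ((S : Subgroup G).inv_mem hs) h2) hs
  rw [← hsh] at h3
  show h * g * x * (h * g)⁻¹ ∈ (S : Subgroup G)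
  convert h3 using 1
  group

end Cfsg.Agent.Fusion.QuotientLift
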