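import Cfsg.Agent.Lib.Fusion.Constrained
import Cfsg.Agent.Lib.Fusion.QuotientLift
import Cfsg.Agent.Lib.Fusion.Group

/-!
The fusion system of `L ⧸ Z` with `Z` central is constrained if that of `L` is.
-/

set_option autoImplicit false

namespace Cfsg.Agent.Fusion

open Cfsg Cfsg.FusionSystem
open scoped commutatorElement

variable {Ω : Type*} [Group Ω] {S : Subgroup Ω} {F : FusionSystem S} {p : ℕ}

/-- In a constrained system, an element of `S` that centralizes `O_p(F)` modulo a strongly closed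
central subgroup `Z` lies in `O_p(F)`. -/
theorem mem_core_of_centralizes_mod [Finite S] [Fact p.Prime] (hS : IsPGroup p S)
    (hF : F.IsConstrained p) {Z : Subgroup Ω} (hZc : F.StronglyClosed Z)
    (hZS : Z ≤ Subgroup.centralizer (S : Set Ω)) {x : Ω} (hx : x ∈ S)
    (h : ∀ r ∈ F.core, ⁅x, r⁆ ∈ Z) : x ∈ F.core := by
  set Q := F.core with hQdef
  have hQn : F.IsNormal Q := isNormal_core F
  have hQc := stronglyClosed_of_isNormal hQn
  have hcen := (isCentric_core hF).2 Q (isConj_refl F hQn.1)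
  have hZ : ∀ z ∈ Z, ∀ s ∈ S, Commute z s := fun z hz s hs =>
    (Subgroup.mem_centralizer_iff.1 (hZS hz) s hs).symm
  -- the elements centralizing `Q` modulo `Z`
  let Y : Subgroup Ω :=
    { carrier := {y | y ∈ S ∧ ∀ r ∈ Q, ⁅y, r⁆ ∈ Z}
      one_mem' := ⟨S.one_mem, fun r _ => by simp⟩
      mul_mem' := fun {a b} ha hb => ⟨S.mul_mem ha.1 hb.1, fun r hr => by
        have h1 : a * ⁅b, r⁆ * a⁻¹ = ⁅b, r⁆ := by
          rw [← (hZ _ (hb.2 r hr) a ha.1).eq, mul_inv_cancel_right]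
        have h2 : ⁅a * b, r⁆ = (a * ⁅b, r⁆ * a⁻¹) * ⁅a, r⁆ := by
          simp only [commutatorElement_def]; group
        rw [h2, h1]
        exact Z.mul_mem (hb.2 r hr) (ha.2 r hr)⟩
      inv_mem' := fun {a} ha => ⟨S.inv_mem ha.1, fun r hr => by
        have h2 : ⁅a⁻¹, r⁆ = a⁻¹ * ⁅a, r⁆⁻¹ * a := by simp only [commutatorElement_def]; group
        rw [h2, mul_assoc, (hZ _ (Z.inv_mem (ha.2 r hr)) a ha.1).eq, inv_mul_cancel_left]
        exact Z.inv_mem (ha.2 r hr)⟩ }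
  have hYS : Y ≤ S := fun y hy => hy.1
  have hZY : Z ≤ Y := fun z hz => ⟨hZc.1 hz, fun r hr => by
    rw [commutatorElement_eq_one_iff_commute.2 (hZ z hz r (hQn.1 hr))]
    exact Z.one_mem⟩
  have hZQ : Z ≤ Q := fun z hz => hcen (mem_centralizerIn.2
    ⟨hZc.1 hz, fun r hr => (hZ z hz r (hQn.1 hr)).eq.symm⟩)
  have hY : F.StronglyClosed Y := by
    refine ⟨hYS, fun P hP φ hφ y => ⟨apply_mem hφ y, fun r hr => ?_⟩⟩
    obtain ⟨ψ, hψ, hψP, hψQ⟩ := hQn.2 P φ hφ
    obtain ⟨w, hw, rfl⟩ := hψQ.ge hr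
    rw [← hψP y, ← map_commutatorElement]
    have h1 := (hP y.2).2 (w : Ω) hw
    have hmemc : ⁅(y : Ω), (w : Ω)⁆ ∈ P ⊔ Q := by
      rw [commutatorElement_def]
      have hy : (y : Ω) ∈ P ⊔ Q := Subgroup.mem_sup_left y.2
      exact Subgroup.mul_mem _ (Subgroup.mul_mem _ (Subgroup.mul_mem _ hy w.2)
        (Subgroup.inv_mem _ hy)) (Subgroup.inv_mem _ w.2)
    have e : (⁅Subgroup.inclusion (le_sup_left : P ≤ P ⊔ Q) y, w⁆ : ↥(P ⊔ Q)) = ⟨_, hmemc⟩ :=
      Subtype.ext rfl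
    rw [e]
    exact hZc.2 ((P ⊔ Q) ⊓ Z) inf_le_right _ (restrict_mem hψ inf_le_left) ⟨_, hmemc, h1⟩
  have hYY : ⁅Y, Y⁆ ≤ Y ⊓ Q := by
    refine le_inf ?_ ?_
    · exact Subgroup.commutator_le.2 fun a ha b hb => by
        rw [commutatorElement_def]
        exact Y.mul_mem (Y.mul_mem (Y.mul_mem ha hb) (Y.inv_mem ha)) (Y.inv_mem hb)
    · rw [Subgroup.commutator_le]
      intro a ha b hb
      refine hcen (mem_centralizerIn.2 ⟨?_, fun q hq => ?_⟩)
      · rw [commutatorElement_def]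
        exact S.mul_mem (S.mul_mem (S.mul_mem ha.1 hb.1) (S.inv_mem ha.1)) (S.inv_mem hb.1)
      · have hab : ∀ r ∈ Q, a * b * r * (a * b)⁻¹ = b * a * r * (b * a)⁻¹ := fun r hr => by
          have e1 : a * b * r * (a * b)⁻¹ = ⁅b, r⁆ * (⁅a, r⁆ * r) := by
            have h1 : a * ⁅b, r⁆ * a⁻¹ = ⁅b, r⁆ := by
              rw [← (hZ _ (hb.2 r hr) a ha.1).eq, mul_inv_cancel_right]
            calc a * b * r * (a * b)⁻¹ = a * ⁅b, r⁆ * a⁻¹ * (⁅a, r⁆ * r) := by
                  simp only [commutatorElement_def]; group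
              _ = _ := by rw [h1]
          have e2 : b * a * r * (b * a)⁻¹ = ⁅a, r⁆ * (⁅b, r⁆ * r) := by
            have h1 : b * ⁅a, r⁆ * b⁻¹ = ⁅a, r⁆ := by
              rw [← (hZ _ (ha.2 r hr) b hb.1).eq, mul_inv_cancel_right]
            calc b * a * r * (b * a)⁻¹ = b * ⁅a, r⁆ * b⁻¹ * (⁅b, r⁆ * r) := by
                  simp only [commutatorElement_def]; group
              _ = _ := by rw [h1]
          rw [e1, e2, ← mul_assoc, ← mul_assoc,
            (hZ _ (hb.2 r hr) _ (hZc.1 (ha.2 r hr))).eq]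
        have hq' : (b * a)⁻¹ * q * (b * a) ∈ Q := by
          have := (Subgroup.mem_normalizer_iff.1 (le_normalizer_of_isNormal hQn
            (S.inv_mem (S.mul_mem hb.1 ha.1))) q).1 hq
          simpa using this
        have h1 := hab _ hq'
        have h2 : a * b * ((b * a)⁻¹ * q * (b * a)) * (a * b)⁻¹ = q := by rw [h1]; group
        rw [commutatorElement_def]
        calc q * (a * b * a⁻¹ * b⁻¹)
            = a * b * ((b * a)⁻¹ * q * (b * a)) * (a * b)⁻¹ * (a * b * a⁻¹ * b⁻¹) := by rw [h2]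
          _ = a * b * a⁻¹ * b⁻¹ * q := by group
  have hYn : F.IsNormal Y := by
    refine isNormal_of_chain hS hF.1 (n := 3)
      (T := fun i => if i = 0 then ⊥ else if i = 1 then Z else if i = 2 then Y ⊓ Q else Y)
      rfl rfl ?_ ?_
    · intro i _
      rcases i with - | - | - | i
      · exact stronglyClosed_bot
      · exact hZc
      · exact stronglyClosed_inf hY hQc
      · exact hY
    · intro i hi
      rcases i with - | - | - | i
      · show ⁅Y, Z⁆ ≤ ⊥
        rw [le_bot_iff, Subgroup.commutator_eq_bot_iff_le_centralizer]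
        exact fun y hy => Subgroup.mem_centralizer_iff.2 fun z hz => (hZ z hz y (hYS hy)).eq
      · show ⁅Y, Y ⊓ Q⁆ ≤ Z
        exact Subgroup.commutator_le.2 fun a ha b hb => ha.2 b hb.2
      · exact hYY
      · omega
  exact le_core hYn ⟨hx, h⟩

/-- If the system of `L` on a Sylow subgroup is constrained, so is that of `L ⧸ Z`, `Z` central. -/
theorem isConstrained_centralQuotient {L : Type*} [Group L] [Finite L] [Fact p.Prime]
    (T : Sylow p L) (hF : (Cfsg.groupFusionSystem (T : Subgroup L)).IsConstrained p)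
    (Z : Subgroup L) [Z.Normal] (hZ : Z ≤ Subgroup.center L) :
    (Cfsg.groupFusionSystem ((T : Subgroup L).map (QuotientGroup.mk' Z))).IsConstrained p := by
  set F := Cfsg.groupFusionSystem (T : Subgroup L) with hFdef
  set π := QuotientGroup.mk' Z with hπ
  have hsurj : Function.Surjective π := QuotientGroup.mk'_surjective Z
  have hn : F.IsNormal F.core := isNormal_core F
  have hcen : ∀ z ∈ Z, ∀ g : L, g * z = z * g := fun z hz g =>
    (Subgroup.mem_center_iff.1 (hZ hz) g)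
  have hsat : (Cfsg.groupFusionSystem ((T : Subgroup L).map π)).IsSaturated p := by
    have h := groupFusionSystem_saturated (T.mapSurjective hsurj)
    rwa [Sylow.coe_mapSurjective] at h
  have hT2 : F.StronglyClosed ((T : Subgroup L) ⊓ Z) := by
    refine ⟨inf_le_left, ?_⟩
    rintro P hP φ ⟨-, hφ, g, hg⟩ x
    refine ⟨hφ x, ?_⟩
    rw [hg, hcen _ (hP x.2).2 g, mul_inv_cancel_right]
    exact (hP x.2).2
  have hext : ∀ P : Subgroup (L ⧸ Z), P ≤ (T : Subgroup L).map π → ∀ g : L,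
      (∀ x ∈ P, π g * x * (π g)⁻¹ ∈ (T : Subgroup L).map π) → ∃ k : L,
      (∀ x ∈ P ⊔ F.core.map π, π k * x * (π k)⁻¹ ∈ (T : Subgroup L).map π) ∧
      (∀ x ∈ P, π k * x * (π k)⁻¹ = π g * x * (π g)⁻¹) ∧
      ∀ x : L, x ∈ F.core ↔ k * x * k⁻¹ ∈ F.core := by
    intro P hP g hg
    set P' := (T : Subgroup L) ⊓ P.comap π with hP'
    have hPm : P ≤ P'.map π := fun x hx => by
      obtain ⟨t, ht, rfl⟩ := hP hx
      exact ⟨t, ⟨ht, hx⟩, rfl⟩
    have hg' : ∀ x ∈ P', g * x * g⁻¹ ∈ (T : Subgroup L) := by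
      intro x hx
      obtain ⟨h, hh, hc⟩ := QuotientLift.exists_mem_conj_le T Z (T.2.to_le inf_le_left) g
        (P := P') (fun y hy => by
          show π (g * y * g⁻¹) ∈ _
          rw [map_mul, map_mul, map_inv]
          exact hg _ hy.2)
      have h1 := hc x hx
      have h2 : h * g * x * (h * g)⁻¹ = g * x * g⁻¹ := by
        calc h * g * x * (h * g)⁻¹ = h * (g * x * g⁻¹) * h⁻¹ := by group
          _ = g * x * g⁻¹ := by rw [← hcen h hh, mul_inv_cancel_right]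
      rwa [h2] at h1
    have hmem : conjHom P' g ∈ F.Hom P' := ⟨inf_le_left, fun x => hg' x x.2, g, fun _ => rfl⟩
    obtain ⟨ψ, hψ, hψP, hψQ⟩ := hn.2 P' _ hmem
    obtain ⟨-, hψT, k, hk⟩ := id hψ
    refine ⟨k, ?_, ?_, ?_⟩
    · intro x hx
      have : x ∈ (P' ⊔ F.core).map π := by
        rw [Subgroup.map_sup]
        exact sup_le_sup_right hPm _ hx
      obtain ⟨y, hy, rfl⟩ := this
      refine ⟨_, hψT ⟨y, hy⟩, ?_⟩
      rw [hk, map_mul, map_mul, map_inv]
    · intro x hx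
      obtain ⟨y, hy, rfl⟩ := hPm hx
      have h1 : k * y * k⁻¹ = g * y * g⁻¹ := (hk _).symm.trans (hψP ⟨y, hy⟩)
      rw [← map_inv, ← map_mul, ← map_mul, h1, map_mul, map_mul, map_inv]
    · intro x
      constructor
      · intro hx
        exact hψQ.le ⟨⟨x, Subgroup.mem_sup_right hx⟩, hx, hk _⟩
      · intro hx
        obtain ⟨⟨y, hy'⟩, hy, he⟩ := hψQ.ge hx
        rw [hk] at he
        have : y = x := mul_left_cancel (mul_right_cancel he)
        exact this ▸ hy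
  have hnorm : (Cfsg.groupFusionSystem ((T : Subgroup L).map π)).IsNormal (F.core.map π) := by
    refine ⟨Subgroup.map_mono hn.1, ?_⟩
    rintro P φ ⟨hP, hφT, g', hg⟩
    obtain ⟨g, rfl⟩ := hsurj g'
    obtain ⟨k, hk1, hk2, hk3⟩ := hext P hP g (fun x hx => by
      rw [← hg ⟨x, hx⟩]; exact hφT _)
    refine ⟨conjHom _ (π k), ⟨sup_le hP (Subgroup.map_mono hn.1), fun x => hk1 x x.2, π k,
      fun _ => rfl⟩, fun x => ?_, ?_⟩
    · rw [hg]
      exact hk2 x x.2
    · ext y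
      constructor
      · rintro ⟨⟨z, hz⟩, ⟨w, hw, hwz⟩, rfl⟩
        refine ⟨k * w * k⁻¹, (hk3 w).1 hw, ?_⟩
        show π (k * w * k⁻¹) = π k * z * (π k)⁻¹
        rw [map_mul, map_mul, map_inv]
        exact congrArg (fun t => π k * t * (π k)⁻¹) hwz
      · rintro ⟨w, hw, rfl⟩
        refine ⟨⟨π (k⁻¹ * w * k), Subgroup.mem_sup_right ⟨_, (hk3 _).2 (by simpa [mul_assoc] using hw), rfl⟩⟩,
          ⟨_, (hk3 _).2 (by simpa [mul_assoc] using hw), rfl⟩, ?_⟩
        show π k * π (k⁻¹ * w * k) * (π k)⁻¹ = π w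
        rw [← map_inv, ← map_mul, ← map_mul]
        congr 1
        group
  refine ⟨hsat, _, hnorm, hnorm.1, ?_⟩
  rintro Q' ⟨φ, hφ, rfl⟩
  obtain ⟨ψ, hψ, hψP, hψQ⟩ := hnorm.2 _ φ hφ
  have hr : φ.range = F.core.map π := by
    ext y
    constructor
    · rintro ⟨x, rfl⟩
      exact hψQ.le ⟨_, x.2, hψP x⟩
    · intro hy
      obtain ⟨x, hx, rfl⟩ := hψQ.ge hy
      exact ⟨⟨x, hx⟩, (hψP ⟨(x : L ⧸ Z), hx⟩).symm⟩
  rw [hr]
  intro y hy
  obtain ⟨⟨x, hx, rfl⟩, hyc⟩ := mem_centralizerIn.1 hy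
  refine ⟨x, mem_core_of_centralizes_mod T.2 hF hT2 ?_ hx fun r hr => ⟨?_, ?_⟩, rfl⟩
  · exact fun z hz => Subgroup.mem_centralizer_iff.2 fun s _ => hcen z hz.2 s
  · have hr' := hn.1 hr
    rw [commutatorElement_def]
    exact Subgroup.mul_mem _ (Subgroup.mul_mem _ (Subgroup.mul_mem _ hx hr') (Subgroup.inv_mem _ hx))
      (Subgroup.inv_mem _ hr')
  · refine (QuotientGroup.eq_one_iff _).1 ?_
    show π ⁅x, r⁆ = 1
    rw [map_commutatorElement, commutatorElement_eq_one_iff_commute]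
    exact (hyc (π r) ⟨r, hr, rfl⟩).symm

end Cfsg.Agent.Fusion
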