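import Cfsg.Agent.Lib.Fusion.ModelWitness
import Cfsg.Agent.Lib.Fusion.Factor
import Cfsg.Agent.Lib.Fusion.Constrained
import Cfsg.Agent.Lib.Fusion.KNormalizer

/-!
A saturated system that is not of inner type and is tame (`p` odd, or no automorphism group
involves `Sym(3)`) has a constrained saturated subsystem on the same `p`-group that is not of
inner type. Consequently it moves inside `N(J(S))` or inside `C(Z(S))`.
-/

set_option autoImplicit false

universe u v

namespace Cfsg.Agent.Fusion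

open Cfsg Cfsg.FusionSystem

variable {Ω : Type u} [Group Ω] {S : Subgroup Ω} {F : FusionSystem S} {p : ℕ}

/-- An automorphism of a subgroup of `N_S(W)` normalizing `W` shows `N_F(W)` is not of inner
type. -/
theorem normalizer_not_isInnerType [Finite S] [Fact p.Prime] {W P : Subgroup Ω}
    (hP : P ≤ normalizerIn S W) (hWP : W ≤ P) {a : MulAut P} (ha : a ∈ F.autGroup P)
    (hco : (orderOf a).Coprime p) (hne : a ≠ 1)
    (hinv : ∀ x : P, (x : Ω) ∈ W → ((a x : P) : Ω) ∈ W)
    {N : FusionSystem (normalizerIn S W)} (hN : F.IsNormalizerSystem W N) :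
    ¬ IsInnerType N p := by
  have hPS := hP.trans (normalizerIn_le S W)
  have hm := (mem_autGroup_iff hPS).1 ha
  refine not_isInnerType_of_aut hP ?_ hco hne
  refine (mem_autGroup_iff hP).2 ?_
  rw [hN]
  have hh := restrict_mem hm (sup_le le_rfl hWP : P ⊔ W ≤ P)
  exact ⟨hm, hP, fun x => hP (a x).2, _, hh, fun x => rfl,
    (map_subgroupOf_eq_iff hh le_sup_right).2 fun x hx => hinv ⟨x, hWP hx⟩ hx⟩

/-- A constrained tame system not of inner type moves inside the normalizer of a nontrivial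
subgroup normalized by the normalizer of `S`. -/
theorem exists_moves_of_isConstrained [Finite S] [Fact p.Prime] (hS : IsPGroup p S)
    (hF : F.IsConstrained p) (ht : IsTame F p) (hne : ¬ IsInnerType F p) :
    ∃ W : Subgroup Ω, W ≠ ⊥ ∧ W ≤ S ∧
      Subgroup.normalizer (S : Set Ω) ≤ Subgroup.normalizer (W : Set Ω) ∧ Moves F p W := by
  obtain ⟨P, hP, a, -, -, ha1⟩ := exists_of_not_isInnerType hne
  have hSne : Nontrivial S := by
    by_contra hnt
    rw [not_nontrivial_iff_subsingleton] at hnt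
    exact ha1 (MulEquiv.ext fun x => Subtype.ext
      (congrArg Subtype.val (hnt.elim ⟨_, hP (a x).2⟩ ⟨_, hP x.2⟩) :))
  rcases moves_of_isConstrained hS hF ht hne with h | h
  · refine ⟨_, ?_, Subgroup.map_subtype_le _, normalizer_le_normalizer_thompsonAOf_aux S, h⟩
    show (thompsonSubgroupA S).map S.subtype ≠ ⊥
    rw [Ne, Subgroup.map_eq_bot_iff_of_injective _ S.subtype_injective]
    exact PComplement.isCharPFunctor_jA.1 S hS hSne
  · refine ⟨_, ?_, inf_le_left, PComplement.normalizer_le_normalizer_zOf S, h.moves⟩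
    intro hbot
    have hc : Subgroup.center S = ⊥ := by
      rw [Subgroup.eq_bot_iff_forall]
      intro z hz
      have hz' : (z : Ω) ∈ S ⊓ Subgroup.centralizer (S : Set Ω) :=
        ⟨z.2, Subgroup.mem_centralizer_iff.2 fun y hy =>
          congrArg Subtype.val (Subgroup.mem_center_iff.1 hz ⟨y, hy⟩)⟩
      rw [hbot, Subgroup.mem_bot] at hz'
      exact Subtype.ext hz'
    have := hS.center_nontrivial
    rw [hc] at this
    exact not_subsingleton _ (inferInstance : Subsingleton (⊥ : Subgroup S))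
where
  normalizer_le_normalizer_thompsonAOf_aux (S : Subgroup Ω) :
      Subgroup.normalizer (S : Set Ω) ≤
        Subgroup.normalizer (thompsonSubgroupAOf S : Set Ω) :=
    PGroup.normalizer_le_normalizer_thompsonAOf S

/-- The automorphism induced on `P'` by one of its preimage. -/
theorem exists_inducedHom {Ω' : Type v} [Group Ω'] {S' : Subgroup Ω'} {θ : S →* Ω'}
    {S₀ : Subgroup Ω} [Finite S] [Fact p.Prime] (hS₀ : F.StronglyClosed S₀) {E : FusionSystem S'}
    (hE : F.IsFactorSystem S₀ θ E) {P' : Subgroup Ω'} (hP' : P' ≤ S') :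
    ∃ ind : F.autGroup (preimageAlong θ P') →* E.autGroup P', Function.Surjective ind ∧
      ∀ (a : F.autGroup (preimageAlong θ P')) (x : preimageAlong θ P') (h : θ ⟨x, preimageAlong_le θ P' x.2⟩ ∈ P')
        (h' : ((a : MulAut (preimageAlong θ P')) x : Ω) ∈ S),
        (((ind a : MulAut P') ⟨θ ⟨x, preimageAlong_le θ P' x.2⟩, h⟩ : P') : Ω') =
          θ ⟨((a : MulAut (preimageAlong θ P')) x : Ω), h'⟩ := by
  classical
  obtain ⟨hS₀S, hker, hr, hHom⟩ := id hE
  set P := preimageAlong θ P' with hP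
  have hPS : P ≤ S := preimageAlong_le θ P'
  let f : P →* P' := (θ.comp (Subgroup.inclusion hPS)).codRestrict P' fun x =>
    (mem_preimageAlong.1 x.2).2
  have hf : Function.Surjective f := by
    rintro ⟨y, hy⟩
    obtain ⟨s, rfl⟩ := hr.ge (hP' hy)
    exact ⟨⟨s, mem_preimageAlong.2 ⟨s.2, hy⟩⟩, rfl⟩
  have hkerf : ∀ x : P, f x = 1 ↔ (x : Ω) ∈ S₀ := fun x => by
    rw [← hker ⟨x, hPS x.2⟩]
    exact ⟨fun h => congrArg Subtype.val h, fun h => Subtype.ext h⟩
  have hinv : ∀ (a : F.autGroup P) (x : P), (x : Ω) ∈ S₀ →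
      (((a : MulAut P) x : P) : Ω) ∈ S₀ := by
    intro a x hx
    have hm := restrict_mem ((mem_autGroup_iff hPS).1 a.2)
      (ker_le_preimage hker hS₀S P')
    exact hS₀.2 S₀ le_rfl _ hm ⟨x, hx⟩
  have hkle : ∀ a : F.autGroup P, f.ker ≤ (f.comp (a : MulAut P).toMonoidHom).ker :=
    fun a x hx => (hkerf _).2 (hinv a x ((hkerf x).1 hx))
  let d : F.autGroup P → (P' →* P') := fun a =>
    f.liftOfSurjective hf ⟨f.comp (a : MulAut P).toMonoidHom, hkle a⟩
  have hd : ∀ a x, d a (f x) = f ((a : MulAut P) x) := fun a x =>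
    MonoidHom.liftOfRightInverse_comp_apply _ _ _ ⟨f.comp (a : MulAut P).toMonoidHom, hkle a⟩ x
  let m : F.autGroup P → MulAut P' := fun a => MonoidHom.toMulEquiv (d a) (d a⁻¹)
    (MonoidHom.ext fun y => by
      obtain ⟨x, rfl⟩ := hf y
      show d a⁻¹ (d a (f x)) = f x
      rw [hd, hd]
      exact congrArg f (MulAut.inv_apply_self _ _ _))
    (MonoidHom.ext fun y => by
      obtain ⟨x, rfl⟩ := hf y
      show d a (d a⁻¹ (f x)) = f x
      rw [hd, hd]
      exact congrArg f (MulAut.apply_inv_self _ _ _))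
  have hm : ∀ a x, m a (f x) = f ((a : MulAut P) x) := hd
  have hmem : ∀ a, m a ∈ E.autGroup P' := by
    intro a
    refine (mem_autGroup_iff hP').2 ((hHom P' _).2 ⟨hP', _, (mem_autGroup_iff hPS).1 a.2,
      hPS, fun x => hPS ((a : MulAut P) x).2, fun x => (mem_preimageAlong.1 x.2).2, fun x => ?_⟩)
    exact congrArg Subtype.val (hm a x)
  refine ⟨MonoidHom.mk' (fun a => ⟨m a, hmem a⟩) fun a b => Subtype.ext (MulEquiv.ext fun y => by
    obtain ⟨x, rfl⟩ := hf y
    show m (a * b) (f x) = m a (m b (f x))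
    rw [hm, hm, hm]
    rfl), ?_, fun a x h h' => congrArg Subtype.val (hm a x)⟩
  rintro ⟨α, hα⟩
  obtain ⟨hαm, hαr⟩ := hom_of_mem_autGroup hP' hα
  obtain ⟨-, φ, hφ, hind⟩ := (hHom P' _).1 hαm
  have hφr : φ.range = P := by rw [range_induced hS₀ hE hP' hφ hind, hαr]
  refine ⟨⟨toAut hφ hφr, toAut_mem hφ hφr⟩, Subtype.ext (MulEquiv.ext fun y => ?_)⟩
  obtain ⟨x, rfl⟩ := hf y
  refine (hm _ x).trans (Subtype.ext ?_)
  obtain ⟨h1, h2, h3, h4⟩ := hind
  refine Eq.trans ?_ (h4 x).symm
  exact congrArg θ (Subtype.ext (coe_toAut hφ hφr x))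

theorem isTame_factorSystem {Ω' : Type v} [Group Ω'] {S' : Subgroup Ω'} {θ : S →* Ω'}
    {S₀ : Subgroup Ω} [Finite S] [Fact p.Prime] (hS₀ : F.StronglyClosed S₀) {E : FusionSystem S'}
    (hE : F.IsFactorSystem S₀ θ E) (h : IsTame F p) : IsTame E p :=
  h.imp_right fun h P' hP' hinv => by
    obtain ⟨ind, hind, -⟩ := exists_inducedHom (p := p) hS₀ hE hP'
    exact h _ (preimageAlong_le θ P') (involves_of_surjective ind hind hinv)

/-- An element of order prime to `p` whose order-`p`-power power is trivial is trivial. -/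
theorem eq_one_of_coprime {X : Type*} [Group X] [Fact p.Prime] {a : X}
    (hco : (orderOf a).Coprime p) {j : ℕ} (h : a ^ p ^ j = 1) : a = 1 :=
  orderOf_eq_one_iff.1 (Nat.eq_one_of_dvd_coprimes (Nat.Coprime.pow_right j hco) dvd_rfl
    (orderOf_dvd_of_pow_eq_one h))

theorem exists_constrained_aux (n : ℕ) : ∀ {Ω : Type u} [Group Ω] {S : Subgroup Ω} [Finite S]
    {p : ℕ} [Fact p.Prime] (F : FusionSystem S), Nat.card S = n → IsPGroup p S → F.IsSaturated p →
    IsTame F p → ¬ IsInnerType F p →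
    ∃ E : FusionSystem S, E ≤ F ∧ E.IsConstrained p ∧ ¬ IsInnerType E p := by
  induction n using Nat.strong_induction_on with
  | _ n ih =>
  intro Ω _ S _ p _ F₀ hn hS hF₀ ht₀ hne₀
  obtain ⟨F, hF, hFle, hne, hmin⟩ := exists_minimal_not_isInnerType hS hF₀ hne₀
  refine ⟨F, hFle, ?_, hne⟩
  have ht : IsTame F p := IsTame.mono le_rfl hFle ht₀
  have hfin : {Q : Subgroup Ω | Q ≤ S}.Finite := by
    refine Set.Finite.subset (Set.finite_range (fun K : Subgroup S => K.map S.subtype)) ?_
    intro Q hQ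
    exact ⟨Q.subgroupOf S, Subgroup.map_subgroupOf_eq_of_le hQ⟩
  set Good : Subgroup Ω → Prop := fun Q =>
    Q ≠ ⊥ ∧ F.IsFullyNormalized Q ∧
      ∀ N : FusionSystem (normalizerIn S Q), F.IsNormalizerSystem Q N → ¬ IsInnerType N p
    with hGood
  have hex : {Q | Good Q}.Nonempty := by
    obtain ⟨P, hP, a, ha, hco, ha1⟩ := exists_of_not_isInnerType hne
    obtain ⟨Q, hPQ, hQ⟩ := exists_fullyNormalized F hP
    obtain ⟨φ, hφ, hr⟩ := hPQ
    set b := MulAut.congr (homEquiv hφ hr) a with hb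
    have hb1 : b ≠ 1 := fun h => ha1 ((MulAut.congr (homEquiv hφ hr)).injective
      (h.trans (map_one _).symm))
    refine ⟨Q, fun h => hb1 ?_, hQ, fun N hN => normalizer_not_isInnerType (le_normalizerIn hQ.1)
      le_rfl (congr_mem_autGroup hφ hr ha) (by rwa [MulEquiv.orderOf_eq]) hb1
      (fun x _ => (b x).2) hN⟩
    exact MulEquiv.ext fun x => Subtype.ext (((Subgroup.mem_bot.1 (h.le (b x).2))).trans
      (Subgroup.mem_bot.1 (h.le x.2)).symm)
  obtain ⟨Q, hQgood, hmax⟩ := Set.Finite.exists_maximalFor (fun Q => Nat.card (normalizerIn S Q))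
    {Q | Good Q} (hfin.subset fun Q hQ => hQ.2.1.1) hex
  obtain ⟨hQne, hQ, hQN⟩ := hQgood
  have hQS := hQ.1
  have hTfin : Finite (normalizerIn S Q) := finite_of_le (normalizerIn_le S Q)
  have hTp : IsPGroup p (normalizerIn S Q) := hS.to_le (normalizerIn_le S Q)
  have hNs := normalizerSystem_saturated hS hF hQ (normalizerSystem_spec F Q hQS)
  -- `Q` is normal in `S`
  have hSQ : S ≤ Subgroup.normalizer (Q : Set Ω) := by
    by_contra hnS
    have hlt : normalizerIn S Q < S :=
      lt_of_le_of_ne (normalizerIn_le S Q) fun h => hnS (h.ge.trans inf_le_right)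
    have hcard : Nat.card (normalizerIn S Q) < n := hn ▸ card_lt_of_lt le_rfl hlt
    have hsub : (normalizerSystem F Q hQS).IsSubsystemOf F := fun P φ h => h.1
    obtain ⟨E, hEle, hEc, hEne⟩ := ih _ hcard (normalizerSystem F Q hQS) rfl hTp hNs
      (IsTame.mono (normalizerIn_le S Q) hsub ht) (hQN _ (normalizerSystem_spec F Q hQS))
    obtain ⟨W, hWne, hWT, hWn, P, hPT, hWP, a, ha, hco, ha1, hinv⟩ :=
      exists_moves_of_isConstrained hTp hEc
        (IsTame.mono le_rfl hEle (IsTame.mono (normalizerIn_le S Q) hsub ht)) hEne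
    have hWS : W ≤ S := hWT.trans (normalizerIn_le S Q)
    have haF : a ∈ F.autGroup P := autGroup_le_of_subsystem
      (fun R φ hφ => hsub R (hEle R hφ)) hPT ha
    have hPN : P ≤ normalizerIn S W :=
      le_inf (hPT.trans (normalizerIn_le S Q)) ((hPT.trans Subgroup.le_normalizer).trans hWn)
    have hbig : normalizerIn S Q < normalizerIn S W :=
      (lt_normalizerIn hS hlt).trans_le (inf_le_inf_left S hWn)
    obtain ⟨W', hWW', hW'⟩ := exists_fullyNormalized F hWS
    obtain ⟨χ, hχ, hχN, hχW⟩ := exists_hom_normalizerIn hS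
      (isFullyAutomized_of_fullyNormalized hS hF hW') (isReceptive_of_fullyNormalized hS hF hW')
      hWW'
    have hres := restrict_mem hχ hPN
    set P' := (χ.comp (Subgroup.inclusion hPN)).range with hP'
    set b := MulAut.congr (homEquiv hres (rfl : _ = P')) a with hb
    have hb1 : b ≠ 1 := fun h => ha1 ((MulAut.congr (homEquiv hres (rfl : _ = P'))).injective
      (h.trans (map_one _).symm))
    have hP'N : P' ≤ normalizerIn S W' := by
      rintro _ ⟨x, rfl⟩
      exact hχN _
    have hW'P' : W' ≤ P' := by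
      intro y hy
      obtain ⟨w, hw, rfl⟩ := hχW.ge hy
      exact ⟨⟨w, hWP hw⟩, rfl⟩
    have hbinv : ∀ y : P', (y : Ω) ∈ W' → ((b y : P') : Ω) ∈ W' := by
      intro y hy
      obtain ⟨w, hw, hwy⟩ := hχW.ge hy
      have hx : y = homEquiv hres rfl (⟨w, hWP hw⟩ : P) := Subtype.ext hwy.symm
      rw [hx, hb, congr_apply, coe_homEquiv]
      exact hχW.le ⟨_, hinv ⟨w, hWP hw⟩ hw, rfl⟩
    have hW'ne : W' ≠ ⊥ := fun h => hWne (Subgroup.card_eq_one.1 (by
      rw [← isConj_card hWW', h]; exact Subgroup.card_bot))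
    have hgood : Good W' := ⟨hW'ne, hW', fun N hN => normalizer_not_isInnerType hP'N hW'P'
      (congr_mem_autGroup hres rfl haF) (by rwa [MulEquiv.orderOf_eq]) hb1 hbinv hN⟩
    have h1 : Nat.card (normalizerIn S Q) < Nat.card (normalizerIn S W') := by
      refine (card_lt_of_lt (normalizerIn_le S W) hbig).trans_le ?_
      have := finite_of_le (Ω := Ω) (normalizerIn_le S W')
      exact Nat.card_le_card_of_injective (fun g => ⟨χ g, hχN g⟩)
        fun g g' h => F.injective_of_mem hχ (congrArg Subtype.val h)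
    exact absurd (hmax hgood h1.le) (not_le.2 h1)
  -- the normalizer systems of subgroups normal in `S`
  have hnormal : ∀ R : Subgroup Ω, R ≤ S → S ≤ Subgroup.normalizer (R : Set Ω) →
      (∀ N : FusionSystem (normalizerIn S R), F.IsNormalizerSystem R N → ¬ IsInnerType N p) →
      F.IsNormal R := by
    intro R hR hSR hRN
    have hRfn : F.IsFullyNormalized R := ⟨hR, fun R' _ => by
      rw [show normalizerIn S R = S from le_antisymm inf_le_left (le_inf le_rfl hSR)]
      exact card_le_of_le le_rfl (normalizerIn_le S R')⟩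
    obtain ⟨E, hE, hEs⟩ := exists_normalizerSystem_self F hR hSR
    have hEsat := hEs _ (normalizerSystem_spec F R hR)
      (normalizerSystem_saturated hS hF hRfn (normalizerSystem_spec F R hR))
    have hEne : ¬ IsInnerType E p := by
      intro hin
      refine hRN _ (normalizerSystem_spec F R hR) fun P hP => ?_
      have hPS := hP.trans (normalizerIn_le S R)
      refine (hin P hPS).to_le fun α hα => ?_
      refine (mem_autGroup_iff hPS).2 ?_
      rw [hE]
      exact (mem_autGroup_iff hP).1 hα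
    have heq := hmin E hEsat (fun P φ hφ => by rw [hE] at hφ; exact hφ.1) hEne
    refine ⟨hR, fun P φ hφ => ?_⟩
    rw [← heq P, hE] at hφ
    exact hφ.2.2.2
  have hQnormal := hnormal Q hQS hSQ hQN
  set Z := F.core with hZdef
  have hZn : F.IsNormal Z := isNormal_core F
  have hZS := hZn.1
  have hZne : Z ≠ ⊥ := fun h => hQne (le_bot_iff.1 (h ▸ le_core hQnormal))
  have hZcl := stronglyClosed_of_isNormal hZn
  have hSZ : S ≤ Subgroup.normalizer (Z : Set Ω) := le_normalizer_of_isNormal hZn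
  refine ⟨hF, Z, hZn, ?_⟩
  by_contra hnc
  set C := centralizerIn S Z with hC
  have hCZ : ¬ C ≤ Z := by
    intro hle
    refine hnc ⟨hZS, fun R hR => ?_⟩
    obtain ⟨φ, hφ, rfl⟩ := hR
    rw [range_eq_of_le hφ hZS (fun x => hZcl.2 _ le_rfl φ hφ x) le_rfl]
    exact hle
  set R := Z ⊔ C with hR
  have hRS : R ≤ S := sup_le hZS (centralizerIn_le S Z)
  have hSR : S ≤ Subgroup.normalizer (R : Set Ω) := by
    have hle : ∀ g ∈ S, R ≤ R.comap (MulAut.conj g).toMonoidHom := by
      intro g hg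
      refine sup_le (fun x hx => ?_) fun x hx => ?_
      · exact Subgroup.mem_sup_left ((Subgroup.mem_normalizer_iff.1 (hSZ hg) x).1 hx)
      · refine Subgroup.mem_sup_right (mem_centralizerIn.2 ?_)
        obtain ⟨hxS, hxc⟩ := mem_centralizerIn.1 hx
        refine ⟨S.mul_mem (S.mul_mem hg hxS) (S.inv_mem hg), fun z hz => ?_⟩
        have h1 := hxc _ ((Subgroup.mem_normalizer_iff.1 (hSZ (S.inv_mem hg)) z).1 hz)
        show z * (g * x * g⁻¹) = g * x * g⁻¹ * z
        calc z * (g * x * g⁻¹) = g * (g⁻¹ * z * g⁻¹⁻¹ * x) * g⁻¹ := by group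
          _ = g * (x * (g⁻¹ * z * g⁻¹⁻¹)) * g⁻¹ := by rw [h1]
          _ = g * x * g⁻¹ * z := by group
    intro g hg
    refine Subgroup.mem_normalizer_iff.2 fun y => ⟨fun hy => hle g hg hy, fun hy => ?_⟩
    simpa [mul_assoc] using hle g⁻¹ (S.inv_mem hg) hy
  have hRfn : F.IsFullyNormalized R := ⟨hRS, fun R' _ => by
    rw [show normalizerIn S R = S from le_antisymm inf_le_left (le_inf le_rfl hSR)]
    exact card_le_of_le le_rfl (normalizerIn_le S R')⟩
  have hRN : ∀ N, F.IsNormalizerSystem R N → IsInnerType N p := by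
    intro N hN
    by_contra hNne
    refine hCZ ((le_sup_right).trans (le_core (hnormal R hRS hSR fun N' hN' => ?_)))
    intro hin
    refine hNne fun P hP => (hin P hP).to_le fun α hα => ?_
    refine (mem_autGroup_iff hP).2 ?_
    rw [hN']
    have h1 := (mem_autGroup_iff hP).1 hα
    rwa [hN] at h1
  -- `Aut_F(Z)` is a `p`-group
  have hZfn : F.IsFullyNormalized Z := ⟨hZS, fun R' _ => by
    rw [show normalizerIn S Z = S from le_antisymm inf_le_left (le_inf le_rfl hSZ)]
    exact card_le_of_le le_rfl (normalizerIn_le S R')⟩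
  have := finite_autGroup (F := F) hZS
  have hAutZ : IsPGroup p (F.autGroup Z) := by
    refine isPGroup_of_coprime_orderOf_eq_one fun β hβ => ?_
    obtain ⟨hβm, hβr⟩ := hom_of_mem_autGroup hZS β.2
    have hRe : R ≤ extender S Z (Z.subtype.comp (β : MulAut Z).toMonoidHom) :=
      sup_le (le_extender hZS (apply_mem hβm)) (centralizerIn_le_extender _)
    obtain ⟨ψ, hψ, hψe⟩ := exists_extension (isReceptive_of_fullyNormalized hS hF hZfn) hβm hβr hRe
    have hψZ : ∀ z : Z, ψ ⟨z, le_sup_left (b := C) z.2⟩ = ((β : MulAut Z) z : Ω) :=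
      fun z => hψe z z.2 (le_sup_left (b := C) z.2)
    have hψR : ∀ x : R, ψ x ∈ R := by
      refine forall_sup_mem ψ (fun z => ?_) fun c => ?_
      · rw [show Subgroup.inclusion le_sup_left z = (⟨z, le_sup_left (b := C) z.2⟩ : R) from rfl,
          hψZ]
        exact Subgroup.mem_sup_left ((β : MulAut Z) z).2
      · refine Subgroup.mem_sup_right (mem_centralizerIn.2 ⟨apply_mem hψ _, fun y hy => ?_⟩)
        obtain ⟨z, hz⟩ := (β : MulAut Z).surjective ⟨y, hy⟩
        have hy' : y = ψ ⟨z, le_sup_left (b := C) z.2⟩ := by rw [hψZ, hz]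
        rw [hy', ← map_mul, ← map_mul]
        refine congrArg ψ (Subtype.ext ?_)
        exact (mem_centralizerIn.1 c.2).2 _ z.2
    have hψr := range_eq_of_le hψ hRS hψR le_rfl
    have hle : R ≤ normalizerIn S R := le_normalizerIn hRS
    have hb : toAut hψ hψr ∈ (normalizerSystem F R hRS).autGroup R := by
      refine (mem_autGroup_iff hle).2 ?_
      have hm := (mem_autGroup_iff hRS).1 (toAut_mem hψ hψr)
      have hh := restrict_mem hm (sup_le le_rfl le_rfl : R ⊔ R ≤ R)
      exact ⟨hm, hle, fun x => hle (toAut hψ hψr x).2, _, hh, fun x => rfl,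
        (map_subgroupOf_eq_iff hh le_sup_right).2 fun x hx => (toAut hψ hψr ⟨x, hx⟩).2⟩
    obtain ⟨j, hj⟩ := hRN _ (normalizerSystem_spec F R hRS) R hle ⟨_, hb⟩
    have hj' : toAut hψ hψr ^ p ^ j = 1 := congrArg Subtype.val hj
    have hpow : ∀ (i : ℕ) (z : Z),
        (((toAut hψ hψr ^ i) ⟨z, le_sup_left (b := C) z.2⟩ : R) : Ω) =
          (((β : MulAut Z) ^ i) z : Ω) := by
      intro i
      induction i with
      | zero => intro z; rfl
      | succ i hi =>
        intro z
        rw [pow_succ', pow_succ', MulAut.mul_apply, MulAut.mul_apply,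
          show (toAut hψ hψr ^ i) ⟨z, le_sup_left (b := C) z.2⟩ =
            ⟨(((β : MulAut Z) ^ i) z : Ω), le_sup_left (b := C) (((β : MulAut Z) ^ i) z).2⟩ from
              Subtype.ext (hi z), coe_toAut, hψZ]
    refine eq_one_of_coprime hβ (j := j) (Subtype.ext (MulEquiv.ext fun z => Subtype.ext ?_))
    rw [SubgroupClass.coe_pow, ← hpow, hj']
    rfl
  -- the factor system
  let Z' := Z.subgroupOf S
  have hZ'n : Z'.Normal := ⟨fun z hz g => (Subgroup.mem_normalizer_iff.1 (hSZ g.2) z).1 hz⟩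
  let θ : S →* S ⧸ Z' := QuotientGroup.mk' Z'
  have hker : ∀ s : S, θ s = 1 ↔ (s : Ω) ∈ Z := fun s => QuotientGroup.eq_one_iff s
  have hr : θ.range = ⊤ := MonoidHom.range_eq_top.2 (QuotientGroup.mk'_surjective Z')
  set Fb := factorSystem F hZcl θ hker hr with hFbdef
  have hFb := factorSystem_spec F hZcl θ hker hr
  have hFbs := isSaturated_factorSystem hS hF hZcl hFb
  have hTop : IsPGroup p (⊤ : Subgroup (S ⧸ Z')) := (hS.to_quotient Z').to_subgroup ⊤
  -- some automorphism group of the factor system is not a `p`-group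
  have hFbne : ¬ IsInnerType Fb p := by
    intro hin
    obtain ⟨P, hP, a, ha, hco, ha1⟩ := exists_of_not_isInnerType hne
    obtain ⟨ha', har⟩ := hom_of_mem_autGroup hP ha
    obtain ⟨ψ, hψ, hψe, hψZ⟩ := hZn.2 P _ ha'
    have hψr : ψ.range = P ⊔ Z := by rw [range_sup_eq hψe hψZ, har]
    obtain ⟨b, hb, hco', hb1⟩ : ∃ b ∈ F.autGroup (P ⊔ Z), (orderOf b).Coprime p ∧ b ≠ 1 := by
      have : Finite (MulAut ↥(P ⊔ Z)) := finite_mulAut (sup_le hP hZS)
      obtain ⟨k, hk⟩ := exists_pow_coprime (p := p) (toAut hψ hψr)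
      refine ⟨_, Subgroup.pow_mem _ (toAut_mem hψ hψr) _, hk, fun h1 => ha1 ?_⟩
      refine eq_one_of_coprime hco (j := k) (MulEquiv.ext fun x => Subtype.ext ?_)
      have hpow : ∀ (i : ℕ) (x : P),
          (((toAut hψ hψr ^ i) (Subgroup.inclusion le_sup_left x) : ↥(P ⊔ Z)) : Ω) =
            ((a ^ i) x : Ω) := by
        intro i
        induction i with
        | zero => intro x; rfl
        | succ i hi =>
          intro x
          rw [pow_succ', pow_succ', MulAut.mul_apply, MulAut.mul_apply,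
            show (toAut hψ hψr ^ i) (Subgroup.inclusion le_sup_left x) =
              Subgroup.inclusion le_sup_left ((a ^ i) x) from Subtype.ext (hi x), coe_toAut, hψe]
          rfl
      rw [← hpow, h1]
      rfl
    have hPZ : preimageAlong θ (imageAlong θ (P ⊔ Z)) = P ⊔ Z := by
      rw [preimage_image hker hZS (sup_le hP hZS), sup_assoc, sup_idem]
    have hsupS : preimageAlong θ (imageAlong θ (P ⊔ Z)) ≤ S := preimageAlong_le θ _
    obtain ⟨c, hc, hcoc, hc1⟩ : ∃ c ∈ F.autGroup (preimageAlong θ (imageAlong θ (P ⊔ Z))),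
        (orderOf c).Coprime p ∧ c ≠ 1 := by
      rw [hPZ]
      exact ⟨b, hb, hco', hb1⟩
    obtain ⟨ind, -, hind⟩ := exists_inducedHom (p := p) hZcl hFb
      (le_top : imageAlong θ (P ⊔ Z) ≤ ⊤)
    obtain ⟨j, hj⟩ := hin _ le_top (ind ⟨c, hc⟩)
    have hind1 : ind ⟨c, hc⟩ = 1 := eq_one_of_coprime
      (Nat.Coprime.coprime_dvd_left (orderOf_map_dvd ind _) (by rwa [Subgroup.orderOf_mk])) hj
    refine hc1 (MulEquiv.ext fun x => Subtype.ext ?_)
    have hZX : Z ≤ (preimageAlong θ (imageAlong θ (P ⊔ Z))) := ker_le_preimage hker hZS _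
    have hq : ((x⁻¹ * c x : (preimageAlong θ (imageAlong θ (P ⊔ Z)))) : Ω) ∈ Z := by
      have h1 := hind ⟨c, hc⟩ x (mem_preimageAlong.1 x.2).2 (hsupS (c x).2)
      rw [hind1] at h1
      refine (hker (⟨(x : Ω), hsupS x.2⟩⁻¹ * ⟨(c x : Ω), hsupS (c x).2⟩)).1 ?_
      rw [map_mul, map_inv, inv_mul_eq_one]
      exact h1
    -- `c` is trivial on `Z`
    have hcZ : ∀ z : (preimageAlong θ (imageAlong θ (P ⊔ Z))), (z : Ω) ∈ Z → c z = z := by
      have hres := restrict_mem ((mem_autGroup_iff hsupS).1 hc) hZX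
      have hrZ := range_eq_of_le hres hZS (fun z => hZcl.2 _ le_rfl _ hres z) le_rfl
      have hpow : ∀ (i : ℕ) (z : Z), (((toAut hres hrZ ^ i) z : Z) : Ω) =
          ((c ^ i) ⟨z, hZX z.2⟩ : (preimageAlong θ (imageAlong θ (P ⊔ Z)))) := by
        intro i
        induction i with
        | zero => intro z; rfl
        | succ i hi =>
          intro z
          rw [pow_succ', pow_succ', MulAut.mul_apply, MulAut.mul_apply, coe_toAut,
            show (c ^ i) ⟨z, hZX z.2⟩ = ⟨((toAut hres hrZ ^ i) z : Ω), hZX ((toAut hres hrZ ^ i) z).2⟩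
              from Subtype.ext (hi z).symm]
          rfl
      obtain ⟨j, hj⟩ := hAutZ ⟨_, toAut_mem hres hrZ⟩
      have h1 : toAut hres hrZ ^ orderOf c = 1 := MulEquiv.ext fun z => Subtype.ext (by
        rw [hpow, pow_orderOf_eq_one]; rfl)
      have h2 : toAut hres hrZ = 1 := eq_one_of_coprime
        (Nat.Coprime.coprime_dvd_left (orderOf_dvd_of_pow_eq_one h1) hcoc)
        (congrArg Subtype.val hj)
      intro z hz
      refine Subtype.ext ?_
      have h3 := hpow 1 ⟨z, hz⟩
      rw [pow_one, pow_one, h2] at h3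
      exact h3.symm
    have hpow : ∀ i : ℕ, (c ^ i) x = x * (x⁻¹ * c x) ^ i := by
      intro i
      induction i with
      | zero => simp
      | succ i hi =>
        rw [pow_succ' c, MulAut.mul_apply, hi, map_mul, map_pow, hcZ _ hq, pow_succ' (x⁻¹ * c x), ← mul_assoc x, mul_inv_cancel_left]
    have h1 : (x⁻¹ * c x) ^ orderOf c = 1 := by
      have := hpow (orderOf c)
      rw [pow_orderOf_eq_one] at this
      exact mul_eq_left.1 this.symm
    obtain ⟨j, hj⟩ := (hS.to_le hsupS) (x⁻¹ * c x)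
    have h2 := eq_one_of_coprime
      (Nat.Coprime.coprime_dvd_left (orderOf_dvd_of_pow_eq_one h1) hcoc) hj
    rw [inv_mul_eq_one] at h2
    rw [← h2]
    rfl
  have hcard : Nat.card (⊤ : Subgroup (S ⧸ Z')) < n := by
    rw [Subgroup.card_top, ← hn, Subgroup.card_eq_card_quotient_mul_card_subgroup Z']
    refine lt_mul_of_one_lt_right Nat.card_pos (Finite.one_lt_card_iff_nontrivial.2 ?_)
    rw [Subgroup.nontrivial_iff_ne_bot, Ne, Subgroup.subgroupOf_eq_bot]
    intro hd
    refine hZne (le_bot_iff.1 ?_)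
    have := hd le_rfl hZS
    exact this
  obtain ⟨E, hEle, hEc, hEne⟩ := ih _ hcard Fb rfl hTop hFbs (isTame_factorSystem hZcl hFb ht)
    hFbne
  obtain ⟨W, hWne, -, hWn, P', -, hWP', a', ha', hco, ha1, hinv⟩ :=
    exists_moves_of_isConstrained hTop hEc (IsTame.mono le_rfl hEle
      (isTame_factorSystem hZcl hFb ht)) hEne
  set Wp := preimageAlong θ W with hWp
  obtain ⟨ind, hsurj, hind⟩ := exists_inducedHom (p := p) hZcl hFb (le_top : P' ≤ ⊤)
  obtain ⟨⟨a₀, ha₀⟩, hind₀⟩ := hsurj ⟨a', autGroup_le_of_subsystem hEle le_top ha'⟩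
  have := finite_mulAut (Ω := Ω) (preimageAlong_le θ P')
  obtain ⟨k, hk⟩ := exists_pow_coprime (p := p) a₀
  have hPS := preimageAlong_le θ P'
  have hWpS := preimageAlong_le θ W
  have hSWp : S ≤ Subgroup.normalizer (Wp : Set Ω) := by
    have hle : ∀ g ∈ S, ∀ x ∈ Wp, g * x * g⁻¹ ∈ Wp := by
      intro g hg x hx
      obtain ⟨hxS, hxW⟩ := mem_preimageAlong.1 hx
      refine mem_preimageAlong.2 ⟨S.mul_mem (S.mul_mem hg hxS) (S.inv_mem hg), ?_⟩
      have htop : θ ⟨g, hg⟩ ∈ Subgroup.normalizer ((⊤ : Subgroup (S ⧸ Z')) : Set (S ⧸ Z')) :=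
        Subgroup.le_normalizer trivial
      have h1 := (Subgroup.mem_normalizer_iff.1 (hWn htop) _).1 hxW
      rw [← map_inv, ← map_mul, ← map_mul] at h1
      exact h1
    intro g hg
    refine Subgroup.mem_normalizer_iff.2 fun y => ⟨fun hy => hle g hg y hy, fun hy => ?_⟩
    simpa [mul_assoc] using hle g⁻¹ (S.inv_mem hg) _ hy
  have hWpP : Wp ≤ preimageAlong θ P' := fun x hx => by
    obtain ⟨h1, h2⟩ := mem_preimageAlong.1 hx
    exact mem_preimageAlong.2 ⟨h1, hWP' h2⟩
  have hWpn : F.IsNormal Wp := by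
    refine hnormal Wp hWpS hSWp fun N hN => normalizer_not_isInnerType
      (le_inf hPS (hPS.trans hSWp)) hWpP (a := a₀ ^ p ^ k) (Subgroup.pow_mem _ ha₀ _) hk
      (fun h1 => ha1 ?_) (fun x hx => ?_) hN
    · refine eq_one_of_coprime hco (j := k) ?_
      have h2 : ind ⟨a₀, ha₀⟩ ^ p ^ k = 1 := by
        rw [← map_pow, show (⟨a₀, ha₀⟩ : F.autGroup _) ^ p ^ k = 1 from Subtype.ext h1, map_one]
      rw [hind₀] at h2
      exact congrArg Subtype.val h2
    · obtain ⟨_, hxW⟩ := mem_preimageAlong.1 hx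
      refine mem_preimageAlong.2 ⟨hPS ((a₀ ^ p ^ k) x).2, ?_⟩
      have hgen : ∀ i : ℕ, θ ⟨(a₀ ^ i) x, hPS ((a₀ ^ i) x).2⟩ ∈ W := by
        intro i
        induction i with
        | zero => exact hxW
        | succ i hi =>
          have h1 := hind ⟨a₀, ha₀⟩ ((a₀ ^ i) x) (hWP' hi) (hPS (a₀ ((a₀ ^ i) x)).2)
          rw [hind₀] at h1
          have h2 := hinv ⟨_, hWP' hi⟩ hi
          rw [show (⟨((a₀ ^ (i + 1)) x : Ω), hPS ((a₀ ^ (i + 1)) x).2⟩ : S) =
            ⟨(a₀ ((a₀ ^ i) x) : Ω), hPS (a₀ ((a₀ ^ i) x)).2⟩ from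
              Subtype.ext (by rw [pow_succ' a₀]; rfl), ← h1]
          exact h2
      exact hgen _
  -- contradiction with the maximality of the core
  refine hWne (le_bot_iff.1 fun y hy => ?_)
  obtain ⟨s, rfl⟩ := QuotientGroup.mk'_surjective Z' y
  rw [Subgroup.mem_bot]
  exact (hker s).2 (le_core hWpn (mem_preimageAlong.2 ⟨s.2, hy⟩))

/-- A tame saturated system not of inner type has a constrained saturated subsystem on the same
`p`-group which is not of inner type. -/
theorem exists_constrained [Finite S] [Fact p.Prime] (hS : IsPGroup p S) (hF : F.IsSaturated p)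
    (ht : IsTame F p) (hne : ¬ IsInnerType F p) :
    ∃ E : FusionSystem S, E ≤ F ∧ E.IsConstrained p ∧ ¬ IsInnerType E p :=
  exists_constrained_aux _ F rfl hS hF ht hne

/-- Thompson's theorem for fusion systems, as a witness. -/
theorem moves_of_not_isInnerType [Finite S] [Fact p.Prime] (hS : IsPGroup p S)
    (hF : F.IsSaturated p) (ht : IsTame F p) (hne : ¬ IsInnerType F p) :
    Moves F p (thompsonSubgroupAOf S) ∨
      MovesFixing F p (S ⊓ Subgroup.centralizer (S : Set Ω)) := by
  obtain ⟨E, hle, hc, hEne⟩ := exists_constrained hS hF ht hne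
  exact (moves_of_isConstrained hS hc (IsTame.mono le_rfl hle ht) hEne).imp
    (fun h => h.mono hle) fun h => h.mono hle

/-- The theorem of Glauberman and Thompson for fusion systems, as a witness. -/
theorem moves_centerThompsonA_of_not_isInnerType [Finite S] [Fact p.Prime] (hS : IsPGroup p S)
    (hp : p ≠ 2) (hF : F.IsSaturated p) (hne : ¬ IsInnerType F p) :
    Moves F p (centerThompsonAOf S) := by
  obtain ⟨E, hle, hc, hEne⟩ := exists_constrained hS hF (Or.inl hp) hne
  exact (moves_centerThompsonA_of_isConstrained hS hp hc hEne).mono hle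

end Cfsg.Agent.Fusion
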