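import Cfsg.Agent.Lib.Fusion.GroupSimple
import Cfsg.Agent.Lib.Fusion.Group
import Cfsg.Agent.Lib.PGroup.Basic

/-!
Simplicity of the fusion system of a central `p'`-quotient, checked in the cover.
-/

set_option autoImplicit false
set_option linter.unusedSectionVars false

namespace Cfsg.Agent.Fusion.CoverSimple

open Cfsg Cfsg.FusionSystem Cfsg.Agent.Fusion.GroupSimple

variable {Γ : Type*} [Group Γ] [Finite Γ] {G : Type*} [Group G] [Finite G] (p : ℕ) [Fact p.Prime]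

/-- The data: a `p`-subgroup `U`, and subgroups `R i` of `U`, in a group with a central `p'`-subgroup `Z`. -/
structure Setup (U Z : Subgroup Γ) {ι : Type*} (R : ι → Subgroup Γ) : Prop where
  central : Z ≤ Subgroup.center Γ
  pprime : ∀ z ∈ Z, ∀ k : ℕ, z ^ p ^ k = 1 → z = 1
  pgroup : IsPGroup p U
  ne_bot : U ≠ ⊥
  normalizer_p : ∀ x ∈ Subgroup.normalizer (U : Set Γ), ∀ k : ℕ, x ^ p ^ k ∈ Z → x ∈ Z ⊔ U
  closed : ∀ T : Subgroup Γ, T ≤ U → T ≠ ⊥ → (∀ x ∈ T, ∀ g : Γ, g * x * g⁻¹ ∈ U → g * x * g⁻¹ ∈ T) → U ≤ T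
  rad_le : ∀ i, R i ≤ U
  rad_normal : ∀ i, U ≤ Subgroup.normalizer (R i : Set Γ)
  rad_centric : ∀ i, Subgroup.centralizer (R i : Set Γ) ≤ Z ⊔ R i
  generated : Subgroup.normalizer (U : Set Γ) ≤
    (⨆ i, pElts p (R i) ⊓ Subgroup.normalizer (U : Set Γ)) ⊔ Z

variable {p} {U Z : Subgroup Γ} {ι : Type*} {R : ι → Subgroup Γ} {π : Γ →* G}

theorem exists_pow {W : Subgroup Γ} (hU : IsPGroup p U) (hW : W ≤ U) {w : Γ} (hw : w ∈ W) :
    ∃ k, w ^ p ^ k = 1 := by
  obtain ⟨k, hk⟩ := hU ⟨w, hW hw⟩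
  exact ⟨k, congrArg Subtype.val hk⟩

variable (h : Setup p U Z R) (hπ : Function.Surjective π) (hker : π.ker = Z)
include h hker

/-- Elements of `p`-power order are determined by their image. -/
theorem eq_of_map_eq {x y : Γ} {k : ℕ} (hx : x ^ p ^ k = 1) (hy : y ^ p ^ k = 1) (e : π x = π y) :
    x = y := by
  have hz : x * y⁻¹ ∈ Z := by
    rw [← hker, MonoidHom.mem_ker, map_mul, map_inv, e, mul_inv_cancel]
  have hcomm : Commute (x * y⁻¹) y := (Subgroup.mem_center_iff.mp (h.central hz) y).symm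
  have h1 : (x * y⁻¹) ^ p ^ k = 1 := by
    have := hcomm.mul_pow (p ^ k)
    rw [inv_mul_cancel_right, hx, hy, mul_one] at this
    exact this.symm
  exact mul_inv_eq_one.mp (h.pprime _ hz k h1)

/-- A lift normalises what its image normalises. -/
theorem mem_normalizer_of_map {W : Subgroup Γ} (hW : W ≤ U) {x : Γ}
    (hx : π x ∈ Subgroup.normalizer ((W.map π : Subgroup G) : Set G)) :
    x ∈ Subgroup.normalizer (W : Set Γ) := by
  have key : ∀ w ∈ W, x * w * x⁻¹ ∈ W := by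
    intro w hw
    obtain ⟨v, hv, hvw⟩ : π (x * w * x⁻¹) ∈ W.map π := by
      rw [map_mul, map_mul, map_inv]
      exact (Subgroup.mem_normalizer_iff.mp hx _).mp ⟨w, hw, rfl⟩
    obtain ⟨a, ha⟩ := exists_pow h.pgroup hW hw
    obtain ⟨b, hb⟩ := exists_pow h.pgroup hW hv
    have h1 : (x * w * x⁻¹) ^ p ^ (a + b) = 1 := by
      rw [conj_pow, pow_add, pow_mul, ha, one_pow, mul_one, mul_inv_cancel]
    have h2 : v ^ p ^ (a + b) = 1 := by rw [pow_add, mul_comm, pow_mul, hb, one_pow]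
    rwa [← eq_of_map_eq h hker h2 h1 hvw]
  refine Subgroup.mem_normalizer_iff_map_conj_eq.mpr (Subgroup.eq_of_le_of_card_ge ?_ ?_)
  · rintro _ ⟨y, hy, rfl⟩
    exact key y hy
  · exact (Subgroup.card_map_of_injective (MulAut.conj x).injective).ge

omit h hker in
theorem map_mem_normalizer {W : Subgroup Γ} {x : Γ} (hx : x ∈ Subgroup.normalizer (W : Set Γ)) :
    π x ∈ Subgroup.normalizer ((W.map π : Subgroup G) : Set G) :=
  Subgroup.le_normalizer_map π ⟨x, hx, rfl⟩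

include hπ

/-- `U` maps onto a Sylow subgroup. -/
theorem sylow_eq {T : Sylow p G} (hT : U.map π ≤ (T : Subgroup G)) : (T : Subgroup G) = U.map π := by
  by_contra hne
  have hlt : U.map π < (T : Subgroup G) := lt_of_le_of_ne hT (Ne.symm hne)
  have hlt' : (U.map π).subgroupOf (T : Subgroup G) < ⊤ := by
    rw [lt_top_iff_ne_top, Ne, Subgroup.subgroupOf_eq_top]
    exact not_le_of_gt hlt
  have := T.2.isNilpotent
  obtain ⟨⟨t, htT⟩, htN, htU⟩ :=
    SetLike.exists_of_lt (Group.normalizerCondition_of_isNilpotent _ hlt')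
  have htN' : t ∈ Subgroup.normalizer ((U.map π : Subgroup G) : Set G) := by
    refine Subgroup.mem_normalizer_iff_map_conj_eq.mpr (Subgroup.eq_of_le_of_card_ge ?_ ?_)
    · rintro _ ⟨y, hy, rfl⟩
      exact (Subgroup.mem_normalizer_iff.mp htN ⟨y, hT hy⟩).mp hy
    · exact (Subgroup.card_map_of_injective (MulAut.conj t).injective).ge
  obtain ⟨x, rfl⟩ := hπ t
  obtain ⟨k, hk⟩ := T.2 ⟨π x, htT⟩
  have hx := h.normalizer_p x (mem_normalizer_of_map h hker le_rfl htN') k (by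
    rw [← hker, MonoidHom.mem_ker, map_pow]
    exact congrArg Subtype.val hk)
  have : (Z ⊔ U).map π = U.map π := by
    rw [Subgroup.map_sup, ← hker, (Subgroup.map_eq_bot_iff _).mpr le_rfl, bot_sup_eq]
  exact htU (this ▸ Subgroup.mem_map_of_mem π hx)

variable {P : Sylow p G} (hP : (P : Subgroup G) = U.map π)
include hP

theorem rad_fullyNormalized (i : ι) :
    (groupFusionSystem (P : Subgroup G)).IsFullyNormalized ((R i).map π) := by
  refine ⟨hP ▸ Subgroup.map_mono (h.rad_le i), fun Q _ => ?_⟩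
  refine le_trans (Subgroup.card_le_of_le (inf_le_left : normalizerIn (P : Subgroup G) Q ≤ P)) (le_of_eq ?_)
  refine congrArg (fun H : Subgroup G => Nat.card H) (le_antisymm (le_inf le_rfl ?_) inf_le_left)
  intro y hy
  obtain ⟨u, hu, rfl⟩ := hP.le hy
  exact map_mem_normalizer (h.rad_normal i hu)

theorem rad_centric (i : ι) : (groupFusionSystem (P : Subgroup G)).IsCentric ((R i).map π) := by
  set Q₀ := (R i).map π with hQ₀
  have hC : Subgroup.centralizer (Q₀ : Set G) ≤ Q₀ := by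
    intro c hc
    obtain ⟨x, rfl⟩ := hπ c
    have hcomm : x ∈ Subgroup.centralizer (R i : Set Γ) := by
      refine Subgroup.mem_centralizer_iff.mpr fun r hr => ?_
      obtain ⟨a, ha⟩ := exists_pow h.pgroup (h.rad_le i) hr
      have h1 : π (x * r * x⁻¹) = π r := by
        rw [map_mul, map_mul, map_inv, ← Subgroup.mem_centralizer_iff.mp hc (π r) ⟨r, hr, rfl⟩]
        group
      have h2 : (x * r * x⁻¹) ^ p ^ a = 1 := by rw [conj_pow, ha, mul_one, mul_inv_cancel]
      exact (mul_inv_eq_iff_eq_mul.mp (eq_of_map_eq h hker h2 ha h1)).symm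
    have := Subgroup.mem_map_of_mem π (h.rad_centric i hcomm)
    rw [Subgroup.map_sup, (Subgroup.map_eq_bot_iff _).mpr hker.ge, bot_sup_eq] at this
    exact this
  refine ⟨hP ▸ Subgroup.map_mono (h.rad_le i), ?_⟩
  rintro Q ⟨φ, ⟨-, -, g, hg⟩, rfl⟩ y ⟨-, hy⟩
  have : g⁻¹ * y * g ∈ Subgroup.centralizer (Q₀ : Set G) := by
    refine Subgroup.mem_centralizer_iff.mpr fun r hr => ?_
    have h1 : φ ⟨r, hr⟩ * y = y * φ ⟨r, hr⟩ := Subgroup.mem_centralizer_iff.mp hy _ ⟨_, rfl⟩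
    rw [hg] at h1
    calc r * (g⁻¹ * y * g) = g⁻¹ * (g * r * g⁻¹ * y) * g := by group
      _ = _ := by rw [h1]; group
  refine ⟨⟨g⁻¹ * y * g, hC this⟩, ?_⟩
  rw [hg]
  group

theorem stronglyClosed_trivial (T : Subgroup G)
    (hT : (groupFusionSystem (P : Subgroup G)).StronglyClosed T) : T = ⊥ ∨ T = P := by
  by_cases hT0 : T = ⊥
  · exact Or.inl hT0
  refine Or.inr (le_antisymm hT.1 ?_)
  have hfus : ∀ x ∈ T, ∀ g : G, g * x * g⁻¹ ∈ (P : Subgroup G) → g * x * g⁻¹ ∈ T := by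
    intro x hx g hg
    refine hT.2 (Subgroup.zpowers x) (Subgroup.zpowers_le.mpr hx) (conjHom _ g) ⟨?_, ?_, g, fun y => rfl⟩
      ⟨x, Subgroup.mem_zpowers x⟩
    · exact Subgroup.zpowers_le.mpr (hT.1 hx)
    · rintro ⟨y, m, rfl⟩
      show g * x ^ m * g⁻¹ ∈ _
      rw [← conj_zpow]
      exact Subgroup.zpow_mem _ hg m
  have hne : U ⊓ T.comap π ≠ ⊥ := by
    intro hbot
    refine hT0 (eq_bot_iff.mpr fun t ht => ?_)
    obtain ⟨u, hu, rfl⟩ := hP.le (hT.1 ht)
    have : u ∈ U ⊓ T.comap π := ⟨hu, ht⟩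
    rw [hbot, Subgroup.mem_bot] at this
    rw [Subgroup.mem_bot, this, map_one]
  have hle := h.closed (U ⊓ T.comap π) inf_le_left hne (fun x hx g hg => ⟨hg, by
    show π (g * x * g⁻¹) ∈ T
    rw [map_mul, map_mul, map_inv]
    refine hfus _ hx.2 _ ?_
    rw [← map_inv, ← map_mul, ← map_mul, hP]
    exact ⟨_, hg, rfl⟩⟩)
  intro y hy
  obtain ⟨u, hu, rfl⟩ := hP.le hy
  exact (hle hu).2

theorem ne_bot : (P : Subgroup G) ≠ ⊥ := by
  intro hb
  refine h.ne_bot (eq_bot_iff.mpr fun u hu => Subgroup.mem_bot.mpr ?_)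
  obtain ⟨k, hk⟩ := exists_pow h.pgroup le_rfl hu
  have hm : π u ∈ (P : Subgroup G) := hP.ge ⟨u, hu, rfl⟩
  rw [hb, Subgroup.mem_bot, ← MonoidHom.mem_ker, hker] at hm
  exact h.pprime u hm k hk

theorem normalizer_le :
    Subgroup.normalizer ((P : Subgroup G) : Set G) ≤
      (⨆ (Q : Subgroup G) (_ : (groupFusionSystem (P : Subgroup G)).IsFullyNormalized Q ∧
          (groupFusionSystem (P : Subgroup G)).IsCentric Q),
        pElts p Q ⊓ Subgroup.normalizer ((P : Subgroup G) : Set G)) ⊔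
      Subgroup.centralizer ((P : Subgroup G) : Set G) := by
  intro y hy
  obtain ⟨x, rfl⟩ := hπ y
  rw [hP] at hy
  have hx := h.generated (mem_normalizer_of_map h hker le_rfl hy)
  have hm := Subgroup.mem_map_of_mem π hx
  rw [Subgroup.map_sup, (Subgroup.map_eq_bot_iff _).mpr hker.ge, sup_bot_eq, Subgroup.map_iSup] at hm
  refine Subgroup.mem_sup_left (SetLike.le_def.mp (iSup_le fun i => ?_) hm)
  refine le_iSup₂_of_le ((R i).map π) ⟨rad_fullyNormalized h hπ hker hP i, rad_centric h hπ hker hP i⟩ ?_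
  rintro _ ⟨g, ⟨hg, hgU⟩, rfl⟩
  refine ⟨?_, by rw [hP]; exact map_mem_normalizer hgU⟩
  suffices (pElts p (R i)).map π ≤ pElts p ((R i).map π) from this ⟨g, hg, rfl⟩
  rw [pElts, MonoidHom.map_closure, Subgroup.closure_le]
  rintro _ ⟨u, ⟨huN, k, hk⟩, rfl⟩
  obtain ⟨j, -, hj⟩ := (Nat.dvd_prime_pow Fact.out).mp ((orderOf_map_dvd π u).trans (dvd_of_eq hk))
  exact Subgroup.subset_closure ⟨map_mem_normalizer huN, j, hj⟩

omit hP in
/-- The fusion system of the quotient on any Sylow `p`-subgroup is simple. -/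
theorem isSimple (P₀ : Sylow p G) :
    (groupFusionSystem (P₀ : Subgroup G)).IsSimple p := by
  obtain ⟨T, hT⟩ := (h.pgroup.map π).exists_le_sylow
  obtain ⟨g, hg⟩ := MulAction.exists_smul_eq G T P₀
  let π' := (MulAut.conj g).toMonoidHom.comp π
  have hπ' : Function.Surjective π' := (MulAut.conj g).surjective.comp hπ
  have hker' : π'.ker = Z := by
    rw [← hker]
    ext x
    simp [π', MonoidHom.mem_ker]
  have hP : (P₀ : Subgroup G) = U.map π' := by
    rw [← Subgroup.map_map, ← sylow_eq h hπ hker hT, ← hg, Sylow.coe_subgroup_smul]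
    rfl
  exact Cfsg.Agent.Fusion.GroupSimple.isSimple P₀ (groupFusionSystem_saturated P₀)
    (ne_bot h hπ' hker' hP) (stronglyClosed_trivial h hπ' hker' hP) (normalizer_le h hπ' hker' hP)

end Cfsg.Agent.Fusion.CoverSimple
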