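import Cfsg.Agent.Lib.PGroup.Class2
import Cfsg.Agent.Lib.PGroup.Basic
import Cfsg.Agent.Lib.PGroup.Frattini
import Cfsg.Agent.Lib.PGroup.MaximalClass
import Cfsg.Agent.Lib.PGroup.SymplecticType
import Cfsg.Agent.Lib.PGroup.UniqueOrderP
import Cfsg.Agent.Lib.TI.Extraspecial

/-!
Non-abelian groups of order `p ^ 4` without a characteristic chain with factors of order `p`.
-/

set_option autoImplicit false

namespace Cfsg.Agent.Fusion.EssP4

open scoped commutatorElement
open Cfsg

universe u

variable {G : Type u} [Group G] {p : ℕ}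

/-- Invariance under all automorphisms. -/
def AutInv (A : Subgroup G) : Prop := ∀ α : MulAut G, ∀ x ∈ A, α x ∈ A

/-- There is no characteristic series with steps of order `p`. -/
def NoChain (p : ℕ) (G : Type u) [Group G] : Prop :=
  ∀ A B K : Subgroup G, Nat.card A = p → Nat.card B = p ^ 2 → Nat.card K = p ^ 3 →
    A ≤ B → B ≤ K → AutInv A → AutInv B → AutInv K → False

theorem autInv_center : AutInv (Subgroup.center G) := fun α x hx => by
  rw [Subgroup.mem_center_iff] at hx ⊢
  intro g
  have := congrArg α (hx (α⁻¹ g))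
  simpa using this

theorem autInv_commutator : AutInv (commutator G) := fun α x hx => by
  have h : (commutator G).map α.toMonoidHom ≤ commutator G := by
    rw [commutator_def, Subgroup.map_commutator, Subgroup.map_top_of_surjective _ α.surjective]
  exact h ⟨x, hx, rfl⟩

theorem autInv_centralizer {A : Subgroup G} (hA : AutInv A) :
    AutInv (Subgroup.centralizer (A : Set G)) := fun α x hx => by
  rw [Subgroup.mem_centralizer_iff] at hx ⊢
  intro g hg
  have := congrArg α (hx (α⁻¹ g) (hA α⁻¹ g hg))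
  simpa using this

section Centre

variable [Finite G] [Fact p.Prime] (hcard : Nat.card G = p ^ 4) (hab : ¬ IsMulCommutative G)
include hcard hab

theorem card_center_cases :
    Nat.card (Subgroup.center G) = p ∨ Nat.card (Subgroup.center G) = p ^ 2 := by
  have hp : p.Prime := Fact.out
  have hP : IsPGroup p G := IsPGroup.of_card hcard
  set Z := Subgroup.center G
  have : Nontrivial G := Finite.one_lt_card_iff_nontrivial.1 (by
    rw [hcard]; exact Nat.one_lt_pow (by norm_num) hp.one_lt)
  obtain ⟨j, hj⟩ := PGroup.card_eq_pow hP Z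
  have hj0 : j ≠ 0 := fun h =>
    hP.bot_lt_center.ne' (Subgroup.card_eq_one.1 (by rw [hj, h, pow_zero]))
  have hmul := Z.card_mul_index
  rw [hj, hcard] at hmul
  have hj4 : j ≤ 4 := (Nat.pow_dvd_pow_iff_le_right hp.one_lt).1 (Dvd.intro _ hmul)
  have hnc : ¬ IsCyclic (G ⧸ Z) := fun h =>
    hab (isMulCommutative_of_isCyclic_quotient_center_self G)
  interval_cases j
  · simp at hj0
  · left; rw [hj, pow_one]
  · right; exact hj
  · refine absurd (isCyclic_of_prime_card (p := p) ?_) hnc
    rw [← Subgroup.index_eq_card]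
    exact Nat.eq_of_mul_eq_mul_left (pow_pos hp.pos 3) (hmul.trans (pow_succ p 3))
  · have h1 : Z = ⊤ := Subgroup.eq_top_of_card_eq Z (by rw [hj, hcard])
    exact absurd ⟨⟨fun a b => (Subgroup.mem_center_iff.1 (h1 ▸ Subgroup.mem_top b : b ∈ Z) a)⟩⟩ hab

/-- If the centre has order `p`, the group has maximal class. -/
theorem false_of_center_prime (hno : NoChain p G) (hZ : Nat.card (Subgroup.center G) = p) : False := by
  have hp : p.Prime := Fact.out
  have hP : IsPGroup p G := IsPGroup.of_card hcard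
  set Z := Subgroup.center G
  set N := commutator G
  have hNne : N ≠ ⊥ := fun h => hab ((commutator_eq_bot_iff G).1 h)
  have hZN : Z ≤ N := by
    have h1 := PGroup.inf_center_ne_bot hP N hNne
    have h2 : Nat.card ↥(N ⊓ Z) ∣ p := hZ ▸ Subgroup.card_dvd_of_le inf_le_right
    rcases (Nat.dvd_prime hp).1 h2 with h | h
    · exact absurd (Subgroup.card_eq_one.1 h) h1
    · exact inf_eq_right.1 (Subgroup.eq_of_le_of_card_ge inf_le_right (by rw [h, hZ]))
  have hnc : ¬ IsCyclic G := fun h => hab (IsCyclic.isMulCommutative (α := G))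
  have hN2 : Nat.card N ≤ p ^ 2 := by
    refine Nat.le_of_mul_le_mul_right ?_ (pow_pos hp.pos 2)
    rw [← pow_add, show 2 + 2 = 4 from rfl, ← hcard, ← N.card_mul_index]
    exact Nat.mul_le_mul_left _ (PGroup.sq_le_index_commutator hP hnc)
  obtain ⟨k, hk⟩ := PGroup.card_eq_pow hP N
  have hk2 : k ≤ 2 := (Nat.pow_le_pow_iff_right hp.one_lt).1 (hk ▸ hN2)
  have hk0 : k ≠ 0 := fun h => hNne (Subgroup.card_eq_one.1 (by rw [hk, h, pow_zero]))
  interval_cases k
  · omega
  · -- class two
    have hNZ : N = Z := (Subgroup.eq_of_le_of_card_ge hZN (by rw [hk, pow_one, hZ])).symm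
    have hcl : commutator G ≤ Z := hNZ.le
    have hcen : ∀ a b : G, ⁅a, b⁆ ∈ Z := PGroup.mem_center_of_class_two hcl
    have hc1 : ∀ a b : G, ⁅a, b⁆ ^ p = 1 := fun a b => by
      have h := pow_card_eq_one' (G := Z) (x := ⟨⁅a, b⁆, hcen a b⟩)
      rw [hZ] at h
      exact congrArg Subtype.val h
    have hpow : ∀ x : G, x ^ p ∈ Z := fun x => Subgroup.mem_center_iff.2 fun g => by
      refine (commutatorElement_eq_one_iff_mul_comm.1 ?_).symm
      rw [PGroup.commutator_pow_left (hcen x g), hc1]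
    have hC : ∀ a : G, p ^ 3 ≤ Nat.card (Subgroup.centralizer ({a} : Set G)) := by
      intro a
      let f := PGroup.commHom ⊤ a (fun x _ => hcen x a)
      have hker : Nat.card f.ker ≤ Nat.card (Subgroup.centralizer ({a} : Set G)) := by
        refine Nat.card_le_card_of_injective (fun x => ⟨((x.1 : (⊤ : Subgroup G)) : G), ?_⟩) ?_
        · exact Subgroup.mem_centralizer_singleton_iff.2
            (commutatorElement_eq_one_iff_mul_comm.1 (congrArg Subtype.val x.2))
        · exact fun x y h => Subtype.ext (Subtype.ext (congrArg Subtype.val h :))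
      refine le_trans ?_ hker
      have h1 := f.ker.card_mul_index
      rw [Subgroup.index_ker, Subgroup.card_top, hcard] at h1
      have h2 : Nat.card f.range ≤ p := hZ ▸ Nat.card_le_card_of_injective _ f.range.subtype_injective
      refine Nat.le_of_mul_le_mul_right ?_ hp.pos
      rw [← pow_succ, ← h1]
      exact Nat.mul_le_mul_left _ h2
    obtain ⟨a, haZ⟩ : ∃ a, a ∉ Z := by
      by_contra hcon
      push Not at hcon
      exact hab ⟨⟨fun a b => (Subgroup.mem_center_iff.1 (hcon b) a)⟩⟩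
    set C := Subgroup.centralizer ({a} : Set G)
    have hCtop : C ≠ ⊤ := fun h => haZ (Subgroup.mem_center_iff.2 fun g =>
      Subgroup.mem_centralizer_singleton_iff.1 (h.ge (Subgroup.mem_top g)))
    set T := Z ⊔ Subgroup.zpowers a
    have hT : Nat.card T = p ^ 2 := by
      rw [PGroup.card_sup_zpowers Z haZ (hpow a), hZ, sq]
    have hTC : T ≤ C := sup_le (Subgroup.center_le_centralizer _)
      (Subgroup.zpowers_le.2 (Subgroup.mem_centralizer_singleton_iff.2 rfl))
    obtain ⟨b, hbC, hbT⟩ : ∃ b ∈ C, b ∉ T := by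
      refine SetLike.not_le_iff_exists.1 fun h => ?_
      have h1 := (hC a).trans (Subgroup.card_le_of_le h)
      rw [hT] at h1
      exact absurd ((Nat.pow_le_pow_iff_right hp.one_lt).1 h1) (by norm_num)
    have hCc : Nat.card C = p ^ 3 := by
      refine le_antisymm ?_ (hC a)
      have h1 := PGroup.mul_card_le_card hP (lt_top_iff_ne_top.2 hCtop)
      rw [Subgroup.card_top, hcard] at h1
      exact Nat.le_of_mul_le_mul_left (h1.trans (by rw [pow_succ'])) hp.pos
    have hab' : a * b = b * a := (Subgroup.mem_centralizer_singleton_iff.1 hbC).symm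
    have hCeq : T ⊔ Subgroup.zpowers b = C := by
      refine Subgroup.eq_of_le_of_card_ge (sup_le hTC (Subgroup.zpowers_le.2 hbC)) ?_
      have hlt : T < T ⊔ Subgroup.zpowers b :=
        left_lt_sup.2 fun h => hbT (h (Subgroup.mem_zpowers b))
      have h1 := PGroup.mul_card_le_card hP hlt
      rw [hT, ← pow_succ'] at h1
      rwa [hCc]
    have hCab : C ≤ Subgroup.centralizer (C : Set G) := by
      have ha : a ∈ Subgroup.centralizer (C : Set G) :=
        Subgroup.mem_centralizer_iff.2 fun g hg => Subgroup.mem_centralizer_singleton_iff.1 hg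
      have hb : b ∈ Subgroup.centralizer (C : Set G) := by
        have h1 : C ≤ Subgroup.centralizer ({b} : Set G) := by
          rw [← hCeq]
          exact sup_le (sup_le (Subgroup.center_le_centralizer _)
            (Subgroup.zpowers_le.2 (Subgroup.mem_centralizer_singleton_iff.2 hab')))
            (Subgroup.zpowers_le.2 (Subgroup.mem_centralizer_singleton_iff.2 rfl))
        exact Subgroup.mem_centralizer_iff.2 fun g hg =>
          Subgroup.mem_centralizer_singleton_iff.1 (h1 hg)
      exact hCeq.ge.trans (sup_le (sup_le (Subgroup.center_le_centralizer _)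
        (Subgroup.zpowers_le.2 ha)) (Subgroup.zpowers_le.2 hb))
    obtain ⟨y, hy⟩ : ∃ y, y ∉ C := by
      by_contra hcon
      push Not at hcon
      exact hCtop (eq_top_iff.2 fun g _ => hcon g)
    let f := PGroup.commHom C y (fun x _ => hcen x y)
    obtain ⟨w, hw, hwZ⟩ : ∃ w : C, w ∈ f.ker ∧ (w : G) ∉ Z := by
      by_contra hcon
      push Not at hcon
      have h1 : Nat.card f.ker ≤ p := hZ ▸ Nat.card_le_card_of_injective
        (fun x : f.ker => (⟨_, hcon x.1 x.2⟩ : Z))
        (fun x y h => Subtype.ext (Subtype.ext (congrArg Subtype.val h :)))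
      have h2 : Nat.card f.range ≤ p := hZ ▸ Nat.card_le_card_of_injective _ f.range.subtype_injective
      have h3 := f.ker.card_mul_index
      rw [Subgroup.index_ker, hCc] at h3
      have h4 : p ^ 3 ≤ p ^ 2 := by rw [← h3, sq]; exact Nat.mul_le_mul h1 h2
      exact absurd ((Nat.pow_le_pow_iff_right hp.one_lt).1 h4) (by norm_num)
    refine hwZ (Subgroup.mem_center_iff.2 fun g => ?_)
    have htop : C ⊔ Subgroup.zpowers y = ⊤ :=
      (PGroup.isCoatom_of_index_eq (p := p) (by
        have := C.card_mul_index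
        rw [hCc, hcard, pow_succ p 3] at this
        exact Nat.eq_of_mul_eq_mul_left (pow_pos hp.pos 3) this)).2 _
        (left_lt_sup.2 fun h => hy (h (Subgroup.mem_zpowers y)))
    have hle : C ⊔ Subgroup.zpowers y ≤ Subgroup.centralizer ({(w : G)} : Set G) :=
      sup_le (fun v hv => Subgroup.mem_centralizer_singleton_iff.2
          (Subgroup.mem_centralizer_iff.1 (hCab w.2) v hv))
        (Subgroup.zpowers_le.2 (Subgroup.mem_centralizer_singleton_iff.2
          (commutatorElement_eq_one_iff_mul_comm.1 (congrArg Subtype.val hw)).symm))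
    exact Subgroup.mem_centralizer_singleton_iff.1 (hle (htop ▸ Subgroup.mem_top g))
  · -- maximal class
    have hlt := PGroup.commutator_top_lt hP N hNne
    obtain ⟨j, hj⟩ := PGroup.card_eq_pow hP ⁅N, (⊤ : Subgroup G)⁆
    have hj2 : p * p ^ j ≤ p ^ 2 := hj ▸ hk ▸ PGroup.mul_card_le_card hP hlt
    rw [← pow_succ'] at hj2
    have hj1 : j ≤ 1 := by have := (Nat.pow_le_pow_iff_right hp.one_lt).1 hj2; omega
    have hcc : ∀ x : G, ∀ h ∈ N, ⁅x, h⁆ ∈ Z := by
      intro x h hh
      have h1 : ⁅x, h⁆ ∈ ⁅N, (⊤ : Subgroup G)⁆ := by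
        rw [Subgroup.commutator_comm]
        exact Subgroup.commutator_mem_commutator (Subgroup.mem_top x) hh
      have : (⁅N, (⊤ : Subgroup G)⁆).Normal := Subgroup.commutator_normal N ⊤
      interval_cases j
      · rw [Subgroup.card_eq_one.1 (show Nat.card ↥⁅N, (⊤ : Subgroup G)⁆ = 1 by rw [hj, pow_zero])] at h1
        rw [Subgroup.mem_bot.1 h1]
        exact Z.one_mem
      · exact PGroup.le_center_of_card_eq hP _ (by rw [hj, pow_one]) h1
    obtain ⟨h₀, hh₀, hh₀Z⟩ := SetLike.not_le_iff_exists.1 (fun h : N ≤ Z => by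
      have h1 := Subgroup.card_le_of_le h
      rw [hk, hZ] at h1
      exact absurd ((Nat.pow_le_pow_iff_right hp.one_lt).1 (h1.trans (pow_one p).ge)) (by norm_num))
    let f := PGroup.commHom ⊤ h₀ (fun x _ => hcc x h₀ hh₀)
    set K := Subgroup.centralizer (N : Set G)
    have hNeq : Z ⊔ Subgroup.zpowers h₀ = N := by
      refine Subgroup.eq_of_le_of_card_ge (sup_le hZN (Subgroup.zpowers_le.2 hh₀)) ?_
      have h1 := PGroup.mul_card_le_card hP
        (left_lt_sup.2 fun h => hh₀Z (h (Subgroup.mem_zpowers h₀)) : Z < Z ⊔ Subgroup.zpowers h₀)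
      rw [hZ, ← sq] at h1
      rwa [hk]
    have hNK : N ≤ K := by
      have hh : h₀ ∈ K := by
        refine Subgroup.mem_centralizer_iff.2 fun g hg => ?_
        have h1 : N ≤ Subgroup.centralizer ({h₀} : Set G) := hNeq ▸ sup_le
          (Subgroup.center_le_centralizer _)
          (Subgroup.zpowers_le.2 (Subgroup.mem_centralizer_singleton_iff.2 rfl))
        exact Subgroup.mem_centralizer_singleton_iff.1 (h1 hg)
      exact hNeq.ge.trans (sup_le (Subgroup.center_le_centralizer _) (Subgroup.zpowers_le.2 hh))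
    have hkerK : Nat.card f.ker ≤ Nat.card K := by
      refine Nat.card_le_card_of_injective (fun x => ⟨((x.1 : (⊤ : Subgroup G)) : G), ?_⟩) ?_
      · refine Subgroup.mem_centralizer_iff.2 fun g hg => ?_
        have hle : N ≤ Subgroup.centralizer ({((x.1 : (⊤ : Subgroup G)) : G)} : Set G) := hNeq ▸ sup_le
          (Subgroup.center_le_centralizer _)
          (Subgroup.zpowers_le.2 (Subgroup.mem_centralizer_singleton_iff.2
            (commutatorElement_eq_one_iff_mul_comm.1 (congrArg Subtype.val x.2)).symm))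
        exact Subgroup.mem_centralizer_singleton_iff.1 (hle hg)
      · exact fun x y h => Subtype.ext (Subtype.ext (congrArg Subtype.val h :))
    have hKtop : K ≠ ⊤ := fun h => hh₀Z (Subgroup.mem_center_iff.2 fun g =>
      (Subgroup.mem_centralizer_iff.1 (h ▸ Subgroup.mem_top g : g ∈ K) h₀ hh₀).symm)
    have hK : Nat.card K = p ^ 3 := by
      refine le_antisymm ?_ (le_trans ?_ hkerK)
      · have h1 := PGroup.mul_card_le_card hP (lt_top_iff_ne_top.2 hKtop)
        rw [Subgroup.card_top, hcard] at h1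
        exact Nat.le_of_mul_le_mul_left (h1.trans (by rw [pow_succ'])) hp.pos
      · have h1 := f.ker.card_mul_index
        rw [Subgroup.index_ker, Subgroup.card_top, hcard] at h1
        have h2 : Nat.card f.range ≤ p := hZ ▸ Nat.card_le_card_of_injective _ f.range.subtype_injective
        refine Nat.le_of_mul_le_mul_right ?_ hp.pos
        rw [← pow_succ, ← h1]
        exact Nat.mul_le_mul_left _ h2
    exact hno Z N K hZ hk hK hZN hNK autInv_center autInv_commutator
      (autInv_centralizer autInv_commutator)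

/-- The shape of a group of order `p ^ 4` with centre of order `p ^ 2`. -/
theorem structure_of_center_sq (hZ : Nat.card (Subgroup.center G) = p ^ 2) :
    (∀ x : G, x ^ p ∈ Subgroup.center G) ∧ commutator G ≤ Subgroup.center G ∧
      Nat.card (commutator G) = p ∧
      ∀ a b : G, a * b ≠ b * a → Subgroup.center G ⊔ Subgroup.zpowers a ⊔ Subgroup.zpowers b = ⊤ ∧
        Nat.card ↥(Subgroup.center G ⊔ Subgroup.zpowers a) = p ^ 3 := by
  have hp : p.Prime := Fact.out
  have hP : IsPGroup p G := IsPGroup.of_card hcard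
  set Z := Subgroup.center G
  have hQ : Nat.card (G ⧸ Z) = p ^ 2 := by
    have h1 := Z.card_mul_index
    rw [hZ, hcard, Subgroup.index_eq_card] at h1
    exact Nat.eq_of_mul_eq_mul_left (pow_pos hp.pos 2) (h1.trans (by rw [← pow_add]))
  have hQab : IsMulCommutative (G ⧸ Z) := IsPGroup.isMulCommutative_of_card_eq_prime_sq hQ
  have hcl : commutator G ≤ Z := by
    rw [commutator_def, Subgroup.commutator_le]
    intro x _ y _
    rw [← QuotientGroup.eq_one_iff, commutatorElement_def]
    simp only [QuotientGroup.mk_mul, QuotientGroup.mk_inv]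
    rw [hQab.is_comm.comm (x : G ⧸ Z) (y : G ⧸ Z), mul_inv_cancel_right, mul_inv_cancel]
  have hnc : ¬ IsCyclic (G ⧸ Z) := fun h =>
    hab (isMulCommutative_of_isCyclic_quotient_center_self G)
  have hpow : ∀ x : G, x ^ p ∈ Z := by
    intro x
    rw [← QuotientGroup.eq_one_iff, QuotientGroup.mk_pow]
    by_contra hne
    obtain ⟨j, hj2, hj⟩ := (Nat.dvd_prime_pow hp).1 (hQ ▸ orderOf_dvd_natCard (x : G ⧸ Z))
    interval_cases j
    · exact hne (by rw [orderOf_eq_one_iff.1 (hj.trans (pow_zero p)), one_pow])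
    · exact hne (by rw [← pow_one p, ← hj, pow_orderOf_eq_one])
    · exact hnc (isCyclic_of_orderOf_eq_card (x : G ⧸ Z) (by rw [hj, hQ]))
  have hgen : ∀ a b : G, a * b ≠ b * a → Z ⊔ Subgroup.zpowers a ⊔ Subgroup.zpowers b = ⊤ ∧
      Nat.card ↥(Z ⊔ Subgroup.zpowers a) = p ^ 3 := by
    intro a b hne
    have haZ : a ∉ Z := fun h => hne (Subgroup.mem_center_iff.1 h b).symm
    have hT : Nat.card ↥(Z ⊔ Subgroup.zpowers a) = p ^ 3 := by
      rw [PGroup.card_sup_zpowers Z haZ (hpow a), hZ, ← pow_succ]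
    refine ⟨?_, hT⟩
    have hb : b ∉ Z ⊔ Subgroup.zpowers a := fun h => hne
      ((Subgroup.mem_centralizer_singleton_iff.1 ((sup_le (Subgroup.center_le_centralizer _)
        (Subgroup.zpowers_le.2 (Subgroup.mem_centralizer_singleton_iff.2 rfl)) :
          Z ⊔ Subgroup.zpowers a ≤ Subgroup.centralizer ({a} : Set G)) h)).symm)
    have h1 := PGroup.mul_card_le_card hP (left_lt_sup.2 fun h => hb (h (Subgroup.mem_zpowers b)) :
      Z ⊔ Subgroup.zpowers a < Z ⊔ Subgroup.zpowers a ⊔ Subgroup.zpowers b)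
    rw [hT, ← pow_succ'] at h1
    exact Subgroup.eq_top_of_le_card _ (by rwa [hcard])
  refine ⟨hpow, hcl, ?_, hgen⟩
  obtain ⟨a, b, hne⟩ : ∃ a b : G, a * b ≠ b * a := by
    by_contra hcon
    push Not at hcon
    exact hab ⟨⟨hcon⟩⟩
  have hcz : ⁅a, b⁆ ∈ Z := PGroup.mem_center_of_class_two hcl a b
  have : (Subgroup.zpowers ⁅a, b⁆).Normal := ⟨fun x hx g => by
    have hxZ : x ∈ Z := Subgroup.zpowers_le.2 hcz hx
    rw [Subgroup.mem_center_iff.1 hxZ g, mul_inv_cancel_right]
    exact hx⟩
  set φ := QuotientGroup.mk' (Subgroup.zpowers ⁅a, b⁆)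
  have hZφ : Z ≤ (Subgroup.center _).comap φ := fun z hz => Subgroup.mem_center_iff.2 fun q => by
    obtain ⟨g, rfl⟩ := QuotientGroup.mk'_surjective _ q
    rw [← map_mul, ← map_mul, Subgroup.mem_center_iff.1 hz g]
  have hφ : φ a * φ b = φ b * φ a := by
    rw [← commutatorElement_eq_one_iff_mul_comm, ← map_commutatorElement]
    exact (QuotientGroup.eq_one_iff _).2 (Subgroup.mem_zpowers _)
  have hcz2 : ∀ w : G, φ a * φ w = φ w * φ a → φ b * φ w = φ w * φ b →
      w ∈ (Subgroup.center _).comap φ := by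
    intro w hwa hwb
    refine Subgroup.mem_center_iff.2 fun q => ?_
    obtain ⟨g, rfl⟩ := QuotientGroup.mk'_surjective _ q
    have hle : Z ⊔ Subgroup.zpowers a ⊔ Subgroup.zpowers b ≤
        (Subgroup.centralizer {φ w}).comap φ :=
      sup_le (sup_le (fun z hz => Subgroup.mem_centralizer_singleton_iff.2
          ((Subgroup.mem_center_iff.1 (hZφ hz) (φ w)).symm))
        (Subgroup.zpowers_le.2 (Subgroup.mem_centralizer_singleton_iff.2 hwa)))
        (Subgroup.zpowers_le.2 (Subgroup.mem_centralizer_singleton_iff.2 hwb))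
    exact Subgroup.mem_centralizer_singleton_iff.1 (hle ((hgen a b hne).1.ge (Subgroup.mem_top g)))
  have htop : (⊤ : Subgroup G) ≤ (Subgroup.center _).comap φ := (hgen a b hne).1.ge.trans
    (sup_le (sup_le hZφ (Subgroup.zpowers_le.2 (hcz2 a rfl hφ.symm)))
      (Subgroup.zpowers_le.2 (hcz2 b hφ rfl)))
  have hle : commutator G ≤ Subgroup.zpowers ⁅a, b⁆ := by
    rw [commutator_def, Subgroup.commutator_le]
    intro g _ h _
    refine (QuotientGroup.eq_one_iff _).1 ?_
    show φ ⁅g, h⁆ = 1
    rw [map_commutatorElement, commutatorElement_eq_one_iff_mul_comm]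
    exact Subgroup.mem_center_iff.1 (htop (Subgroup.mem_top h)) (φ g)
  have ho : orderOf ⁅a, b⁆ = p := orderOf_eq_prime
    (PGroup.commutator_pow_eq_one hcl hpow a b)
    (fun h => hne (commutatorElement_eq_one_iff_mul_comm.1 h))
  refine le_antisymm ?_ ?_
  · exact (Subgroup.card_le_of_le hle).trans (by rw [Nat.card_zpowers, ho])
  · have h1 : Subgroup.zpowers ⁅a, b⁆ ≤ commutator G := Subgroup.zpowers_le.2
      (Subgroup.commutator_mem_commutator (Subgroup.mem_top a) (Subgroup.mem_top b))
    exact le_trans (by rw [Nat.card_zpowers, ho]) (Subgroup.card_le_of_le h1)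

/-- With cyclic centre of order `p ^ 2` the exponent divides `p ^ 2`. -/
theorem pow_sq_eq_one (hno : NoChain p G) (hZ : Nat.card (Subgroup.center G) = p ^ 2)
    (hcyc : IsCyclic (Subgroup.center G)) (x : G) : x ^ p ^ 2 = 1 := by
  have hp : p.Prime := Fact.out
  obtain ⟨hpow, hcl, hN, -⟩ := structure_of_center_sq hcard hab hZ
  obtain ⟨k, hk⟩ := hp.dvd_choose_pow (n := 2) (k := 2) two_ne_zero (by
    have := hp.two_le; nlinarith)
  let q : G →* G :=
    { toFun := fun x => x ^ p ^ 2
      map_one' := one_pow _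
      map_mul' := fun a b => by
        rw [PGroup.mul_pow_of_central (PGroup.mem_center_of_class_two hcl b a), hk, pow_mul,
          PGroup.commutator_pow_eq_one hcl hpow, one_pow, mul_one] }
  by_contra hx
  have hrZ : q.range ≤ Subgroup.center G := by
    rintro _ ⟨g, rfl⟩
    show g ^ p ^ 2 ∈ _
    rw [sq, pow_mul]
    exact Subgroup.pow_mem _ (hpow g) p
  have hrp : ∀ r ∈ q.range, r ^ p = 1 := by
    rintro _ ⟨g, rfl⟩
    show (g ^ p ^ 2) ^ p = 1
    have h1 := pow_card_eq_one' (G := Subgroup.center G) (x := ⟨g ^ p, hpow g⟩)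
    rw [hZ] at h1
    rw [← pow_mul, mul_comm, pow_mul]
    exact congrArg Subtype.val h1
  have hr : Nat.card q.range = p := by
    have : IsCyclic q.range := isCyclic_of_injective (Subgroup.inclusion hrZ)
      (Subgroup.inclusion_injective hrZ)
    have h1 : Nat.card q.range ∣ p := by
      rw [← IsCyclic.exponent_eq_card]
      exact Monoid.exponent_dvd_of_forall_pow_eq_one fun r => Subtype.ext (hrp r r.2)
    rcases (Nat.dvd_prime hp).1 h1 with h | h
    · exact absurd (Subgroup.mem_bot.1 ((Subgroup.card_eq_one.1 h) ▸ ⟨x, rfl⟩)) hx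
    · exact h
  have hK : Nat.card q.ker = p ^ 3 := by
    have h1 := q.ker.card_mul_index
    rw [Subgroup.index_ker, hr, hcard, pow_succ p 3] at h1
    exact Nat.eq_of_mul_eq_mul_right hp.pos h1
  refine hno _ _ q.ker hN hZ hK hcl (fun z hz => ?_) autInv_commutator autInv_center fun α g hg => ?_
  · have h1 := pow_card_eq_one' (G := Subgroup.center G) (x := ⟨z, hz⟩)
    rw [hZ] at h1
    exact congrArg Subtype.val h1
  · show (α g) ^ p ^ 2 = 1
    rw [← map_pow, show g ^ p ^ 2 = 1 from hg, map_one]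

omit hab in
/-- Power values of the centre in the non-cyclic case. -/
theorem center_pow_eq_one (hZ : Nat.card (Subgroup.center G) = p ^ 2)
    (hcyc : ¬ IsCyclic (Subgroup.center G)) {z : G} (hz : z ∈ Subgroup.center G) : z ^ p = 1 := by
  obtain ⟨j, hj2, hj⟩ := (Nat.dvd_prime_pow (Fact.out : p.Prime)).1
    (hZ ▸ orderOf_dvd_natCard (⟨z, hz⟩ : Subgroup.center G))
  rw [Subgroup.orderOf_mk] at hj
  interval_cases j
  · rw [orderOf_eq_one_iff.1 (hj.trans (pow_zero p)), one_pow]
  · rw [← pow_one p, ← hj, pow_orderOf_eq_one]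
  · exact absurd (isCyclic_of_orderOf_eq_card (⟨z, hz⟩ : Subgroup.center G)
      (by rw [Subgroup.orderOf_mk, hj, hZ])) hcyc

/-- For `p` odd and non-cyclic centre the exponent is `p`. -/
theorem pow_prime_eq_one (hno : NoChain p G) (hp2 : p ≠ 2)
    (hZ : Nat.card (Subgroup.center G) = p ^ 2) (hcyc : ¬ IsCyclic (Subgroup.center G)) (x : G) :
    x ^ p = 1 := by
  have hp : p.Prime := Fact.out
  have hP : IsPGroup p G := IsPGroup.of_card hcard
  obtain ⟨hpow, hcl, hN, -⟩ := structure_of_center_sq hcard hab hZ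
  set f := PGroup.powHom hp hp2 hcl (PGroup.commutator_pow_eq_one hcl hpow) with hf
  have hrZ : f.range ≤ Subgroup.center G := by
    rintro _ ⟨g, rfl⟩
    exact hpow g
  have hZk : Subgroup.center G ≤ f.ker := fun z hz => center_pow_eq_one hcard hZ hcyc hz
  have hNk : commutator G ≤ f.ker := hcl.trans hZk
  have hchain : ∀ K : Subgroup G, f.ker ≤ K → Nat.card K = p ^ 3 → AutInv K → False := fun K h hK hi =>
    hno _ _ K hN hZ hK hcl (hZk.trans h) autInv_commutator autInv_center hi
  have hkinv : AutInv f.ker := fun α g hg => by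
    rw [MonoidHom.mem_ker, hf, PGroup.powHom_apply] at hg ⊢
    rw [← map_pow, hg, map_one]
  by_contra hx
  obtain ⟨k, hk⟩ := PGroup.card_eq_pow hP f.ker
  have h2k : 2 ≤ k := (Nat.pow_le_pow_iff_right hp.one_lt).1 (hk ▸ hZ ▸ Subgroup.card_le_of_le hZk)
  have hk4 : k < 4 := by
    by_contra h
    exact hx ((Subgroup.eq_top_of_le_card _ (by
      rw [hcard, hk]; exact Nat.pow_le_pow_right hp.pos (by omega)) : f.ker = ⊤) ▸ Subgroup.mem_top x : x ∈ f.ker)
  rcases (show k = 2 ∨ k = 3 by omega) with rfl | rfl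
  · -- then the powers fill the centre
    have h1 := f.ker.card_mul_index
    rw [Subgroup.index_ker, hk, hcard] at h1
    have hr : f.range = Subgroup.center G := Subgroup.eq_of_le_of_card_ge hrZ (le_of_eq (by
      rw [hZ]
      exact (Nat.eq_of_mul_eq_mul_left (pow_pos hp.pos 2) (h1.trans (by rw [← pow_add]))).symm))
    refine hchain ((commutator G).comap f) (fun g hg => by
      rw [Subgroup.mem_comap, MonoidHom.mem_ker.1 hg]; exact one_mem _) ?_ fun α g hg => ?_
    · have h2 : ((commutator G).comap f).index = p := by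
        rw [Subgroup.index_comap, hr]
        have h3 := Subgroup.card_mul_index ((commutator G).subgroupOf (Subgroup.center G))
        rw [Nat.card_congr (Subgroup.subgroupOfEquivOfLe hcl).toEquiv, hN, hZ, sq] at h3
        exact Nat.eq_of_mul_eq_mul_left hp.pos h3
      have h4 := ((commutator G).comap f).card_mul_index
      rw [h2, hcard, pow_succ p 3] at h4
      exact Nat.eq_of_mul_eq_mul_right hp.pos h4
    · rw [Subgroup.mem_comap, hf, PGroup.powHom_apply] at hg ⊢
      rw [← map_pow]
      exact autInv_commutator α _ hg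
  · exact hchain _ le_rfl hk hkinv

/-- If all `p`-th powers lie in the derived subgroup, a maximal subgroup splits off a central factor. -/
theorem split_center (hZ : Nat.card (Subgroup.center G) = p ^ 2)
    (hcyc : ¬ IsCyclic (Subgroup.center G)) (hpN : ∀ x : G, x ^ p ∈ commutator G) :
    ∃ M : Subgroup G, Nat.card M = p ^ 3 ∧ IsExtraspecial p M ∧
      M ⊓ Subgroup.center G = commutator G ∧ Nonempty (G ≃* M × Multiplicative (ZMod p)) := by
  have hp : p.Prime := Fact.out
  have hP : IsPGroup p G := IsPGroup.of_card hcard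
  obtain ⟨hpow, hcl, hN, hgen⟩ := structure_of_center_sq hcard hab hZ
  set Z := Subgroup.center G
  set N := commutator G
  obtain ⟨c, hcZ, hcN⟩ := SetLike.not_le_iff_exists.1 (fun h : Z ≤ N => by
    have h1 := Subgroup.card_le_of_le h
    rw [hZ, hN] at h1
    exact absurd ((Nat.pow_le_pow_iff_right hp.one_lt).1 (h1.trans (pow_one p).ge)) (by norm_num))
  obtain ⟨M, hMc, hcM⟩ : ∃ M : Subgroup G, IsCoatom M ∧ c ∉ M := by
    by_contra hcon
    push Not at hcon
    exact hcN (PGroup.frattini_le (p := p) le_rfl hpN (PGroup.le_frattini_of_forall_coatom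
      (fun M hM => Subgroup.zpowers_le.2 (hcon M hM)) (Subgroup.mem_zpowers c)))
  have hMi := PGroup.index_of_isCoatom hP hMc
  have hMn := PGroup.normal_of_index_eq hP hMi
  have hNM : N ≤ M := PGroup.commutator_le_of_index_eq M hMi
  have hM : Nat.card M = p ^ 3 := by
    have h1 := M.card_mul_index
    rw [hMi, hcard, pow_succ p 3] at h1
    exact Nat.eq_of_mul_eq_mul_right hp.pos h1
  have hMZ : M ⊓ Z = N := by
    refine (Subgroup.eq_of_le_of_card_ge (le_inf hNM hcl) ?_).symm
    obtain ⟨j, hj⟩ := PGroup.card_eq_pow hP (M ⊓ Z)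
    have hlt : M ⊓ Z < Z := inf_lt_right.2 fun h => hcM (h hcZ)
    have h1 := PGroup.mul_card_le_card hP hlt
    rw [hZ, hN, sq] at *
    exact Nat.le_of_mul_le_mul_left h1 hp.pos
  have htop : M ⊔ Subgroup.zpowers c = ⊤ :=
    hMc.2 _ (left_lt_sup.2 fun h => hcM (h (Subgroup.mem_zpowers c)))
  have hMcen : M ⊓ Subgroup.centralizer (M : Set G) ≤ N := by
    rintro x ⟨hxM, hxC⟩
    refine hMZ.le ⟨hxM, Subgroup.mem_center_iff.2 fun g => ?_⟩
    have hle : M ⊔ Subgroup.zpowers c ≤ Subgroup.centralizer ({x} : Set G) :=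
      sup_le (fun m hm => Subgroup.mem_centralizer_singleton_iff.2
          (Subgroup.mem_centralizer_iff.1 hxC m hm))
        (Subgroup.zpowers_le.2 (Subgroup.center_le_centralizer _ hcZ))
    exact Subgroup.mem_centralizer_singleton_iff.1 (hle (htop ▸ Subgroup.mem_top g))
  have hne : ¬ M ≤ N := fun h => by
    have h1 := Subgroup.card_le_of_le h
    rw [hM, hN] at h1
    exact absurd ((Nat.pow_le_pow_iff_right hp.one_lt).1 (h1.trans (pow_one p).ge)) (by norm_num)
  refine ⟨M, hM, PGroup.isExtraspecial_subgroup_of hP M N hNM hN hcl hMcen hne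
    (fun a _ b _ => Subgroup.commutator_mem_commutator (Subgroup.mem_top a) (Subgroup.mem_top b))
    (fun a _ => hpN a), hMZ, ?_⟩
  have hco : orderOf c = p := orderOf_eq_prime (center_pow_eq_one hcard hZ hcyc hcZ)
    (fun h => hcN (h ▸ N.one_mem))
  let e : Multiplicative (ZMod p) ≃* Subgroup.zpowers c :=
    mulEquivOfPrimeCardEq (p := p) (by simp) (by rw [Nat.card_zpowers, hco])
  let ψ : M × Subgroup.zpowers c →* G :=
    MonoidHom.noncommCoprod M.subtype (Subgroup.zpowers c).subtype fun m u =>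
      Subgroup.mem_center_iff.1 (Subgroup.zpowers_le.2 hcZ u.2) (m : G)
  have hψ : Function.Bijective ψ := by
    refine (Nat.bijective_iff_injective_and_card _).2 ⟨?_, ?_⟩
    · rw [← MonoidHom.ker_eq_bot_iff, eq_bot_iff]
      rintro ⟨m, u⟩ h
      rw [MonoidHom.mem_ker] at h
      have h' : (m : G) * (u : G) = 1 := h
      have huM : (u : G) ∈ M := by
        rw [eq_inv_of_mul_eq_one_right h']
        exact M.inv_mem m.2
      have hu : (u : G) = 1 := by
        have hd : orderOf (u : G) ∣ p := hco ▸ orderOf_dvd_of_mem_zpowers u.2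
        rcases (Nat.dvd_prime hp).1 hd with h0 | h0
        · exact orderOf_eq_one_iff.1 h0
        · exfalso
          have h1 : Subgroup.zpowers (u : G) = Subgroup.zpowers c :=
            Subgroup.eq_of_le_of_card_ge (Subgroup.zpowers_le.2 u.2)
              (by rw [Nat.card_zpowers, Nat.card_zpowers, h0, hco])
          exact hcM (Subgroup.zpowers_le.2 huM (h1.ge (Subgroup.mem_zpowers c)))
      rw [hu, mul_one] at h'
      exact Prod.ext (Subtype.ext h') (Subtype.ext hu)
    · rw [Nat.card_prod, hM, Nat.card_zpowers, hco, hcard, ← pow_succ]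
  exact ⟨(MulEquiv.ofBijective ψ hψ).symm.trans (MulEquiv.prodCongr (MulEquiv.refl M) e.symm)⟩

end Centre

/-- For `p = 2`: a coset of the centre cannot be distinguished. -/
theorem no_special {G : Type u} [Group G] [Finite G] (hcard : Nat.card G = 2 ^ 4)
    (hab : ¬ IsMulCommutative G) (hno : NoChain 2 G) (hZ : Nat.card (Subgroup.center G) = 2 ^ 2)
    (P : G → Prop) (hP : ∀ (α : MulAut G) (x : G), P x → P (α x))
    (hPz : ∀ x : G, ∀ z ∈ Subgroup.center G, P (x * z) ↔ P x)
    {a b : G} (hne : a * b ≠ b * a) (ha : P a) (hb : ¬ P b) (hnab : ¬ P (a * b)) : False := by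
  obtain ⟨hpow, hcl, hN, hgen⟩ := structure_of_center_sq (p := 2) hcard hab hZ
  set Z := Subgroup.center G
  set K := Z ⊔ Subgroup.zpowers a
  have haZ : a ∉ Z := fun h => hne (Subgroup.mem_center_iff.1 h b).symm
  have hout : ∀ x : G, P x → x ∉ Z → x ∈ K := by
    intro x hx hxZ
    have h1 : x ∈ ((K ⊔ Subgroup.zpowers b : Subgroup G) : Set G) := by
      rw [(hgen a b hne).1]; trivial
    have hKn : K.Normal := PGroup.normal_of_index_eq (p := 2) (IsPGroup.of_card hcard) (by
      have h2 := K.card_mul_index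
      rw [(hgen a b hne).2, hcard] at h2
      omega)
    rw [Subgroup.normal_mul] at h1
    obtain ⟨k, hk, v, hv, rfl⟩ := h1
    obtain ⟨j, rfl⟩ := Subgroup.mem_zpowers_iff.1 hv
    beta_reduce at hx hxZ ⊢
    rcases Int.even_or_odd j with ⟨i, rfl⟩ | ⟨i, rfl⟩
    · refine K.mul_mem hk (Subgroup.mem_sup_left ?_)
      rw [← two_mul, zpow_mul]
      exact Z.zpow_mem (by exact_mod_cast hpow b) i
    exfalso
    have hbz : b ^ (2 * i) ∈ Z := by
      rw [zpow_mul]; exact Z.zpow_mem (by exact_mod_cast hpow b) i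
    have hkb : P (k * b) := by
      rw [zpow_add, zpow_one, ← Subgroup.mem_center_iff.1 hbz b, ← mul_assoc, hPz _ _ hbz] at hx
      exact hx
    have h3 : k ∈ ((Z ⊔ Subgroup.zpowers a : Subgroup G) : Set G) := hk
    rw [Subgroup.normal_mul] at h3
    obtain ⟨z, hz, w, hw, rfl⟩ := h3
    obtain ⟨m, rfl⟩ := Subgroup.mem_zpowers_iff.1 hw
    beta_reduce at hkb
    rw [← Subgroup.mem_center_iff.1 hz (a ^ m), mul_assoc, ← Subgroup.mem_center_iff.1 hz b,
      ← mul_assoc, hPz _ _ hz] at hkb
    rcases Int.even_or_odd m with ⟨l, rfl⟩ | ⟨l, rfl⟩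
    · have hal : a ^ (l + l) ∈ Z := by
        rw [← two_mul, zpow_mul]; exact Z.zpow_mem (by exact_mod_cast hpow a) l
      rw [← Subgroup.mem_center_iff.1 hal b, hPz _ _ hal] at hkb
      exact hb hkb
    · have hal : a ^ (2 * l) ∈ Z := by
        rw [zpow_mul]; exact Z.zpow_mem (by exact_mod_cast hpow a) l
      rw [zpow_add, zpow_one, mul_assoc,
        ← Subgroup.mem_center_iff.1 hal (a * b), hPz _ _ hal] at hkb
      exact hnab hkb
  refine hno _ Z K hN hZ (hgen a b hne).2 hcl le_sup_left autInv_commutator autInv_center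
    fun α x hx => ?_
  have hle : K ≤ K.comap α.toMonoidHom := by
    refine sup_le (fun z hz => Subgroup.mem_sup_left (autInv_center α z hz))
      (Subgroup.zpowers_le.2 (hout _ (hP α a ha) fun h => haZ ?_))
    simpa using autInv_center α⁻¹ _ h
  exact hle hx

/-- For `p = 2` and non-cyclic centre all elements outside the centre have the same square, the
nontrivial commutator. -/
theorem sq_eq_commutator {G : Type u} [Group G] [Finite G] (hcard : Nat.card G = 2 ^ 4)
    (hab : ¬ IsMulCommutative G) (hno : NoChain 2 G) (hZ : Nat.card (Subgroup.center G) = 2 ^ 2)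
    (hcyc : ¬ IsCyclic (Subgroup.center G)) :
    ∀ x ∉ Subgroup.center G, x ^ 2 ∈ commutator G ∧ x ^ 2 ≠ 1 := by
  obtain ⟨hpow, hcl, hN, hgen⟩ := structure_of_center_sq (p := 2) hcard hab hZ
  set Z := Subgroup.center G
  set N := commutator G
  have hel : ∀ z ∈ Z, z ^ 2 = 1 := fun z hz => center_pow_eq_one hcard hZ hcyc hz
  intro x hx
  obtain ⟨y, hxy⟩ : ∃ y, x * y ≠ y * x := by
    by_contra hcon
    push Not at hcon
    exact hx (Subgroup.mem_center_iff.2 fun g => (hcon g).symm)
  obtain ⟨c, hc⟩ : ∃ c, c = ⁅y, x⁆ := ⟨_, rfl⟩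
  have hcN : c ∈ N := hc ▸ Subgroup.commutator_mem_commutator (Subgroup.mem_top y) (Subgroup.mem_top x)
  have hc1 : c ≠ 1 := fun h => hxy (commutatorElement_eq_one_iff_mul_comm.1 (hc ▸ h)).symm
  have hmul : (x * y) ^ 2 = x ^ 2 * y ^ 2 * c := by
    rw [PGroup.mul_pow_of_central (PGroup.mem_center_of_class_two hcl y x), ← hc]
    simp
  have hN2 : ∀ n ∈ N, n = 1 ∨ n = c := by
    obtain ⟨u, v, -, huv⟩ := Nat.card_eq_two_iff.1 hN
    intro n hn
    have h1 : (1 : N) ∈ ({u, v} : Set N) := huv ▸ trivial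
    have h2 : (⟨c, hcN⟩ : N) ∈ ({u, v} : Set N) := huv ▸ trivial
    have h3 : (⟨n, hn⟩ : N) ∈ ({u, v} : Set N) := huv ▸ trivial
    have hne : (⟨c, hcN⟩ : N) ≠ 1 := fun h => hc1 (congrArg Subtype.val h)
    simp only [Set.mem_insert_iff, Set.mem_singleton_iff] at h1 h2 h3
    rcases h1 with h1 | h1 <;> rcases h2 with h2 | h2 <;> rcases h3 with h3 | h3 <;>
      first
        | exact absurd (h2.trans h1.symm) hne
        | exact Or.inl (congrArg Subtype.val (h3.trans h1.symm))
        | exact Or.inr (congrArg Subtype.val (h3.trans h2.symm))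
  have hPz : ∀ (Q : G → Prop) (g : G), ∀ z ∈ Z, (Q ((g * z) ^ 2) ↔ Q (g ^ 2)) := by
    intro Q g z hz
    have hcm : Commute g z := Subgroup.mem_center_iff.1 hz g
    rw [hcm.mul_pow, hel z hz, mul_one]
  have hxy2 : x * y ≠ y * x := hxy
  have hyxy : y * (x * y) ≠ x * y * y := fun h => hxy (mul_right_cancel (by rw [← h, ← mul_assoc]) ).symm
  have hxxy : x * (x * y) ≠ x * y * x := fun h => hxy (mul_left_cancel (by rw [h, mul_assoc]))
  -- cosets of `x`, `y`, `x * y`
  have key : ∀ P : G → Prop, (∀ (α : MulAut G) (g : G), P (g ^ 2) → P ((α g) ^ 2)) →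
      ((P (x ^ 2) ∧ ¬ P (y ^ 2) ∧ ¬ P ((x * y) ^ 2)) ∨ (¬ P (x ^ 2) ∧ P (y ^ 2) ∧ ¬ P ((x * y) ^ 2)) ∨
        (¬ P (x ^ 2) ∧ ¬ P (y ^ 2) ∧ P ((x * y) ^ 2))) → False := by
    intro P hP h
    have hsp := fun {a b : G} => no_special hcard hab hno hZ (fun g => P (g ^ 2)) hP (hPz P)
      (a := a) (b := b)
    rcases h with ⟨h1, h2, h3⟩ | ⟨h1, h2, h3⟩ | ⟨h1, h2, h3⟩
    · exact hsp hxy h1 h2 h3
    · refine hsp (Ne.symm hxy) h2 h1 fun h => h3 ?_
      have he : y * x = x * y * c := by
        rw [hc, Subgroup.mem_center_iff.1 (PGroup.mem_center_of_class_two hcl y x) (x * y),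
          commutatorElement_def]
        group
      have h' : P ((y * x) ^ 2) := h
      rw [he, hPz P _ _ (hcl hcN)] at h'
      exact h'
    · refine hsp (Ne.symm hxxy) h3 h1 fun h => h2 ?_
      have he : x * y * x = y * (x ^ 2 * c⁻¹) := by
        have hcz : c⁻¹ ∈ Z := Z.inv_mem (hcl hcN)
        have h5 : x * y = y * x * c⁻¹ := by
          rw [hc, Subgroup.mem_center_iff.1 (hc ▸ hcz) (y * x), commutatorElement_def]
          group
        rw [h5, mul_assoc (y * x), ← Subgroup.mem_center_iff.1 hcz x, sq]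
        group
      have h' : P ((x * y * x) ^ 2) := h
      rw [he, hPz P _ _ (Z.mul_mem (hpow x) (Z.inv_mem (hcl hcN)))] at h'
      exact h'
  -- all three squares lie in the derived subgroup
  have hall : x ^ 2 ∈ N ∧ y ^ 2 ∈ N := by
    have hinv : ∀ (α : MulAut G) (g : G), g ^ 2 ∈ N → (α g) ^ 2 ∈ N := fun α g hg => by
      rw [← map_pow]; exact autInv_commutator α _ hg
    by_contra hcon
    refine key (· ∈ N) hinv ?_
    by_cases h1 : x ^ 2 ∈ N <;> by_cases h2 : y ^ 2 ∈ N
    · exact absurd ⟨h1, h2⟩ hcon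
    · refine Or.inl ⟨h1, h2, fun h3 => h2 ?_⟩
      rw [hmul] at h3
      simpa using N.mul_mem (N.inv_mem h1) ((N.mul_mem_cancel_right hcN).1 h3)
    · refine Or.inr (Or.inl ⟨h1, h2, fun h3 => h1 ?_⟩)
      rw [hmul] at h3
      simpa using N.mul_mem ((N.mul_mem_cancel_right hcN).1 h3) (N.inv_mem h2)
    · refine Or.inr (Or.inr ⟨h1, h2, ?_⟩)
      rw [hmul]
      refine N.mul_mem ?_ hcN
      -- two elements of `Z` outside `N` differ by an element of `N`
      have hidx : (N.subgroupOf Z).index = 2 := by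
        have h3 := Subgroup.card_mul_index (N.subgroupOf Z)
        rw [Nat.card_congr (Subgroup.subgroupOfEquivOfLe hcl).toEquiv, hN, hZ] at h3
        omega
      exact (Subgroup.mul_mem_iff_of_index_two hidx
        (a := (⟨x ^ 2, hpow x⟩ : Z)) (b := ⟨y ^ 2, hpow y⟩)).2 (iff_of_false h1 h2)
  obtain ⟨h1, h2⟩ := hall
  refine ⟨h1, fun h => ?_⟩
  have hinv : ∀ (α : MulAut G) (g : G), (g ^ 2 ∈ N ∧ g ^ 2 ≠ 1) → ((α g) ^ 2 ∈ N ∧ (α g) ^ 2 ≠ 1) :=
    fun α g hg => by
      rw [← map_pow]
      exact ⟨autInv_commutator α _ hg.1, fun h => hg.2 ((map_eq_one_iff _ α.injective).1 h)⟩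
  refine key (fun w => w ∈ N ∧ w ≠ 1) hinv ?_
  rcases hN2 _ h2 with h3 | h3
  · refine Or.inr (Or.inr ⟨fun h4 => h4.2 h, fun h4 => h4.2 h3, ?_⟩)
    rw [hmul, h, h3, one_mul, one_mul]
    exact ⟨hcN, hc1⟩
  · refine Or.inr (Or.inl ⟨fun h4 => h4.2 h, ⟨h3 ▸ hcN, h3 ▸ hc1⟩, fun h4 => h4.2 ?_⟩)
    rw [hmul, h, h3, one_mul, ← sq, hel c (hcl hcN)]


/-- A non-abelian group of order `p ^ 4` without a characteristic chain with factors of order `p`. -/
theorem nonabelian_cases {G : Type u} [Group G] [Finite G] [Fact p.Prime] (hcard : Nat.card G = p ^ 4)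
    (hab : ¬ IsMulCommutative G) (hno : NoChain p G) :
    (Odd p ∧ ∃ (E : Type) (_ : Group E) (_ : Finite E), Cfsg.IsExtraspecial p E ∧ Nat.card E = p ^ 3 ∧
        (∀ x : E, x ^ p = 1) ∧ Nonempty (G ≃* E × Multiplicative (ZMod p))) ∨
      (p = 2 ∧ Nonempty (G ≃* QuaternionGroup 2 × Multiplicative (ZMod 2))) ∨
      ((∀ x : G, x ^ (p ^ 2) = 1) ∧ IsCyclic (Subgroup.center G) ∧
        Nat.card (Subgroup.center G) = p ^ 2) := by
  have hp : p.Prime := Fact.out
  rcases card_center_cases hcard hab with hZ | hZ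
  · exact (false_of_center_prime hcard hab hno hZ).elim
  by_cases hcyc : IsCyclic (Subgroup.center G)
  · exact Or.inr (Or.inr ⟨pow_sq_eq_one hcard hab hno hZ hcyc, hcyc, hZ⟩)
  obtain ⟨hpow, hcl, hN, -⟩ := structure_of_center_sq hcard hab hZ
  rcases eq_or_ne p 2 with rfl | hp2
  · refine Or.inr (Or.inl ⟨rfl, ?_⟩)
    have hsq := sq_eq_commutator hcard hab hno hZ hcyc
    have hpN : ∀ x : G, x ^ 2 ∈ commutator G := fun x => by
      by_cases hx : x ∈ Subgroup.center G
      · rw [center_pow_eq_one hcard hZ hcyc hx]; exact one_mem _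
      · exact (hsq x hx).1
    obtain ⟨M, hM, hME, hMZ, ⟨e⟩⟩ := split_center hcard hab hZ hcyc hpN
    have hMp : IsPGroup 2 M := IsPGroup.of_card hM
    have huniq : ∀ A B : Subgroup M, Nat.card A = 2 → Nat.card B = 2 → A = B := by
      have hone : ∀ A : Subgroup M, Nat.card A = 2 → A = (commutator G).subgroupOf M := by
        intro A hA
        refine Subgroup.eq_of_le_of_card_ge (fun a ha => ?_) ?_
        · rw [Subgroup.mem_subgroupOf, ← hMZ]
          refine ⟨a.2, by_contra fun h => (hsq _ h).2 ?_⟩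
          have h1 := pow_card_eq_one' (G := A) (x := ⟨a, ha⟩)
          rw [hA] at h1
          exact congrArg (fun x : A => ((x : M) : G)) h1
        · rw [hA, Nat.card_congr (Subgroup.subgroupOfEquivOfLe (hMZ ▸ inf_le_left)).toEquiv, hN]
      exact fun A B hA hB => (hone A hA).trans (hone B hB).symm
    rcases PGroup.cyclic_or_quaternion_of_unique hMp huniq with hc | ⟨-, n, -, hn, ⟨q⟩⟩
    · exfalso
      have : IsMulCommutative M := IsCyclic.isMulCommutative
      have h1 : Subgroup.center M = ⊤ := Subgroup.center_eq_top_iff.2 this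
      have h2 := hME.2
      rw [h1, Subgroup.card_top, hM] at h2
      exact absurd h2 (by norm_num)
    · rw [hM] at hn
      obtain rfl : n = 1 := by have := Nat.pow_right_injective (le_refl 2) hn; omega
      exact ⟨e.trans (MulEquiv.prodCongr q (MulEquiv.refl _))⟩
  · refine Or.inl ⟨hp.odd_of_ne_two hp2, ?_⟩
    have hexp := pow_prime_eq_one hcard hab hno hp2 hZ hcyc
    obtain ⟨M, hM, hME, -, ⟨e⟩⟩ := split_center hcard hab hZ hcyc
      (fun x => by rw [hexp x]; exact one_mem _)
    have g : Shrink.{0} M ≃* M := Shrink.mulEquiv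
    refine ⟨Shrink.{0} M, inferInstance, inferInstance, TI.isExtraspecial_congr g.symm hME, ?_, ?_,
      ⟨e.trans (MulEquiv.prodCongr g.symm (MulEquiv.refl _))⟩⟩
    · rw [Nat.card_congr g.toEquiv, hM]
    · exact fun x => g.injective (by
        rw [map_pow, map_one]; exact Subtype.ext (hexp _))

end Cfsg.Agent.Fusion.EssP4
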