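import Mathlib.GroupTheory.Subgroup.Centralizer
import Cfsg.Prelude.Def_FusionSystem

/-!
Extension of maps in a saturated fusion system: maps between centric subgroups extend to normalisers.
-/

set_option autoImplicit false

namespace Cfsg.Agent.Fusion.Extn

open Cfsg Cfsg.FusionSystem

variable {Ω : Type*} [Group Ω] {S : Subgroup Ω}

/-- Restriction of a map of the system. -/
theorem restrict_mem (F : FusionSystem S) {P Q : Subgroup Ω} {φ : P →* Ω} (hφ : φ ∈ F.Hom P)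
    (h : Q ≤ P) : φ.comp (Subgroup.inclusion h) ∈ F.Hom Q := by
  have h1 : ∀ x : Q, conjHom Q 1 x ∈ P := fun x => by simpa [conjHom] using h x.2
  have h2 := F.comp_mem (F.conj_mem (h.trans (F.le_of_mem hφ).1) S.one_mem) hφ h1
  convert h2 using 1
  ext x
  simp [conjHom, Subgroup.inclusion]

/-- A map of the system agreeing pointwise with a given one, on an equal source. -/
theorem hom_of_eq (F : FusionSystem S) {P Q : Subgroup Ω} (h : P = Q) {φ : P →* Ω}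
    (hφ : φ ∈ F.Hom P) :
    ∃ ψ ∈ F.Hom Q, ∀ (x : Ω) (hx : x ∈ P) (hx' : x ∈ Q), ψ ⟨x, hx'⟩ = φ ⟨x, hx⟩ := by
  subst h
  exact ⟨φ, hφ, fun x _ _ => rfl⟩

theorem mem_autGroup (F : FusionSystem S) {P : Subgroup Ω} [Finite P] (hP : P ≤ S) {α : MulAut P} :
    α ∈ F.autGroup P ↔ P.subtype.comp α.toMonoidHom ∈ F.Hom P := by
  refine ⟨fun h => ?_, fun h => Subgroup.subset_closure h⟩
  induction h using Subgroup.closure_induction with
  | mem α h => exact h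
  | one =>
    convert F.conj_mem hP S.one_mem using 1
    ext x
    simp [conjHom]
  | mul α β _ _ hα hβ =>
    have h1 : ∀ x : P, P.subtype.comp β.toMonoidHom x ∈ P := fun x => (β x).2
    convert F.comp_mem hβ hα h1 using 1
    ext x
    simp
  | inv α _ hα =>
    obtain ⟨ψ, hψ, hψ'⟩ := F.inv_mem hα
    have hr : (P.subtype.comp α.toMonoidHom).range = P := by
      apply le_antisymm
      · rintro _ ⟨x, rfl⟩; exact (α x).2
      · intro x hx
        exact ⟨α.symm ⟨x, hx⟩, by simp⟩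
    obtain ⟨χ, hχ, hχ'⟩ := hom_of_eq F hr hψ
    convert hχ using 1
    ext x
    have h2 := hψ' (α.symm x)
    rw [hχ' x.1 (hr.ge x.2) x.2]
    show ((α.symm x : P) : Ω) = _
    exact h2.symm.trans (congrArg ψ (Subtype.ext (by simp)))

theorem autInducedBy_exists {K P : Subgroup Ω} {α : MulAut P} (h : α ∈ autInducedBy K P) :
    ∃ g ∈ K, ∀ x : P, ((α x : P) : Ω) = g * (x : Ω) * g⁻¹ := by
  induction h using Subgroup.closure_induction with
  | mem α h => exact h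
  | one => exact ⟨1, K.one_mem, fun x => by simp⟩
  | mul α β _ _ hα hβ =>
    obtain ⟨a, ha, ha'⟩ := hα
    obtain ⟨b, hb, hb'⟩ := hβ
    exact ⟨a * b, K.mul_mem ha hb, fun x => by rw [MulAut.mul_apply, ha', hb']; group⟩
  | inv α _ hα =>
    obtain ⟨a, ha, ha'⟩ := hα
    refine ⟨a⁻¹, K.inv_mem ha, fun x => ?_⟩
    have h1 := ha' (α⁻¹ x)
    rw [MulAut.apply_inv_self] at h1
    rw [h1]
    group

/-- In a saturated system every subgroup has a map onto a receptive subgroup that extends to its normaliser. -/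
theorem exists_extension_to_receptive [Finite S] {p : ℕ} [Fact p.Prime] (hp : IsPGroup p S)
    (F : FusionSystem S) (hF : F.IsSaturated p) {R : Subgroup Ω} (hR : R ≤ S) :
    ∃ χ ∈ F.Hom (normalizerIn S R),
      F.IsReceptive ((R.subgroupOf (normalizerIn S R)).map χ) := by
  obtain ⟨Q, ⟨φ, hφ, hrange⟩, ⟨hQS, Syl, hSyl⟩, hrec⟩ := hF R hR
  have : Finite Q := Finite.of_injective _ (Subgroup.inclusion_injective hQS)
  let e : R ≃* Q := MulEquiv.ofBijective (φ.codRestrict Q fun x => hrange ▸ ⟨x, rfl⟩)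
    ⟨fun a b hab => F.injective_of_mem hφ (congrArg Subtype.val hab), fun y => by
      obtain ⟨x, hx⟩ := hrange.ge y.2
      exact ⟨x, Subtype.ext hx⟩⟩
  have he : ∀ x : R, ((e x : Q) : Ω) = φ x := fun x => rfl
  let N := normalizerIn S R
  let cN : N →* MulAut R := R.normalizerMonoidHom.comp (Subgroup.inclusion inf_le_right)
  have hcN : ∀ (n : N) (x : R), ((cN n x : R) : Ω) = n * x * (n : Ω)⁻¹ := fun n x => rfl
  let τ : N →* MulAut Q := (MulAut.congr e).toMonoidHom.comp cN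
  have : Finite N := Finite.of_injective _ (Subgroup.inclusion_injective (inf_le_left : N ≤ S))
  have hτA : τ.range ≤ F.autGroup Q := by
    rintro _ ⟨n, rfl⟩
    rw [mem_autGroup F hQS]
    obtain ⟨ψ, hψ, hψ'⟩ := F.inv_mem hφ
    obtain ⟨ψ₁, hψ₁, hψ₁'⟩ := hom_of_eq F hrange hψ
    have hψR : ∀ y : Q, ψ₁ y = (e.symm y : Ω) := by
      intro y
      have h := hψ' (e.symm y)
      rw [← h, hψ₁' y.1 (hrange.ge y.2) y.2]
      congr 1
      apply Subtype.ext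
      show (y : Ω) = φ (e.symm y)
      rw [← he, e.apply_symm_apply]
    have h1 : ∀ y : Q, ψ₁ y ∈ R := fun y => by rw [hψR]; exact (e.symm y).2
    have h2 : ∀ x : R, conjHom R (n : Ω) x ∈ R := fun x => (cN n x).2
    have h3 := F.comp_mem (F.comp_mem hψ₁ (F.conj_mem hR (Subgroup.mem_inf.mp n.2).1) h1) hφ
      (fun y => h2 _)
    convert h3 using 1
    ext y
    show ((e (cN n (e.symm y)) : Q) : Ω) = φ _
    rw [he]
    congr 1
    apply Subtype.ext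
    show (cN n (e.symm y) : Ω) = (n : Ω) * ψ₁ y * (n : Ω)⁻¹
    rw [hψR, hcN]
  let τ' : N →* F.autGroup Q := τ.codRestrict _ fun n => hτA ⟨n, rfl⟩
  have hpN : IsPGroup p N := hp.to_le inf_le_left
  obtain ⟨T, hT⟩ := (IsPGroup.of_surjective hpN τ'.rangeRestrict τ'.rangeRestrict_surjective).exists_le_sylow
  obtain ⟨a, ha⟩ := MulAction.exists_smul_eq (F.autGroup Q) T Syl
  have haQ := (mem_autGroup F hQS).mp a.2
  let φ' : R →* Ω := (Q.subtype.comp (a : MulAut Q).toMonoidHom).comp (φ.codRestrict Q fun x => hrange ▸ ⟨x, rfl⟩)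
  have hφ'v : ∀ x : R, φ' x = ((a : MulAut Q) (e x) : Ω) := fun x => rfl
  have hφ' : φ' ∈ F.Hom R := F.comp_mem hφ haQ _
  have hφ'r : φ'.range = Q := by
    apply le_antisymm
    · rintro _ ⟨x, rfl⟩; rw [hφ'v]; exact Subtype.property _
    · intro y hy
      exact ⟨e.symm ((a : MulAut Q).symm ⟨y, hy⟩), by rw [hφ'v]; simp⟩
  obtain ⟨ψ, hψ, hψ'⟩ := hrec.2 R φ' hφ' hφ'r
  have hle : N ≤ extender S R φ' := by
    intro n hn
    have h1 : a * τ' ⟨n, hn⟩ * a⁻¹ ∈ (Syl : Subgroup (F.autGroup Q)) := by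
      rw [← ha, Sylow.coe_subgroup_smul]
      exact Subgroup.smul_mem_pointwise_smul (τ' ⟨n, hn⟩) (MulAut.conj a) _ (hT ⟨⟨n, hn⟩, rfl⟩)
    rw [hSyl, Subgroup.mem_subgroupOf] at h1
    obtain ⟨h, hh, hh'⟩ := autInducedBy_exists h1
    refine Subgroup.subset_closure ⟨(Subgroup.mem_inf.mp hn).1, (Subgroup.mem_inf.mp hn).2, h, hh, ?_⟩
    intro x hx
    rw [hφ'v, hφ'v, ← hh' ((a : MulAut Q) (e x))]
    congr 1
    show (a : MulAut Q) _ = ((a : MulAut Q) * τ ⟨n, hn⟩ * (a : MulAut Q)⁻¹) _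
    rw [MulAut.mul_apply, MulAut.mul_apply, MulAut.inv_apply_self]
    congr 1
    show e _ = e (cN ⟨n, hn⟩ (e.symm (e x)))
    rw [e.symm_apply_apply]
    rfl
  refine ⟨ψ.comp (Subgroup.inclusion hle), restrict_mem F hψ hle, ?_⟩
  have himg : (R.subgroupOf N).map (ψ.comp (Subgroup.inclusion hle)) = Q := by
    rw [← hφ'r]
    ext y
    constructor
    · rintro ⟨x, hx, rfl⟩
      exact ⟨⟨x, hx⟩, (hψ' x.1 hx (hle x.2)).symm⟩
    · rintro ⟨x, rfl⟩
      have hxN : (x : Ω) ∈ N := ⟨hR x.2, Subgroup.le_normalizer x.2⟩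
      exact ⟨⟨x, hxN⟩, x.2, hψ' x.1 x.2 (hle hxN)⟩
  rw [himg]
  exact hrec

/-- In a saturated system an automorphism of a centric subgroup `R` that normalises `Aut_S(R)` extends to
the normaliser of `R` in `S`. -/
theorem extend_centric_aut [Finite S] {p : ℕ} [Fact p.Prime] (hp : IsPGroup p S) (F : FusionSystem S)
    (hF : F.IsSaturated p) {R : Subgroup Ω} (hR : F.IsCentric R) {φ : R →* Ω} (hφ : φ ∈ F.Hom R)
    (hφR : ∀ x : R, φ x ∈ R) (hsurj : φ.range = R)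
    (hnorm : ∀ n ∈ normalizerIn S R, ∃ h ∈ normalizerIn S R,
      ∀ (x : R) (hx : n * (x : Ω) * n⁻¹ ∈ R), φ ⟨n * x * n⁻¹, hx⟩ = h * φ x * h⁻¹) :
    ∃ ψ ∈ F.Hom (normalizerIn S R), (∀ x, ψ x ∈ normalizerIn S R) ∧
      ∀ (x : Ω) (hx : x ∈ R) (hx' : x ∈ normalizerIn S R), ψ ⟨x, hx'⟩ = φ ⟨x, hx⟩ := by
  let N := normalizerIn S R
  obtain ⟨χ, hχ, hQrec⟩ : ∃ χ ∈ F.Hom N, F.IsReceptive ((R.subgroupOf N).map χ) :=
    exists_extension_to_receptive hp F hF hR.1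
  set Q := (R.subgroupOf N).map χ with hQ
  have hRN : R ≤ N := le_inf hR.1 Subgroup.le_normalizer
  have hconj : F.IsConj R Q := by
    refine ⟨χ.comp (Subgroup.inclusion hRN), restrict_mem F hχ hRN, ?_⟩
    rw [MonoidHom.range_comp, Subgroup.inclusion_range]
  let φ' : R →* Ω := (χ.comp (Subgroup.inclusion hRN)).comp (φ.codRestrict R hφR)
  have hφ' : φ' ∈ F.Hom R := F.comp_mem hφ (restrict_mem F hχ hRN) hφR
  have hφ'v : ∀ x : R, φ' x = χ ⟨φ x, hRN (hφR x)⟩ := fun x => rfl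
  have hφ'r : φ'.range = Q := by
    apply le_antisymm
    · rintro _ ⟨x, rfl⟩
      exact ⟨⟨φ x, hRN (hφR x)⟩, hφR x, rfl⟩
    · rintro _ ⟨y, hy, rfl⟩
      obtain ⟨x, hx⟩ := hsurj.ge hy
      exact ⟨x, by rw [hφ'v]; congr 1; exact Subtype.ext hx⟩
  obtain ⟨ψ₁, hψ₁, hψ₁'⟩ := hQrec.2 R φ' hφ' hφ'r
  have hle : N ≤ extender S R φ' := by
    intro n hn
    obtain ⟨h, hh, hh'⟩ := hnorm n hn
    refine Subgroup.subset_closure ⟨(Subgroup.mem_inf.mp hn).1, (Subgroup.mem_inf.mp hn).2,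
      χ ⟨h, hh⟩, (F.le_of_mem hχ).2 _, ?_⟩
    intro x hx
    rw [hφ'v, hφ'v, ← map_inv, ← map_mul, ← map_mul]
    congr 1
    apply Subtype.ext
    simpa using hh' x hx
  let ψ₂ := ψ₁.comp (Subgroup.inclusion hle)
  have hψ₂ : ψ₂ ∈ F.Hom N := restrict_mem F hψ₁ hle
  have hψ₂R : ∀ (x : Ω) (hx : x ∈ R), ψ₂ ⟨x, hRN hx⟩ = χ ⟨φ ⟨x, hx⟩, hRN (hφR _)⟩ := fun x hx =>
    hψ₁' x hx (hle (hRN hx))
  have hrange : ∀ n : N, ψ₂ n ∈ χ.range := by
    intro n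
    obtain ⟨h, hh, hh'⟩ := hnorm n n.2
    have hc : (χ ⟨h, hh⟩)⁻¹ * ψ₂ n ∈ centralizerIn S Q := by
      refine ⟨S.mul_mem (S.inv_mem ((F.le_of_mem hχ).2 _)) ((F.le_of_mem hψ₂).2 n), ?_⟩
      refine Subgroup.mem_centralizer_iff.mpr fun q hq => ?_
      obtain ⟨x, rfl⟩ : ∃ x : R, φ' x = q := hφ'r.ge hq
      have hx : (n : Ω) * x * (n : Ω)⁻¹ ∈ R :=
        (Subgroup.mem_normalizer_iff.mp (Subgroup.mem_inf.mp n.2).2 x).mp x.2
      have h1 : ψ₂ n * φ' x * (ψ₂ n)⁻¹ = χ ⟨h, hh⟩ * φ' x * (χ ⟨h, hh⟩)⁻¹ := by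
        have hx' : φ' x = ψ₂ ⟨x, hRN x.2⟩ := (hψ₂R x x.2).symm
        conv_lhs => rw [hx', ← map_inv, ← map_mul, ← map_mul]
        rw [show n * ⟨(x : Ω), hRN x.2⟩ * n⁻¹ = (⟨_, hRN hx⟩ : N) from Subtype.ext rfl, hψ₂R _ hx,
          hφ'v, ← map_inv, ← map_mul, ← map_mul]
        congr 1
        apply Subtype.ext
        simpa using hh' x hx
      calc φ' x * ((χ ⟨h, hh⟩)⁻¹ * ψ₂ n)
          = (χ ⟨h, hh⟩)⁻¹ * (χ ⟨h, hh⟩ * φ' x * (χ ⟨h, hh⟩)⁻¹) * ψ₂ n := by group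
        _ = (χ ⟨h, hh⟩)⁻¹ * (ψ₂ n * φ' x * (ψ₂ n)⁻¹) * ψ₂ n := by rw [h1]
        _ = _ := by group
    obtain ⟨y, -, hy⟩ := hR.2 Q hconj hc
    exact ⟨⟨h, hh⟩ * y, by rw [map_mul, hy]; group⟩
  obtain ⟨θ, hθ, hθ'⟩ := F.inv_mem hχ
  refine ⟨θ.comp (ψ₂.codRestrict χ.range hrange), F.comp_mem hψ₂ hθ hrange, ?_, ?_⟩
  · intro n
    obtain ⟨y, hy⟩ := hrange n
    have : θ.comp (ψ₂.codRestrict χ.range hrange) n = (y : Ω) := by
      rw [← hθ' y]
      show θ _ = θ _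
      congr 1
      exact Subtype.ext hy.symm
    rw [this]
    exact y.2
  · intro x hx hx'
    rw [show θ.comp (ψ₂.codRestrict χ.range hrange) ⟨x, hx'⟩ =
      θ ⟨χ ⟨φ ⟨x, hx⟩, hRN (hφR _)⟩, ⟨_, rfl⟩⟩ from congrArg θ (Subtype.ext (hψ₂R x hx))]
    exact hθ' _

end Cfsg.Agent.Fusion.Extn
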