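import Cfsg.Agent.Lib.Fusion.SubgroupSystem

/-!
A normal subgroup of a finite group gives a normal subsystem of the fusion system of the group.
-/

set_option autoImplicit false

namespace Cfsg.Agent.Fusion

open Cfsg Cfsg.FusionSystem

variable {G : Type*} [Group G] [Finite G] {p : ℕ} [Fact p.Prime]

/-- For `N ⊴ G`, an element of `N` normalizing `T = S ∩ N` can be changed by an element of `C_N(T)`
so that it normalizes `C_S(T)` as well. -/
theorem exists_normalizes_centralizer (S : Sylow p G) (N : Subgroup G) [N.Normal] {n : G}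
    (hn : n ∈ N) (hnT : n ∈ Subgroup.normalizer (((S : Subgroup G) ⊓ N : Subgroup G) : Set G)) :
    ∃ n' ∈ N, (∀ t ∈ (S : Subgroup G) ⊓ N, n' * t * n'⁻¹ = n * t * n⁻¹) ∧
      ∀ u ∈ centralizerIn (S : Subgroup G) ((S : Subgroup G) ⊓ N),
        n' * u * n'⁻¹ ∈ centralizerIn (S : Subgroup G) ((S : Subgroup G) ⊓ N) := by
  set T := (S : Subgroup G) ⊓ N with hTdef
  set C := Subgroup.centralizer (T : Set G) with hC
  set U := centralizerIn (S : Subgroup G) T with hU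
  have hUC : U ≤ C := centralizerIn_le_centralizer _ _
  have hSN : normalizerIn (S : Subgroup G) T = (S : Subgroup G) := by
    refine le_antisymm inf_le_left (le_inf le_rfl ?_)
    refine le_trans (le_inf (Subgroup.le_normalizer) ?_) Subgroup.inf_normalizer_le_normalizer_inf
    rw [Subgroup.normalizer_eq_top N]
    exact le_top
  have hUsyl : IsSylowIn p U C := by
    refine centralizer_sylow_of_normalizer_sylow (S := S) ?_
    rw [hSN]
    have hle : (S : Subgroup G) ≤ Subgroup.normalizer (T : Set G) := hSN.ge.trans inf_le_right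
    refine (isSylowIn_iff_card hle).2 (le_antisymm (card_le_of_isPGroup S.2 hle) ?_)
    rw [S.card_eq_multiplicity]
    exact Nat.pow_le_pow_right (Fact.out : p.Prime).pos
      ((Nat.factorization_le_iff_dvd Nat.card_pos.ne' Nat.card_pos.ne').2
        (Subgroup.card_subgroup_dvd_card _) p)
  set L := (N ⊔ U) ⊓ C with hL
  have hUL : U ≤ L := le_inf le_sup_right hUC
  have hUp : IsPGroup p (U.subgroupOf L) :=
    (centralizerIn_isPGroup S T).comap_of_injective L.subtype L.subtype_injective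
  let R : Sylow p L :=
    { toSubgroup := U.subgroupOf L
      isPGroup' := hUp
      is_maximal' := fun {Q} hQ hle => by
        have h1 : U ≤ Q.map L.subtype := fun u hu => ⟨⟨u, hUL hu⟩, hle hu, rfl⟩
        have h2 := hUsyl.eq_of_le hUC h1 (hQ.map _)
          ((Subgroup.map_subtype_le Q).trans inf_le_right)
        ext x
        rw [Subgroup.mem_subgroupOf]
        constructor
        · exact fun hx => h2.ge ⟨x, hx, rfl⟩
        · exact fun hx => hle hx }
  have hconjL : ∀ u ∈ U, n * u * n⁻¹ ∈ L := by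
    intro u hu
    constructor
    · have h1 : n * (u * n⁻¹ * u⁻¹) ∈ N :=
        mul_mem hn ((inferInstance : N.Normal).conj_mem _ (InvMemClass.inv_mem hn) u)
      have h2 : n * u * n⁻¹ = n * (u * n⁻¹ * u⁻¹) * u := by group
      rw [h2]
      exact mul_mem (Subgroup.mem_sup_left h1) (Subgroup.mem_sup_right hu)
    · exact (map_conj_centralizer T n).le.trans
        (by
          have : T.map (MulAut.conj n).toMonoidHom = T :=
            Subgroup.eq_of_le_of_card_ge (by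
              rintro _ ⟨t, ht, rfl⟩
              exact (Subgroup.mem_normalizer_iff.1 hnT t).1 ht)
              (card_map_conj T n).ge
          rw [this]) ⟨u, hUC hu, rfl⟩
  set U' := (U.map (MulAut.conj n).toMonoidHom).subgroupOf L
  obtain ⟨⟨g, hgL⟩, hg⟩ := exists_conj_le R (K := U')
    (((centralizerIn_isPGroup S T).map _).comap_of_injective L.subtype L.subtype_injective)
  obtain ⟨u₀, hu₀, m, hm, hgm⟩ := Subgroup.mem_sup_of_normal_right.1 (sup_comm N U ▸ hgL.1)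
  have hmC : m ∈ C := by
    rw [show m = u₀⁻¹ * g by rw [← hgm, inv_mul_cancel_left]]
    exact mul_mem (InvMemClass.inv_mem (hUC hu₀)) hgL.2
  refine ⟨m * n, mul_mem hm hn, fun t ht => ?_, fun u hu => ?_⟩
  · have h1 : n * t * n⁻¹ ∈ T := (Subgroup.mem_normalizer_iff.1 hnT t).1 ht
    have h2 : n * t * n⁻¹ * m = m * (n * t * n⁻¹) := Subgroup.mem_centralizer_iff.1 hmC _ h1
    calc m * n * t * (m * n)⁻¹ = m * (n * t * n⁻¹) * m⁻¹ := by group
      _ = n * t * n⁻¹ := by rw [← h2, mul_inv_cancel_right]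
  · have h1 : g * (n * u * n⁻¹) * g⁻¹ ∈ U :=
      hg ⟨⟨_, hconjL u hu⟩, ⟨u, hu, rfl⟩, rfl⟩
    have h2 := mul_mem (mul_mem (InvMemClass.inv_mem hu₀) h1) hu₀
    rw [← hgm] at h2
    convert h2 using 1
    group

/-- A normal subgroup gives a normal subsystem. -/
theorem subgroupSystem_isNormalIn (S : Sylow p G) (N : Subgroup G) [N.Normal] :
    (fusionSystemOfSubgroup N ((S : Subgroup G) ⊓ N) inf_le_right).IsNormalIn
      (groupFusionSystem (S : Subgroup G)) p := by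
  set T := (S : Subgroup G) ⊓ N with hTdef
  have hNn : N.Normal := inferInstance
  refine ⟨⟨subgroupSystem_saturated inf_le_right (isSylowIn_of_normal S N),
    groupFusionSystem_saturated S, fun P φ hφ => ?_, ⟨inf_le_left, fun R hR φ hφ x => ?_⟩,
    fun P hPT φ hφ α hα => ?_, fun P hPT φ hφ => ?_⟩, fun α hα => ?_⟩
  · obtain ⟨hP, hv, g, -, hg⟩ := mem_subgroupSystem.1 hφ
    exact mem_groupHom.2 ⟨hP.trans inf_le_left, fun x => (hv x).1, g, hg⟩
  · obtain ⟨-, hv, g, hg⟩ := mem_groupHom.1 hφ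
    exact ⟨hv x, by rw [hg x]; exact hNn.conj_mem _ (hR x.2).2 g⟩
  · obtain ⟨-, hv, n, hn, hnx⟩ := mem_subgroupSystem.1 hφ
    rw [group_autGroup inf_le_left, mem_autInducedBy_iff] at hα
    obtain ⟨g, -, hg⟩ := hα
    refine ⟨conjHom _ (g * n * g⁻¹), mem_subgroupSystem.2 ⟨?_, ?_, g * n * g⁻¹,
      hNn.conj_mem n hn g, fun _ => rfl⟩, fun x hφx hαx => ?_⟩
    · rintro _ ⟨t, -, rfl⟩
      exact (α t).2
    · rintro ⟨_, t, ht, rfl⟩
      show g * n * g⁻¹ * ((α t : T) : G) * (g * n * g⁻¹)⁻¹ ∈ T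
      have h1 : g * φ ⟨(t : G), ht⟩ * g⁻¹ ∈ T := by
        have h0 := (α ⟨_, hv ⟨(t : G), ht⟩⟩).2
        rw [hg] at h0
        exact h0
      rw [hnx] at h1
      rw [hg]
      convert h1 using 1
      group
    · show g * n * g⁻¹ * ((α ⟨x, hPT x.2⟩ : T) : G) * (g * n * g⁻¹)⁻¹ = _
      rw [hg, hg]
      show _ = g * φ x * g⁻¹
      rw [hnx]
      group
  · obtain ⟨-, hv, g, hg⟩ := mem_groupHom.1 hφ
    obtain ⟨R, hR⟩ := isSylowIn_of_normal S N
    have hgtop : g ∈ Subgroup.normalizer (T : Set G) ⊔ N := by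
      have h1 := Sylow.normalizer_sup_eq_top R
      have h2 : ((R : Subgroup N).map N.subtype) = T := by
        rw [hR, Subgroup.subgroupOf_map_subtype, inf_eq_left.2 inf_le_right]
      rw [← h2]
      exact h1.ge trivial
    obtain ⟨m, hm, n, hn, rfl⟩ := Subgroup.mem_sup_of_normal_right.1 hgtop
    refine ⟨T.normalizerMonoidHom ⟨m, hm⟩, ?_, conjHom P n, mem_subgroupSystem.2 ⟨hPT, fun x => ?_,
      n, hn, fun _ => rfl⟩, fun x hx => ?_⟩
    · rw [group_autGroup inf_le_left, mem_autInducedBy_iff]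
      exact ⟨m, trivial, fun _ => rfl⟩
    · show n * (x : G) * n⁻¹ ∈ T
      rw [Subgroup.mem_normalizer_iff.1 hm]
      have h1 : φ x ∈ T := ⟨hv x, by rw [hg x]; exact hNn.conj_mem _ (hPT x.2).2 _⟩
      rw [hg x] at h1
      convert h1 using 1
      group
    · show φ x = m * (n * (x : G) * n⁻¹) * m⁻¹
      rw [hg x]
      group
  · rw [mem_autGroup_iff le_rfl, mem_subgroupSystem] at hα
    obtain ⟨-, -, n, hn, hnx⟩ := hα
    have hnT : n ∈ Subgroup.normalizer (T : Set G) :=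
      mem_normalizer_of_aut (α := α) fun x => (hnx x)
    obtain ⟨n', hn', hT', hU'⟩ := exists_normalizes_centralizer S N hn hnT
    set U := centralizerIn (S : Subgroup G) T with hUdef
    have hDS : T ⊔ U ≤ (S : Subgroup G) := sup_le inf_le_left inf_le_left
    have hmap : (T ⊔ U).map (MulAut.conj n').toMonoidHom ≤ T ⊔ U := by
      rw [Subgroup.map_sup]
      refine sup_le_sup ?_ ?_
      · rintro _ ⟨t, ht, rfl⟩
        show n' * t * n'⁻¹ ∈ T
        rw [hT' t ht]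
        exact (Subgroup.mem_normalizer_iff.1 hnT t).1 ht
      · rintro _ ⟨u, hu, rfl⟩
        exact hU' u hu
    have hmem := conjHom_mem_groupHom (S₀ := (S : Subgroup G)) hDS (hmap.trans hDS)
    have hrange : (conjHom (T ⊔ U) n').range = T ⊔ U := by
      rw [range_conjHom]
      exact Subgroup.eq_of_le_of_card_ge hmap (card_map_conj _ n').ge
    refine ⟨toAut hmem hrange, toAut_mem hmem hrange, fun x => ?_, fun c hc => ?_⟩
    · rw [coe_toAut]
      show n' * (x : G) * n'⁻¹ = ((α x : T) : G)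
      rw [hT' x x.2, ← hnx x]
      rfl
    · rw [coe_toAut]
      have h1 : n' * (c : G) * n'⁻¹ ∈ U := hU' c hc
      have h2 : (c : G)⁻¹ * (n' * (c : G) * n'⁻¹) ∈ N := by
        rw [show (c : G)⁻¹ * (n' * (c : G) * n'⁻¹) = (c : G)⁻¹ * n' * (c : G) * n'⁻¹ by group]
        exact mul_mem (hNn.conj_mem' n' hn' _) (InvMemClass.inv_mem hn')
      have h3 : (c : G)⁻¹ * (n' * (c : G) * n'⁻¹) ∈ U := mul_mem (InvMemClass.inv_mem hc) h1
      exact ⟨⟨h3.1, h2⟩, h3.2⟩

end Cfsg.Agent.Fusion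

namespace Cfsg.Agent.Fusion

open Cfsg Cfsg.FusionSystem

variable {Ω : Type*} [Group Ω] {S₀ : Subgroup Ω} {G : Type*} [Group G] {p : ℕ}
  {F : FusionSystem S₀} {ι : S₀ →* G}

theorem mem_pullSub {N : Subgroup G} {x : Ω} :
    x ∈ pullSub ι N ↔ ∃ hx : x ∈ S₀, ι ⟨x, hx⟩ ∈ N :=
  ⟨by rintro ⟨s, hs, rfl⟩; exact ⟨s.2, hs⟩, fun ⟨hx, h⟩ => ⟨⟨x, hx⟩, h, rfl⟩⟩

/-- `ι` on the part of `S₀` lying over `N`, with values in `N`. -/
def pullRestrict (ι : S₀ →* G) (N : Subgroup G) : pullSub ι N →* N :=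
  (ι.comp (Subgroup.inclusion (pullSub_le ι N))).codRestrict N fun x => (mem_pullSub.1 x.2).2

theorem coe_pullRestrict (N : Subgroup G) (x : pullSub ι N) :
    (pullRestrict ι N x : G) = ι ⟨x, pullSub_le ι N x.2⟩ := rfl

theorem pullRestrict_injective (hι : Function.Injective ι) (N : Subgroup G) :
    Function.Injective (pullRestrict ι N) := fun _ _ h =>
  Subgroup.inclusion_injective (pullSub_le ι N) (hι (congrArg Subtype.val h))

/-- A normal subgroup of a realizing group gives a normal subsystem. -/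
theorem realized_isNormalIn [Finite G] [Fact p.Prime] (h : F.IsRealizedBy ι) (T : Sylow p G)
    (hT : (T : Subgroup G) = ι.range) (N : Subgroup G) [N.Normal] :
    (inducedSystem (pullRestrict ι N) (pullRestrict_injective h.1 N)).IsNormalIn F p := by
  have hNn : N.Normal := inferInstance
  have : Finite S₀ := Finite.of_injective ι h.1
  have hκ := pullRestrict_injective h.1 N
  have hT0 : pullSub ι N ≤ S₀ := pullSub_le ι N
  have hrk : (pullRestrict ι N).range = ((T : Subgroup G) ⊓ N).subgroupOf N := by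
    ext y
    constructor
    · rintro ⟨x, rfl⟩
      exact ⟨hT.ge ⟨_, rfl⟩, (pullRestrict ι N x).2⟩
    · rintro ⟨hy, -⟩
      obtain ⟨s, hs⟩ := hT.le hy
      have hsN : ι s ∈ N := by
        rw [hs]
        exact y.2
      exact ⟨⟨s, mem_pullSub.2 ⟨s.2, hsN⟩⟩, Subtype.ext hs⟩
  have hpush : ∀ t ∈ (T : Subgroup G) ⊓ N, ∃ x : pullSub ι N,
      ι ⟨x, hT0 x.2⟩ = t := by
    rintro t ⟨ht, htN⟩
    obtain ⟨x, hx⟩ : (⟨t, htN⟩ : N) ∈ (pullRestrict ι N).range := hrk.ge ⟨ht, htN⟩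
    exact ⟨x, congrArg Subtype.val hx⟩
  obtain ⟨R, hR⟩ := isSylowIn_of_normal T N
  refine ⟨⟨isSaturated_of_realized (inducedSystem_realized _ hκ) ⟨R, hR.trans hrk.symm⟩,
    isSaturated_of_realized h ⟨T, hT⟩, fun P φ hφ => ?_, ⟨hT0, fun Q hQ φ hφ x => ?_⟩,
    fun P hPT φ hφ α hα => ?_, fun P hPT φ hφ => ?_⟩, fun α hα => ?_⟩
  · obtain ⟨hP, hv, n, hn⟩ := hφ
    exact (realized_hom_iff h).2 ⟨hP.trans hT0, fun x => hT0 (hv x), n, fun x =>
      congrArg Subtype.val (hn x)⟩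
  · obtain ⟨hP, hv, g, hg⟩ := (realized_hom_iff h).1 hφ
    refine mem_pullSub.2 ⟨hv x, ?_⟩
    rw [hg x]
    exact hNn.conj_mem _ (mem_pullSub.1 (hQ x.2)).2 g
  · obtain ⟨_hP, hv, n, hn⟩ := hφ
    obtain ⟨_hP, hαv, g, hg⟩ := (realized_hom_iff h).1 ((mem_autGroup_iff hT0).1 hα)
    set P' := (P.subgroupOf (pullSub ι N)).map ((pullSub ι N).subtype.comp α.toMonoidHom)
    have hP' : P' ≤ pullSub ι N := by
      rintro _ ⟨t, -, rfl⟩
      exact (α t).2
    let n' : N := ⟨g * (n : G) * g⁻¹, hNn.conj_mem _ n.2 g⟩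
    have key : ∀ (x : P) (hαx : ((α ⟨x, hPT x.2⟩ : pullSub ι N) : Ω) ∈ P'),
        n' * pullRestrict ι N ⟨_, hP' hαx⟩ * n'⁻¹ =
          pullRestrict ι N (α ⟨φ x, hv x⟩) := by
      intro x hαx
      apply Subtype.ext
      show (g * (n : G) * g⁻¹) * ι _ * (g * (n : G) * g⁻¹)⁻¹ = ι _
      refine (congrArg (fun z => (g * (n : G) * g⁻¹) * z * (g * (n : G) * g⁻¹)⁻¹)
        (hg ⟨x, hPT x.2⟩)).trans ?_
      refine Eq.trans ?_ (hg ⟨φ x, hv x⟩).symm
      have hnx : ι ⟨φ x, hT0 (hv x)⟩ = (n : G) * ι ⟨x, hT0 (hPT x.2)⟩ * (n : G)⁻¹ :=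
        congrArg Subtype.val (hn x)
      rw [hnx]
      group
    have hmem : ∀ y : P', n' * pullRestrict ι N ⟨y, hP' y.2⟩ * n'⁻¹ ∈ (pullRestrict ι N).range := by
      rintro ⟨_, t, ht, rfl⟩
      exact ⟨_, (key ⟨t, ht⟩ ⟨t, ht, rfl⟩).symm⟩
    refine ⟨_, pullHom_mem (inducedSystem_realized _ hκ) hP' n' hmem, fun x hφx hαx => ?_⟩
    refine congrArg Subtype.val (hκ ((apply_pullHom hκ hP' n' hmem ⟨_, hαx⟩
      (apply_mem (pullHom_mem (inducedSystem_realized _ hκ) hP' n' hmem) _)).trans (key x hαx)))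
  · obtain ⟨_hP, hv, g, hg⟩ := (realized_hom_iff h).1 hφ
    have hgtop : g ∈ Subgroup.normalizer (((T : Subgroup G) ⊓ N : Subgroup G) : Set G) ⊔ N := by
      have h1 := Sylow.normalizer_sup_eq_top R
      have h2 : ((R : Subgroup N).map N.subtype) = (T : Subgroup G) ⊓ N := by
        rw [hR, Subgroup.subgroupOf_map_subtype, inf_eq_left.2 inf_le_right]
      rw [← h2]
      exact h1.ge trivial
    obtain ⟨m, hm, n, hn, rfl⟩ := Subgroup.mem_sup_of_normal_right.1 hgtop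
    have hmem : ∀ x : pullSub ι N, m * ι ⟨x, hT0 x.2⟩ * m⁻¹ ∈ ι.range := fun x =>
      hT.le ((Subgroup.mem_normalizer_iff.1 hm _).1 ⟨hT.ge ⟨_, rfl⟩, (mem_pullSub.1 x.2).2⟩).1
    have hψ := pullHom_mem h hT0 m hmem
    have hrange : (pullHom h.1 hT0 m hmem).range = pullSub ι N :=
      range_eq_of_le hψ hT0 (fun x => mem_pullSub.2 ⟨apply_mem hψ x, by
        rw [apply_pullHom]
        exact hNn.conj_mem _ (mem_pullSub.1 x.2).2 m⟩) le_rfl
    have hmem0 : ∀ x : P, (⟨n, hn⟩ : N) * pullRestrict ι N ⟨x, hPT x.2⟩ * (⟨n, hn⟩ : N)⁻¹ ∈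
        (pullRestrict ι N).range := by
      intro x
      refine hrk.ge ⟨?_, ((⟨n, hn⟩ : N) * pullRestrict ι N ⟨x, hPT x.2⟩ * (⟨n, hn⟩ : N)⁻¹).2⟩
      show n * ι _ * n⁻¹ ∈ (T : Subgroup G)
      have h1 : ι ⟨φ x, hv x⟩ ∈ (T : Subgroup G) ⊓ N := ⟨hT.ge ⟨_, rfl⟩, by
        rw [hg x]
        exact hNn.conj_mem _ (mem_pullSub.1 (hPT x.2)).2 _⟩
      rw [hg x] at h1
      refine ((Subgroup.mem_normalizer_iff.1 hm _).2 ?_).1
      convert h1 using 1
      show m * (n * ι _ * n⁻¹) * m⁻¹ = _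
      group
      rfl
    refine ⟨toAut hψ hrange, toAut_mem hψ hrange, _,
      pullHom_mem (inducedSystem_realized _ hκ) hPT ⟨n, hn⟩ hmem0, fun x hx => ?_⟩
    rw [coe_toAut]
    refine congrArg Subtype.val (h.1 (?_ : ι ⟨φ x, hv x⟩ = ι ⟨_, apply_mem hψ _⟩))
    rw [apply_pullHom, hg x]
    have h1 := congrArg Subtype.val
      (apply_pullHom hκ hPT ⟨n, hn⟩ hmem0 x (apply_mem (pullHom_mem (inducedSystem_realized _ hκ) hPT ⟨n, hn⟩ hmem0) x))
    refine Eq.trans ?_ (congrArg (fun z => m * z * m⁻¹) h1).symm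
    show m * n * _ * (m * n)⁻¹ = m * (n * ι _ * n⁻¹) * m⁻¹
    group
    rfl
  · obtain ⟨_hP, hv, ⟨n, hn⟩, hnx⟩ := (mem_autGroup_iff le_rfl).1 hα
    have hnx' : ∀ x : pullSub ι N, ι ⟨(α x : pullSub ι N), hT0 (α x).2⟩ =
        n * ι ⟨x, hT0 x.2⟩ * n⁻¹ := fun x => congrArg Subtype.val (hnx x)
    have hnT : n ∈ Subgroup.normalizer (((T : Subgroup G) ⊓ N : Subgroup G) : Set G) := by
      refine Subgroup.mem_normalizer_iff.2 fun t => ⟨fun ht => ?_, fun ht => ?_⟩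
      · obtain ⟨x, rfl⟩ := hpush t ht
        rw [← hnx' x]
        exact ⟨hT.ge ⟨_, rfl⟩, (mem_pullSub.1 (α x).2).2⟩
      · obtain ⟨y, hy⟩ := hpush _ ht
        have h1 := hnx' (α⁻¹ y)
        simp only [MulAut.apply_inv_self] at h1
        rw [hy] at h1
        rw [mul_left_cancel (mul_right_cancel h1)]
        exact ⟨hT.ge ⟨_, rfl⟩, (mem_pullSub.1 (α⁻¹ y).2).2⟩
    obtain ⟨n', hn', hT', hU'⟩ := exists_normalizes_centralizer T N hn hnT
    set D := pullSub ι N ⊔ centralizerIn S₀ (pullSub ι N)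
    have hD : D ≤ S₀ := sup_le hT0 inf_le_left
    have hU : ∀ c (hc : c ∈ centralizerIn S₀ (pullSub ι N)),
        ι ⟨c, hc.1⟩ ∈ centralizerIn (T : Subgroup G) ((T : Subgroup G) ⊓ N) := by
      intro c hc
      refine ⟨hT.ge ⟨_, rfl⟩, Subgroup.mem_centralizer_iff.2 fun t ht => ?_⟩
      obtain ⟨x, rfl⟩ := hpush t ht
      rw [← map_mul, ← map_mul]
      exact congrArg ι (Subtype.ext (Subgroup.mem_centralizer_iff.1 hc.2 x x.2))
    have hU2 : ∀ s : S₀, ι s ∈ centralizerIn (T : Subgroup G) ((T : Subgroup G) ⊓ N) →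
        (s : Ω) ∈ centralizerIn S₀ (pullSub ι N) := by
      intro s hs
      refine ⟨s.2, Subgroup.mem_centralizer_iff.2 fun x hx => ?_⟩
      have h1 := Subgroup.mem_centralizer_iff.1 hs.2 (ι ⟨x, hT0 hx⟩)
        ⟨hT.ge ⟨_, rfl⟩, (mem_pullSub.1 hx).2⟩
      rw [← map_mul, ← map_mul] at h1
      exact congrArg Subtype.val (h.1 h1)
    have hmem : ∀ x : D, n' * ι ⟨x, hD x.2⟩ * n'⁻¹ ∈ ι.range := by
      have h1 : D ≤ ((ι.range.comap ((MulAut.conj n').toMonoidHom.comp ι)).map S₀.subtype) := by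
        refine sup_le (fun x hx => ⟨⟨x, hT0 hx⟩, ?_, rfl⟩) fun c hc => ⟨⟨c, hc.1⟩, ?_, rfl⟩
        · show n' * ι ⟨x, hT0 hx⟩ * n'⁻¹ ∈ ι.range
          rw [hT' _ ⟨hT.ge ⟨_, rfl⟩, (mem_pullSub.1 hx).2⟩, ← hnx' ⟨x, hx⟩]
          exact ⟨_, rfl⟩
        · exact hT.le (hU' _ (hU c hc)).1
      intro x
      obtain ⟨s, hs, hsx⟩ := h1 x.2
      have hsx' : s = ⟨x, hD x.2⟩ := Subtype.ext hsx
      rw [← hsx']
      exact hs
    have hψ := pullHom_mem h hD n' hmem
    set ψ := pullHom h.1 hD n' hmem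
    have hψT : ∀ x : pullSub ι N,
        ψ (Subgroup.inclusion le_sup_left x) = ((α x : pullSub ι N) : Ω) := by
      intro x
      refine congrArg Subtype.val (h.1 (?_ :
        ι ⟨_, apply_mem hψ _⟩ = ι ⟨_, hT0 (α x).2⟩))
      rw [apply_pullHom, hnx' x]
      exact hT' _ ⟨hT.ge ⟨_, rfl⟩, (mem_pullSub.1 x.2).2⟩
    have hψU : ∀ c : D, (c : Ω) ∈ centralizerIn S₀ (pullSub ι N) →
        ψ c ∈ centralizerIn S₀ (pullSub ι N) := by
      intro c hc
      refine hU2 ⟨_, apply_mem hψ c⟩ ?_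
      rw [apply_pullHom]
      exact hU' _ (hU c hc)
    have hψD : ∀ x : D, ψ x ∈ D := by
      have h1 : D ≤ (D.comap ψ).map D.subtype := by
        refine sup_le (fun x hx => ⟨⟨x, Subgroup.mem_sup_left hx⟩, ?_, rfl⟩)
          fun c hc => ⟨⟨c, Subgroup.mem_sup_right hc⟩, ?_, rfl⟩
        · show ψ _ ∈ D
          exact (congrArg (· ∈ D) (hψT ⟨x, hx⟩)).mpr (Subgroup.mem_sup_left (α _).2)
        · exact Subgroup.mem_sup_right (hψU _ hc)
      intro x
      obtain ⟨s, hs, hsx⟩ := h1 x.2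
      rw [← Subtype.ext hsx]
      exact hs
    have hrange : ψ.range = D := range_eq_of_le hψ hD hψD le_rfl
    refine ⟨toAut hψ hrange, toAut_mem hψ hrange, fun x => ?_, fun c hc => ?_⟩
    · rw [coe_toAut, hψT]
    · rw [coe_toAut]
      have h3 : (c : Ω)⁻¹ * ψ c ∈ centralizerIn S₀ (pullSub ι N) :=
        mul_mem (InvMemClass.inv_mem hc) (hψU c hc)
      refine ⟨mem_pullSub.2 ⟨h3.1, ?_⟩, h3.2⟩
      rw [show (⟨_, h3.1⟩ : S₀) = (⟨c, hD c.2⟩ : S₀)⁻¹ * ⟨ψ c, apply_mem hψ c⟩ from rfl, map_mul,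
        map_inv, apply_pullHom]
      rw [show ∀ a : G, a⁻¹ * (n' * a * n'⁻¹) = a⁻¹ * n' * a * n'⁻¹ from fun a => by group]
      exact mul_mem (hNn.conj_mem' n' hn' _) (InvMemClass.inv_mem hn')

end Cfsg.Agent.Fusion
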