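import Cfsg.Prelude.Def_FusionFitting
import Cfsg.Agent.Lib.Fusion.ConstrainedComponent
import Cfsg.Agent.Lib.Fusion.NormalCentralizerClosed
import Cfsg.Agent.S5155

/-!
The generalized Fitting subsystem: its maps, and what centralizes it.
-/

set_option autoImplicit false
set_option linter.unusedSectionVars false

namespace Cfsg.Agent.Fusion.FittingCentralizer

open Cfsg Cfsg.FusionSystem Cfsg.Agent.Fusion

universe u

variable {Ω : Type u} [Group Ω] {S R T U Z : Subgroup Ω} {F : FusionSystem S} {E : FusionSystem T}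
  {D : FusionSystem U} {Z₀ : Subgroup (Ω × Ω)} {D₀ : FusionSystem (R.prod T)}
  {θ : ↥(R.prod T) →* Ω} {p : ℕ}

/-- The data of a central product of the inner system of `R` and `E`. -/
structure Data (D₀ : FusionSystem (R.prod T)) (θ : ↥(R.prod T) →* Ω) (E : FusionSystem T)
    (Z₀ : Subgroup (Ω × Ω)) (D : FusionSystem U) : Prop where
  prod : IsProductSystem (innerFusionSystem R) E D₀
  le_center : Z₀ ≤ D₀.center
  left : ∀ (x : Ω) (hx : ((x, 1) : Ω × Ω) ∈ R.prod T), θ ⟨(x, 1), hx⟩ = x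
  right : ∀ (y : Ω) (hy : ((1, y) : Ω × Ω) ∈ R.prod T), θ ⟨(1, y), hy⟩ = y
  fac : D₀.IsFactorSystem Z₀ θ D

theorem Data.apply (h : Data D₀ θ E Z₀ D) {a t : Ω} (ha : a ∈ R) (ht : t ∈ T) :
    θ ⟨(a, t), ha, ht⟩ = a * t := by
  have h1 : (⟨(a, t), ha, ht⟩ : ↥(R.prod T)) =
      ⟨(a, 1), ha, one_mem _⟩ * ⟨(1, t), one_mem _, ht⟩ :=
    Subtype.ext (Prod.ext (mul_one a).symm (one_mul t).symm)
  rw [h1, map_mul]
  exact congrArg₂ (· * ·) (h.left a _) (h.right t _)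

theorem Data.apply' (h : Data D₀ θ E Z₀ D) (x : ↥(R.prod T)) :
    θ x = (x : Ω × Ω).1 * (x : Ω × Ω).2 := h.apply x.2.1 x.2.2

theorem Data.comm (h : Data D₀ θ E Z₀ D) {a t : Ω} (ha : a ∈ R) (ht : t ∈ T) : a * t = t * a := by
  have h1 : (⟨(a, t), ha, ht⟩ : ↥(R.prod T)) =
      ⟨(1, t), one_mem _, ht⟩ * ⟨(a, 1), ha, one_mem _⟩ :=
    Subtype.ext (Prod.ext (one_mul a).symm (mul_one t).symm)
  have h2 := h.apply ha ht
  rw [h1, map_mul] at h2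
  exact h2.symm.trans (congrArg₂ (· * ·) (h.right t _) (h.left a _))

theorem Data.left_le (h : Data D₀ θ E Z₀ D) : R ≤ U := fun a ha => by
  rw [← h.fac.2.2.1]
  exact ⟨⟨(a, 1), ha, one_mem _⟩, h.left a _⟩

theorem Data.right_le (h : Data D₀ θ E Z₀ D) : T ≤ U := fun t ht => by
  rw [← h.fac.2.2.1]
  exact ⟨⟨(1, t), one_mem _, ht⟩, h.right t _⟩

variable [Finite R] [Finite T]

theorem finite_prod : Finite ↥(R.prod T) :=
  Finite.of_equiv _ (Subgroup.prodEquiv R T).symm.toEquiv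

/-- A map of the product induces a map of the central product. -/
theorem Data.induce (h : Data D₀ θ E Z₀ D) {Q : Subgroup (Ω × Ω)} {φ₀ : Q →* Ω × Ω}
    (hφ₀ : φ₀ ∈ D₀.Hom Q) {P' : Subgroup Ω} (himg : imageAlong θ Q = P') {φ' : P' →* Ω}
    (hind : InducedAlong θ φ₀ φ') : φ' ∈ D.Hom P' := by
  have := finite_prod (R := R) (T := T)
  obtain ⟨-, hker, hrange, hHom⟩ := h.fac
  obtain ⟨hQ, hφS, hm, he⟩ := hind
  obtain ⟨ψ, hψ, hψQ, hψZ⟩ := (Cfsg.Agent.S5144.result D₀).2 Q φ₀ hφ₀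
  have hP'U : P' ≤ U := by
    rw [← himg, ← hrange]
    intro y hy
    obtain ⟨x, -, rfl⟩ := mem_imageAlong_iff.1 hy
    exact ⟨x, rfl⟩
  have hle : preimageAlong θ P' ≤ Q ⊔ D₀.center := by
    rw [← himg, preimage_image hker h.fac.1 hQ]
    exact sup_le_sup_left h.le_center _
  have hres := restrict_mem hψ hle
  refine (hHom P' φ').2 ⟨hP'U, _, hres, preimageAlong_le _ _, apply_mem hres,
    fun x => (mem_preimageAlong.1 x.2).2, fun y => ?_⟩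
  obtain ⟨x₀, hxQ, hxe⟩ := mem_imageAlong_iff.1 (himg.ge (mem_preimageAlong.1 y.2).2)
  set w : ↥(R.prod T) := ⟨y.1, preimageAlong_le _ _ y.2⟩ with hw
  set z := x₀⁻¹ * w with hz
  have hθz : θ z = 1 := by rw [hz, map_mul, map_inv, hxe, inv_mul_cancel]
  have hzc : (z : Ω × Ω) ∈ D₀.center := h.le_center ((hker z).1 hθz)
  have hψy : (ψ.comp (Subgroup.inclusion hle)) y = φ₀ ⟨x₀, hxQ⟩ * (z : Ω × Ω) := by
    rw [← hψQ, ← hψZ ⟨_, hzc⟩, ← map_mul]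
    refine congrArg ψ (Subtype.ext ?_)
    show (y : Ω × Ω) = (x₀ : Ω × Ω) * ((x₀ : Ω × Ω)⁻¹ * (w : Ω × Ω))
    rw [mul_inv_cancel_left]
  have hval : θ ⟨_, apply_mem hres y⟩ = θ ⟨_, hφS ⟨x₀, hxQ⟩⟩ := by
    rw [show (⟨_, apply_mem hres y⟩ : ↥(R.prod T)) = ⟨_, hφS ⟨x₀, hxQ⟩⟩ * z from
      Subtype.ext hψy, map_mul, hθz, mul_one]
  rw [hval, ← he]
  exact congrArg φ' (Subtype.ext hxe.symm)

/-- Maps of `E` are maps of the central product. -/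
theorem Data.e_mem (h : Data D₀ θ E Z₀ D) {P : Subgroup Ω} {e : P →* Ω} (he : e ∈ E.Hom P) :
    e ∈ D.Hom P := by
  have hPT : P ≤ T := dom_le he
  set Q : Subgroup (Ω × Ω) := (⊥ : Subgroup Ω).prod P with hQ
  have hQT : Q ≤ R.prod T := fun x hx => ⟨(Subgroup.mem_bot.1 hx.1) ▸ one_mem R, hPT hx.2⟩
  let φ₀ : Q →* Ω × Ω := (1 : Q →* Ω).prod
    (e.comp (((MonoidHom.snd Ω Ω).comp Q.subtype).codRestrict P fun x => x.2.2))
  have hφ₀ : φ₀ ∈ D₀.Hom Q := by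
    have h₁ : Q.map (MonoidHom.fst Ω Ω) ≤ R := by rintro _ ⟨x, hx, rfl⟩; exact (hQT hx).1
    have h₂ : Q.map (MonoidHom.snd Ω Ω) ≤ P := by rintro _ ⟨x, hx, rfl⟩; exact hx.2
    refine (h.prod Q φ₀).2 ⟨hQT, _, subtype_mem (innerFusionSystem R) h₁, _, restrict_mem he h₂,
      fun x hx₁ hx₂ => Prod.ext ?_ rfl⟩
    exact (Subgroup.mem_bot.1 x.2.1).symm
  have hval : ∀ x : Q, θ ⟨(x : Ω × Ω), hQT x.2⟩ = (x : Ω × Ω).2 := fun x => by
    rw [h.apply', Subgroup.mem_bot.1 x.2.1, one_mul]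
  refine h.induce hφ₀ (P' := P) ?_ ⟨hQT, apply_mem hφ₀, fun x => (hval x).symm ▸ x.2.2, fun x => ?_⟩
  · ext y
    constructor
    · intro hy
      obtain ⟨x, hx, rfl⟩ := mem_imageAlong_iff.1 hy
      exact (hval ⟨x, hx⟩).symm ▸ hx.2
    · intro hy
      have hyQ : ((1, y) : Ω × Ω) ∈ Q := ⟨one_mem _, hy⟩
      exact mem_imageAlong_iff.2 ⟨⟨_, hQT hyQ⟩, hyQ, hval ⟨_, hyQ⟩⟩
  · refine Eq.trans ?_ (h.apply' ⟨_, apply_mem hφ₀ x⟩).symm
    show _ = 1 * _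
    rw [one_mul]
    exact congrArg e (Subtype.ext (hval x))

/-- A map of the central product is a conjugation composed with a map of `E`. -/
theorem Data.decompose (h : Data D₀ θ E Z₀ D) {P' : Subgroup Ω} {d : P' →* Ω}
    (hd : d ∈ D.Hom P') :
    ∃ r ∈ R, ∃ (P₂ : Subgroup Ω) (e : P₂ →* Ω), e ∈ E.Hom P₂ ∧
      (∀ x : ↥(preimageAlong θ P'), (x : Ω × Ω).2 ∈ P₂) ∧
      P₂ = (preimageAlong θ P').map (MonoidHom.snd Ω Ω) ∧
      ∀ (y : P') (a t : Ω) (ha : a ∈ R) (ht : t ∈ P₂), ((a, t) : Ω × Ω) ∈ preimageAlong θ P' →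
        (y : Ω) = a * t → d y = (r * a * r⁻¹) * e ⟨t, ht⟩ := by
  obtain ⟨hP', φ₀, hφ₀, hQ, hφS, hm, he⟩ := (h.fac.2.2.2 P' d).1 hd
  obtain ⟨-, φ₁, ⟨-, r, hr, hr₁⟩, e, hee, hval⟩ := (h.prod _ φ₀).1 hφ₀
  refine ⟨r, hr, _, e, hee, fun x => ⟨x, x.2, rfl⟩, rfl, fun y a t ha ht hat hy => ?_⟩
  have h1 := (he ⟨_, hat⟩).trans (h.apply' _)
  have h2 := hval ⟨_, hat⟩ ⟨_, hat, rfl⟩ ⟨_, hat, rfl⟩
  rw [hr₁] at h2
  refine (congrArg d (Subtype.ext ?_)).trans (h1.trans ?_)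
  · exact hy.trans (h.apply' ⟨(a, t), preimageAlong_le _ _ hat⟩).symm
  · show (φ₀ ⟨_, hat⟩).1 * (φ₀ ⟨_, hat⟩).2 = _
    rw [h2]

theorem Data.exists_pair (h : Data D₀ θ E Z₀ D) {P' : Subgroup Ω} (hP' : P' ≤ U) {y : Ω}
    (hy : y ∈ P') :
    ∃ a t, a ∈ R ∧ t ∈ T ∧ ((a, t) : Ω × Ω) ∈ preimageAlong θ P' ∧ y = a * t := by
  obtain ⟨⟨⟨a, t⟩, ha, ht⟩, hx⟩ := h.fac.2.2.1.ge (hP' hy)
  exact ⟨a, t, ha, ht, mem_preimageAlong.2 ⟨⟨ha, ht⟩, hx.symm ▸ hy⟩,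
    by rw [← hx, h.apply']⟩

/-- The maps of the central product are maps of `F`, extending over `R` to `r`-conjugates. -/
theorem Data.extend (h : Data D₀ θ E Z₀ D) (hR : R ≤ S)
    (hER : ∀ P, E.Hom P ⊆ F.centralizerHom R P) {P' : Subgroup Ω} {d : P' →* Ω}
    (hd : d ∈ D.Hom P') :
    ∃ r ∈ R, ∃ (W : Subgroup Ω) (G : W →* Ω), G ∈ F.Hom W ∧ ∃ hW : P' ⊔ R ≤ W,
      (∀ y : P', G (Subgroup.inclusion (le_sup_left.trans hW) y) = d y) ∧
      ∀ y : R, G (Subgroup.inclusion (le_sup_right.trans hW) y) = r * (y : Ω) * r⁻¹ := by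
  obtain ⟨r, hr, P₂, e, he, hsnd, -, hval⟩ := h.decompose hd
  obtain ⟨-, -, -, ψ, hψ, hψP, hψR⟩ := hER P₂ he
  have hψS : ψ.range ≤ S := range_le hψ
  have hG := F.comp_mem hψ (F.conj_mem hψS (hR hr)) fun x => ⟨x, rfl⟩
  have hW : P' ⊔ R ≤ P₂ ⊔ R := by
    refine sup_le (fun y hy => ?_) le_sup_right
    obtain ⟨a, t, ha, ht, hat, rfl⟩ := h.exists_pair (dom_le hd) hy
    exact mul_mem (Subgroup.mem_sup_right ha) (Subgroup.mem_sup_left (hsnd ⟨_, hat⟩))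
  refine ⟨r, hr, _, _, hG, hW, fun y => ?_, fun y => ?_⟩
  · obtain ⟨a, t, ha, ht, hat, hy⟩ := h.exists_pair (dom_le hd) y.2
    have ht₂ := hsnd ⟨_, hat⟩
    rw [hval y a t ha ht₂ hat hy]
    show r * ψ (Subgroup.inclusion (le_sup_left.trans hW) y) * r⁻¹ = _
    rw [show Subgroup.inclusion (le_sup_left.trans hW) y =
      Subgroup.inclusion le_sup_right (⟨a, ha⟩ : R) *
        Subgroup.inclusion le_sup_left (⟨t, ht₂⟩ : P₂) from Subtype.ext hy, map_mul, hψR, hψP]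
    have hc := h.comm (R.inv_mem hr) (apply_mem he ⟨t, ht₂⟩)
    show r * (a * e ⟨t, ht₂⟩) * r⁻¹ = _
    calc r * (a * e ⟨t, ht₂⟩) * r⁻¹ = r * a * (e ⟨t, ht₂⟩ * r⁻¹) := by group
      _ = _ := by rw [← hc]; group
  · show r * ψ _ * r⁻¹ = _
    rw [show Subgroup.inclusion (le_sup_right.trans hW) y = Subgroup.inclusion le_sup_right y from
      Subtype.ext rfl, hψR]

/-- A subgroup of `R` commuting with `U` is central in the central product. -/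
theorem Data.isCentral (h : Data D₀ θ E Z₀ D) (hR : R ≤ S)
    (hER : ∀ P, E.Hom P ⊆ F.centralizerHom R P) {Y : Subgroup Ω} (hYR : Y ≤ R)
    (hYU : ∀ y ∈ Y, ∀ u ∈ U, u * y = y * u) : D.IsCentral Y := by
  refine ⟨hYR.trans h.left_le, fun P' d hd => ?_⟩
  obtain ⟨r, hr, W, G, -, hW, hGP, hGR⟩ := h.extend hR hER hd
  have hle : P' ⊔ Y ≤ W := (sup_le_sup_left hYR _).trans hW
  have hGY : ∀ y : Y, G (Subgroup.inclusion hle (Subgroup.inclusion le_sup_right y)) = y := fun y => by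
    refine (hGR ⟨y, hYR y.2⟩).trans ?_
    rw [hYU y y.2 r (h.left_le hr), mul_inv_cancel_right]
  refine ⟨G.comp (Subgroup.inclusion hle), ?_, fun x => hGP x, hGY⟩
  obtain ⟨hP', φ₀, hφ₀, hQ, hφS, hm, he⟩ := (h.fac.2.2.2 P' d).1 hd
  obtain ⟨-, φ₁, ⟨-, g, hg, hg₁⟩, e, hee, hval⟩ := (h.prod _ φ₀).1 hφ₀
  set Q : Subgroup (Ω × Ω) := preimageAlong θ P' ⊔ Y.prod ⊥ with hQd
  have hYp : Y.prod (⊥ : Subgroup Ω) ≤ R.prod T := fun x hx =>
    ⟨hYR hx.1, (Subgroup.mem_bot.1 hx.2) ▸ one_mem T⟩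
  have hQT : Q ≤ R.prod T := sup_le hQ hYp
  have hQ₁ : Q.map (MonoidHom.fst Ω Ω) ≤ R := by rintro _ ⟨x, hx, rfl⟩; exact (hQT hx).1
  have hQ₂ : Q.map (MonoidHom.snd Ω Ω) ≤ (preimageAlong θ P').map (MonoidHom.snd Ω Ω) := by
    rw [hQd, Subgroup.map_sup]
    refine sup_le le_rfl ?_
    rintro _ ⟨x, hx, rfl⟩
    exact Set.mem_of_eq_of_mem (show x.2 = 1 from Subgroup.mem_bot.1 hx.2) (one_mem _)
  let φQ : Q →* Ω × Ω := ((conjHom _ g).comp
      (((MonoidHom.fst Ω Ω).comp Q.subtype).codRestrict (Q.map (MonoidHom.fst Ω Ω))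
        fun x => ⟨x, x.2, rfl⟩)).prod
    (e.comp (((MonoidHom.snd Ω Ω).comp Q.subtype).codRestrict
      ((preimageAlong θ P').map (MonoidHom.snd Ω Ω)) fun x => hQ₂ ⟨x, x.2, rfl⟩))
  have hφQ : φQ ∈ D₀.Hom Q :=
    (h.prod Q φQ).2 ⟨hQT, _, (innerFusionSystem R).conj_mem hQ₁ hg, _, restrict_mem hee hQ₂,
      fun x _ _ => rfl⟩
  have hθY : ∀ (x : Ω × Ω) (hx : x ∈ Y.prod (⊥ : Subgroup Ω)), θ ⟨x, hYp hx⟩ = x.1 := fun x hx => by
    rw [h.apply', Subgroup.mem_bot.1 hx.2, mul_one]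
  have hθQ : Q ≤ preimageAlong θ (P' ⊔ Y) := by
    refine sup_le (fun x hx => ?_) fun x hx => ?_
    · obtain ⟨hxS, hxP⟩ := mem_preimageAlong.1 hx
      exact mem_preimageAlong.2 ⟨hxS, Subgroup.mem_sup_left hxP⟩
    · exact mem_preimageAlong.2 ⟨hYp hx, Subgroup.mem_sup_right ((hθY x hx).symm ▸ hx.1)⟩
  have himg : imageAlong θ Q = P' ⊔ Y := by
    refine le_antisymm (fun y hy => ?_) (sup_le (fun y hy => ?_) fun y hy => ?_)
    · obtain ⟨x, hx, rfl⟩ := mem_imageAlong_iff.1 hy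
      exact (mem_preimageAlong.1 (hθQ hx)).2
    · obtain ⟨x, rfl⟩ := h.fac.2.2.1.ge (hP' hy)
      exact mem_imageAlong_iff.2 ⟨x, Subgroup.mem_sup_left (mem_preimageAlong.2 ⟨x.2, hy⟩), rfl⟩
    · have hy' : ((y, 1) : Ω × Ω) ∈ Y.prod (⊥ : Subgroup Ω) := ⟨hy, one_mem _⟩
      exact mem_imageAlong_iff.2 ⟨⟨_, hYp hy'⟩, Subgroup.mem_sup_right hy', hθY _ hy'⟩
  refine h.induce hφQ himg ⟨hQT, apply_mem hφQ, fun x => (mem_preimageAlong.1 (hθQ x.2)).2, ?_⟩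
  let A : Q →* Ω := (G.comp (Subgroup.inclusion hle)).comp
    ((θ.comp (Subgroup.inclusion hQT)).codRestrict (P' ⊔ Y)
      fun x => (mem_preimageAlong.1 (hθQ x.2)).2)
  let B : Q →* Ω := θ.comp (φQ.codRestrict (R.prod T) (apply_mem hφQ))
  refine fun x => (show A x = B x from ?_)
  obtain ⟨x, hx⟩ := x
  refine (sup_le (c := (MonoidHom.eqLocus A B).map Q.subtype) (fun w hw => ?_) (fun w hw => ?_) hx
    : x ∈ (MonoidHom.eqLocus A B).map Q.subtype).elim fun w ⟨hw, hwx⟩ => ?_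
  · refine ⟨⟨w, Subgroup.mem_sup_left hw⟩, ?_, rfl⟩
    refine ((congrArg G (Subtype.ext rfl)).trans (hGP ⟨θ ⟨w, hQ hw⟩, hm ⟨w, hw⟩⟩)).trans
      ((he ⟨w, hw⟩).trans (congrArg θ (Subtype.ext ?_)))
    refine (hval ⟨w, hw⟩ ⟨w, hw, rfl⟩ ⟨w, hw, rfl⟩).trans ?_
    rw [hg₁]
    rfl
  · refine ⟨⟨w, Subgroup.mem_sup_right hw⟩, ?_, rfl⟩
    have hw1 : θ ⟨w, hYp hw⟩ = w.1 := hθY w hw
    refine ((congrArg G (Subtype.ext hw1)).trans (hGY ⟨w.1, hw.1⟩)).trans ?_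
    show w.1 = θ ⟨φQ _, _⟩
    rw [h.apply']
    show w.1 = g * w.1 * g⁻¹ * e ⟨w.2, _⟩
    rw [hYU w.1 hw.1 g (h.left_le hg), mul_inv_cancel_right,
      show (⟨w.2, hQ₂ ⟨w, Subgroup.mem_sup_right hw, rfl⟩⟩ :
        ↥((preimageAlong θ P').map (MonoidHom.snd Ω Ω))) = 1 from
        Subtype.ext (Subgroup.mem_bot.1 hw.2), map_one, mul_one]
  · obtain rfl : w = ⟨x, hx⟩ := Subtype.ext hwx
    exact hw

theorem no_component_of_centralizing [Finite S] [Fact p.Prime] (hS : IsPGroup p S)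
    (hcomp : ∀ (V : Subgroup Ω) (C : FusionSystem V), C.IsComponentIn F p → C.IsSubsystemOf E)
    {Q : Subgroup Ω} {N : FusionSystem Q} (hN : N.IsNormalIn F p)
    (hNc : ∀ P, N.Hom P ⊆ F.centralizerHom T P) :
    ¬ ∃ (V : Subgroup Ω) (C : FusionSystem V), C.IsComponentIn N p := by
  rintro ⟨V, C, hC, hq⟩
  have hCF : C.IsSubnormalIn F p := .step hC hN
  have hVS : V ≤ S := ConstrainedComponent.subnormal_le hCF
  have hVT : V ≤ T := ComponentCore.le_of_subsystem (hcomp V C ⟨hCF, hq⟩)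
  have := finite_of_le (Ω := Ω) hVS
  refine ConstrainedComponent.not_constrained_of_quasisimple (hS.to_le hVS) hq
    (ConstrainedComponent.isConstrained_of_inner (hS.to_le hVS) hq.1 fun P hP a => ⟨0, ?_⟩)
  obtain ⟨-, -, -, ψ, -, hψP, hψT⟩ :=
    hNc P (ComponentCore.isSubsystem_of_subnormal hC P ((mem_autGroup_iff hP).1 a.2))
  rw [pow_zero, pow_one]
  refine Subtype.ext (MulEquiv.ext fun x => Subtype.ext ?_)
  exact (hψP x).symm.trans ((congrArg ψ (Subtype.ext rfl)).trans (hψT ⟨x, hVT (hP x.2)⟩))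

end Cfsg.Agent.Fusion.FittingCentralizer

namespace Cfsg.Agent.Fusion.FittingCentralizer

open Cfsg Cfsg.FusionSystem Cfsg.Agent.Fusion

universe u

variable {Ω : Type u} [Group Ω] {S U : Subgroup Ω} {F : FusionSystem S} {D : FusionSystem U}
  {p : ℕ} [Finite S] [Fact p.Prime]

/-- The centre of a generalized Fitting subsystem is the largest subgroup centralized by it. -/
theorem center_largest (hS : IsPGroup p S) (hF : F.IsSaturated p)
    (hD : D.IsGeneralizedFittingOf F p)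
    (hcons : ∀ {Q : Subgroup Ω} [Finite Q] (N : FusionSystem Q), IsPGroup p Q → N.IsSaturated p →
      (¬ ∃ (V : Subgroup Ω) (C : FusionSystem V), C.IsComponentIn N p) → N.IsConstrained p) :
    (D.center ≤ centralizerIn S U ∧ ∀ P : Subgroup Ω, D.Hom P ⊆ F.centralizerHom D.center P) ∧
      ∀ Y : Subgroup Ω, Y ≤ centralizerIn S U →
        (∀ P : Subgroup Ω, D.Hom P ⊆ F.centralizerHom Y P) → Y ≤ D.center := by
  obtain ⟨T, E, hlay, D₀, hprod, Z₀, θ, hZ, -, -, hl, hr, hfac⟩ := hD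
  have h : Data D₀ θ E Z₀ D := ⟨hprod, hZ, hl, hr, hfac⟩
  have hRn : F.IsNormal F.core := isNormal_core F
  have hEn := hlay.1
  have hTS : T ≤ S := hEn.1.2.2.2.1.1
  have := finite_of_le (Ω := Ω) hRn.1
  have := finite_of_le (Ω := Ω) hTS
  have hER : ∀ P, E.Hom P ⊆ F.centralizerHom F.core P := fun P =>
    hlay.2.2 _ _ (CoreCentralizer.isNormalIn hS hF hRn)
      (fun V C hC Q φ hφ =>
        ComponentCore.centralizes_core hC.1 inferInstance inferInstance hS hF hC.2 Q hφ) P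
  have hUS : U ≤ S := by
    rw [← hfac.2.2.1]
    rintro _ ⟨x, rfl⟩
    rw [h.apply']
    exact S.mul_mem (hRn.1 x.2.1) (hTS x.2.2)
  have := finite_of_le (Ω := Ω) hUS
  have hDF : ∀ {P : Subgroup Ω} {d : P →* Ω}, d ∈ D.Hom P → d ∈ F.Hom P := fun {P d} hd => by
    obtain ⟨r, -, W, G, hG, hW, hGP, -⟩ := h.extend hRn.1 hER hd
    exact mem_of_le hG (le_sup_left.trans hW) fun x => (hGP x).symm
  have hZc : D.IsCentral D.center := Cfsg.Agent.S5144.result D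
  have hcu : ∀ z ∈ D.center, ∀ u ∈ U, u * z = z * u := fun z hz u hu =>
    Subgroup.mem_centralizer_iff.1 (D.center_le_centralizer hz) u hu
  have hUc : U ≤ centralizerIn S D.center := fun u hu =>
    mem_centralizerIn.2 ⟨hUS hu, fun z hz => (hcu z hz u hu).symm⟩
  refine ⟨⟨fun z hz => mem_centralizerIn.2 ⟨hUS (hZc.1 hz), fun u hu => hcu z hz u hu⟩,
    fun P d hd => ?_⟩, fun Y hY hYD => le_sSup (h.isCentral hRn.1 hER ?_ fun y hy u hu =>
      (mem_centralizerIn.1 (hY hy)).2 u hu)⟩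
  · obtain ⟨ψ, hψ, hψP, hψZ⟩ := hZc.2 P d hd
    exact ⟨hDF hd, (dom_le hd).trans hUc, fun x => hUc (apply_mem hd x), ψ, hDF hψ, hψP, hψZ⟩
  -- `Y` lies in the core
  have hYE : Y ∈ NormalCentralizer.centralizing F E := by
    refine ⟨fun y hy => mem_centralizerIn.2 ⟨(mem_centralizerIn.1 (hY hy)).1, fun t ht =>
      (mem_centralizerIn.1 (hY hy)).2 t (h.right_le ht)⟩, fun P e he => ?_⟩
    have hPT : P ≤ T := dom_le he
    obtain ⟨h1, -, -, hext⟩ := hYD P (h.e_mem he)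
    exact ⟨h1, fun x hx => mem_centralizerIn.2 ⟨hTS (hPT hx), fun y hy =>
        ((mem_centralizerIn.1 (hY hy)).2 x (h.right_le (hPT hx))).symm⟩,
      fun x => mem_centralizerIn.2 ⟨hTS (apply_mem he x), fun y hy =>
        ((mem_centralizerIn.1 (hY hy)).2 _ (h.right_le (apply_mem he x))).symm⟩, hext⟩
  set Q := sSup (NormalCentralizer.centralizing F E) with hQ
  obtain ⟨hQC, hQE⟩ := NormalCentralizer.sSup_mem_centralizing hS hEn
  obtain ⟨N, hNn, hNc⟩ := Cfsg.Agent.S5155.result p hS F hF E hEn Q hQC hQE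
    fun Y' h1 h2 => le_sSup ⟨h1, h2⟩
  have hQS : Q ≤ S := hNn.1.2.2.2.1.1
  have := finite_of_le (Ω := Ω) hQS
  have hcN := hcons N (hS.to_le hQS) hNn.1.1
    (no_component_of_centralizing hS hlay.2.1 hNn hNc)
  have hM := ConstrainedExtensions.isNormal_core_of_invariant hS hF hNn.1.2.2
  intro y hy
  refine le_core hM (isCentric_centralizerIn_le (isCentric_core hcN)
    (mem_centralizerIn.2 ⟨le_sSup hYE hy, fun x hx => ?_⟩))
  exact (mem_centralizerIn.1 (hY hy)).2 x (h.left_le (le_core hM hx))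

end Cfsg.Agent.Fusion.FittingCentralizer
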