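import Cfsg.Prelude.Def_FusionFitting
import Cfsg.Agent.Lib.Fusion.ConstrainedComponent

/-!
Without components the inner system of the core is a generalized Fitting subsystem.
-/

set_option autoImplicit false
set_option linter.unusedSectionVars false

namespace Cfsg.Agent.Fusion.FittingInner

open Cfsg Cfsg.FusionSystem Cfsg.Agent.Fusion

variable {Ω : Type*} [Group Ω] {S : Subgroup Ω} {F : FusionSystem S} {p : ℕ}

theorem isNormal_bot [Finite S] (F : FusionSystem S) : F.IsNormal ⊥ := by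
  refine ⟨bot_le, fun P φ hφ => ?_⟩
  have hle : P ⊔ ⊥ ≤ P := sup_le le_rfl bot_le
  refine ⟨_, restrict_mem hφ hle, fun x => rfl, ?_⟩
  rw [Subgroup.bot_subgroupOf, Subgroup.map_bot]

theorem central_product_inner (R : Subgroup Ω) :
    IsCentralProductOf (innerFusionSystem R) (innerFusionSystem (⊥ : Subgroup Ω))
      (innerFusionSystem R) := by
  refine ⟨innerFusionSystem (R.prod ⊥), fun P φ => ?_, ⊥,
    (MonoidHom.fst Ω Ω).comp (R.prod ⊥).subtype, bot_le, bot_inf_eq _, bot_inf_eq _,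
    fun x hx => rfl, fun y hy => (Subgroup.mem_bot.1 hy.2).symm, bot_le, fun s => ?_, ?_,
    fun P' φ' => ?_⟩
  · constructor
    · rintro ⟨hP, g, hg, he⟩
      have hP₁ : P.map (MonoidHom.fst Ω Ω) ≤ R := by
        rintro _ ⟨x, hx, rfl⟩
        exact (hP hx).1
      have hP₂ : P.map (MonoidHom.snd Ω Ω) ≤ (⊥ : Subgroup Ω) := by
        rintro _ ⟨x, hx, rfl⟩
        exact (hP hx).2
      refine ⟨hP, _, (innerFusionSystem R).conj_mem hP₁ hg.1, _,
        (innerFusionSystem (⊥ : Subgroup Ω)).conj_mem hP₂ hg.2, fun x h₁ h₂ => ?_⟩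
      rw [he x]
      rfl
    · rintro ⟨hP, φ₁, ⟨-, g₁, hg₁, he₁⟩, φ₂, ⟨-, g₂, hg₂, he₂⟩, he⟩
      refine ⟨hP, (g₁, g₂), ⟨hg₁, hg₂⟩, fun x => ?_⟩
      rw [he x ⟨x, x.2, rfl⟩ ⟨x, x.2, rfl⟩, he₁, he₂]
      rfl
  · rw [Subgroup.mem_bot]
    refine ⟨fun h => Prod.ext h (Subgroup.mem_bot.1 s.2.2), fun h => ?_⟩
    show (s : Ω × Ω).1 = 1
    rw [h]
    rfl
  · ext y
    exact ⟨fun ⟨x, hx⟩ => hx ▸ x.2.1, fun hy => ⟨⟨(y, 1), hy, one_mem _⟩, rfl⟩⟩
  · constructor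
    · rintro ⟨hP', g, hg, he⟩
      have hgm : ((g, 1) : Ω × Ω) ∈ R.prod (⊥ : Subgroup Ω) := ⟨hg, one_mem _⟩
      refine ⟨hP', _, (innerFusionSystem _).conj_mem (preimageAlong_le _ _) hgm,
        preimageAlong_le _ _, fun x => (R.prod ⊥).mul_mem ((R.prod ⊥).mul_mem hgm
          (preimageAlong_le _ _ x.2)) ((R.prod ⊥).inv_mem hgm),
        fun x => (mem_preimageAlong.1 x.2).2, fun x => ?_⟩
      rw [he]
      rfl
    · rintro ⟨hP', φ, ⟨-, g, hg, he⟩, hP, hφS, hm, hi⟩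
      refine ⟨hP', g.1, hg.1, fun y => ?_⟩
      obtain ⟨y, hy⟩ := y
      have hx : ((y, 1) : Ω × Ω) ∈ preimageAlong ((MonoidHom.fst Ω Ω).comp (R.prod ⊥).subtype) P' :=
        mem_preimageAlong.2 ⟨⟨hP' hy, one_mem _⟩, hy⟩
      refine (hi ⟨_, hx⟩).trans ?_
      show (φ ⟨_, hx⟩).1 = _
      rw [he]
      rfl

variable [Finite S] [Fact p.Prime]

theorem inner_isGeneralizedFitting (hS : IsPGroup p S) (hF : F.IsSaturated p)
    (h : ¬ ∃ (T : Subgroup Ω) (C : FusionSystem T), C.IsComponentIn F p) :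
    (innerFusionSystem F.core).IsGeneralizedFittingOf F p := by
  refine ⟨⊥, innerFusionSystem ⊥, ⟨ComponentCore.inner_isNormal hS hF (isNormal_bot F),
    fun U C hC => absurd ⟨U, C, hC⟩ h, fun R D hD _ P φ hφ => ?_⟩, central_product_inner _⟩
  obtain ⟨hP, g, hg, he⟩ := hφ
  rw [Subgroup.mem_bot.1 hg] at he
  exact mem_of_conj (hP.trans bot_le) (one_mem _) he

theorem no_component_of_inner_fitting (hS : IsPGroup p S) (hF : F.IsSaturated p)
    (h : (innerFusionSystem F.core).IsGeneralizedFittingOf F p) :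
    ¬ ∃ (T : Subgroup Ω) (C : FusionSystem T), C.IsComponentIn F p := by
  obtain ⟨T, E, ⟨-, hcomp, -⟩, D₀, -, Z, θ, -, -, -, -, hy, hfac⟩ := h
  have hTR : T ≤ F.core := fun t ht => by
    have hm : ((1, t) : Ω × Ω) ∈ F.core.prod T := ⟨one_mem _, ht⟩
    rw [← hfac.2.2.1]
    exact ⟨⟨_, hm⟩, hy t hm⟩
  rintro ⟨V, C, hC⟩
  have hVS : V ≤ S := ConstrainedComponent.subnormal_le hC.1
  have hVT : V ≤ T := ComponentCore.le_of_subsystem (hcomp V C hC)
  have := finite_of_le (Ω := Ω) hVS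
  refine ConstrainedComponent.not_constrained_of_quasisimple (hS.to_le hVS) hC.2
    (ConstrainedComponent.isConstrained_of_inner (hS.to_le hVS) hC.2.1 fun P hP a => ⟨0, ?_⟩)
  have hcent := ComponentCore.centralizes_core hC.1 inferInstance inferInstance hS hF hC.2 P
    ((mem_autGroup_iff hP).1 a.2)
  obtain ⟨-, -, -, ψ, -, hψP, hψR⟩ := hcent
  rw [pow_zero, pow_one]
  refine Subtype.ext (MulEquiv.ext fun x => Subtype.ext ?_)
  refine (hψP x).symm.trans ((congrArg ψ (Subtype.ext rfl)).trans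
    (hψR ⟨x, hTR (hVT (hP x.2))⟩))

end Cfsg.Agent.Fusion.FittingInner
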