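import Cfsg.Agent.Lib.Fusion.ConstrainedSubsystem
import Cfsg.Agent.Lib.Fusion.ModelEmbed
import Cfsg.Agent.Lib.Fusion.GroupHyperfocal
import Cfsg.Agent.Lib.Fusion.TransferHom
import Cfsg.Agent.Lib.Fusion.KNormalizer
import Mathlib.GroupTheory.Focal

/-!
Control of transfer by a positive characteristic `p`-functor `W`: if
`O_p(L) ∩ [L,L] = O_p(L) ∩ [N,N]`, `N = N_L(W(T))`, in all `p`-constrained groups `L`, then the
focal subgroup of a saturated system `F` is that of `N_F(W(S))`.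
-/

set_option autoImplicit false
set_option linter.unusedSectionVars false

namespace Cfsg.Agent.Fusion.FocalControl

open Cfsg Cfsg.FusionSystem Cfsg.Agent.Fusion Cfsg.Agent.Fusion.ModelEmbed
open scoped commutatorElement

universe u

/-- The functor on subgroups. -/
def fs (W : ∀ (Q : Type u) [Group Q], Subgroup Q) {Ω : Type u} [Group Ω] (T : Subgroup Ω) :
    Subgroup Ω :=
  (W ↥T).map T.subtype

/-- The hypotheses on the functor. -/
structure Hyp (p : ℕ) (W : ∀ (Q : Type u) [Group Q], Subgroup Q) : Prop where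
  nontrivial : ∀ (Q : Type u) [Group Q] [Finite Q], IsPGroup p Q → Nontrivial Q → W Q ≠ ⊥
  map : ∀ (Q R : Type u) [Group Q] [Group R] [Finite Q], IsPGroup p Q → ∀ φ : Q ≃* R,
    (W Q).map φ.toMonoidHom = W R
  transfer : ∀ (G : Type u) [Group G] [Finite G] (P : Sylow p G),
    Subgroup.centralizer ((Cfsg.pCore p G : Subgroup G) : Set G) ≤ Cfsg.pCore p G →
    Cfsg.pCore p G ⊓ commutator G = Cfsg.pCore p G ⊓
      (commutator ↥(Subgroup.normalizer (fs W (P : Subgroup G) : Set G))).map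
        (Subgroup.normalizer (fs W (P : Subgroup G) : Set G)).subtype

variable {W : ∀ (Q : Type u) [Group Q], Subgroup Q}
variable {Ω : Type u} [Group Ω] {S : Subgroup Ω} {p : ℕ} {F : FusionSystem S}

theorem fs_le (T : Subgroup Ω) : fs W T ≤ T := Subgroup.map_subtype_le _

/-- The focal subgroup of `N_F(W(S))`. -/
def ctl (W : ∀ (Q : Type u) [Group Q], Subgroup Q) (F : FusionSystem S) : Subgroup Ω :=
  (normalizerSystem F (fs W S) (fs_le S)).focalSubgroup

theorem ctl_le_focal : ctl W F ≤ F.focalSubgroup := focal_mono fun _ _ h => h.1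

theorem ctl_mono {E : FusionSystem S} (h : E ≤ F) : ctl W E ≤ ctl W F :=
  focal_mono fun P φ hφ => by
    obtain ⟨hE, hP, hv, ψ, hψ, he, hW⟩ := hφ
    exact ⟨h P hE, hP, hv, ψ, h _ hψ, he, hW⟩

variable [Finite S] [Fact p.Prime]

theorem le_normalizer_fs (hW : Hyp p W) (hS : IsPGroup p S) {T : Subgroup Ω} (hT : T ≤ S) :
    normalizerIn S T ≤ Subgroup.normalizer (fs W T : Set Ω) := by
  intro g hg
  have := finite_of_le hT
  have := finite_of_le ((fs_le (W := W) T).trans hT)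
  refine mem_normalizer_of_finite ?_
  rintro _ ⟨w, hw, rfl⟩
  exact ⟨conjAut hg.2 w, (hW.map ↥T ↥T (hS.to_le hT) (conjAut hg.2)).le ⟨w, hw, rfl⟩, rfl⟩

theorem fs_ne_bot (hW : Hyp p W) (hS : IsPGroup p S) {T : Subgroup Ω} (hT : T ≤ S) (hne : T ≠ ⊥) :
    fs W T ≠ ⊥ := by
  have := finite_of_le hT
  rw [fs, Ne, Subgroup.map_eq_bot_iff_of_injective _ T.subtype_injective]
  exact hW.nontrivial ↥T (hS.to_le hT) (T.nontrivial_iff_ne_bot.2 hne)

/-- `S` is contained in the group over which `N_F(W(S))` lives. -/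
theorem le_normalizerIn_fs (hW : Hyp p W) (hS : IsPGroup p S) :
    S ≤ normalizerIn S (fs W S) :=
  le_inf le_rfl ((le_inf le_rfl Subgroup.le_normalizer).trans (le_normalizer_fs hW hS le_rfl))

theorem commutator_le_ctl (hW : Hyp p W) (hS : IsPGroup p S) : ⁅S, S⁆ ≤ ctl W F :=
  (Subgroup.commutator_mono (le_normalizerIn_fs hW hS) (le_normalizerIn_fs hW hS)).trans
    (commutator_le_focal _)

/-- The weight used in the induction over subsystems. -/
noncomputable def weight (F : FusionSystem S) : ℕ :=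
  ∑ᶠ K : Subgroup S, Nat.card (F.autGroup (K.map S.subtype))

theorem weight_lt (hS : IsPGroup p S) (hF : F.IsSaturated p) {E : FusionSystem S} (hle : E ≤ F)
    (hne : ¬ ∀ P, E.Hom P = F.Hom P) : weight E < weight F := by
  classical
  let : Fintype (Subgroup S) := Fintype.ofFinite _
  have hK : ∀ K : Subgroup S, E.autGroup (K.map S.subtype) ≤ F.autGroup (K.map S.subtype) :=
    fun K => autGroup_le_of_subsystem hle (Subgroup.map_subtype_le K)
  have hfin : ∀ K : Subgroup S, Finite (F.autGroup (K.map S.subtype)) :=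
    fun K => finite_autGroup (Subgroup.map_subtype_le K)
  rw [weight, weight, finsum_eq_sum_of_fintype, finsum_eq_sum_of_fintype]
  refine lt_of_le_of_ne (Finset.sum_le_sum fun L _ => ?_) fun heq => hne fun P => ?_
  · have := hfin L
    exact Subgroup.card_le_of_le (hK L)
  refine Set.Subset.antisymm (hle P) (alperin hS hF E (fun R hn _ _ α hα => ?_) P)
  have h1 := (Finset.sum_eq_sum_iff_of_le fun L _ => by
    have := hfin L
    exact Subgroup.card_le_of_le (hK L)).1 heq (R.subgroupOf S) (Finset.mem_univ _)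
  have := hfin (R.subgroupOf S)
  have h2 := Subgroup.eq_of_le_of_card_ge (hK (R.subgroupOf S)) h1.ge
  rw [Subgroup.map_subgroupOf_eq_of_le hn.1] at h2
  exact h2.ge hα

/-- The induction hypothesis for saturated systems over smaller groups. -/
def SmallHyp (p : ℕ) (W : ∀ (Q : Type u) [Group Q], Subgroup Q) (n : ℕ) : Prop :=
  ∀ {Ω' : Type u} [Group Ω'] {S' : Subgroup Ω'} [Finite S'], Nat.card S' < n → IsPGroup p S' →
    ∀ E : FusionSystem S', E.IsSaturated p → E.focalSubgroup ≤ ctl W E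

/-- The induction hypothesis for proper subsystems over the same group. -/
def ProperHyp (p : ℕ) (W : ∀ (Q : Type u) [Group Q], Subgroup Q) (F : FusionSystem S) : Prop :=
  ∀ E : FusionSystem S, E.IsSaturated p → E ≤ F → (¬ ∀ P, E.Hom P = F.Hom P) →
    E.focalSubgroup ≤ ctl W E

/-- Maps normalizing a subgroup that is normal in `S` but not in `F` move elements inside the
controlled subgroup. -/
theorem good_of_not_normal (hS : IsPGroup p S) (hF : F.IsSaturated p)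
    (hprop : ProperHyp p W F) {R : Subgroup Ω} (hR : R ≤ S)
    (hSR : S ≤ Subgroup.normalizer (R : Set Ω)) (hnn : ¬ F.IsNormal R) {P : Subgroup Ω}
    {φ : P →* Ω} (hφ : φ ∈ F.normalizerHom R P) (x : P) : (x : Ω)⁻¹ * φ x ∈ ctl W F := by
  have hRfn : F.IsFullyNormalized R := ⟨hR, fun R' _ => by
    rw [show normalizerIn S R = S from le_antisymm inf_le_left (le_inf le_rfl hSR)]
    exact card_le_of_le le_rfl (normalizerIn_le S R')⟩
  obtain ⟨E, hE, hEs⟩ := exists_normalizerSystem_self F hR hSR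
  have hEsat := hEs _ (normalizerSystem_spec F R hR)
    (normalizerSystem_saturated hS hF hRfn (normalizerSystem_spec F R hR))
  have hle : E ≤ F := fun Q ψ hψ => by rw [hE] at hψ; exact hψ.1
  refine ctl_mono hle (hprop E hEsat hle (fun heq => hnn ⟨hR, fun Q ψ hψ => ?_⟩)
    (inv_mul_apply_mem_focal (by rw [hE]; exact hφ) x))
  rw [← heq Q, hE] at hψ
  exact hψ.2.2.2

/-- Maps normalizing a fully normalized nontrivial subgroup with large normalizer move elements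
inside the controlled subgroup, if no nontrivial subgroup is normal. -/
theorem good_normalizer (hW : Hyp p W) (hS : IsPGroup p S) (hF : F.IsSaturated p)
    (hsmall : SmallHyp p W (Nat.card S)) (hprop : ProperHyp p W F) (hcore : F.core = ⊥) (r : ℕ)
    (hr : ∀ P : Subgroup Ω, r < Nat.card P → ∀ ψ ∈ F.Hom P, ∀ x : P,
      (x : Ω)⁻¹ * ψ x ∈ ctl W F) :
    ∀ d : ℕ, ∀ Y : Subgroup Ω, F.IsFullyNormalized Y → Y ≠ ⊥ →
      (r < Nat.card (normalizerIn S Y) ∨ normalizerIn S Y = S) →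
      Nat.card S ≤ Nat.card (normalizerIn S Y) + d →
      ∀ (P : Subgroup Ω), ∀ φ ∈ F.normalizerHom Y P, ∀ x : P, (x : Ω)⁻¹ * φ x ∈ ctl W F := by
  intro d
  induction d using Nat.strong_induction_on with
  | _ d ih =>
  intro Y hY hYne hbigY hd P φ hφ x
  set T := normalizerIn S Y with hT
  have hTS : T ≤ S := normalizerIn_le S Y
  rcases eq_or_ne T S with hTeq | hne
  · refine good_of_not_normal hS hF hprop hY.1 (hTeq.ge.trans inf_le_right) (fun hn => hYne ?_) hφ x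
    exact le_bot_iff.1 (hcore ▸ le_core hn)
  have hTlt : T < S := lt_of_le_of_ne hTS hne
  have := finite_of_le hTS
  have hTp : IsPGroup p ↥T := hS.to_le hTS
  have hbig : r < Nat.card T := hbigY.resolve_right hne
  have hN := normalizerSystem_spec F Y hY.1
  have hTne : T ≠ ⊥ := fun h => hYne (le_bot_iff.1 (h ▸ le_normalizerIn hY.1))
  refine ((hsmall (card_lt_of_lt le_rfl hTlt) hTp _
    (normalizerSystem_saturated hS hF hY hN)).trans ?_)
    (inv_mul_apply_mem_focal (show φ ∈ (normalizerSystem F Y hY.1).Hom P from hφ) x)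
  -- the maps normalizing `W(T)`
  have hJT : fs W T ≤ T := fs_le T
  have hJS : fs W T ≤ S := hJT.trans hTS
  have hTJ : T ≤ normalizerIn S (fs W T) :=
    le_inf hTS ((le_inf hTS Subgroup.le_normalizer).trans (le_normalizer_fs hW hS hTS))
  have hle : normalizerIn S T ≤ normalizerIn S (fs W T) :=
    le_inf (normalizerIn_le S T) (le_normalizer_fs hW hS hTS)
  have h1 : Nat.card T < Nat.card (normalizerIn S (fs W T)) :=
    (card_lt_of_lt (normalizerIn_le S T) (lt_normalizerIn hS hTlt)).trans_le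
      (card_le_of_le (normalizerIn_le S _) hle)
  obtain ⟨W', hWW', hW'⟩ := exists_fullyNormalized F hJS
  obtain ⟨χ, hχ, hχN, hχW⟩ := exists_hom_fullyNormalized hS hF hW' hWW'
  have h2 : Nat.card T < Nat.card (normalizerIn S W') :=
    h1.trans_le (card_normalizerIn_le_of_map hχ hχN)
  have h3 : Nat.card (normalizerIn S W') ≤ Nat.card S := card_le_of_le le_rfl (normalizerIn_le S _)
  have hW'ne : W' ≠ ⊥ := fun h => fs_ne_bot hW hS hTS hTne (Subgroup.card_eq_one.1 (by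
    rw [← isConj_card hWW', h]; exact Subgroup.card_bot))
  refine (Subgroup.closure_le _).2 ?_
  rintro _ ⟨A₀, φ₀, x₀, hφ₀, rfl⟩
  obtain ⟨hφ₀N, hA₀, hv₀, ψ₀, hψ₀N, hψe, hψW⟩ := hφ₀
  have hψ₀ : ψ₀ ∈ F.Hom (A₀ ⊔ fs W T) := hψ₀N.1
  let A := A₀ ⊔ fs W T
  have hA₀T : A₀ ≤ T := hA₀.trans inf_le_left
  have hAle : A ≤ normalizerIn S (fs W T) :=
    sup_le (hA₀T.trans hTJ) (le_normalizerIn hJS)
  have hres := restrict_mem hχ hAle
  set A' := (χ.comp (Subgroup.inclusion hAle)).range with hA'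
  obtain ⟨ρ, hρ, hρr, hρi, -⟩ := exists_inverse hres (rfl : _ = A')
  have hρA : ∀ y, ρ y ∈ A := fun y => hρr ▸ ⟨y, rfl⟩
  have hψv : ∀ y, ψ₀ y ∈ normalizerIn S (fs W T) := by
    refine forall_sup_mem ψ₀ (fun y => ?_) fun y => ?_
    · rw [hψe y]
      exact hTJ (hv₀ y).1
    · exact le_normalizerIn hJS (map_subgroupOf_le hψW le_sup_right y)
  have h4 := F.comp_mem (F.comp_mem hρ hψ₀ hρA) hχ (fun y => hψv _)
  set φ₁ := χ.comp (((ψ₀.comp (ρ.codRestrict A hρA))).codRestrict _ fun y => hψv _) with hφ₁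
  have hW'A : W' ≤ A' := by
    intro y hy
    obtain ⟨w, hw, rfl⟩ := hχW.ge hy
    exact ⟨⟨w, Subgroup.mem_sup_right hw⟩, rfl⟩
  have hA'N : A' ≤ normalizerIn S W' := by
    rintro _ ⟨y, rfl⟩
    exact hχN _
  have hval : ∀ (y : A) (h : χ (Subgroup.inclusion hAle y) ∈ A'),
      φ₁ ⟨χ (Subgroup.inclusion hAle y), h⟩ = χ ⟨ψ₀ y, hψv y⟩ := fun y h =>
    congrArg χ (Subtype.ext (congrArg ψ₀ (Subtype.ext (hρi y h))))
  have hφ₁N : φ₁ ∈ F.normalizerHom W' A' := by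
    have hres₁ := restrict_mem h4 (sup_le le_rfl hW'A : A' ⊔ W' ≤ A')
    refine ⟨h4, hA'N, fun y => hχN _, _, hres₁, fun y => rfl, ?_⟩
    refine (map_subgroupOf_eq_iff hres₁ le_sup_right).2 fun y hy => ?_
    obtain ⟨w, hw, hwy⟩ := hχW.ge hy
    have hwA : (w : Ω) ∈ A := Subgroup.mem_sup_right hw
    show φ₁ ⟨y, hW'A hy⟩ ∈ W'
    rw [show (⟨y, hW'A hy⟩ : A') = ⟨χ (Subgroup.inclusion hAle ⟨w, hwA⟩), ⟨_, rfl⟩⟩ from
      Subtype.ext hwy.symm]
    erw [hval]
    exact hχW.le ⟨⟨_, hψv _⟩, map_subgroupOf_le hψW le_sup_right ⟨w, hw⟩, rfl⟩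
  have hgood₁ := ih (d - (Nat.card (normalizerIn S W') - Nat.card T)) (by omega) W' hW' hW'ne
    (Or.inl (hbig.trans h2)) (by omega) A' φ₁ hφ₁N
    ⟨χ (Subgroup.inclusion hAle (Subgroup.inclusion le_sup_left x₀)), ⟨_, rfl⟩⟩
  erw [hval] at hgood₁
  have hgx := hr _ (hbig.trans h1) χ hχ (Subgroup.inclusion hAle (Subgroup.inclusion le_sup_left x₀))
  have hgy := hr _ (hbig.trans h1) χ hχ ⟨ψ₀ (Subgroup.inclusion le_sup_left x₀), hψv _⟩
  have h5 := (ctl W F).mul_mem ((ctl W F).mul_mem hgx hgood₁) ((ctl W F).inv_mem hgy)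
  simp only [hψe, Subgroup.coe_inclusion, mul_inv_rev, inv_inv] at h5
  simpa [mul_assoc] using h5

/-- The case of a trivial core. -/
theorem focal_le_of_core_eq_bot (hW : Hyp p W) (hS : IsPGroup p S) (hF : F.IsSaturated p)
    (hsmall : SmallHyp p W (Nat.card S)) (hprop : ProperHyp p W F) (hcore : F.core = ⊥) :
    F.focalSubgroup ≤ ctl W F := by
  rcases eq_or_ne S ⊥ with hS1 | hS1
  · exact ((focalSubgroup_le F).trans hS1.le).trans bot_le
  refine (Subgroup.closure_le _).2 ?_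
  rintro _ ⟨P, φ, x, hφ, rfl⟩
  refine alperin_strong_induction (C := fun P φ => ∀ x : P, (x : Ω)⁻¹ * φ x ∈ ctl W F) hS hF
    ?_ ?_ ?_ ?_ hφ x
  · intro P g hP hg y
    exact inv_mul_apply_mem_focal
      ((normalizerSystem F (fs W S) (fs_le S)).conj_mem (hP.trans (le_normalizerIn_fs hW hS))
        (le_normalizerIn_fs hW hS hg)) y
  · intro P Q φ ψ _ _ hCφ hCψ h y
    have h1 := (ctl W F).mul_mem (hCφ y) (hCψ ⟨φ y, h y⟩)
    rw [mul_assoc, mul_inv_cancel_left] at h1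
    exact h1
  · rintro P φ ψ _ hC _ hi ⟨_, y, rfl⟩
    rw [hi y]
    simpa using (ctl W F).inv_mem (hC y)
  · intro R hn hc _ hbig α hα
    have hRne : R ≠ ⊥ := by
      intro h
      refine hS1 (le_bot_iff.1 fun s hs => h ▸ hc.2 R (isConj_refl F hn.1)
        (mem_centralizerIn.2 ⟨hs, fun y hy => ?_⟩))
      rw [h, Subgroup.mem_bot] at hy
      rw [hy, one_mul, mul_one]
    refine good_normalizer hW hS hF hsmall hprop hcore (Nat.card R) hbig (Nat.card S) R hn hRne ?_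
      le_add_self R _ ?_
    · rcases eq_or_ne R S with rfl | hne
      · exact Or.inr (le_antisymm inf_le_left (le_inf le_rfl Subgroup.le_normalizer))
      · exact Or.inl (card_lt_of_lt (normalizerIn_le S R)
          (lt_normalizerIn hS (lt_of_le_of_ne hn.1 hne)))
    · have hm := (mem_autGroup_iff hn.1).1 hα
      refine ⟨hm, le_normalizerIn hn.1, fun y => le_normalizerIn hn.1 (α y).2, _,
        restrict_mem hm (sup_le le_rfl le_rfl : R ⊔ R ≤ R), fun y => rfl, ?_⟩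
      exact (map_subgroupOf_eq_iff (restrict_mem hm _) le_sup_right).2
        fun y hy => (α ⟨y, hy⟩).2

/-- Modulo a nontrivial core every focal element is controlled. -/
theorem focal_mod_core (hW : Hyp p W) (hS : IsPGroup p S) (hF : F.IsSaturated p)
    (hsmall : SmallHyp p W (Nat.card S)) (hprop : ProperHyp p W F) (hcore : F.core ≠ ⊥) :
    ∀ f ∈ F.focalSubgroup, ∃ k ∈ ctl W F, k⁻¹ * f ∈ F.core := by
  classical
  set Z := F.core with hZ
  have hZn : F.IsNormal Z := isNormal_core F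
  by_cases hZS : S ≤ Z
  · intro f hf
    exact ⟨1, one_mem _, by simpa using hZS (focalSubgroup_le F hf)⟩
  have hZcl := stronglyClosed_of_isNormal hZn
  have hSZ : S ≤ Subgroup.normalizer (Z : Set Ω) := le_normalizer_of_isNormal hZn
  let Z' := Z.subgroupOf S
  have hZ'n : Z'.Normal := ⟨fun z hz g => (Subgroup.mem_normalizer_iff.1 (hSZ g.2) z).1 hz⟩
  let θ : S →* S ⧸ Z' := QuotientGroup.mk' Z'
  have hker : ∀ s : S, θ s = 1 ↔ (s : Ω) ∈ Z := fun s => QuotientGroup.eq_one_iff s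
  have hr : θ.range = ⊤ := MonoidHom.range_eq_top.2 (QuotientGroup.mk'_surjective Z')
  have hEspec := factorSystem_spec F hZcl θ hker hr
  set E := factorSystem F hZcl θ hker hr with hE
  have hTop : IsPGroup p (⊤ : Subgroup (S ⧸ Z')) := (hS.to_quotient Z').to_subgroup ⊤
  have hcard : Nat.card (⊤ : Subgroup (S ⧸ Z')) < Nat.card S := by
    rw [Subgroup.card_top, Subgroup.card_eq_card_quotient_mul_card_subgroup Z']
    refine lt_mul_of_one_lt_right Nat.card_pos (Finite.one_lt_card_iff_nontrivial.2 ?_)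
    rw [Subgroup.nontrivial_iff_ne_bot, Ne, Subgroup.subgroupOf_eq_bot]
    intro hd
    exact hcore (le_bot_iff.1 (hd le_rfl hZn.1))
  have hQne : (⊤ : Subgroup (S ⧸ Z')) ≠ ⊥ := by
    intro h
    refine hZS fun s hs => (hker ⟨s, hs⟩).1 ?_
    exact Subgroup.mem_bot.1 (h ▸ trivial)
  set V := fs W (⊤ : Subgroup (S ⧸ Z')) with hV
  set X := preimageAlong θ V with hX
  have hXS : X ≤ S := preimageAlong_le θ V
  have hVn : ∀ y : S ⧸ Z', y ∈ Subgroup.normalizer (V : Set (S ⧸ Z')) := fun y =>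
    le_normalizer_fs hW hTop le_rfl ⟨trivial, Subgroup.le_normalizer trivial⟩
  have hSX : S ≤ Subgroup.normalizer (X : Set Ω) := by
    have hle : ∀ g ∈ S, ∀ x ∈ X, g * x * g⁻¹ ∈ X := by
      intro g hg x hx
      obtain ⟨hxS, hxV⟩ := mem_preimageAlong.1 hx
      refine mem_preimageAlong.2 ⟨S.mul_mem (S.mul_mem hg hxS) (S.inv_mem hg), ?_⟩
      have h1 := (Subgroup.mem_normalizer_iff.1 (hVn (θ ⟨g, hg⟩)) _).1 hxV
      rw [← map_inv, ← map_mul, ← map_mul] at h1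
      exact h1
    intro g hg
    refine Subgroup.mem_normalizer_iff.2 fun y => ⟨fun hy => hle g hg y hy, fun hy => ?_⟩
    simpa [mul_assoc] using hle g⁻¹ (S.inv_mem hg) _ hy
  have hXn : ¬ F.IsNormal X := by
    intro hn
    refine fs_ne_bot hW hTop le_rfl hQne (le_bot_iff.1 fun y hy => ?_)
    obtain ⟨s, rfl⟩ := QuotientGroup.mk'_surjective Z' y
    rw [Subgroup.mem_bot]
    exact (hker s).2 (le_core hn (mem_preimageAlong.2 ⟨s.2, hy⟩))
  have hK : ctl W E ≤ imageAlong θ (ctl W F) := by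
    refine (Subgroup.closure_le _).2 ?_
    rintro _ ⟨P', φ', x', ⟨hφ', hP', hv', ψ', hψ', he', hV'⟩, rfl⟩
    obtain ⟨-, ψ, hψ, hPS, hψS, hθ, hind⟩ := (hEspec.2.2.2 _ _).1 hψ'
    let A := preimageAlong θ (P' ⊔ V)
    have hXA : X ≤ A := fun y hy => by
      obtain ⟨h1, h2⟩ := mem_preimageAlong.1 hy
      exact mem_preimageAlong.2 ⟨h1, Subgroup.mem_sup_right h2⟩
    have hres := restrict_mem hψ (sup_le le_rfl hXA : A ⊔ X ≤ A)
    have hmap : ψ ∈ F.normalizerHom X A := by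
      refine ⟨hψ, fun y hy => ⟨hPS hy, hSX (hPS hy)⟩, fun y => ⟨hψS y, hSX (hψS y)⟩, _, hres,
        fun y => rfl, (map_subgroupOf_eq_iff hres le_sup_right).2 fun y hy => ?_⟩
      show ψ ⟨y, hXA hy⟩ ∈ X
      refine mem_preimageAlong.2 ⟨hψS _, ?_⟩
      rw [← hind ⟨y, hXA hy⟩]
      exact map_subgroupOf_le hV' le_sup_right ⟨_, (mem_preimageAlong.1 hy).2⟩
    obtain ⟨s, hs⟩ := QuotientGroup.mk'_surjective Z' (x' : S ⧸ Z')
    have hsA : (s : Ω) ∈ A := mem_preimageAlong.2 ⟨s.2, Subgroup.mem_sup_left (by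
      show θ s ∈ P'; rw [show θ s = _ from hs]; exact x'.2)⟩
    refine mem_imageAlong_iff.2 ⟨s⁻¹ * ⟨ψ ⟨s, hsA⟩, hψS _⟩,
      good_of_not_normal hS hF hprop hXS hSX hXn hmap ⟨s, hsA⟩, ?_⟩
    rw [map_mul, map_inv, ← hind ⟨s, hsA⟩, ← he']
    exact congrArg₂ (fun a b => a⁻¹ * b) hs (congrArg ψ' (Subtype.ext hs))
  have hpre : F.focalSubgroup ≤ preimageAlong θ (imageAlong θ (ctl W F)) := by
    refine (Subgroup.closure_le _).2 ?_
    rintro _ ⟨P, φ, x, hφ, rfl⟩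
    obtain ⟨φ', hφ', hP, hφS, hP', hind⟩ := exists_induced hS hF hZcl hEspec hφ
    refine mem_preimageAlong.2 ⟨S.mul_mem (S.inv_mem (hP x.2)) (hφS x), ?_⟩
    have h1 := hK (hsmall hcard hTop E (isSaturated_factorSystem hS hF hZcl hEspec)
      (inv_mul_apply_mem_focal hφ' ⟨_, hP' x⟩))
    rw [hind, ← map_inv, ← map_mul] at h1
    exact h1
  intro f hf
  obtain ⟨hfS, hfK⟩ := mem_preimageAlong.1 (hpre hf)
  obtain ⟨k, hk, hkf⟩ := mem_imageAlong_iff.1 hfK
  refine ⟨k, hk, (hker (k⁻¹ * ⟨f, hfS⟩)).1 ?_⟩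
  rw [map_mul, map_inv, hkf, inv_mul_cancel]

/-- The core meets the focal subgroup inside the controlled subgroup: centric core. -/
theorem core_inf_focal_le_of_centric (hW : Hyp p W) (hS : IsPGroup p S) (hF : F.IsSaturated p)
    (hc : F.IsCentric F.core) : ∀ f ∈ F.core, f ∈ F.focalSubgroup → f ∈ ctl W F := by
  intro f hfZ hf
  have hZn : F.IsNormal F.core := isNormal_core F
  obtain ⟨L, _, ι, hL⟩ := Model.exists_model hS hF hZn hc
  obtain ⟨hfin, hι, ⟨T₀, hT₀⟩, hC⟩ := id hL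
  have hfS : f ∈ S := hZn.1 hfZ
  have hfocL : F.focalSubgroup ≤ pullSub ι (commutator L) := by
    refine (Subgroup.closure_le _).2 ?_
    rintro _ ⟨P, φ, x, hφ, rfl⟩
    obtain ⟨hP, hφS, g, hg⟩ := (realized_hom_iff hι).1 hφ
    refine ⟨⟨x, hP x.2⟩⁻¹ * ⟨φ x, hφS x⟩, ?_, rfl⟩
    show ι _ ∈ commutator L
    rw [map_mul, map_inv, hg, show (ι ⟨x, hP x.2⟩)⁻¹ * (g * ι ⟨x, hP x.2⟩ * g⁻¹) =
      ⁅(ι ⟨x, hP x.2⟩)⁻¹, g⁆ by rw [commutatorElement_def]; group]
    exact Subgroup.commutator_mem_commutator trivial trivial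
  obtain ⟨s, hs, hsf⟩ := hfocL hf
  have hsZ : (s : Ω) ∈ F.core := (show (s : Ω) = f from hsf) ▸ hfZ
  have hO : ι s ∈ Cfsg.pCore p L := Model.pushSub_le_pCore hS hL hZn ⟨s, hsZ, rfl⟩
  obtain ⟨-, n, hn, hns⟩ := (hW.transfer L T₀ hC).le ⟨hO, hs⟩
  let e : ↥S ≃* ↥(T₀ : Subgroup L) :=
    (MonoidHom.ofInjective hι.1).trans (MulEquiv.subgroupCongr hT₀.symm)
  have hpush : pushSub ι (fs W S) = fs W (T₀ : Subgroup L) := by
    rw [fs, fs, ← hW.map _ _ hS e, Subgroup.map_map, pushSub, Subgroup.subgroupOf,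
      Subgroup.comap_map_eq_self_of_injective (Subgroup.subtype_injective _)]
    rfl
  let N := Subgroup.normalizer (fs W (T₀ : Subgroup L) : Set L)
  have hTN : (T₀ : Subgroup L) ≤ N := by
    intro t ht
    obtain ⟨y, rfl⟩ : t ∈ ι.range := hT₀ ▸ ht
    refine mem_normalizer_of_finite ?_
    rw [← hpush]
    rintro _ ⟨w, hw, rfl⟩
    refine ⟨y * w * y⁻¹, ?_, by rw [map_mul, map_mul, map_inv]⟩
    exact (Subgroup.mem_normalizer_iff.1 (le_normalizerIn_fs hW hS y.2).2 _).1 hw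
  have hnT : n ∈ ((T₀.subtype hTN : Sylow p N) : Subgroup N) := by
    show (n : L) ∈ (T₀ : Subgroup L)
    rw [show (n : L) = ι s from hns, hT₀]
    exact ⟨s, rfl⟩
  have hfoc := (Subgroup.commutator_inf_eq_focalSubgroup (T₀.subtype hTN)).le ⟨hn, hnT⟩
  suffices hle : ((T₀.subtype hTN : Sylow p N) : Subgroup N).focalSubgroup ≤
      (pushSub ι (ctl W F)).comap N.subtype by
    obtain ⟨k, hk, hke⟩ := hle hfoc
    rw [show N.subtype n = ι s from hns] at hke
    rw [← hsf, ← hι.1 hke]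
    exact hk
  rw [Subgroup.focalSubgroup_def, Subgroup.closure_le]
  rintro _ ⟨hz, x, hx, u, rfl⟩
  obtain ⟨s₀, hs₀⟩ : (x : L) ∈ ι.range := hT₀ ▸ hx
  set P := Subgroup.zpowers ((s₀⁻¹ : S) : Ω) with hPdef
  set A := P ⊔ fs W S with hAdef
  have hPS : P ≤ S := Subgroup.zpowers_le.2 (s₀⁻¹).2
  have hAS : A ≤ S := sup_le hPS (fs_le S)
  have hmem : ∀ y : A, (u : L) * ι ⟨y, hAS y.2⟩ * (u : L)⁻¹ ∈ ι.range := by
    let K : Subgroup S := (ι.range).comap ((MulAut.conj (u : L)).toMonoidHom.comp ι)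
    intro y
    refine (?_ : A ≤ K.map S.subtype) y.2 |>.elim fun w hw => ?_
    · refine sup_le (Subgroup.zpowers_le.2 ⟨s₀⁻¹, ?_, rfl⟩) fun w hw => ?_
      · show (u : L) * ι (s₀⁻¹) * (u : L)⁻¹ ∈ ι.range
        rw [map_inv, hs₀, ← hT₀]
        have h1 := mul_mem (inv_mem (show (x : L) ∈ (T₀ : Subgroup L) from hx))
          (show ((⁅x, u⁆ : N) : L) ∈ (T₀ : Subgroup L) from hz)
        simpa [commutatorElement_def, mul_assoc] using h1
      · refine ⟨⟨w, fs_le S hw⟩, ?_, rfl⟩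
        show (u : L) * ι _ * (u : L)⁻¹ ∈ ι.range
        refine pushSub_le ι (fs W S) ?_
        rw [hpush]
        refine (Subgroup.mem_normalizer_iff.1 u.2 _).1 ?_
        rw [← hpush]
        exact ⟨⟨w, fs_le S hw⟩, hw, rfl⟩
    · obtain ⟨hw1, hw2⟩ := hw
      rw [show (⟨y, hAS y.2⟩ : S) = w from Subtype.ext hw2.symm]
      exact hw1
  have hψ := pullHom_mem hι hAS (u : L) hmem
  set ψ := pullHom hι.1 hAS (u : L) hmem with hψdef
  have hA' : A ≤ normalizerIn S (fs W S) := hAS.trans (le_normalizerIn_fs hW hS)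
  have hψN : ψ.comp (Subgroup.inclusion (le_sup_left : P ≤ A)) ∈
      (normalizerSystem F (fs W S) (fs_le S)).Hom P := by
    refine ⟨restrict_mem hψ le_sup_left, le_sup_left.trans hA',
      fun y => le_normalizerIn_fs hW hS (apply_mem hψ _), ψ, hψ, fun y => rfl,
      (map_subgroupOf_eq_iff hψ le_sup_right).2 fun y hy => ?_⟩
    have h1 := apply_pullHom hι.1 hAS (u : L) hmem ⟨y, Subgroup.mem_sup_right hy⟩
      (apply_mem hψ _)
    have h2 : (u : L) * ι ⟨y, fs_le S hy⟩ * (u : L)⁻¹ ∈ pushSub ι (fs W S) := by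
      rw [hpush]
      refine (Subgroup.mem_normalizer_iff.1 u.2 _).1 ?_
      rw [← hpush]
      exact ⟨⟨y, fs_le S hy⟩, hy, rfl⟩
    rw [← h1, apply_mem_pushSub hι.1] at h2
    exact h2
  have hg := inv_mul_apply_mem_focal hψN ⟨_, Subgroup.mem_zpowers _⟩
  refine ⟨(s₀⁻¹)⁻¹ * ⟨ψ ⟨_, Subgroup.mem_sup_left (Subgroup.mem_zpowers _)⟩, apply_mem hψ _⟩,
    hg, ?_⟩
  show ι _ = ((⁅x, u⁆ : N) : L)
  rw [inv_inv, map_mul, apply_pullHom, map_inv, hs₀]
  simp [commutatorElement_def, mul_assoc]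

/-- The maps agreeing on `Z` with conjugations by elements of `S`. -/
def innerOn (F : FusionSystem S) (Z : Subgroup Ω) (hZ : Z ≤ S)
    (hn : S ≤ Subgroup.normalizer (Z : Set Ω)) : FusionSystem S where
  Hom P := {φ | φ ∈ F.Hom P ∧ ∃ ψ ∈ F.Hom (P ⊔ Z),
    (∀ x : P, ψ (Subgroup.inclusion le_sup_left x) = φ x) ∧
      ∃ k ∈ autInducedBy S Z, ∀ x : Z, ψ (Subgroup.inclusion le_sup_right x) = (k x : Ω)}
  le_of_mem h := F.le_of_mem h.1
  injective_of_mem h := F.injective_of_mem h.1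
  conj_mem := by
    intro P g hP hg
    refine ⟨F.conj_mem hP hg, conjHom _ g, F.conj_mem (sup_le hP hZ) hg, fun x => rfl, ?_⟩
    exact ⟨conjAut (hn hg), conjAut_mem_autInducedBy hg (hn hg), fun x => rfl⟩
  comp_mem := by
    rintro P R φ χ ⟨hφ, ψ, hψ, he, k, hk, hkZ⟩ ⟨hχ, ρ, hρ, hρe, l, hl, hlZ⟩ h
    have hmem : ∀ z, ψ z ∈ R ⊔ Z := forall_sup_mem ψ
      (fun x => Subgroup.mem_sup_left (he x ▸ h x))
      (fun x => Subgroup.mem_sup_right (hkZ x ▸ (k x).2))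
    refine ⟨F.comp_mem hφ hχ h, _, F.comp_mem hψ hρ hmem, fun x => ?_, l * k,
      (autInducedBy S Z).mul_mem hl hk, fun x => ?_⟩
    · show ρ ⟨ψ _, _⟩ = χ ⟨φ x, h x⟩
      rw [← hρe ⟨φ x, h x⟩]
      exact congrArg ρ (Subtype.ext (he x))
    · show ρ ⟨ψ _, _⟩ = _
      refine (congrArg ρ (Subtype.ext ?_)).trans (hlZ (k x))
      exact hkZ x
  inv_mem := by
    rintro P φ ⟨hφ, ψ, hψ, he, k, hk, hkZ⟩
    have hm : (Z.subgroupOf (P ⊔ Z)).map ψ = Z := by
      ext y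
      constructor
      · rintro ⟨z, hz, rfl⟩
        exact (hkZ ⟨z, hz⟩).symm ▸ (k ⟨z, hz⟩).2
      · intro hy
        refine ⟨Subgroup.inclusion le_sup_right (k.symm ⟨y, hy⟩), (k.symm ⟨y, hy⟩).2, ?_⟩
        rw [hkZ, MulEquiv.apply_symm_apply]
    obtain ⟨ρ, hρ, -, hi, -⟩ := exists_inverse hψ (range_sup_eq he hm)
    have hin : ∀ (x : P) (h : φ x ∈ φ.range ⊔ Z), ρ ⟨φ x, h⟩ = (x : Ω) := fun x h =>
      (congrArg ρ (Subtype.ext (he x).symm)).trans
        (hi (Subgroup.inclusion le_sup_left x) (he x ▸ h))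
    refine ⟨ρ.comp (Subgroup.inclusion le_sup_left), ⟨restrict_mem hρ le_sup_left, ρ, hρ,
      fun y => rfl, k⁻¹, (autInducedBy S Z).inv_mem hk, fun z => ?_⟩, fun x => hin x _⟩
    have h1 := hi (Subgroup.inclusion le_sup_right (k⁻¹ z))
      (hkZ (k⁻¹ z) ▸ Subgroup.mem_sup_right (k (k⁻¹ z)).2)
    refine Eq.trans (congrArg ρ (Subtype.ext ?_)) h1
    show (z : Ω) = ψ (Subgroup.inclusion le_sup_right (k⁻¹ z))
    rw [hkZ, MulAut.apply_inv_self]

theorem innerOn_le (F : FusionSystem S) (Z : Subgroup Ω) (hZ : Z ≤ S)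
    (hn : S ≤ Subgroup.normalizer (Z : Set Ω)) : innerOn F Z hZ hn ≤ F :=
  fun _ _ h => h.1

/-- The core meets the focal subgroup inside the controlled subgroup: the maps are inner on it. -/
theorem core_inf_focal_le_of_inner (hW : Hyp p W) (hS : IsPGroup p S) (hF : F.IsSaturated p)
    {Z : Subgroup Ω} (hZ : Z ≤ S) (hn : S ≤ Subgroup.normalizer (Z : Set Ω))
    (heq : ∀ P, (innerOn F Z hZ hn).Hom P = F.Hom P) :
    ∀ f ∈ Z, f ∈ F.focalSubgroup → f ∈ ctl W F := by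
  intro f hfZ hf
  have hfS := hZ hfZ
  obtain ⟨T⟩ := exists_transferData hS hF (Abelianization.of (G := S))
  have h1 : T.tr ⟨f, hfS⟩ = Abelianization.of (⟨f, hfS⟩ : S) ^ Fintype.card T.Y := by
    refine T.tr_eq_pow _ fun y r hy => ?_
    obtain ⟨P, φ, hφ, hy'⟩ := T.fixed y
    have hP := (hy' (⟨f, hfS⟩ ^ r)).1.1 hy
    rw [(hy' _).2 hP]
    have hfr : f ^ r ∈ Z := Subgroup.pow_mem _ hfZ r
    obtain ⟨-, ψ, -, he, k, hk, hkZ⟩ := (heq P).ge hφ
    obtain ⟨g, hg, hgk⟩ := mem_autInducedBy_iff.1 hk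
    have h2 : φ ⟨((⟨f, hfS⟩ ^ r : S) : Ω), hP⟩ = g * f ^ r * g⁻¹ := by
      rw [← he]
      exact (hkZ ⟨f ^ r, hfr⟩).trans (hgk ⟨f ^ r, hfr⟩)
    rw [show (⟨φ ⟨((⟨f, hfS⟩ ^ r : S) : Ω), hP⟩, apply_mem hφ _⟩ : S) =
      ⟨g, hg⟩ * ⟨f, hfS⟩ ^ r * ⟨g, hg⟩⁻¹ from Subtype.ext (by simpa using h2), map_mul, map_mul,
      map_inv, map_pow, mul_inv_cancel_comm]
  rw [T.tr_focal hfS hf] at h1
  obtain ⟨j, hj⟩ := hS ⟨f, hfS⟩
  have h3 : Abelianization.of (⟨f, hfS⟩ : S) = 1 := by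
    refine orderOf_eq_one_iff.1 (Nat.eq_one_of_dvd_coprimes ?_
      (orderOf_dvd_of_pow_eq_one h1.symm)
      (orderOf_dvd_of_pow_eq_one (by rw [← map_pow, hj, map_one]) : _ ∣ p ^ j))
    exact (((Fact.out : p.Prime).coprime_iff_not_dvd.2 T.not_dvd_card).pow_left j).symm
  have h4 : (⟨f, hfS⟩ : S) ∈ commutator S := by
    rw [← Abelianization.ker_of]
    exact h3
  exact commutator_le_ctl hW hS ((Subgroup.map_subtype_commutator S).le ⟨_, h4, rfl⟩)

/-- Decomposition along a noncentric core. -/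
theorem focal_le_of_noncentric (hW : Hyp p W) (hS : IsPGroup p S) (hF : F.IsSaturated p)
    (hprop : ProperHyp p W F) (hnc : ¬ F.IsCentric F.core)
    (hmod : ∀ f ∈ F.focalSubgroup, ∃ k ∈ ctl W F, k⁻¹ * f ∈ F.core) :
    F.focalSubgroup ≤ ctl W F := by
  have hZn : F.IsNormal F.core := isNormal_core F
  generalize hZdef : F.core = Z at hZn hnc hmod
  have hZS := hZn.1
  have hZcl := stronglyClosed_of_isNormal hZn
  have hSZ : S ≤ Subgroup.normalizer (Z : Set Ω) := le_normalizer_of_isNormal hZn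
  have hZfn : F.IsFullyNormalized Z := ⟨hZS, fun R' _ => by
    rw [show normalizerIn S Z = S from le_antisymm inf_le_left (le_inf le_rfl hSZ)]
    exact card_le_of_le le_rfl (normalizerIn_le S R')⟩
  have hZrec := isReceptive_of_fullyNormalized hS hF hZfn
  by_cases heq : ∀ P, (innerOn F Z hZS hSZ).Hom P = F.Hom P
  · intro f hf
    obtain ⟨k, hk, hkf⟩ := hmod f hf
    have h1 := core_inf_focal_le_of_inner hW hS hF hZS hSZ heq _ hkf
      (F.focalSubgroup.mul_mem (F.focalSubgroup.inv_mem (ctl_le_focal hk)) hf)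
    simpa using (ctl W F).mul_mem hk h1
  -- the subsystem of maps inner on `Z` is saturated
  have hEsat : (innerOn F Z hZS hSZ).IsSaturated p := by
    refine KNorm.saturated (F := F)
      { Q := Z, K := autInducedBy S Z, T := S, E := innerOn F Z hZS hSZ, receptive := hZrec,
        sylow := ?_, mem_T := ?_, mem_E := ?_ } hS hF
    · exact fun V hV _ => ⟨1, one_mem _, fun v hv => by simpa using (hV hv).2⟩
    · exact fun g => ⟨fun hg => ⟨hg, hSZ hg, conjAut_mem_autInducedBy hg _⟩, fun h => h.1⟩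
    · exact fun P φ => ⟨fun h => ⟨h.1, dom_le h.1, apply_mem h.1, h.2⟩, fun h => ⟨h.1, h.2.2.2⟩⟩
  have hEgood : ∀ P : Subgroup Ω, ∀ φ ∈ (innerOn F Z hZS hSZ).Hom P, ∀ x : P,
      (x : Ω)⁻¹ * φ x ∈ ctl W F := fun P φ hφ x =>
    ctl_mono (innerOn_le F Z hZS hSZ) (hprop _ hEsat (innerOn_le F Z hZS hSZ) heq
      (inv_mul_apply_mem_focal hφ x))
  -- `R = Z C_S(Z)`
  set C := centralizerIn S Z with hC
  have hCZ : ¬ C ≤ Z := by
    intro hle
    refine hnc ⟨hZS, fun R hR => ?_⟩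
    obtain ⟨φ, hφ, rfl⟩ := hR
    rw [range_eq_of_le hφ hZS (fun x => hZcl.2 _ le_rfl φ hφ x) le_rfl]
    exact hle
  set R := Z ⊔ C with hR
  have hRS : R ≤ S := sup_le hZS (centralizerIn_le S Z)
  have hSR : S ≤ Subgroup.normalizer (R : Set Ω) := by
    have hle : ∀ g ∈ S, R ≤ R.comap (MulAut.conj g).toMonoidHom := by
      intro g hg
      refine sup_le (fun x hx => ?_) fun x hx => ?_
      · exact Subgroup.mem_sup_left ((Subgroup.mem_normalizer_iff.1 (hSZ hg) x).1 hx)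
      · refine Subgroup.mem_sup_right (mem_centralizerIn.2 ?_)
        obtain ⟨hxS, hxc⟩ := mem_centralizerIn.1 hx
        refine ⟨S.mul_mem (S.mul_mem hg hxS) (S.inv_mem hg), fun z hz => ?_⟩
        have h1 := hxc _ ((Subgroup.mem_normalizer_iff.1 (hSZ (S.inv_mem hg)) z).1 hz)
        show z * (g * x * g⁻¹) = g * x * g⁻¹ * z
        calc z * (g * x * g⁻¹) = g * (g⁻¹ * z * g⁻¹⁻¹ * x) * g⁻¹ := by group
          _ = g * (x * (g⁻¹ * z * g⁻¹⁻¹)) * g⁻¹ := by rw [h1]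
          _ = g * x * g⁻¹ * z := by group
    intro g hg
    refine Subgroup.mem_normalizer_iff.2 fun y => ⟨fun hy => hle g hg hy, fun hy => ?_⟩
    simpa [mul_assoc] using hle g⁻¹ (S.inv_mem hg) hy
  have hRn : ¬ F.IsNormal R := fun h => hCZ ((le_sup_right).trans ((le_core h).trans hZdef.le))
  refine (Subgroup.closure_le _).2 ?_
  rintro _ ⟨P, φ, x, hφ, rfl⟩
  obtain ⟨φ', hφ', hφe, hφZ⟩ := hZn.2 P φ hφ
  have hP := dom_le hφ
  have hresZ := restrict_mem hφ' (le_sup_right : Z ≤ P ⊔ Z)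
  have hrZ : (φ'.comp (Subgroup.inclusion (le_sup_right : Z ≤ P ⊔ Z))).range = Z := by
    rw [MonoidHom.range_comp, Subgroup.inclusion_range, hφZ]
  set β := φ'.comp (Subgroup.inclusion (le_sup_right : Z ≤ P ⊔ Z)) with hβ
  set U := R ⊔ (P ⊔ Z) with hU
  have hPZS : P ⊔ Z ≤ S := sup_le hP hZS
  have hUext : U ≤ extender S Z β := by
    refine sup_le (sup_le (le_extender hZS (apply_mem hresZ)) (centralizerIn_le_extender _)) ?_
    intro g hg
    refine mem_extender_iff.2 ⟨hPZS hg, hSZ (hPZS hg), φ' ⟨g, hg⟩, apply_mem hφ' _, fun z hz => ?_⟩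
    show φ' _ = _ * φ' _ * _
    rw [← map_inv, ← map_mul, ← map_mul]
    rfl
  obtain ⟨ψ, hψ, hψe⟩ := exists_extension hZrec hresZ hrZ hUext
  have hRU : R ≤ U := le_sup_left
  have hψZ : ∀ z : Z, ψ ⟨z, hRU (Subgroup.mem_sup_left z.2)⟩ = β z :=
    fun z => hψe z z.2 _
  have hψR : ∀ r : R, ψ (Subgroup.inclusion hRU r) ∈ R := by
    refine forall_sup_mem (ψ.comp (Subgroup.inclusion hRU))
      (fun z => Subgroup.mem_sup_left ?_) fun c => Subgroup.mem_sup_right ?_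
    · show ψ ⟨z, _⟩ ∈ Z
      rw [hψZ]
      exact hrZ.le ⟨z, rfl⟩
    · refine mem_centralizerIn.2 ⟨apply_mem hψ _, fun y hy => ?_⟩
      obtain ⟨z, rfl⟩ := hrZ.ge hy
      rw [← hψZ, MonoidHom.comp_apply, ← map_mul, ← map_mul]
      exact congrArg ψ (Subtype.ext ((mem_centralizerIn.1 c.2).2 _ z.2))
  have hψRr : (ψ.comp (Subgroup.inclusion hRU)).range = R :=
    range_eq_of_le (restrict_mem hψ hRU) hRS hψR le_rfl
  have hψN : ψ ∈ F.normalizerHom R U := by
    have hres := restrict_mem hψ (sup_le le_rfl hRU : U ⊔ R ≤ U)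
    exact ⟨hψ, le_inf (sup_le hRS hPZS) ((sup_le hRS hPZS).trans hSR),
      fun y => ⟨apply_mem hψ y, hSR (apply_mem hψ y)⟩, _, hres, fun y => rfl,
      (map_subgroupOf_eq_iff hres le_sup_right).2 fun y hy => hψR ⟨y, hy⟩⟩
  -- the image of `φ'` lies in that of `ψ`
  have hrange : ∀ y : ↥(P ⊔ Z), φ' y ∈ ψ.range := by
    intro y
    have hyU : (y : Ω) ∈ U := Subgroup.mem_sup_right y.2
    have hd : (ψ ⟨y, hyU⟩)⁻¹ * φ' y ∈ C := by
      refine mem_centralizerIn.2 ⟨S.mul_mem (S.inv_mem (apply_mem hψ _)) (apply_mem hφ' _),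
        fun w hw => ?_⟩
      have hw' : ψ ⟨y, hyU⟩ * w * (ψ ⟨y, hyU⟩)⁻¹ ∈ Z :=
        (Subgroup.mem_normalizer_iff.1 (hSZ (apply_mem hψ _)) w).1 hw
      obtain ⟨z, hz⟩ := hrZ.ge hw
      have hzc : (y : Ω) * z * (y : Ω)⁻¹ ∈ Z :=
        (Subgroup.mem_normalizer_iff.1 (hSZ (hPZS y.2)) z).1 z.2
      have h1 : β ⟨_, hzc⟩ = φ' y * w * (φ' y)⁻¹ := by
        rw [← hz]
        show φ' _ = φ' y * φ' _ * (φ' y)⁻¹
        rw [← map_inv, ← map_mul, ← map_mul]
        rfl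
      have h2 : β ⟨_, hzc⟩ = ψ ⟨y, hyU⟩ * w * (ψ ⟨y, hyU⟩)⁻¹ := by
        rw [← hz, ← hψZ, ← hψZ, ← map_inv, ← map_mul, ← map_mul]
        rfl
      have h3 : φ' y * w * (φ' y)⁻¹ = ψ ⟨y, hyU⟩ * w * (ψ ⟨y, hyU⟩)⁻¹ := h1.symm.trans h2
      calc w * ((ψ ⟨y, hyU⟩)⁻¹ * φ' y)
          = (ψ ⟨y, hyU⟩)⁻¹ * (ψ ⟨y, hyU⟩ * w * (ψ ⟨y, hyU⟩)⁻¹) * φ' y := by group
        _ = (ψ ⟨y, hyU⟩)⁻¹ * φ' y * w := by rw [← h3]; group
    obtain ⟨r, hr⟩ := hψRr.ge (Subgroup.mem_sup_right hd : _ ∈ R)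
    refine ⟨⟨y, hyU⟩ * Subgroup.inclusion hRU r, ?_⟩
    rw [map_mul, show ψ (Subgroup.inclusion hRU r) = _ from hr, mul_inv_cancel_left]
  obtain ⟨ρ, hρ, hρr, hρi, hρs⟩ := exists_inverse hψ (rfl : _ = ψ.range)
  have hθ := F.comp_mem hφ' hρ hrange
  set θ := ρ.comp (φ'.codRestrict ψ.range hrange) with hθdef
  have hθE : θ ∈ (innerOn F Z hZS hSZ).Hom (P ⊔ Z) := by
    refine ⟨hθ, _, restrict_mem hθ (sup_le le_rfl le_sup_right), fun y => rfl, 1, one_mem _,
      fun z => ?_⟩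
    refine Eq.trans (congrArg ρ (Subtype.ext ?_))
      (hρi ⟨z, hRU (Subgroup.mem_sup_left z.2)⟩ ⟨_, rfl⟩)
    exact (hψZ z).symm
  set a := θ (Subgroup.inclusion le_sup_left x) with ha
  have haU : a ∈ U := hρr ▸ ⟨_, rfl⟩
  have h1 : (x : Ω)⁻¹ * a ∈ ctl W F := hEgood _ θ hθE (Subgroup.inclusion le_sup_left x)
  have h2 := good_of_not_normal hS hF hprop hRS hSR hRn hψN ⟨a, haU⟩
  have h3 : ψ ⟨a, haU⟩ = φ x := by
    obtain ⟨w, hw⟩ := hrange (Subgroup.inclusion le_sup_left x)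
    have h4 : a = w := by
      refine Eq.trans (congrArg ρ (Subtype.ext ?_)) (hρi w ⟨w, rfl⟩)
      exact hw.symm
    rw [show (⟨a, haU⟩ : U) = w from Subtype.ext h4, hw, hφe]
  rw [h3] at h2
  simpa [mul_assoc] using (ctl W F).mul_mem h1 h2

/-- The focal subgroup of a saturated system is that of `N_F(W(S))`. -/
theorem focal_le (hW : Hyp p W) (hS : IsPGroup p S) (hF : F.IsSaturated p) :
    F.focalSubgroup ≤ ctl W F := by
  suffices key : ∀ n : ℕ, ∀ {Ω : Type u} [Group Ω] {S : Subgroup Ω} [Finite S],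
      Nat.card S = n → IsPGroup p S → ∀ F : FusionSystem S, F.IsSaturated p →
      F.focalSubgroup ≤ ctl W F from key _ rfl hS F hF
  intro n
  induction n using Nat.strong_induction_on with
  | _ n ihn =>
  intro Ω _ S _ hn hS F hF
  have hsmall : SmallHyp p W (Nat.card S) := fun {_ _ _ _} hlt hp E hE =>
    ihn _ (hn ▸ hlt) rfl hp E hE
  suffices key : ∀ m : ℕ, ∀ F : FusionSystem S, weight F = m → F.IsSaturated p →
      F.focalSubgroup ≤ ctl W F from key _ F rfl hF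
  intro m
  induction m using Nat.strong_induction_on with
  | _ m ihm =>
  intro F hm hF
  have hprop : ProperHyp p W F := fun E hE hle hne =>
    ihm _ (hm ▸ weight_lt hS hF hle hne) E rfl hE
  by_cases hcore : F.core = ⊥
  · exact focal_le_of_core_eq_bot hW hS hF hsmall hprop hcore
  have hmod := focal_mod_core hW hS hF hsmall hprop hcore
  by_cases hc : F.IsCentric F.core
  · intro f hf
    obtain ⟨k, hk, hkf⟩ := hmod f hf
    have h1 := core_inf_focal_le_of_centric hW hS hF hc _ hkf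
      (F.focalSubgroup.mul_mem (F.focalSubgroup.inv_mem (ctl_le_focal hk)) hf)
    simpa using (ctl W F).mul_mem hk h1
  · exact focal_le_of_noncentric hW hS hF hprop hc hmod

end Cfsg.Agent.Fusion.FocalControl
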