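import Cfsg.Agent.Lib.Fusion.Hyperfocal
import Cfsg.Agent.Lib.Fusion.Nilpotent
import Cfsg.Agent.Lib.Fusion.StrongInduction

/-!
A strongly closed subgroup containing `[S,S]`, modulo which `Aut_F(S)` acts trivially, contains the
focal subgroup: the system modulo such a subgroup is abelian with trivial automorphisms.
-/

set_option autoImplicit false

namespace Cfsg.Agent.Fusion

open Cfsg Cfsg.FusionSystem

variable {Ω : Type*} [Group Ω] {S : Subgroup Ω} {F : FusionSystem S} {p : ℕ}

theorem focal_le_of_stronglyClosed [Finite S] [Fact p.Prime] (hS : IsPGroup p S)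
    (hF : F.IsSaturated p) {T : Subgroup Ω} (hT : F.StronglyClosed T) (hc : ⁅S, S⁆ ≤ T)
    (haut : ∀ α ∈ F.autGroup S, ∀ x : S, (x : Ω)⁻¹ * ((α x : S) : Ω) ∈ T) :
    F.focalSubgroup ≤ T := by
  have hconj : ∀ g ∈ S, ∀ x ∈ S, x⁻¹ * (g * x * g⁻¹) ∈ T := by
    intro g hg x hx
    have h := Subgroup.commutator_mem_commutator (S.inv_mem hx) hg
    rw [commutatorElement_def, inv_inv] at h
    simpa [mul_assoc] using hc h
  refine (Subgroup.closure_le _).2 ?_
  rintro _ ⟨P, φ, x, hφ, rfl⟩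
  refine alperin_strong_induction hS hF (C := fun P φ => ∀ x : P, (x : Ω)⁻¹ * φ x ∈ T)
    ?_ ?_ ?_ ?_ hφ x
  · intro P g hP hg x
    rw [conjHom_apply]
    exact hconj g hg x (hP x.2)
  · intro P Q φ ψ _ _ hφ hψ h x
    have h1 := T.mul_mem (hφ x) (hψ ⟨φ x, h x⟩)
    show (x : Ω)⁻¹ * ψ ⟨φ x, h x⟩ ∈ T
    simpa [mul_assoc] using h1
  · intro P φ ψ _ hφ _ hi y
    obtain ⟨_, x, rfl⟩ := y
    have h1 := T.inv_mem (hφ x)
    rw [hi x]
    simpa using h1
  · intro R hRn _ _ hbig α hα
    by_cases hRS : R = S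
    · subst hRS
      exact haut α hα
    have hlt := lt_normalizerIn hS (lt_of_le_of_ne hRn.1 hRS)
    let K : Subgroup (F.autGroup R) :=
      { carrier := {a | ∀ x : R, (x : Ω)⁻¹ * (((a : MulAut R) x : R) : Ω) ∈ T}
        one_mem' := fun x => by simp [T.one_mem]
        mul_mem' := fun {a b} ha hb x => by
          have := T.mul_mem (hb x) (ha ((b : MulAut R) x))
          show (x : Ω)⁻¹ * (((a : MulAut R) ((b : MulAut R) x) : R) : Ω) ∈ T
          simpa [mul_assoc] using this
        inv_mem' := fun {a} ha x => by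
          have := T.inv_mem (ha ((a : MulAut R)⁻¹ x))
          rw [MulAut.apply_inv_self, mul_inv_rev, inv_inv] at this
          exact this }
    have hK : K.Normal := ⟨fun a ha b x => by
      set y := (b : MulAut R)⁻¹ x with hy
      have h2 : ((y⁻¹ * (a : MulAut R) y : R) : Ω) ∈ T := ha y
      have h1 := (restrict_mem ((mem_autGroup_iff hRn.1).1 b.2) (inf_le_left : R ⊓ T ≤ R))
      have h3 := hT.2 (R ⊓ T) inf_le_right _ h1 ⟨_, (y⁻¹ * (a : MulAut R) y).2, h2⟩
      have h4 : (b : MulAut R) y = x := by rw [hy, MulAut.apply_inv_self]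
      change (((b : MulAut R) (y⁻¹ * (a : MulAut R) y) : R) : Ω) ∈ T at h3
      rw [map_mul, map_inv, h4] at h3
      exact h3⟩
    obtain ⟨k, hk, m, he, hm⟩ := exists_mul_normalizes
      (isFullyAutomized_of_fullyNormalized hS hF hRn) K (fun a ha x => by
        obtain ⟨g, hg, hx⟩ := mem_autInducedBy_iff.1 ha
        rw [hx x]
        exact hconj g hg x (hRn.1 x.2)) ⟨α, hα⟩
    obtain ⟨ψ, hψ, hψe⟩ := exists_extension_of_normalizes
      (isReceptive_of_fullyNormalized hS hF hRn) m.2 hm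
    have hm' : m ∈ K := fun x => by
      rw [← hψe x (hlt.le x.2)]
      exact hbig _ (card_lt_of_lt (normalizerIn_le S R) hlt) ψ hψ ⟨x, hlt.le x.2⟩
    have h := K.mul_mem hk hm'
    rw [← he] at h
    exact h

end Cfsg.Agent.Fusion
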