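import Cfsg.Agent.Lib.ConjFun.KInfControl
import Cfsg.Agent.Lib.KInf.Basic

/-!
# The local transfer condition for the lower K-infinity functor (`p ≥ 5`)
-/

set_option autoImplicit false

namespace Cfsg.Agent.Fusion

universe u

theorem kInfLower_local_transfer {p : ℕ} [Fact p.Prime] (hp : 5 ≤ p) (G : Type u) [Group G]
    [Finite G] (P : Sylow p G) :
    Cfsg.pCore p G ⊓ commutator G = Cfsg.pCore p G ⊓
      (commutator ↥(Subgroup.normalizer (((Cfsg.kInfLower ↥(P : Subgroup G)).map
        (P : Subgroup G).subtype : Subgroup G) : Set G))).map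
      (Subgroup.normalizer (((Cfsg.kInfLower ↥(P : Subgroup G)).map
        (P : Subgroup G).subtype : Subgroup G) : Set G)).subtype := by
  have h := ConjFun.transfer_eq_kInf (W := Cfsg.kInfLower.{u}) hp (Or.inl rfl) P
  have hle : Cfsg.pCore p G ≤ (P : Subgroup G) := sSup_le fun K hK => by
    haveI := hK.1
    exact le_sup_left.trans_eq
      (P.is_maximal' (IsPGroup.to_sup_of_normal_left hK.2 P.isPGroup') le_sup_right)
  rw [Subgroup.map_subtype_commutator]
  rw [Cfsg.inducedFunctor] at h
  calc Cfsg.pCore p G ⊓ commutator G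
      = Cfsg.pCore p G ⊓ ((P : Subgroup G) ⊓ commutator G) := by
        rw [← inf_assoc, inf_eq_left.2 hle]
    _ = _ := by rw [h, ← inf_assoc, inf_eq_left.2 hle]

end Cfsg.Agent.Fusion
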