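import Cfsg.Agent.Lib.Fusion.Factor
import Cfsg.Agent.Lib.Fusion.KNormalizer
import Cfsg.Agent.Lib.Fusion.Hyperfocal
import Cfsg.Agent.Lib.Fusion.NormalCriteria

/-!
# Proper focal subgroup from a control-of-transfer functor

If some characteristic functor `W`, nontrivial on nontrivial `p`-groups, controls transfer in every
saturated fusion system, then a saturated system on `S ≠ 1` whose automizer of `S` is a `p`-group
has proper focal subgroup.
-/

set_option autoImplicit false

namespace Cfsg.Agent.Fusion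

open Cfsg Cfsg.FusionSystem

universe u

variable {Ω : Type u} [Group Ω] {S : Subgroup Ω} {F : FusionSystem S} {p : ℕ}

/-- A normal subgroup equal to `S` leaves only inner maps when `Aut_F(S)` is a `p`-group. -/
theorem focal_le_commutator_of_isNormal_self [Finite S] [Fact p.Prime] (hS : IsPGroup p S)
    (hF : F.IsSaturated p) (hn : F.IsNormal S) (haut : IsPGroup p ↥(F.autGroup S)) :
    F.focalSubgroup ≤ ⁅S, S⁆ := by
  obtain ⟨-, R, hR⟩ := isFullyAutomized_of_fullyNormalized hS hF (isFullyNormalized_self F)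
  have htop : ∀ a : F.autGroup S, a ∈ (R : Subgroup (F.autGroup S)) := by
    intro a
    have h1 : (⊤ : Subgroup (F.autGroup S)) = R :=
      R.is_maximal' (haut.to_subgroup _) le_top
    rw [← h1]
    exact Subgroup.mem_top a
  refine (Subgroup.closure_le _).2 ?_
  rintro _ ⟨P, φ, x, hφ, rfl⟩
  obtain ⟨ψ, hψ, hψe, hψS⟩ := hn.2 P φ hφ
  have hsup : P ⊔ S = S := sup_eq_right.2 (dom_le hφ)
  have hχ : ψ.comp (Subgroup.inclusion hsup.ge) ∈ F.Hom S := restrict_mem hψ _
  have hrange : (ψ.comp (Subgroup.inclusion hsup.ge)).range = S := by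
    refine le_antisymm (range_le hχ) fun y hy => ?_
    obtain ⟨z, hz, rfl⟩ := hψS.ge hy
    exact ⟨⟨z, hz⟩, rfl⟩
  have hmem := htop ⟨_, toAut_mem hχ hrange⟩
  rw [hR, Subgroup.mem_subgroupOf, mem_autInducedBy_iff] at hmem
  obtain ⟨g, hg, hgx⟩ := hmem
  have h1 := hgx ⟨x, dom_le hφ x.2⟩
  rw [coe_toAut] at h1
  have h2 : φ x = g * (x : Ω) * g⁻¹ := by
    rw [← hψe x]
    exact h1
  rw [h2]
  have h3 := Subgroup.commutator_mem_commutator (S.inv_mem (dom_le hφ x.2)) hg
  rw [commutatorElement_def, inv_inv] at h3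
  simpa [mul_assoc] using h3

theorem commutator_lt_self [Finite S] [Fact p.Prime] (hS : IsPGroup p S) (hne : S ≠ ⊥) :
    ⁅S, S⁆ < S := by
  refine lt_of_le_of_ne (Subgroup.commutator_le_self S) fun h => ?_
  haveI := hS.isNilpotent
  haveI : Nontrivial S := (Subgroup.nontrivial_iff_ne_bot S).2 hne
  have h1 : commutator ↥S ≠ ⊤ := (IsSolvable.commutator_lt_top_of_nontrivial ↥S).ne
  refine h1 ((Subgroup.map_injective S.subtype_injective) ?_)
  rw [Subgroup.map_subtype_commutator, h, ← MonoidHom.range_eq_map, Subgroup.range_subtype]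

/-- The reduction modulo a normal subgroup. -/
theorem focal_lt_of_isNormal [Fact p.Prime] {n : ℕ}
    (ih : ∀ m < n, ∀ {Ω : Type u} [Group Ω] {S : Subgroup Ω} [Finite S] (F : FusionSystem S),
      Nat.card S = m → IsPGroup p S → F.IsSaturated p → S ≠ ⊥ →
      IsPGroup p ↥(F.autGroup S) → F.focalSubgroup < S)
    {T V : Subgroup Ω} [Finite T] {N : FusionSystem T} (hn : Nat.card T = n)
    (hS1p : IsPGroup p T) (hNsat : N.IsSaturated p) (hne : T ≠ ⊥) (hVne : V ≠ ⊥)
    (hautN : IsPGroup p ↥(N.autGroup T)) (hNn : N.IsNormal V) : N.focalSubgroup < T := by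
  by_cases hVT : V = T
  · subst hVT
    exact lt_of_le_of_lt (focal_le_commutator_of_isNormal_self hS1p hNsat hNn hautN)
      (commutator_lt_self hS1p hne)
  have hVT' := hNn.1
  have hsc := stronglyClosed_of_isNormal hNn
  haveI : (V.subgroupOf T).Normal :=
    (Subgroup.normal_subgroupOf_iff_le_normalizer hVT').2 (le_normalizer_of_stronglyClosed hsc)
  let θ : T →* ↥T ⧸ V.subgroupOf T := QuotientGroup.mk' _
  have hker : ∀ s : T, θ s = 1 ↔ (s : Ω) ∈ V := fun s => by
    rw [QuotientGroup.mk'_apply, QuotientGroup.eq_one_iff, Subgroup.mem_subgroupOf]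
  have hr : θ.range = ⊤ := MonoidHom.range_eq_top.2 (QuotientGroup.mk'_surjective _)
  haveI : Finite ↥(⊤ : Subgroup (↥T ⧸ V.subgroupOf T)) := inferInstance
  set E := factorSystem N hsc θ hker hr with hEdef
  have hEspec := factorSystem_spec N hsc θ hker hr
  have hEsat := isSaturated_factorSystem hS1p hNsat hsc hEspec
  have hQp : IsPGroup p ↥(⊤ : Subgroup (↥T ⧸ V.subgroupOf T)) :=
    (hS1p.to_quotient _).to_subgroup _
  have hlt : Nat.card ↥(⊤ : Subgroup (↥T ⧸ V.subgroupOf T)) < n := by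
    rw [Subgroup.card_top, ← hn]
    haveI : Nontrivial ↥(V.subgroupOf T) := by
      rw [Subgroup.nontrivial_iff_ne_bot, Ne, Subgroup.subgroupOf_eq_bot]
      intro hd
      exact hVne (le_bot_iff.1 (hd le_rfl hVT'))
    rw [Subgroup.card_eq_card_quotient_mul_card_subgroup (V.subgroupOf T)]
    exact lt_mul_of_one_lt_right Nat.card_pos Finite.one_lt_card
  have hQne : (⊤ : Subgroup (↥T ⧸ V.subgroupOf T)) ≠ ⊥ := by
    intro h
    refine hVT (le_antisymm hVT' fun x hx => (hker ⟨x, hx⟩).1 ?_)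
    have := h.le (Subgroup.mem_top (θ ⟨x, hx⟩))
    rwa [Subgroup.mem_bot] at this
  -- automorphisms of the factor on the whole group come from automorphisms of `T`
  have hautE : IsPGroup p ↥(E.autGroup ⊤) := by
    intro b
    obtain ⟨-, φ, hφ, hP, hφT, hP2, hind⟩ :=
      (hEspec.2.2.2 _ _).1 ((mem_autGroup_iff le_rfl).1 b.2)
    have hpre : preimageAlong θ ⊤ = T :=
      le_antisymm (preimageAlong_le _ _) fun x hx => mem_preimageAlong.2 ⟨hx, Subgroup.mem_top _⟩
    have hχ : φ.comp (Subgroup.inclusion hpre.ge) ∈ N.Hom T := restrict_mem hφ _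
    have hrg : (φ.comp (Subgroup.inclusion hpre.ge)).range = T := by
      refine Subgroup.eq_of_le_of_card_ge (range_le hχ) (le_of_eq ?_)
      exact (Nat.card_congr (MonoidHom.ofInjective (N.injective_of_mem hχ)).toEquiv)
    obtain ⟨k, hk⟩ := hautN ⟨_, toAut_mem hχ hrg⟩
    refine ⟨k, Subtype.ext ?_⟩
    have hk' : (toAut hχ hrg) ^ (p ^ k) = 1 := congrArg Subtype.val hk
    let β : MulAut ↥(⊤ : Subgroup (↥T ⧸ V.subgroupOf T)) := b
    let lift : T → ↥(⊤ : Subgroup (↥T ⧸ V.subgroupOf T)) := fun t => ⟨θ t, Subgroup.mem_top _⟩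
    have step : ∀ (m : ℕ) (t : T),
        ((β ^ m) (lift t) : ↥T ⧸ V.subgroupOf T) = θ (((toAut hχ hrg) ^ m) t) := by
      intro m
      induction m with
      | zero => intro t; rw [pow_zero, pow_zero]; rfl
      | succ m ihm =>
        intro t
        rw [pow_succ', pow_succ', MulAut.mul_apply, MulAut.mul_apply]
        have h1 : (β ^ m) (lift t) = lift (((toAut hχ hrg) ^ m) t) := Subtype.ext (ihm t)
        rw [h1]
        have h2 := hind ⟨((toAut hχ hrg ^ m) t : T), hpre.ge (((toAut hχ hrg) ^ m) t).2⟩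
        refine h2.trans (congrArg θ (Subtype.ext ?_))
        rw [coe_toAut]
        rfl
    refine MulEquiv.ext fun y => ?_
    obtain ⟨y, hy⟩ := y
    obtain ⟨t, rfl⟩ := QuotientGroup.mk'_surjective _ y
    refine Subtype.ext ?_
    rw [Subgroup.coe_pow]
    refine (step (p ^ k) t).trans ?_
    rw [hk']
    rfl
  have hEfoc := ih _ hlt E rfl hQp hEsat hQne hautE
  have hmap : ∀ y (hy : y ∈ T), y ∈ N.focalSubgroup → θ ⟨y, hy⟩ ∈ E.focalSubgroup := by
    intro y hy hyf
    suffices h : N.focalSubgroup ≤ (E.focalSubgroup.comap θ).map T.subtype by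
      obtain ⟨t, ht, htv⟩ := h hyf
      rw [show (⟨y, hy⟩ : T) = t from Subtype.ext htv.symm]
      exact ht
    refine (Subgroup.closure_le _).2 ?_
    rintro _ ⟨P, φ, x, hφ, rfl⟩
    have hxT := dom_le hφ x.2
    have hφT := apply_mem hφ x
    obtain ⟨φ', hφ', hP, hφS, hP2, hind⟩ := exists_induced hS1p hNsat hsc hEspec hφ
    refine ⟨(⟨x, hxT⟩ : T)⁻¹ * ⟨φ x, hφT⟩, ?_, rfl⟩
    show θ _ ∈ E.focalSubgroup
    rw [map_mul, map_inv, ← hind x]
    exact inv_mul_apply_mem_focal hφ' (⟨θ ⟨x, hxT⟩, hP2 x⟩)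
  refine lt_of_le_of_ne (focalSubgroup_le N) fun h => hEfoc.ne (le_antisymm (focalSubgroup_le E) ?_)
  intro y _
  obtain ⟨⟨t, ht⟩, rfl⟩ := QuotientGroup.mk'_surjective _ y
  exact hmap t ht (h.symm.le ht)


/-- The focal subgroup is proper, given a functor controlling transfer in all saturated systems. -/
theorem focal_lt_of_controls [Fact p.Prime] (W : ∀ (Q : Type u) [Group Q], Subgroup Q)
    (hW1 : ∀ (Q : Type u) [Group Q] [Finite Q], IsPGroup p Q → Nontrivial Q → W Q ≠ ⊥)
    (hW2 : ∀ (Q R : Type u) [Group Q] [Group R] [Finite Q], IsPGroup p Q → ∀ φ : Q ≃* R,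
      (W Q).map φ.toMonoidHom = W R)
    (hctrl : ∀ {Ω : Type u} [Group Ω] {S : Subgroup Ω} [Finite S], IsPGroup p S →
      ∀ F : FusionSystem S, F.IsSaturated p →
      ∀ N : FusionSystem (normalizerIn S ((W ↥S).map S.subtype)),
        F.IsNormalizerSystem ((W ↥S).map S.subtype) N → N.focalSubgroup = F.focalSubgroup)
    (n : ℕ) : ∀ {Ω : Type u} [Group Ω] {S : Subgroup Ω} [Finite S] (F : FusionSystem S),
      Nat.card S = n → IsPGroup p S → F.IsSaturated p → S ≠ ⊥ →
      IsPGroup p ↥(F.autGroup S) → F.focalSubgroup < S := by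
  induction n using Nat.strong_induction_on with
  | _ n ih =>
  intro Ω _ S _ F hn hS hF hne haut
  set V := (W ↥S).map S.subtype with hV
  have hVS : V ≤ S := Subgroup.map_subtype_le _
  haveI : Nontrivial S := (Subgroup.nontrivial_iff_ne_bot S).2 hne
  have hVne : V ≠ ⊥ := by
    rw [hV, Ne, Subgroup.map_eq_bot_iff_of_injective _ S.subtype_injective]
    exact hW1 ↥S hS inferInstance
  haveI hchar : (W ↥S).Characteristic :=
    Subgroup.characteristic_iff_map_eq.mpr fun e => hW2 ↥S ↥S hS e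
  have hVn : S ≤ Subgroup.normalizer (V : Set Ω) := by
    intro g hg
    have h1 : (⟨g, hg⟩ : S) ∈ Subgroup.normalizer ((W ↥S : Subgroup S) : Set S) := by
      rw [Subgroup.normalizer_eq_top]
      exact Subgroup.mem_top _
    exact Subgroup.le_normalizer_map S.subtype ⟨_, h1, rfl⟩
  have hS1 : normalizerIn S V = S := inf_eq_left.2 hVn
  set N := normalizerSystem F V hVS with hNdef
  have hNspec := normalizerSystem_spec F V hVS
  have hVfn : F.IsFullyNormalized V := by
    refine ⟨hVS, fun Q hQ => ?_⟩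
    rw [hS1]
    exact Subgroup.card_le_of_le inf_le_left
  have hNsat := normalizerSystem_saturated hS hF hVfn hNspec
  have hfoc := hctrl hS F hF N hNspec
  haveI : Finite ↥(normalizerIn S V) := Finite.of_injective _ (Subgroup.inclusion_injective hS1.le)
  have hS1p : IsPGroup p ↥(normalizerIn S V) := hS.to_le hS1.le
  have hNn : N.IsNormal V := by
    refine ⟨hVS.trans hS1.ge, fun P φ hφ => ?_⟩
    obtain ⟨hφF, hP, hPr, ψ, hψ, hψe, hψV⟩ := (hNspec P).le hφ
    refine ⟨ψ, (hNspec _).ge ⟨hψ, sup_le hP (hVS.trans hS1.ge), fun x => ?_, ψ.comp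
      (Subgroup.inclusion (sup_le le_rfl le_sup_right)), restrict_mem hψ _, fun x => rfl, ?_⟩,
      hψe, hψV⟩
    · rw [hS1]
      exact apply_mem hψ x
    · refine le_antisymm ?_ fun y hy => ?_
      · rintro _ ⟨z, hz, rfl⟩
        exact hψV.le ⟨_, hz, rfl⟩
      · obtain ⟨z, hz, rfl⟩ := hψV.ge hy
        exact ⟨⟨z, Subgroup.mem_sup_left z.2⟩, hz, rfl⟩
  have hautN : IsPGroup p ↥(N.autGroup (normalizerIn S V)) := by
    intro a
    have ha : ((a : MulAut ↥(normalizerIn S V))) ∈ F.autGroup (normalizerIn S V) := by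
      rw [mem_autGroup_iff hS1.le]
      exact ((hNspec _).le ((mem_autGroup_iff le_rfl).1 a.2)).1
    have h2 : IsPGroup p ↥(F.autGroup (normalizerIn S V)) := by
      rw [hS1]
      exact haut
    obtain ⟨k, hk⟩ := h2 ⟨_, ha⟩
    exact ⟨k, Subtype.ext ((Subgroup.coe_pow _ a _).trans
      ((Subgroup.coe_pow _ ⟨_, ha⟩ _).symm.trans (congrArg Subtype.val hk)))⟩
  have h := focal_lt_of_isNormal (N := N) ih ((congrArg (fun T : Subgroup Ω => Nat.card T) hS1).trans hn)
    hS1p hNsat (fun hb => hne (hS1.symm.trans hb)) hVne hautN hNn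
  rw [← hfoc]
  exact lt_of_lt_of_le h hS1.le

end Cfsg.Agent.Fusion
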