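import Cfsg.Agent.Lib.Fusion.Group

/-!
A fusion system realized by an injective homomorphism onto a Sylow subgroup of a finite group is
saturated.
-/

set_option autoImplicit false

namespace Cfsg.Agent.Fusion

open Cfsg Cfsg.FusionSystem

variable {Ω : Type*} [Group Ω] {S : Subgroup Ω} {G : Type*} [Group G]

/-- The image in `G` of a subgroup of `S`. -/
def pushSub (ι : S →* G) (P : Subgroup Ω) : Subgroup G := (P.subgroupOf S).map ι

theorem mem_pushSub {ι : S →* G} {P : Subgroup Ω} {y : G} :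
    y ∈ pushSub ι P ↔ ∃ x : S, (x : Ω) ∈ P ∧ ι x = y := Iff.rfl

theorem apply_mem_pushSub {ι : S →* G} (hι : Function.Injective ι) {P : Subgroup Ω} {x : S} :
    ι x ∈ pushSub ι P ↔ (x : Ω) ∈ P :=
  ⟨fun ⟨_, hy, he⟩ => hι he ▸ hy, fun h => ⟨x, h, rfl⟩⟩

theorem pushSub_le (ι : S →* G) (P : Subgroup Ω) : pushSub ι P ≤ ι.range := by
  rintro _ ⟨x, -, rfl⟩
  exact ⟨x, rfl⟩

/-- The subgroup of `S` lying over a subgroup of `G`. -/
def pullSub (ι : S →* G) (Q : Subgroup G) : Subgroup Ω := (Q.comap ι).map S.subtype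

theorem pullSub_le (ι : S →* G) (Q : Subgroup G) : pullSub ι Q ≤ S := Subgroup.map_subtype_le _

theorem pushSub_pullSub (ι : S →* G) {Q : Subgroup G} (hQ : Q ≤ ι.range) :
    pushSub ι (pullSub ι Q) = Q := by
  rw [pushSub, pullSub, Subgroup.subgroupOf,
    Subgroup.comap_map_eq_self_of_injective S.subtype_injective, Subgroup.map_comap_eq,
    inf_eq_right.2 hQ]

/-- `P` is isomorphic to its image in `G`. -/
noncomputable def pushEquiv {ι : S →* G} (hι : Function.Injective ι) {P : Subgroup Ω} (hP : P ≤ S) :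
    P ≃* pushSub ι P :=
  (Subgroup.subgroupOfEquivOfLe hP).symm.trans (Subgroup.equivMapOfInjective _ ι hι)

theorem coe_pushEquiv {ι : S →* G} (hι : Function.Injective ι) {P : Subgroup Ω} (hP : P ≤ S)
    (x : P) : ((pushEquiv hι hP x : pushSub ι P) : G) = ι ⟨x, hP x.2⟩ := rfl

variable {F : FusionSystem S} {ι : S →* G}

theorem realized_hom_iff (h : F.IsRealizedBy ι) {P : Subgroup Ω} {φ : P →* Ω} :
    φ ∈ F.Hom P ↔ ∃ (hP : P ≤ S) (hφ : ∀ x : P, φ x ∈ S) (g : G),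
      ∀ x : P, ι ⟨φ x, hφ x⟩ = g * ι ⟨x, hP x.2⟩ * g⁻¹ := by
  constructor
  · intro hφ
    obtain ⟨hP, hφS⟩ := F.le_of_mem hφ
    exact ⟨hP, hφS, (h.2 P hP φ hφS).1 hφ⟩
  · rintro ⟨hP, hφS, hg⟩
    exact (h.2 P hP φ hφS).2 hg

/-- A map of `G` between images, read back in `S`. -/
noncomputable def pullHom (hι : Function.Injective ι) {P : Subgroup Ω} (hP : P ≤ S) (g : G)
    (hg : ∀ x : P, g * ι ⟨x, hP x.2⟩ * g⁻¹ ∈ ι.range) : P →* Ω :=
  S.subtype.comp ((MonoidHom.ofInjective hι).symm.toMonoidHom.comp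
    (((MulAut.conj g).toMonoidHom.comp (ι.comp (Subgroup.inclusion hP))).codRestrict ι.range hg))

theorem apply_pullHom (hι : Function.Injective ι) {P : Subgroup Ω} (hP : P ≤ S) (g : G)
    (hg : ∀ x : P, g * ι ⟨x, hP x.2⟩ * g⁻¹ ∈ ι.range) (x : P) (hx : pullHom hι hP g hg x ∈ S) :
    ι ⟨pullHom hι hP g hg x, hx⟩ = g * ι ⟨x, hP x.2⟩ * g⁻¹ := by
  have h := MonoidHom.apply_ofInjective_symm hι
    (⟨g * ι ⟨x, hP x.2⟩ * g⁻¹, hg x⟩ : ι.range)
  exact h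

theorem pullHom_mem (h : F.IsRealizedBy ι) {P : Subgroup Ω} (hP : P ≤ S) (g : G)
    (hg : ∀ x : P, g * ι ⟨x, hP x.2⟩ * g⁻¹ ∈ ι.range) : pullHom h.1 hP g hg ∈ F.Hom P := by
  refine (realized_hom_iff h).2 ⟨hP, fun x => ?_, g, fun x => apply_pullHom h.1 hP g hg x _⟩
  exact Subtype.property _

theorem isSaturated_of_realized [Finite G] {p : ℕ} [Fact p.Prime] (h : F.IsRealizedBy ι)
    (hT : ∃ T : Sylow p G, (T : Subgroup G) = ι.range) : F.IsSaturated p := by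
  obtain ⟨T, hT⟩ := hT
  have hι := h.1
  intro P hP
  obtain ⟨g, hgT, hgN⟩ := exists_conj_normalizer_sylow T ((pushSub_le ι P).trans hT.ge)
  generalize hQ'def : (pushSub ι P).map (MulAut.conj g).toMonoidHom = Q' at hgT hgN
  have hQ'r : Q' ≤ ι.range := hgT.trans hT.le
  set Q := pullSub ι Q' with hQdef
  have hQS : Q ≤ S := pullSub_le ι Q'
  have hpQ : pushSub ι Q = Q' := pushSub_pullSub ι hQ'r
  have hgmem : ∀ x : P, g * ι ⟨x, hP x.2⟩ * g⁻¹ ∈ ι.range := fun x =>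
    hQ'r (hQ'def ▸ ⟨_, ⟨⟨x, hP x.2⟩, x.2, rfl⟩, rfl⟩)
  have hφ := pullHom_mem h hP g hgmem
  refine ⟨Q, ⟨_, hφ, ?_⟩, ⟨hQS, ?_⟩, hQS, ?_⟩
  · ext y
    constructor
    · rintro ⟨x, rfl⟩
      refine ⟨⟨_, apply_mem hφ x⟩, ?_, rfl⟩
      show ι _ ∈ Q'
      rw [apply_pullHom]
      exact hQ'def ▸ ⟨_, ⟨⟨x, hP x.2⟩, x.2, rfl⟩, rfl⟩
    · rintro ⟨s, hs, rfl⟩
      change ι s ∈ Q' at hs
      rw [← hQ'def] at hs
      obtain ⟨_, ⟨x, hx, rfl⟩, he⟩ := hs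
      refine ⟨⟨x, hx⟩, ?_⟩
      refine congrArg Subtype.val (hι ((apply_pullHom hι hP g hgmem ⟨x, hx⟩ (apply_mem hφ _)).trans he) :
        (⟨_, apply_mem hφ _⟩ : S) = s)
  · -- fully automized
    let e : Q ≃* Q' := (pushEquiv hι hQS).trans (MulEquiv.subgroupCongr hpQ)
    have he : ∀ x : Q, ((e x : Q') : G) = ι ⟨x, hQS x.2⟩ := fun x => rfl
    have key : ∀ (α : MulAut Q), (α ∈ F.autGroup Q ↔ MulAut.congr e α ∈ autInducedBy ⊤ Q') ∧
        (α ∈ autInducedBy S Q ↔ MulAut.congr e α ∈ autInducedBy (T : Subgroup G) Q') := by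
      intro α
      have hc : ∀ x : Q, MulAut.congr e α (e x) = e (α x) := fun x => by simp [MulAut.congr]
      refine ⟨?_, ?_⟩
      · rw [mem_autGroup_iff hQS, realized_hom_iff h, mem_autInducedBy_iff]
        constructor
        · rintro ⟨_, _, k, hk⟩
          refine ⟨k, trivial, fun y => ?_⟩
          obtain ⟨x, rfl⟩ := e.surjective y
          rw [hc, he, he]
          exact hk x
        · rintro ⟨k, -, hk⟩
          refine ⟨hQS, fun x => hQS (α x).2, k, fun x => ?_⟩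
          have := hk (e x)
          rw [hc, he, he] at this
          exact this
      · rw [mem_autInducedBy_iff, mem_autInducedBy_iff]
        constructor
        · rintro ⟨k, hk, hk'⟩
          refine ⟨ι ⟨k, hk⟩, hT ▸ ⟨_, rfl⟩, fun y => ?_⟩
          obtain ⟨x, rfl⟩ := e.surjective y
          rw [hc, he, he, ← map_inv, ← map_mul, ← map_mul]
          exact congrArg ι (Subtype.ext (hk' x))
        · rintro ⟨_, hk, hk'⟩
          obtain ⟨⟨k, hkS⟩, rfl⟩ : _ ∈ ι.range := hT ▸ hk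
          refine ⟨k, hkS, fun x => ?_⟩
          have := hk' (e x)
          rw [hc, he, he, ← map_inv, ← map_mul, ← map_mul] at this
          exact congrArg Subtype.val (hι this)
    obtain ⟨R, hR⟩ := aut_sylow_of_normalizer_sylow T hgN
    have hmap : (F.autGroup Q).map (MulAut.congr e).toMonoidHom = autInducedBy ⊤ Q' := by
      ext β
      refine ⟨?_, fun hβ => ⟨(MulAut.congr e).symm β, ?_, MulEquiv.apply_symm_apply _ β⟩⟩
      · rintro ⟨α, hα, rfl⟩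
        exact (key α).1.1 hα
      · exact (key _).1.2 (by rwa [MulEquiv.apply_symm_apply])
    let E : F.autGroup Q ≃* autInducedBy (⊤ : Subgroup G) Q' :=
      ((MulAut.congr e).subgroupMap (F.autGroup Q)).trans (MulEquiv.subgroupCongr hmap)
    refine ⟨R.mapSurjective (f := E.symm.toMonoidHom) E.symm.surjective, ?_⟩
    show ((R : Subgroup (autInducedBy (⊤ : Subgroup G) Q')).map E.symm.toMonoidHom) = _
    rw [hR]
    ext α
    constructor
    · rintro ⟨β, hβ, rfl⟩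
      refine (key _).2.2 ?_
      have hE : ((E (E.symm β) : autInducedBy (⊤ : Subgroup G) Q') : MulAut Q') ∈
          autInducedBy (T : Subgroup G) Q' := by rw [MulEquiv.apply_symm_apply]; exact hβ
      exact hE
    · intro hα
      exact ⟨E α, (key α).2.1 hα, E.symm_apply_apply α⟩
  · -- receptive
    intro P₁ φ hφ₁ hr
    obtain ⟨hP₁, hφS, k, hk⟩ := (realized_hom_iff h).1 hφ₁
    have hkQ : ∀ y : pushSub ι P₁, k * (y : G) * k⁻¹ ∈ (T : Subgroup G) := by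
      rintro ⟨_, x, hx, rfl⟩
      rw [hT]
      exact ⟨_, hk ⟨x, hx⟩⟩
    have hφ' : conjHom (pushSub ι P₁) k ∈ (groupFusionSystem (T : Subgroup G)).Hom (pushSub ι P₁) :=
      ⟨(pushSub_le ι P₁).trans hT.ge, hkQ, k, fun _ => rfl⟩
    have hr' : (conjHom (pushSub ι P₁) k).range = Q' := by
      rw [range_conjHom, ← hpQ]
      ext y
      constructor
      · rintro ⟨_, ⟨x, hx, rfl⟩, rfl⟩
        exact ⟨⟨_, hφS ⟨x, hx⟩⟩, hr.le ⟨⟨x, hx⟩, rfl⟩, hk ⟨x, hx⟩⟩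
      · rintro ⟨⟨q, hqS⟩, hq, rfl⟩
        obtain ⟨⟨x, hx⟩, rfl⟩ := hr.ge hq
        exact ⟨_, ⟨⟨x, hP₁ hx⟩, hx, rfl⟩, (hk ⟨x, hx⟩).symm⟩
    obtain ⟨ψ', hψ', hψe⟩ := (group_isReceptive T hgT hgN).2 _ _ hφ' hr'
    obtain ⟨-, hψS, m, hm⟩ := mem_groupHom.1 hψ'
    have hext : ∀ x : extender S P₁ φ, ∃ hx : (x : Ω) ∈ S,
        ι ⟨x, hx⟩ ∈ extender (T : Subgroup G) (pushSub ι P₁) (conjHom (pushSub ι P₁) k) := by
      rintro ⟨x, hx⟩
      obtain ⟨hxS, hxN, s, hsS, hs⟩ := mem_extender_iff.1 hx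
      refine ⟨hxS, mem_extender_iff.2 ⟨hT ▸ ⟨_, rfl⟩, ?_, ι ⟨s, hsS⟩, hT ▸ ⟨_, rfl⟩, ?_⟩⟩
      · refine Subgroup.mem_normalizer_iff.2 fun y => ⟨?_, ?_⟩
        · rintro ⟨z, hz, rfl⟩
          exact ⟨⟨x, hxS⟩ * z * (⟨x, hxS⟩)⁻¹, (Subgroup.mem_normalizer_iff.1 hxN _).1 hz,
            by simp⟩
        · rintro ⟨z, hz, hzy⟩
          refine ⟨(⟨x, hxS⟩ : S)⁻¹ * z * ⟨x, hxS⟩,
            (Subgroup.mem_normalizer_iff''.1 hxN _).1 hz, ?_⟩
          rw [map_mul, map_mul, map_inv, hzy]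
          group
      · rintro ⟨_, z, hz, rfl⟩ hy
        have hxz : x * (z : Ω) * x⁻¹ ∈ P₁ := (Subgroup.mem_normalizer_iff.1 hxN _).1 hz
        have h1 : k * ι ⟨x * (z : Ω) * x⁻¹, hP₁ hxz⟩ * k⁻¹ =
            ι ⟨s, hsS⟩ * (k * ι z * k⁻¹) * (ι ⟨s, hsS⟩)⁻¹ := by
          rw [← hk ⟨_, hxz⟩, ← hk ⟨z, hz⟩, ← map_inv, ← map_mul, ← map_mul]
          exact congrArg ι (Subtype.ext (hs ⟨z, hz⟩ hxz))
        rw [← map_inv ι, ← map_mul, ← map_mul] at hy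
        show k * (ι ⟨x, hxS⟩ * ι z * (ι ⟨x, hxS⟩)⁻¹) * k⁻¹ = _
        rw [← map_inv ι, ← map_mul, ← map_mul]
        exact h1
    have hNS : extender S P₁ φ ≤ S := fun x hx => (hext ⟨x, hx⟩).1
    have hmem : ∀ x : extender S P₁ φ, m * ι ⟨x, hNS x.2⟩ * m⁻¹ ∈ ι.range := fun x => by
      obtain ⟨hx, hx'⟩ := hext x
      have := hψS ⟨_, hx'⟩
      rw [hm] at this
      exact hT.le this
    have hψ := pullHom_mem h hNS m hmem
    refine ⟨_, hψ, fun x hxP hxN => ?_⟩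
    refine congrArg Subtype.val (hι ?_ : (⟨_, apply_mem hψ _⟩ : S) = ⟨_, hφS ⟨x, hxP⟩⟩)
    rw [apply_pullHom, hk]
    obtain ⟨hx, hx'⟩ := hext ⟨x, hxN⟩
    exact (hm ⟨_, hx'⟩).symm.trans (hψe (ι ⟨x, hx⟩) ⟨⟨x, hx⟩, hxP, rfl⟩ hx')

end Cfsg.Agent.Fusion

namespace Cfsg.Agent.Fusion

open Cfsg Cfsg.FusionSystem

variable {Ω : Type*} [Group Ω] {S : Subgroup Ω} {G : Type*} [Group G]

/-- The fusion system that `G` induces on `S` along an injective homomorphism `ι : S →* G`. -/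
noncomputable def inducedSystem (ι : S →* G) (hι : Function.Injective ι) : FusionSystem S where
  Hom P := {φ | ∃ (hP : P ≤ S) (hφ : ∀ x : P, φ x ∈ S) (g : G),
    ∀ x : P, ι ⟨φ x, hφ x⟩ = g * ι ⟨x, hP x.2⟩ * g⁻¹}
  le_of_mem h := ⟨h.1, h.2.1⟩
  injective_of_mem := by
    rintro P φ ⟨hP, hφ, g, hg⟩ a b hab
    have h1 : g * ι ⟨a, hP a.2⟩ * g⁻¹ = g * ι ⟨b, hP b.2⟩ * g⁻¹ :=
      (hg a).symm.trans ((congrArg ι (Subtype.ext hab)).trans (hg b))
    exact Subtype.ext (congrArg (fun s : S => (s : Ω)) (hι (mul_left_cancel (mul_right_cancel h1))))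
  conj_mem := by
    intro P g hP hg
    refine ⟨hP, fun x => S.mul_mem (S.mul_mem hg (hP x.2)) (S.inv_mem hg), ι ⟨g, hg⟩, fun x => ?_⟩
    rw [← map_inv, ← map_mul, ← map_mul]
    rfl
  comp_mem := by
    rintro P Q φ ψ ⟨hP, hφ, g, hg⟩ ⟨hQ, hψ, k, hk⟩ h
    refine ⟨hP, fun x => hψ _, k * g, fun x => ?_⟩
    refine (hk (φ.codRestrict Q h x)).trans ?_
    show k * ι ⟨φ x, _⟩ * k⁻¹ = _
    rw [show ι ⟨φ x, _⟩ = g * ι ⟨x, hP x.2⟩ * g⁻¹ from hg x]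
    group
  inv_mem := by
    rintro P φ ⟨hP, hφ, g, hg⟩
    have hinj : Function.Injective φ := fun a b hab => by
      have h1 : g * ι ⟨a, hP a.2⟩ * g⁻¹ = g * ι ⟨b, hP b.2⟩ * g⁻¹ :=
        (hg a).symm.trans ((congrArg ι (Subtype.ext hab)).trans (hg b))
      exact Subtype.ext (congrArg (fun s : S => (s : Ω)) (hι (mul_left_cancel (mul_right_cancel h1))))
    let θ : φ.range →* Ω := P.subtype.comp (MonoidHom.ofInjective hinj).symm.toMonoidHom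
    have hθ : ∀ x : P, θ ⟨φ x, ⟨x, rfl⟩⟩ = (x : Ω) := fun x =>
      congrArg Subtype.val ((MonoidHom.ofInjective hinj).symm_apply_apply x)
    refine ⟨θ, ⟨?_, fun y => hP ((MonoidHom.ofInjective hinj).symm y).2, g⁻¹, ?_⟩, hθ⟩
    · rintro _ ⟨x, rfl⟩
      exact hφ x
    · rintro ⟨_, x, rfl⟩
      have h1 := hg x
      rw [show ι ⟨θ ⟨φ x, _⟩, _⟩ = ι ⟨x, hP x.2⟩ from congrArg ι (Subtype.ext (hθ x)), h1]
      group

theorem inducedSystem_realized (ι : S →* G) (hι : Function.Injective ι) :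
    (inducedSystem ι hι).IsRealizedBy ι :=
  ⟨hι, fun _ hP _ hφ => ⟨fun ⟨_, _, hg⟩ => hg, fun hg => ⟨hP, hφ, hg⟩⟩⟩

end Cfsg.Agent.Fusion
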