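import Cfsg.Agent.Lib.Fusion.Group
import Cfsg.Agent.Lib.Fusion.Realized
import Cfsg.Agent.Lib.PCore.Basic
import Cfsg.Prelude.Def_FusionComponents

/-!
Isomorphisms of fusion systems along an injective homomorphism of `S`, transport of saturation and
related properties, systems realized by a finite group, and systems with a model.
-/

set_option autoImplicit false

namespace Cfsg.Agent.Fusion

open Cfsg Cfsg.FusionSystem

universe u v

variable {Ω : Type u} [Group Ω] {S : Subgroup Ω} {Ω' : Type v} [Group Ω'] {S' : Subgroup Ω'}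

theorem mem_imageAlong {α : S →* Ω'} {P : Subgroup Ω} (hP : P ≤ S) {y : Ω'} :
    y ∈ imageAlong α P ↔ ∃ x : P, α ⟨x, hP x.2⟩ = y := by
  constructor
  · rintro ⟨s, hs, rfl⟩
    exact ⟨⟨s, hs⟩, rfl⟩
  · rintro ⟨x, rfl⟩
    exact ⟨_, x.2, rfl⟩

theorem imageAlong_le_range (α : S →* Ω') (P : Subgroup Ω) : imageAlong α P ≤ α.range :=
  Subgroup.map_le_range _ _

theorem imageAlong_mono {α : S →* Ω'} {P Q : Subgroup Ω} (h : P ≤ Q) :
    imageAlong α P ≤ imageAlong α Q :=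
  Subgroup.map_mono fun _ hx => h hx

theorem imageAlong_sup {α : S →* Ω'} {P Q : Subgroup Ω} (hP : P ≤ S) (hQ : Q ≤ S) :
    imageAlong α (P ⊔ Q) = imageAlong α P ⊔ imageAlong α Q := by
  rw [imageAlong, Subgroup.subgroupOf_sup hP hQ, Subgroup.map_sup]
  rfl

/-- `P` and its image under an injective homomorphism of `S`. -/
noncomputable def imgEquiv {α : S →* Ω'} (hα : Function.Injective α) {P : Subgroup Ω}
    (hP : P ≤ S) : P ≃* imageAlong α P :=
  (Subgroup.subgroupOfEquivOfLe hP).symm.trans (Subgroup.equivMapOfInjective _ α hα)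

@[simp] theorem coe_imgEquiv {α : S →* Ω'} (hα : Function.Injective α) {P : Subgroup Ω}
    (hP : P ≤ S) (x : P) : ((imgEquiv hα hP x : imageAlong α P) : Ω') = α ⟨x, hP x.2⟩ := rfl

/-- A homomorphism `P → S` read through `α`. -/
noncomputable def transHom {α : S →* Ω'} (hα : Function.Injective α) {P : Subgroup Ω}
    (hP : P ≤ S) (φ : P →* Ω) (hφ : ∀ x : P, φ x ∈ S) : imageAlong α P →* Ω' :=
  (α.comp (φ.codRestrict S hφ)).comp (imgEquiv hα hP).symm.toMonoidHom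

theorem transHom_apply {α : S →* Ω'} (hα : Function.Injective α) {P : Subgroup Ω}
    (hP : P ≤ S) {φ : P →* Ω} (hφ : ∀ x : P, φ x ∈ S) (x : P) :
    transHom hα hP φ hφ (imgEquiv hα hP x) = α ⟨φ x, hφ x⟩ := by
  simp only [transHom, MonoidHom.comp_apply, MulEquiv.coe_toMonoidHom,
    MulEquiv.symm_apply_apply]
  rfl

/-- `α` is an isomorphism of fusion systems from `F` over `S` onto `F'` over `S'`. -/
structure IsIsoAlong (F : FusionSystem S) (F' : FusionSystem S') (α : S →* Ω') : Prop where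
  inj : Function.Injective α
  range_eq : α.range = S'
  hom_iff : ∀ {P : Subgroup Ω} (hP : P ≤ S) (φ : P →* Ω) (hφ : ∀ x : P, φ x ∈ S),
    φ ∈ F.Hom P ↔ transHom inj hP φ hφ ∈ F'.Hom (imageAlong α P)

namespace IsIsoAlong

variable {F : FusionSystem S} {F' : FusionSystem S'} {α : S →* Ω'}

theorem img_le (h : IsIsoAlong F F' α) (P : Subgroup Ω) : imageAlong α P ≤ S' :=
  (imageAlong_le_range α P).trans h.range_eq.le

theorem exists_preimage (h : IsIsoAlong F F' α) {P' : Subgroup Ω'} (hP' : P' ≤ S') :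
    ∃ P ≤ S, imageAlong α P = P' := by
  refine ⟨(P'.comap α).map S.subtype, Subgroup.map_subtype_le _, ?_⟩
  rw [imageAlong, Subgroup.subgroupOf,
    Subgroup.comap_map_eq_self_of_injective S.subtype_injective,
    Subgroup.map_comap_eq_self (hP'.trans h.range_eq.ge)]

theorem le_of_img_le (h : IsIsoAlong F F' α) {P Q : Subgroup Ω} (hP : P ≤ S)
    (hPQ : imageAlong α P ≤ imageAlong α Q) : P ≤ Q := fun x hx => by
  obtain ⟨z, hz, hzx⟩ := hPQ ((mem_imageAlong hP).2 ⟨⟨x, hx⟩, rfl⟩)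
  have := h.inj hzx
  rw [this] at hz
  exact hz

theorem eq_of_img_eq (h : IsIsoAlong F F' α) {P Q : Subgroup Ω} (hP : P ≤ S) (hQ : Q ≤ S)
    (he : imageAlong α P = imageAlong α Q) : P = Q :=
  le_antisymm (h.le_of_img_le hP he.le) (h.le_of_img_le hQ he.ge)

theorem card_img (h : IsIsoAlong F F' α) {P : Subgroup Ω} (hP : P ≤ S) :
    Nat.card (imageAlong α P) = Nat.card P :=
  (Nat.card_congr (imgEquiv h.inj hP).toEquiv).symm

/-- Every map of `F'` comes from one of `F`. -/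
theorem exists_hom (h : IsIsoAlong F F' α) {P : Subgroup Ω} (hP : P ≤ S)
    {φ' : imageAlong α P →* Ω'} (hφ' : φ' ∈ F'.Hom (imageAlong α P)) :
    ∃ φ ∈ F.Hom P, ∃ hφ : ∀ x : P, φ x ∈ S,
      ∀ x : P, α ⟨φ x, hφ x⟩ = φ' (imgEquiv h.inj hP x) := by
  let a := MonoidHom.ofInjective h.inj
  have hr : ∀ y, φ' y ∈ α.range := fun y => h.range_eq.ge (apply_mem hφ' y)
  let f : P →* S := a.symm.toMonoidHom.comp
    ((φ'.codRestrict α.range hr).comp (imgEquiv h.inj hP).toMonoidHom)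
  have hf : ∀ x : P, α (f x) = φ' (imgEquiv h.inj hP x) := fun x =>
    congrArg Subtype.val (a.apply_symm_apply ⟨φ' (imgEquiv h.inj hP x), hr _⟩)
  refine ⟨S.subtype.comp f, ?_, fun x => (f x).2, hf⟩
  rw [h.hom_iff hP _ fun x => (f x).2]
  convert hφ' using 1
  refine MonoidHom.ext fun y => ?_
  obtain ⟨x, rfl⟩ := (imgEquiv h.inj hP).surjective y
  exact (transHom_apply h.inj hP (φ := S.subtype.comp f) (fun x => (f x).2) x).trans (hf x)

theorem trans_mem (h : IsIsoAlong F F' α) {P : Subgroup Ω} {φ : P →* Ω} (hφ : φ ∈ F.Hom P) :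
    transHom h.inj (dom_le hφ) φ (apply_mem hφ) ∈ F'.Hom (imageAlong α P) :=
  (h.hom_iff _ φ _).1 hφ

theorem range_trans (h : IsIsoAlong F F' α) {P : Subgroup Ω} {φ : P →* Ω} (hP : P ≤ S)
    (hφ : ∀ x, φ x ∈ S) :
    (transHom h.inj hP φ hφ).range = imageAlong α φ.range := by
  ext y
  constructor
  · rintro ⟨z, rfl⟩
    obtain ⟨x, rfl⟩ := (imgEquiv h.inj hP).surjective z
    rw [transHom_apply]
    exact ⟨_, ⟨x, rfl⟩, rfl⟩
  · rintro ⟨s, ⟨x, hx⟩, rfl⟩
    exact ⟨imgEquiv h.inj hP x, by rw [transHom_apply]; exact congrArg α (Subtype.ext hx)⟩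

theorem isConj_img (h : IsIsoAlong F F' α) {P Q : Subgroup Ω} (hc : F.IsConj P Q) :
    F'.IsConj (imageAlong α P) (imageAlong α Q) := by
  obtain ⟨φ, hφ, rfl⟩ := hc
  exact ⟨_, h.trans_mem hφ, h.range_trans _ _⟩

theorem isConj_of_img (h : IsIsoAlong F F' α) {P Q : Subgroup Ω} (hP : P ≤ S) (hQ : Q ≤ S)
    (hc : F'.IsConj (imageAlong α P) (imageAlong α Q)) : F.IsConj P Q := by
  obtain ⟨φ', hφ', hr⟩ := hc
  obtain ⟨φ, hφ, hφS, hx⟩ := h.exists_hom hP hφ'
  refine ⟨φ, hφ, h.eq_of_img_eq (range_le hφ) hQ ?_⟩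
  rw [← h.range_trans hP hφS, ← hr]
  congr 1
  refine MonoidHom.ext fun y => ?_
  obtain ⟨x, rfl⟩ := (imgEquiv h.inj hP).surjective y
  rw [transHom_apply, hx]

theorem img_centralizerIn (h : IsIsoAlong F F' α) {P : Subgroup Ω} (hP : P ≤ S) :
    imageAlong α (centralizerIn S P) = centralizerIn S' (imageAlong α P) := by
  apply le_antisymm
  · rintro _ ⟨s, hs, rfl⟩
    refine mem_centralizerIn.2 ⟨h.range_eq.le ⟨s, rfl⟩, fun y hy => ?_⟩
    obtain ⟨x, rfl⟩ := (mem_imageAlong hP).1 hy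
    rw [← map_mul, ← map_mul]
    exact congrArg α (Subtype.ext ((mem_centralizerIn.1 hs).2 x x.2))
  · intro y hy
    obtain ⟨hyS, hc⟩ := mem_centralizerIn.1 hy
    obtain ⟨s, rfl⟩ := h.range_eq.ge hyS
    refine ⟨s, mem_centralizerIn.2 ⟨s.2, fun x hx => ?_⟩, rfl⟩
    have h1 := hc _ ((mem_imageAlong hP).2 ⟨⟨x, hx⟩, rfl⟩)
    rw [← map_mul, ← map_mul] at h1
    exact congrArg Subtype.val (h.inj h1)

theorem img_normalizerIn (h : IsIsoAlong F F' α) {P : Subgroup Ω} (hP : P ≤ S) :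
    imageAlong α (normalizerIn S P) = normalizerIn S' (imageAlong α P) := by
  have key : ∀ (s : S) (x : Ω) (hx : x ∈ S),
      α s * α ⟨x, hx⟩ * (α s)⁻¹ ∈ imageAlong α P ↔ (s : Ω) * x * (s : Ω)⁻¹ ∈ P := by
    intro s x hx
    rw [← map_inv, ← map_mul, ← map_mul]
    constructor
    · intro h1
      obtain ⟨z, hz⟩ := (mem_imageAlong hP).1 h1
      have h2 : (z : Ω) = (s : Ω) * x * (s : Ω)⁻¹ := congrArg Subtype.val (h.inj hz)
      exact h2 ▸ z.2
    · intro h1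
      exact (mem_imageAlong hP).2 ⟨⟨_, h1⟩, congrArg α (Subtype.ext rfl)⟩
  apply le_antisymm
  · rintro _ ⟨s, hs, rfl⟩
    refine ⟨h.range_eq.le ⟨s, rfl⟩, Subgroup.mem_normalizer_iff.2 fun y => ⟨fun hy => ?_, fun hy => ?_⟩⟩
    · obtain ⟨x, rfl⟩ := (mem_imageAlong hP).1 hy
      exact (key s x (hP x.2)).2 ((Subgroup.mem_normalizer_iff.1 hs.2 x).1 x.2)
    · obtain ⟨t, ht⟩ := imageAlong_le_range α P hy
      have hy' : y = α (s⁻¹ * t * s) := by
        rw [map_mul, map_mul, map_inv, ht]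
        group
      rw [hy'] at hy ⊢
      have h1 := (key s _ (s⁻¹ * t * s).2).1 hy
      have h2 := (Subgroup.mem_normalizer_iff.1 hs.2 _).2 h1
      exact (mem_imageAlong hP).2 ⟨⟨_, h2⟩, rfl⟩
  · intro y hy
    obtain ⟨hyS, hN⟩ := hy
    obtain ⟨s, rfl⟩ := h.range_eq.ge hyS
    refine ⟨s, ⟨s.2, Subgroup.mem_normalizer_iff.2 fun x => ⟨fun hx => ?_, fun hx => ?_⟩⟩, rfl⟩
    · exact (key s x (hP hx)).1
        ((Subgroup.mem_normalizer_iff.1 hN _).1 ((mem_imageAlong hP).2 ⟨⟨x, hx⟩, rfl⟩))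
    · have hxS : x ∈ S := by
        have := S.mul_mem (S.mul_mem (S.inv_mem s.2) (hP hx)) s.2
        simpa [mul_assoc] using this
      obtain ⟨z, hz⟩ := (mem_imageAlong hP).1
        ((Subgroup.mem_normalizer_iff.1 hN _).2 ((key s x hxS).2 hx))
      have h2 : (z : Ω) = x := congrArg Subtype.val (h.inj hz)
      exact h2 ▸ z.2

theorem map_autInducedBy (h : IsIsoAlong F F' α) {P : Subgroup Ω} (hP : P ≤ S) :
    (autInducedBy S P).map (MulAut.congr (imgEquiv h.inj hP)).toMonoidHom =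
      autInducedBy S' (imageAlong α P) := by
  have key : ∀ (β : MulAut P) (s : S),
      (∀ x : P, ((β x : P) : Ω) = s * (x : Ω) * (s : Ω)⁻¹) ↔
      ∀ y, ((MulAut.congr (imgEquiv h.inj hP) β y : imageAlong α P) : Ω') =
        α s * (y : Ω') * (α s)⁻¹ := by
    intro β s
    constructor
    · intro hb y
      obtain ⟨x, rfl⟩ := (imgEquiv h.inj hP).surjective y
      show ((imgEquiv h.inj hP (β ((imgEquiv h.inj hP).symm _)) : imageAlong α P) : Ω') = _
      rw [MulEquiv.symm_apply_apply, coe_imgEquiv, coe_imgEquiv, ← map_inv, ← map_mul, ← map_mul]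
      exact congrArg α (Subtype.ext (hb x))
    · intro hb x
      have h1 := hb (imgEquiv h.inj hP x)
      change ((imgEquiv h.inj hP (β ((imgEquiv h.inj hP).symm _)) : imageAlong α P) : Ω') = _ at h1
      rw [MulEquiv.symm_apply_apply, coe_imgEquiv, coe_imgEquiv, ← map_inv, ← map_mul,
        ← map_mul] at h1
      exact congrArg Subtype.val (h.inj h1)
  ext γ
  obtain ⟨β, rfl⟩ := (MulAut.congr (imgEquiv h.inj hP)).surjective γ
  rw [mem_autInducedBy_iff]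
  constructor
  · rintro ⟨β', hβ', he⟩
    obtain rfl : β' = β := (MulAut.congr _).injective he
    obtain ⟨g, hg, hx⟩ := mem_autInducedBy_iff.1 hβ'
    exact ⟨α ⟨g, hg⟩, h.range_eq.le ⟨_, rfl⟩, (key _ ⟨g, hg⟩).1 hx⟩
  · rintro ⟨g, hg, hx⟩
    obtain ⟨s, rfl⟩ := h.range_eq.ge hg
    exact ⟨β, mem_autInducedBy_iff.2 ⟨s, s.2, (key β s).2 hx⟩, rfl⟩

theorem map_autGroup (h : IsIsoAlong F F' α) {P : Subgroup Ω} (hP : P ≤ S) :
    (F.autGroup P).map (MulAut.congr (imgEquiv h.inj hP)).toMonoidHom =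
      F'.autGroup (imageAlong α P) := by
  ext γ
  obtain ⟨β, rfl⟩ := (MulAut.congr (imgEquiv h.inj hP)).surjective γ
  rw [mem_autGroup_iff (h.img_le P)]
  have he : (imageAlong α P).subtype.comp (MulAut.congr (imgEquiv h.inj hP) β).toMonoidHom =
      transHom h.inj hP (P.subtype.comp β.toMonoidHom) (fun x => hP (β x).2) := by
    refine MonoidHom.ext fun y => ?_
    obtain ⟨x, rfl⟩ := (imgEquiv h.inj hP).surjective y
    rw [transHom_apply]
    show ((imgEquiv h.inj hP (β ((imgEquiv h.inj hP).symm _)) : imageAlong α P) : Ω') = _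
    rw [MulEquiv.symm_apply_apply]
    rfl
  rw [he, ← h.hom_iff hP _ fun x => hP (β x).2, ← mem_autGroup_iff hP]
  constructor
  · rintro ⟨β', hβ', he'⟩
    obtain rfl : β' = β := (MulAut.congr _).injective he'
    exact hβ'
  · exact fun hb => ⟨β, hb, rfl⟩

theorem img_extender (h : IsIsoAlong F F' α) {P : Subgroup Ω} (hP : P ≤ S) {φ : P →* Ω}
    (hφ : ∀ x : P, φ x ∈ S) :
    imageAlong α (extender S P φ) = extender S' (imageAlong α P) (transHom h.inj hP φ hφ) := by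
  have hnorm := h.img_normalizerIn hP
  have key : ∀ (s t : S), (s : Ω) ∈ Subgroup.normalizer (P : Set Ω) →
      ((∀ (x : P) (hx : (s : Ω) * x * (s : Ω)⁻¹ ∈ P), φ ⟨s * x * (s : Ω)⁻¹, hx⟩ = t * φ x * (t : Ω)⁻¹) ↔
      ∀ (y : imageAlong α P) (hy : α s * (y : Ω') * (α s)⁻¹ ∈ imageAlong α P),
        transHom h.inj hP φ hφ ⟨α s * y * (α s)⁻¹, hy⟩ =
          α t * transHom h.inj hP φ hφ y * (α t)⁻¹) := by
    intro s t hs
    have he : ∀ (x : P) (hx : (s : Ω) * x * (s : Ω)⁻¹ ∈ P)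
        (hy : α s * (imgEquiv h.inj hP x : Ω') * (α s)⁻¹ ∈ imageAlong α P),
        (⟨α s * (imgEquiv h.inj hP x : Ω') * (α s)⁻¹, hy⟩ : imageAlong α P) =
          imgEquiv h.inj hP ⟨_, hx⟩ := by
      intro x hx hy
      apply Subtype.ext
      show α s * α ⟨x, hP x.2⟩ * (α s)⁻¹ = α ⟨_, hP hx⟩
      rw [← map_inv, ← map_mul, ← map_mul]
      rfl
    constructor
    · intro hh y hy
      obtain ⟨x, rfl⟩ := (imgEquiv h.inj hP).surjective y
      have hx := (Subgroup.mem_normalizer_iff.1 hs x).1 x.2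
      rw [he x hx hy, transHom_apply, transHom_apply, ← map_inv, ← map_mul, ← map_mul]
      exact congrArg α (Subtype.ext (hh x hx))
    · intro hh x hx
      have hy : α s * (imgEquiv h.inj hP x : Ω') * (α s)⁻¹ ∈ imageAlong α P := by
        rw [coe_imgEquiv, ← map_inv, ← map_mul, ← map_mul]
        exact (mem_imageAlong hP).2 ⟨⟨_, hx⟩, rfl⟩
      have h1 := hh (imgEquiv h.inj hP x) hy
      rw [he x hx hy, transHom_apply, transHom_apply, ← map_inv, ← map_mul, ← map_mul] at h1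
      exact congrArg Subtype.val (h.inj h1)
  apply le_antisymm
  · rintro _ ⟨s, hs, rfl⟩
    obtain ⟨hsS, hsN, t, ht, hh⟩ := mem_extender_iff.1 hs
    exact mem_extender_iff.2 ⟨h.range_eq.le ⟨s, rfl⟩, (hnorm.le ⟨s, ⟨hsS, hsN⟩, rfl⟩).2,
      α ⟨t, ht⟩, h.range_eq.le ⟨_, rfl⟩, (key s ⟨t, ht⟩ hsN).1 hh⟩
  · intro y hy
    obtain ⟨hyS, hyN, t', ht', hh⟩ := mem_extender_iff.1 hy
    obtain ⟨s, hs, rfl⟩ := hnorm.ge ⟨hyS, hyN⟩
    obtain ⟨t, rfl⟩ := h.range_eq.ge ht'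
    exact ⟨s, mem_extender_iff.2 ⟨s.2, hs.2, t, t.2, (key s t hs.2).2 hh⟩, rfl⟩

theorem isReceptive (h : IsIsoAlong F F' α) {Q : Subgroup Ω} (hQ : Q ≤ S)
    (hrec : F'.IsReceptive (imageAlong α Q)) : F.IsReceptive Q := by
  refine ⟨hQ, fun P φ hφ hr => ?_⟩
  have hP := dom_le hφ
  have hN : extender S P φ ≤ S := (extender_le S P φ).trans inf_le_left
  obtain ⟨ψ', hψ', hext⟩ := exists_extension hrec (h.trans_mem hφ)
    (by rw [h.range_trans, hr]) (h.img_extender hP (apply_mem hφ)).le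
  obtain ⟨ψ, hψ, hψS, hx⟩ := h.exists_hom hN hψ'
  refine ⟨ψ, hψ, fun x hxP hxN => ?_⟩
  have h1 := hx ⟨x, hxN⟩
  have h2 := hext (α ⟨x, hP hxP⟩) ((mem_imageAlong hP).2 ⟨⟨x, hxP⟩, rfl⟩)
    ((mem_imageAlong hN).2 ⟨⟨x, hxN⟩, rfl⟩)
  have h3 : ψ' (imgEquiv h.inj hN ⟨x, hxN⟩) = transHom h.inj hP φ (apply_mem hφ)
      (imgEquiv h.inj hP ⟨x, hxP⟩) := h2
  rw [h3, transHom_apply] at h1
  exact congrArg Subtype.val (h.inj h1)

theorem isFullyAutomized [Finite S] {p : ℕ} [Fact p.Prime] (h : IsIsoAlong F F' α)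
    {Q : Subgroup Ω} (hQ : Q ≤ S) (ha : F'.IsFullyAutomized p (imageAlong α Q)) :
    F.IsFullyAutomized p Q := by
  refine ⟨hQ, ?_⟩
  have : Finite Q := finite_of_le hQ
  have : Finite (MulAut Q) := Finite.of_injective (fun e : MulAut Q => e.toEquiv)
    fun a b hab => MulEquiv.toEquiv_injective hab
  have : Finite (MulAut (imageAlong α Q)) :=
    Finite.of_equiv _ (MulAut.congr (imgEquiv h.inj hQ)).toEquiv
  show IsSylowIn p (autInducedBy S Q) (F.autGroup Q)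
  rw [isSylowIn_iff_card (autInducedBy_le_autGroup F hQ)]
  have h1 : IsSylowIn p (autInducedBy S' (imageAlong α Q)) (F'.autGroup (imageAlong α Q)) := ha.2
  rw [isSylowIn_iff_card (autInducedBy_le_autGroup F' (h.img_le Q)), ← h.map_autGroup hQ,
    ← h.map_autInducedBy hQ] at h1
  have hinj : Function.Injective (MulAut.congr (imgEquiv h.inj hQ)).toMonoidHom :=
    (MulAut.congr (imgEquiv h.inj hQ)).injective
  rwa [Subgroup.card_map_of_injective hinj, Subgroup.card_map_of_injective hinj] at h1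

theorem isSaturated [Finite S] {p : ℕ} [Fact p.Prime] (h : IsIsoAlong F F' α)
    (hF' : F'.IsSaturated p) : F.IsSaturated p := by
  intro P hP
  obtain ⟨Q', hc, ha, hr⟩ := hF' _ (h.img_le P)
  obtain ⟨Q, hQ, rfl⟩ := h.exists_preimage ha.1
  exact ⟨Q, h.isConj_of_img hP hQ hc, h.isFullyAutomized hQ ha, h.isReceptive hQ hr⟩

theorem isCentric (h : IsIsoAlong F F' α) {Q : Subgroup Ω} (hQ : Q ≤ S)
    (hc : F'.IsCentric (imageAlong α Q)) : F.IsCentric Q := by
  refine ⟨hQ, fun R hR => ?_⟩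
  have hRS := (isConj_le hR).2
  refine h.le_of_img_le (centralizerIn_le S R) ?_
  rw [h.img_centralizerIn hRS]
  exact hc.2 _ (h.isConj_img hR)

theorem isNormal (h : IsIsoAlong F F' α) {Q : Subgroup Ω} (hQ : Q ≤ S)
    (hn : F'.IsNormal (imageAlong α Q)) : F.IsNormal Q := by
  refine ⟨hQ, fun P φ hφ => ?_⟩
  have hP := dom_le hφ
  obtain ⟨ψ', hψ', hext, hmap⟩ := hn.2 _ _ (h.trans_mem hφ)
  have hPQ : P ⊔ Q ≤ S := sup_le hP hQ
  have e := imageAlong_sup (α := α) hP hQ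
  let ψ'' : imageAlong α (P ⊔ Q) →* Ω' := ψ'.comp (Subgroup.inclusion e.le)
  have hψ'' : ψ'' ∈ F'.Hom (imageAlong α (P ⊔ Q)) := restrict_mem hψ' e.le
  obtain ⟨ψ, hψ, hψS, hx⟩ := h.exists_hom hPQ hψ''
  refine ⟨ψ, hψ, fun x => ?_, ?_⟩
  · have h1 := hx (Subgroup.inclusion le_sup_left x)
    have h2 : ψ'' (imgEquiv h.inj hPQ (Subgroup.inclusion le_sup_left x)) =
        ψ' (Subgroup.inclusion le_sup_left (imgEquiv h.inj hP x)) := rfl
    rw [h2, hext, transHom_apply] at h1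
    exact congrArg Subtype.val (h.inj h1)
  · ext y
    constructor
    · rintro ⟨⟨z, hz⟩, hzQ, rfl⟩
      have h1 := hx ⟨z, hz⟩
      have h2 : ψ'' (imgEquiv h.inj hPQ ⟨z, hz⟩) ∈ imageAlong α Q :=
        hmap.le ⟨_, (mem_imageAlong hQ).2 ⟨⟨z, hzQ⟩, rfl⟩, rfl⟩
      rw [← h1] at h2
      obtain ⟨w, hw⟩ := (mem_imageAlong hQ).1 h2
      have h3 : (w : Ω) = ψ ⟨z, hz⟩ := congrArg Subtype.val (h.inj hw)
      exact h3 ▸ w.2
    · intro hy
      obtain ⟨⟨z', hz'⟩, hzQ, hzy⟩ := hmap.ge ((mem_imageAlong hQ).2 ⟨⟨y, hy⟩, rfl⟩)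
      obtain ⟨z, hz⟩ := (mem_imageAlong hQ).1 hzQ
      have hz2 : α ⟨z, hQ z.2⟩ = z' := hz
      subst hz2
      refine ⟨⟨z, Subgroup.mem_sup_right z.2⟩, z.2, ?_⟩
      have h1 := hx ⟨z, Subgroup.mem_sup_right z.2⟩
      exact congrArg Subtype.val (h.inj (h1.trans hzy))

end IsIsoAlong

/-- A realized system is isomorphic to the group system on the image. -/
theorem isIsoAlong_of_realized {F : FusionSystem S} {G : Type v} [Group G] {ι : S →* G}
    (h : F.IsRealizedBy ι) {T : Subgroup G} (hT : T = ι.range) :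
    IsIsoAlong F (groupFusionSystem T) ι := by
  refine ⟨h.1, hT.symm, fun {P} hP φ hφ => ?_⟩
  rw [h.2 P hP φ hφ, mem_groupHom]
  constructor
  · rintro ⟨g, hg⟩
    refine ⟨(imageAlong_le_range ι P).trans hT.ge, fun y => hT.ge ?_, g, fun y => ?_⟩
    · obtain ⟨x, rfl⟩ := (imgEquiv h.1 hP).surjective y
      rw [transHom_apply]
      exact ⟨_, rfl⟩
    · obtain ⟨x, rfl⟩ := (imgEquiv h.1 hP).surjective y
      rw [transHom_apply]
      exact hg x
  · rintro ⟨-, -, g, hg⟩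
    exact ⟨g, fun x => by rw [← transHom_apply h.1 hP hφ, hg]; rfl⟩

/-- A normal `p`-subgroup is normal in the fusion system. -/
theorem group_isNormal_of_normal {G : Type*} [Group G] [Finite G] {p : ℕ} [Fact p.Prime]
    (S : Sylow p G) {R : Subgroup G} (hn : R.Normal) (hR : IsPGroup p R) :
    (groupFusionSystem (S : Subgroup G)).IsNormal R := by
  have hRS : R ≤ (S : Subgroup G) := by
    obtain ⟨g, hg⟩ := exists_conj_le S hR
    intro x hx
    refine hg ⟨g⁻¹ * x * g, ?_, by simp [mul_assoc]⟩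
    simpa [mul_assoc] using hn.conj_mem x hx g⁻¹
  refine ⟨hRS, fun P φ hφ => ?_⟩
  obtain ⟨hP, hφS, g, hg⟩ := mem_groupHom.1 hφ
  have hmem : (P ⊔ R).map (MulAut.conj g).toMonoidHom ≤ (S : Subgroup G) := by
    rw [Subgroup.map_sup]
    refine sup_le ?_ ?_
    · rintro _ ⟨y, hy, rfl⟩
      have := hφS ⟨y, hy⟩
      rwa [hg] at this
    · rintro _ ⟨y, hy, rfl⟩
      exact hRS (hn.conj_mem y hy g)
  refine ⟨conjHom (P ⊔ R) g, conjHom_mem_groupHom (sup_le hP hRS) hmem, fun x => (hg x).symm, ?_⟩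
  ext y
  constructor
  · rintro ⟨⟨z, hz⟩, hzR, rfl⟩
    exact hn.conj_mem z hzR g
  · intro hy
    have hz : g⁻¹ * y * g⁻¹⁻¹ ∈ R := hn.conj_mem y hy g⁻¹
    exact ⟨⟨_, Subgroup.mem_sup_right hz⟩, hz, by simp [mul_assoc]⟩

/-- A system with a model is constrained. -/
theorem isConstrained_of_isModel [Finite S] {F : FusionSystem S} {p : ℕ} [Fact p.Prime]
    {G : Type v} [Group G] {ι : S →* G} (hG : F.IsModel p G ι) : F.IsConstrained p := by
  obtain ⟨hfin, hreal, ⟨T, hT⟩, hc⟩ := hG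
  have hi := isIsoAlong_of_realized hreal hT
  refine ⟨isSaturated_of_realized hreal ⟨T, hT⟩, ?_⟩
  set Q' := pCore p G with hQ'
  have hQT : Q' ≤ (T : Subgroup G) := Cfsg.Agent.PCore.pCore_le_sylow T
  obtain ⟨Q, hQS, hQ⟩ := hi.exists_preimage hQT
  refine ⟨Q, hi.isNormal hQS (hQ ▸ group_isNormal_of_normal T Cfsg.Agent.PCore.pCore_normal
    Cfsg.Agent.PCore.isPGroup_pCore), hi.isCentric hQS (hQ ▸ ⟨hQT, fun R hR => ?_⟩)⟩
  obtain ⟨-, -, g, rfl⟩ := group_isConj_iff.1 hR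
  have hn : (Q'.map (MulAut.conj g).toMonoidHom) = Q' := by
    have := (Cfsg.Agent.PCore.pCore_normal (p := p) (G := G))
    exact Subgroup.mem_normalizer_iff_map_conj_eq.1
      (Subgroup.normalizer_eq_top (H := Q') ▸ Subgroup.mem_top g)
  rw [hn]
  exact fun x hx => hc hx.2

end Cfsg.Agent.Fusion
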