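import Cfsg.Agent.Lib.Fusion.Group
import Cfsg.Agent.Lib.Fusion.KNormalizer
import Cfsg.Agent.Lib.Fusion.Iso
import Cfsg.Agent.Lib.Fusion.ModelUnique
import Cfsg.Agent.Lib.PCore.Basic
import Mathlib.GroupTheory.Transfer

/-!
# The model of the normalizer system of a centric subgroup of a group

`exists_group_model`: for `Q` fully normalized and centric in `F_P(G)` the group
`N_G(Q) / O_{p'}(N_G(Q))` is a model of `N_F(Q)`.
-/

set_option autoImplicit false
set_option linter.style.haveILetI false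

namespace Cfsg.Agent.Fusion.GroupModel

open Subgroup Cfsg.FusionSystem

universe u

variable {G : Type u} [Group G] [Finite G] {p : ℕ} [Fact p.Prime]

/-- The projection `N_P(Q) → N_G(Q) / O_{p'}(N_G(Q))`. -/
def proj (P : Subgroup G) (Q : Subgroup G) :
    ↥(normalizerIn P Q) →* ↥(normalizer (Q : Set G)) ⧸ Cfsg.pPrimeCore p ↥(normalizer (Q : Set G)) :=
  (QuotientGroup.mk' _).comp (inclusion (normalizerIn_le_normalizer P Q))

variable (P : Sylow p G) {Q : Subgroup G}

theorem exists_group_model (hn : (groupFusionSystem (P : Subgroup G)).IsFullyNormalized Q)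
    (hc : (groupFusionSystem (P : Subgroup G)).IsCentric Q)
    (N : FusionSystem (normalizerIn (P : Subgroup G) Q))
    (hN : (groupFusionSystem (P : Subgroup G)).IsNormalizerSystem Q N) :
    N.IsModel p (↥(normalizer (Q : Set G)) ⧸ Cfsg.pPrimeCore p ↥(normalizer (Q : Set G)))
      (proj (p := p) (P : Subgroup G) Q) := by
  set T := normalizerIn (P : Subgroup G) Q with hT
  set H := normalizer (Q : Set G) with hH
  set O := Cfsg.pPrimeCore p ↥H with hO
  have hTH : T ≤ H := normalizerIn_le_normalizer _ Q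
  have hTP : T ≤ (P : Subgroup G) := inf_le_left
  have hQT : Q ≤ T := le_inf hn.1 le_normalizer
  have hOc : (Nat.card O).Coprime p := PCore.coprime_card_pPrimeCore
  have hTp : IsPGroup p T := normalizerIn_isPGroup P Q
  have hdisj : ∀ x : H, x ∈ O → ∀ k : ℕ, x ^ p ^ k = 1 → x = 1 := by
    intro x hx k hk
    have h1 : orderOf x ∣ Nat.card O := orderOf_dvd_natCard O hx
    exact orderOf_eq_one_iff.1 (Nat.eq_one_of_dvd_coprimes (hOc.pow_right k) h1
      (orderOf_dvd_of_pow_eq_one hk))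
  have hTO : ∀ x : H, x ∈ O → (x : G) ∈ T → x = 1 := by
    intro x hx hxT
    obtain ⟨k, hk⟩ := hTp ⟨_, hxT⟩
    exact hdisj x hx k (Subtype.ext (by simpa using congrArg Subtype.val hk))
  have hinj : Function.Injective (proj (p := p) (P : Subgroup G) Q) := by
    rw [injective_iff_map_eq_one]
    intro x hx
    have := hTO (inclusion hTH x) ((QuotientGroup.eq_one_iff _).1 hx) x.2
    exact inclusion_injective hTH (this.trans (map_one _).symm)
  obtain ⟨R, hR⟩ := (group_isFullyNormalized_iff P hn.1).1 hn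
  have hRmap : ((R.mapSurjective (QuotientGroup.mk'_surjective O) : Sylow p (↥H ⧸ O)) :
      Subgroup (↥H ⧸ O)) = (proj (p := p) (P : Subgroup G) Q).range := by
    rw [Sylow.coe_mapSurjective, hR, proj, MonoidHom.range_comp]
    congr 1
    ext x
    exact ⟨fun hx => ⟨⟨x, hx⟩, Subtype.ext rfl⟩, fun ⟨y, hy⟩ => hy ▸ y.2⟩
  refine ⟨inferInstance, ⟨hinj, fun P₀ hP₀ φ hφ => ?_⟩, ⟨_, hRmap⟩, ?_⟩
  · rw [hN]
    constructor
    · rintro ⟨-, -, -, ψ, ⟨-, -, g, hg⟩, hψ, hQ⟩
      have hgH : g ∈ H := by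
        rw [hH, mem_normalizer_iff_map_conj_eq]
        conv_rhs => rw [← hQ]
        ext y
        constructor
        · rintro ⟨q, hq, rfl⟩
          exact ⟨⟨q, mem_sup_right hq⟩, hq, hg _⟩
        · rintro ⟨q, hq, rfl⟩
          exact ⟨q, hq, (hg q).symm⟩
      refine ⟨QuotientGroup.mk' O ⟨g, hgH⟩, fun x => ?_⟩
      show QuotientGroup.mk' O (inclusion hTH ⟨φ x, hφ x⟩) = _ *
        QuotientGroup.mk' O (inclusion hTH ⟨x, hP₀ x.2⟩) * _
      rw [← map_inv, ← map_mul, ← map_mul]
      congr 1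
      apply Subtype.ext
      show φ x = g * (x : G) * g⁻¹
      rw [← hψ x, hg]
      rfl
    · rintro ⟨h, hh⟩
      obtain ⟨g, rfl⟩ := QuotientGroup.mk'_surjective O h
      have hmod : ∀ x : P₀, (⟨φ x, hTH (hφ x)⟩ : H)⁻¹ * (g * ⟨x, hTH (hP₀ x.2)⟩ * g⁻¹) ∈ O := by
        intro x
        have := hh x
        change QuotientGroup.mk' O (⟨φ x, hTH (hφ x)⟩ : H) = QuotientGroup.mk' O g *
          QuotientGroup.mk' O (⟨x, hTH (hP₀ x.2)⟩ : H) * (QuotientGroup.mk' O g)⁻¹ at this
        rw [← map_inv, ← map_mul, ← map_mul] at this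
        exact QuotientGroup.eq.1 this
      -- move the image of `P₀` under `g` onto `φ(P₀)` by an element of `O`
      set A : Subgroup H := P₀.subgroupOf H with hA
      set B : Subgroup H := φ.range.subgroupOf H with hB
      set A' : Subgroup H := A.map (MulAut.conj g).toMonoidHom with hA'
      have hBp : IsPGroup p B := (hTp.to_le (by rintro _ ⟨x, rfl⟩; exact hφ x)).comap_subtype
      have hA'le : A' ≤ B ⊔ O := by
        rintro _ ⟨y, hy, rfl⟩
        have h1 : (⟨φ ⟨y, hy⟩, hTH (hφ _)⟩ : H) ∈ B := ⟨_, rfl⟩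
        have h2 := mul_mem (mem_sup_left (T := O) h1) (mem_sup_right (hmod ⟨y, hy⟩))
        rwa [mul_inv_cancel_left] at h2
      have hcard : ∀ x : H, x ∈ B → x ∈ O → x = 1 := fun x hx hxO => by
        obtain ⟨k, hk⟩ := hBp ⟨x, hx⟩
        exact hdisj x hxO k (congrArg Subtype.val hk)
      obtain ⟨S₁, hS₁⟩ := (hBp.comap_subtype : IsPGroup p (B.subgroupOf (B ⊔ O))).exists_le_sylow
      have hS₁B : ∀ w : ↥(B ⊔ O), w ∈ (S₁ : Subgroup ↥(B ⊔ O)) → (w : H) ∈ B := by
        intro w hw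
        obtain ⟨b, hb, o, ho, hbo⟩ := mem_sup_of_normal_right.1 w.2
        have h1 : (⟨b, mem_sup_left hb⟩ : ↥(B ⊔ O))⁻¹ * w ∈ (S₁ : Subgroup ↥(B ⊔ O)) :=
          mul_mem (inv_mem (hS₁ hb)) hw
        obtain ⟨k, hk⟩ := S₁.2 ⟨_, h1⟩
        have h2 := hdisj (b⁻¹ * (w : H)) (by rw [← hbo, inv_mul_cancel_left]; exact ho) k
          (congrArg (fun z : (S₁ : Subgroup ↥(B ⊔ O)) => ((z : ↥(B ⊔ O)) : H)) hk)
        rw [inv_mul_eq_one] at h2
        exact h2 ▸ hb
      obtain ⟨S₂, hS₂⟩ := (((hTp.to_le hP₀).comap_subtype : IsPGroup p A).map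
        (MulAut.conj g).toMonoidHom).comap_subtype (K := B ⊔ O) |>.exists_le_sylow
      obtain ⟨z, hz⟩ := MulAction.exists_smul_eq ↥(B ⊔ O) S₂ S₁
      obtain ⟨b, hb, o, ho, hzo⟩ := mem_sup_of_normal_right.1 z.2
      -- conjugating by `o g` agrees with `φ`
      have hkey : ∀ x : P₀, ((o * g : H) : G) * (x : G) * ((o * g : H) : G)⁻¹ = φ x := by
        intro x
        have hxA : g * ⟨x, hTH (hP₀ x.2)⟩ * g⁻¹ ∈ A' := ⟨_, x.2, rfl⟩
        have h1 : z * ⟨_, hA'le hxA⟩ * z⁻¹ ∈ (S₁ : Subgroup ↥(B ⊔ O)) := by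
          rw [← hz, Sylow.coe_subgroup_smul]
          exact smul_mem_pointwise_smul _ (MulAut.conj z) _ (hS₂ hxA)
        have h2 : (z : H) * (g * ⟨x, hTH (hP₀ x.2)⟩ * g⁻¹) * (z : H)⁻¹ ∈ B := hS₁B _ h1
        have h3 : o * (g * ⟨x, hTH (hP₀ x.2)⟩ * g⁻¹) * o⁻¹ ∈ B := by
          have := mul_mem (mul_mem (inv_mem hb) h2) hb
          rw [← hzo] at this
          convert this using 1
          group
        have h4 : (⟨φ x, hTH (hφ x)⟩ : H)⁻¹ * (o * (g * ⟨x, hTH (hP₀ x.2)⟩ * g⁻¹) * o⁻¹) ∈ O := by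
          have hm := hmod x
          generalize g * ⟨x, hTH (hP₀ x.2)⟩ * g⁻¹ = y at hm ⊢
          generalize (⟨φ x, hTH (hφ x)⟩ : H) = f at hm ⊢
          have hc1 : f⁻¹ * o * f ∈ O := by
            simpa using (inferInstance : O.Normal).conj_mem o ho f⁻¹
          have := mul_mem (mul_mem hc1 hm) (inv_mem ho)
          convert this using 1
          group
        have h5 := hcard _ (mul_mem (inv_mem (⟨x, rfl⟩ : (⟨φ x, hTH (hφ x)⟩ : H) ∈ B)) h3) h4
        rw [inv_mul_eq_one] at h5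
        have h6 := congrArg Subtype.val h5
        simp only [Subgroup.coe_mul, Subgroup.coe_inv] at h6 ⊢
        rw [h6]
        group
      set k := ((o * g : H) : G) with hk
      have hkH : k ∈ H := (o * g).2
      have hφP : ∀ x : P₀, φ x ∈ (P : Subgroup G) := fun x => hTP (hφ x)
      have hval : ∀ y : ↥(P₀ ⊔ Q), k * (y : G) * k⁻¹ ∈ (P : Subgroup G) := by
        intro y
        have hle : P₀ ⊔ Q ≤ (P : Subgroup G).comap (MulAut.conj k).toMonoidHom :=
          sup_le (fun x hx => by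
            show k * x * k⁻¹ ∈ (P : Subgroup G)
            rw [hkey ⟨x, hx⟩]; exact hφP _)
            (fun q hq => hn.1 ((mem_normalizer_iff.1 hkH q).1 hq))
        exact hle y.2
      refine ⟨⟨hP₀.trans hTP, hφP, k, fun x => (hkey x).symm⟩, hP₀, hφ,
        (MulAut.conj k).toMonoidHom.comp (P₀ ⊔ Q).subtype,
        ⟨sup_le (hP₀.trans hTP) hn.1, hval, k, fun y => rfl⟩, fun x => hkey x, ?_⟩
      rw [← Subgroup.map_map, map_subgroupOf_eq_of_le le_sup_right]
      exact mem_normalizer_iff_map_conj_eq.1 hkH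
  · -- constrained
    set π := QuotientGroup.mk' O
    haveI : (Q.subgroupOf H).Normal := normal_in_normalizer
    haveI : ((Q.subgroupOf H).map π).Normal :=
      Normal.map inferInstance π (QuotientGroup.mk'_surjective O)
    have hQp : IsPGroup p (Q.subgroupOf H) := (hTp.to_le hQT).comap_subtype
    have hle : (Q.subgroupOf H).map π ≤ Cfsg.pCore p (↥H ⧸ O) := PCore.le_pCore (hQp.map π)
    refine (centralizer_le hle).trans (le_trans ?_ hle)
    intro y hy
    obtain ⟨x, rfl⟩ := QuotientGroup.mk'_surjective O y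
    -- `x` centralizes `Q`
    have hxC : ∀ q (hq : q ∈ Q), (x : G) * q = q * x := by
      intro q hq
      set q' : H := ⟨q, le_normalizer hq⟩
      have h1 : π (x * q' * x⁻¹ * q'⁻¹) = 1 := by
        rw [map_mul, map_mul, map_mul, map_inv, map_inv,
          ← mem_centralizer_iff.1 hy (π q') (mem_map_of_mem π hq), mul_inv_cancel_right,
          mul_inv_cancel]
      have h2 : x * q' * x⁻¹ * q'⁻¹ ∈ Q.subgroupOf H :=
        mul_mem ((inferInstance : (Q.subgroupOf H).Normal).conj_mem q' hq x) (inv_mem hq)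
      have h3 := hTO _ ((QuotientGroup.eq_one_iff _).1 h1) (hQT h2)
      rw [mul_inv_eq_one, mul_inv_eq_iff_eq_mul] at h3
      exact congrArg Subtype.val h3
    -- `C_H(Q) = Z(Q) × O_{p'}`
    set C := centralizer ((Q.subgroupOf H : Subgroup H) : Set H) with hC
    obtain ⟨S₀⟩ : Nonempty (Sylow p C) := inferInstance
    have hCS : ∀ D : Subgroup G, IsPGroup p D → D ≤ centralizer (Q : Set G) → D ≤ Q := by
      intro D hD hDC
      obtain ⟨g, hg⟩ := exists_conj_le P (hD.to_sup_of_normal_right' (hTp.to_le hQT)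
        (hDC.trans (centralizer_le_normalizer _)))
      rw [Subgroup.map_sup, sup_le_iff] at hg
      have := hc.2 _ (group_isConj_iff.2 ⟨hn.1, hg.2, g, rfl⟩)
      intro d hd
      have hd' := this (x := g * d * g⁻¹) ⟨hg.1 ⟨d, hd, rfl⟩, by
        rw [← map_conj_centralizer]; exact ⟨d, hDC hd, rfl⟩⟩
      rw [mem_map_conj] at hd'
      simpa [mul_assoc] using hd'
    have hSQ : ∀ s : C, s ∈ S₀ → ((s : H) : G) ∈ Q := fun s hs =>
      hCS (((S₀ : Subgroup C).map C.subtype).map H.subtype) ((S₀.2.map _).map _) (by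
        rintro _ ⟨_, ⟨t, ht, rfl⟩, rfl⟩
        exact mem_centralizer_iff.2 fun q hq => congrArg Subtype.val
          (mem_centralizer_iff.1 t.2 ⟨q, le_normalizer hq⟩ hq))
        (mem_map_of_mem _ (mem_map_of_mem _ hs))
    have hcent : normalizer ((S₀ : Subgroup C) : Set C) ≤ centralizer ((S₀ : Subgroup C) : Set C) :=
      fun a _ => mem_centralizer_iff.2 fun s hs =>
        Subtype.ext (mem_centralizer_iff.1 a.2 (s : H) (hSQ s hs))
    set K := (MonoidHom.transferSylow S₀ hcent).ker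
    have hKc : (Nat.card K).Coprime p :=
      ((Fact.out : p.Prime).coprime_iff_not_dvd.2
        (MonoidHom.not_dvd_card_ker_transferSylow S₀ hcent)).symm
    have hKO : K ≤ Cfsg.pPrimeCore p C := PCore.le_pPrimeCore hKc
    have hKO' : K.map C.subtype ≤ O := (Subgroup.map_mono hKO).trans (by
      rw [PCore.map_pPrimeCore_subtype_of_normal C]; exact inf_le_left)
    have hxC' : x ∈ C := mem_centralizer_iff.2 fun q hq => Subtype.ext (hxC q hq).symm
    have hcomp := MonoidHom.ker_transferSylow_isComplement' S₀ hcent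
    obtain ⟨k, hk, s, hs, hks⟩ := mem_sup_of_normal_left.1
      (hcomp.sup_eq_top ▸ mem_top (⟨x, hxC'⟩ : C))
    refine ⟨(s : H), hSQ s hs, ?_⟩
    have hx : x = (k : H) * (s : H) := congrArg Subtype.val hks.symm
    rw [hx, map_mul, show π (k : H) = 1 from
      (QuotientGroup.eq_one_iff _).2 (hKO' (mem_map_of_mem _ hk)), one_mul]

/-- Every model of the normalizer system is `N_G(Q) / O_{p'}(N_G(Q))`. -/
theorem equiv_group_model (hn : (groupFusionSystem (P : Subgroup G)).IsFullyNormalized Q)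
    (hc : (groupFusionSystem (P : Subgroup G)).IsCentric Q)
    (N : FusionSystem (normalizerIn (P : Subgroup G) Q))
    (hN : (groupFusionSystem (P : Subgroup G)).IsNormalizerSystem Q N)
    {L : Type u} [Group L] (ι : ↥(normalizerIn (P : Subgroup G) Q) →* L) (hL : N.IsModel p L ι) :
    Nonempty (L ≃* ↥(normalizer (Q : Set G)) ⧸ Cfsg.pPrimeCore p ↥(normalizer (Q : Set G))) := by
  obtain ⟨hsat, Q', hQn, hQc⟩ := isConstrained_of_isModel hL
  obtain ⟨e, -⟩ := Model.exists_equiv (normalizerIn_isPGroup P Q) hsat hL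
    (exists_group_model P hn hc N hN) hQn hQc
  exact ⟨e⟩

end Cfsg.Agent.Fusion.GroupModel
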