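import Cfsg.Agent.Lib.Fusion.GroupHyperfocal
import Cfsg.Agent.Lib.Fusion.Alperin
import Cfsg.Agent.Lib.Transfer.Residual
import Cfsg.Prelude.Def_FusionComponents

/-!
The `p`-residual subsystem of the fusion system of a group.
-/

set_option autoImplicit false

namespace Cfsg.Agent.Fusion.GroupResidual

open Cfsg Cfsg.FusionSystem Cfsg.Agent.Fusion

variable {Ω : Type*} [Group Ω] {S T : Subgroup Ω} {F : FusionSystem S} {p : ℕ}

theorem le_of_pPowerIndex [Finite T] [Fact p.Prime] (hT : IsPGroup p T) {E D : FusionSystem T}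
    (hE : E.IsSaturated p) (hEF : E.IsSubsystemOf F) (hD : D.HasPPowerIndexIn F p)
    (P : Subgroup Ω) : E.Hom P ⊆ D.Hom P := by
  refine alperin hT hE D (fun R hRn _ _ => ?_) P
  have hRT := hRn.1
  obtain ⟨-, P₀, hP₀⟩ := isFullyAutomized_of_fullyNormalized hT hE hRn
  have : Finite (MulAut R) := finite_mulAut hRT
  intro a ha
  have htop := Transfer.sylow_sup_pResidual_eq_top P₀
  have hm : (⟨a, ha⟩ : E.autGroup R) ∈ (P₀ : Subgroup (E.autGroup R)) ⊔ pResidual p (E.autGroup R) := by
    rw [htop]; trivial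
  have key : (P₀ : Subgroup (E.autGroup R)) ⊔ pResidual p (E.autGroup R) ≤
      (D.autGroup R).comap (E.autGroup R).subtype := by
    refine sup_le (fun b hb => ?_) fun b hb => ?_
    · rw [hP₀, Subgroup.mem_subgroupOf] at hb
      exact autInducedBy_le_autGroup D hRT hb
    · exact hD.2.2 R hRT ⟨Subgroup.inclusion (autGroup_le_of_subsystem hEF hRT) b,
        Transfer.map_residual_le _ p ⟨b, hb, rfl⟩, rfl⟩
  exact key hm

theorem hom_eq_of_pPowerIndex [Finite T] [Fact p.Prime] (hT : IsPGroup p T) {E D : FusionSystem T}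
    (hE : E.IsSaturated p) (hEi : E.HasPPowerIndexIn F p) (hD : D.IsSaturated p)
    (hDi : D.HasPPowerIndexIn F p) (P : Subgroup Ω) : E.Hom P = D.Hom P :=
  Set.Subset.antisymm (le_of_pPowerIndex hT hE hEi.1 hDi P) (le_of_pPowerIndex hT hD hDi.1 hEi P)

variable {G : Type*} [Group G] [Finite G] [Fact p.Prime] (S : Sylow p G)

theorem residual_index {T : Subgroup G} (hT : T = (S : Subgroup G) ⊓ pResidual p G)
    (hTK : T ≤ pResidual p G) :
    (fusionSystemOfSubgroup (pResidual p G) T hTK).HasPPowerIndexIn (groupFusionSystem (S : Subgroup G)) p := by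
  have hTS : T ≤ (S : Subgroup G) := hT.le.trans inf_le_left
  refine ⟨?_, ?_, fun P hP => ?_⟩
  · rintro P φ ⟨hP, hφ, g, -, hg⟩
    exact ⟨hP.trans hTS, fun x => hTS (hφ x), g, hg⟩
  · rw [hyperfocal_group, hT]
  rw [Subgroup.map_le_iff_le_comap]
  refine (Subgroup.closure_le _).2 fun b hb => ?_
  have hPS := hP.trans hTS
  obtain ⟨-, -, g, hg⟩ := (mem_autGroup_iff hPS).1 b.2
  show (b : MulAut P) ∈ (fusionSystemOfSubgroup (pResidual p G) T hTK).autGroup P
  rw [mem_autGroup_iff hP]
  refine ⟨hP, fun x => hP ((b : MulAut P) x).2, ?_⟩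
  -- the `p'`-part of `g` induces the same automorphism
  obtain ⟨k, m, hm, hgm⟩ := Nat.exists_eq_pow_mul_and_not_dvd (orderOf_pos g).ne' p (Fact.out : p.Prime).ne_one
  have hb' : Nat.Coprime (orderOf b) (p ^ k) := Nat.Coprime.pow_right k hb
  obtain ⟨u, hu⟩ : ∃ u, (b ^ p ^ k) ^ u = b := ⟨_, (exists_pow_eq_self_of_coprime hb'.symm).choose_spec⟩
  have hiter : ∀ (n : ℕ) (x : P), ((((b : MulAut P) ^ n) x : P) : G) = g ^ n * (x : G) * (g ^ n)⁻¹ := by
    intro n
    induction n with
    | zero => simp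
    | succ n ih =>
      intro x
      rw [pow_succ', MulAut.mul_apply]
      have h1 := hg (((b : MulAut P) ^ n) x)
      refine h1.trans ?_
      rw [ih, pow_succ']
      group
  refine ⟨g ^ (p ^ k * u), ?_, fun x => ?_⟩
  · refine Subgroup.subset_closure ?_
    have h1 : orderOf (g ^ (p ^ k * u)) ∣ m := orderOf_dvd_of_pow_eq_one (by
      rw [← pow_mul, show p ^ k * u * m = u * orderOf g by rw [hgm]; ring, pow_mul', pow_orderOf_eq_one, one_pow])
    exact Nat.Coprime.coprime_dvd_left h1
      (Nat.Coprime.symm ((Fact.out : p.Prime).coprime_iff_not_dvd.2 hm))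
  · rw [← hiter]
    show (((b : MulAut P) x : P) : G) = _
    have h2 : (b : MulAut P) = (b : MulAut P) ^ (p ^ k * u) := by
      conv_lhs => rw [← hu, ← pow_mul]
      rfl
    exact congrArg (fun f : MulAut P => ((f x : P) : G)) h2

theorem residual_eq (E : FusionSystem ((groupFusionSystem (S : Subgroup G)).hyperfocalSubgroup p))
    (hE : (groupFusionSystem (S : Subgroup G)).IsPResidual p E) :
    ∃ h : (S : Subgroup G) ⊓ pResidual p G ≤ pResidual p G, ∀ P : Subgroup G,
      E.Hom P = (fusionSystemOfSubgroup (pResidual p G) ((S : Subgroup G) ⊓ pResidual p G) h).Hom P := by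
  refine ⟨inf_le_right, fun P => ?_⟩
  have := Transfer.pResidual_normal (G := G) p
  have hT := hyperfocal_group S
  set T := (groupFusionSystem (S : Subgroup G)).hyperfocalSubgroup p with hTdef
  have hTK : T ≤ pResidual p G := hT.le.trans inf_le_right
  have hsyl : IsSylowIn p T (pResidual p G) := by rw [hT]; exact isSylowIn_of_normal S _
  rw [hom_eq_of_pPowerIndex (S.2.to_le (hT.le.trans inf_le_left)) hE.1 hE.2
    (subgroupSystem_saturated hTK hsyl) (residual_index S hT hTK) P]
  ext φ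
  rw [mem_subgroupSystem, mem_subgroupSystem, hT]

end Cfsg.Agent.Fusion.GroupResidual
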