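import Mathlib.GroupTheory.Nilpotent
import Mathlib.GroupTheory.Sylow
import Mathlib.GroupTheory.Subgroup.Centralizer
import Cfsg.Prelude.Def_FusionSystem
import Cfsg.Agent.Lib.Fusion.Extend

/-!
A sufficient condition for the fusion system of a finite group on a Sylow subgroup to be simple:
no nontrivial proper strongly closed subgroup, and the normaliser of the Sylow subgroup generated, modulo its
centraliser, by elements coming from `O^{p'}` of normalisers of fully normalised centric subgroups.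
-/

set_option autoImplicit false

namespace Cfsg.Agent.Fusion.GroupSimple

open Cfsg Cfsg.FusionSystem Cfsg.Agent.Fusion.Extn

variable {G : Type*} [Group G] {S : Subgroup G}

/-- Conjugation by `g` on `P` is a map of `E`. -/
def EC (E : FusionSystem S) (P : Subgroup G) (g : G) : Prop := conjHom P g ∈ E.Hom P

theorem conjHom_apply (P : Subgroup G) (g : G) (x : P) : conjHom P g x = g * (x : G) * g⁻¹ := rfl

theorem eq_conjHom {P : Subgroup G} {φ : P →* G} {g : G} (h : ∀ x : P, φ x = g * (x : G) * g⁻¹) :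
    φ = conjHom P g := MonoidHom.ext h

variable (E : FusionSystem S)

theorem EC.le {P : Subgroup G} {g : G} (h : EC E P g) : P ≤ S := (E.le_of_mem h).1

theorem EC.mem {P : Subgroup G} {g : G} (h : EC E P g) {x : G} (hx : x ∈ P) : g * x * g⁻¹ ∈ S :=
  (E.le_of_mem h).2 ⟨x, hx⟩

theorem EC.of_mem {P : Subgroup G} {g : G} (hP : P ≤ S) (hg : g ∈ S) : EC E P g := E.conj_mem hP hg

theorem EC.congr {P : Subgroup G} {g k : G} (h : EC E P g) (hk : ∀ x ∈ P, k * x * k⁻¹ = g * x * g⁻¹) :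
    EC E P k := by
  have : conjHom P k = conjHom P g := MonoidHom.ext fun x => hk x x.2
  show conjHom P k ∈ E.Hom P
  rw [this]; exact h

theorem EC.mono {P Q : Subgroup G} {g : G} (h : EC E P g) (hQ : Q ≤ P) : EC E Q g := restrict_mem E h hQ

theorem EC.comp {P Q : Subgroup G} {g k : G} (h : EC E P g) (h' : EC E Q k)
    (hQ : ∀ x ∈ P, g * x * g⁻¹ ∈ Q) : EC E P (k * g) := by
  have h1 := E.comp_mem h h' (fun x : P => hQ x x.2)
  show conjHom P (k * g) ∈ E.Hom P
  convert h1 using 1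
  refine (eq_conjHom (g := k * g) fun x => ?_).symm
  show k * (g * x * g⁻¹) * k⁻¹ = _
  group

theorem EC.inv {P : Subgroup G} {g : G} (h : EC E P g) : EC E (P.map (MulAut.conj g).toMonoidHom) g⁻¹ := by
  obtain ⟨ψ, hψ, hψ'⟩ := E.inv_mem h
  have hr : (conjHom P g).range = P.map (MulAut.conj g).toMonoidHom := by
    ext y
    constructor
    · rintro ⟨x, rfl⟩; exact ⟨x, x.2, rfl⟩
    · rintro ⟨x, hx, rfl⟩; exact ⟨⟨x, hx⟩, rfl⟩
  obtain ⟨χ, hχ, hχ'⟩ := hom_of_eq E hr hψ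
  show conjHom _ g⁻¹ ∈ _
  convert hχ using 1
  refine (eq_conjHom fun y => ?_).symm
  obtain ⟨x, hx⟩ := hr.ge y.2
  rw [hχ' y (hr.ge y.2) y.2]
  have : (⟨(y : G), hr.ge y.2⟩ : (conjHom P g).range) = ⟨conjHom P g x, ⟨x, rfl⟩⟩ := Subtype.ext hx.symm
  rw [this, hψ', ← hx, conjHom_apply]
  group

theorem conj_mem_iff_of_mem_normalizer {R : Subgroup G} {g x : G} (hg : g ∈ Subgroup.normalizer (R : Set G)) :
    g * x * g⁻¹ ∈ R ↔ x ∈ R := ((Subgroup.mem_normalizer_iff.mp hg) x).symm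

theorem map_conj_eq_of_mem_normalizer {R : Subgroup G} {g : G} (hg : g ∈ Subgroup.normalizer (R : Set G)) :
    R.map (MulAut.conj g).toMonoidHom = R := by
  ext y
  constructor
  · rintro ⟨x, hx, rfl⟩; exact (conj_mem_iff_of_mem_normalizer hg).mpr hx
  · intro hy
    refine ⟨g⁻¹ * y * g, ?_, ?_⟩
    · exact (conj_mem_iff_of_mem_normalizer hg).mp (by convert hy using 1; group)
    · show g * (g⁻¹ * y * g) * g⁻¹ = y
      group

/-- The elements of the normaliser of `R` that `E` sees on `R`, a subgroup. -/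
def normalizerPart (R : Subgroup G) (hR : R ≤ S) : Subgroup G where
  carrier := {n | n ∈ Subgroup.normalizer (R : Set G) ∧ EC E R n}
  one_mem' := ⟨Subgroup.one_mem _, EC.of_mem E hR S.one_mem⟩
  mul_mem' := by
    rintro a b ⟨ha, ha'⟩ ⟨hb, hb'⟩
    exact ⟨Subgroup.mul_mem _ ha hb, EC.comp E hb' ha' fun x hx => (conj_mem_iff_of_mem_normalizer hb).mpr hx⟩
  inv_mem' := by
    rintro a ⟨ha, ha'⟩
    exact ⟨Subgroup.inv_mem _ ha, EC.mono E (EC.inv E ha') (map_conj_eq_of_mem_normalizer ha).ge⟩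

section Invariant

variable (hE : E.IsInvariantIn (groupFusionSystem S))
include hE

theorem ec_exists {P : Subgroup G} {φ : P →* G} (hφ : φ ∈ E.Hom P) : ∃ g, φ = conjHom P g := by
  obtain ⟨-, -, g, hg⟩ := hE.1 P hφ
  exact ⟨g, eq_conjHom hg⟩

theorem invariance [Finite G] {P : Subgroup G} {g a : G} (h : EC E P g) (ha : a ∈ Subgroup.normalizer (S : Set G)) :
    EC E (P.map (MulAut.conj a).toMonoidHom) (a * g * a⁻¹) := by
  obtain ⟨-, -, hinv, -⟩ := hE
  let α : MulAut S := S.normalizerMonoidHom ⟨a, ha⟩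
  have hα : α ∈ (groupFusionSystem S).autGroup S :=
    Subgroup.subset_closure ⟨le_rfl, fun x => (α x).2, a, fun x => rfl⟩
  obtain ⟨χ, hχ, hχ'⟩ := hinv P (EC.le E h) (conjHom P g) h α hα
  have hle : P.map (MulAut.conj a).toMonoidHom ≤ (P.subgroupOf S).map (S.subtype.comp α.toMonoidHom) := by
    rintro _ ⟨x, hx, rfl⟩
    exact ⟨⟨x, EC.le E h hx⟩, hx, rfl⟩
  show conjHom _ _ ∈ _
  convert restrict_mem E hχ hle using 1
  refine (eq_conjHom ?_).symm
  rintro ⟨_, x, hx, rfl⟩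
  have h1 := hχ' ⟨x, hx⟩ (EC.mem E h hx) (hle ⟨x, hx, rfl⟩)
  refine Eq.trans h1 ?_
  show a * (g * x * g⁻¹) * a⁻¹ = a * g * a⁻¹ * (a * x * a⁻¹) * (a * g * a⁻¹)⁻¹
  group

theorem frattini [Finite G] {P : Subgroup G} (hP : P ≤ S) {g : G} (hg : ∀ x ∈ P, g * x * g⁻¹ ∈ S) :
    ∃ a ∈ Subgroup.normalizer (S : Set G), EC E P (a⁻¹ * g) := by
  have hsub := hE.1
  obtain ⟨α, hα, φ₀, hφ₀, heq⟩ := hE.2.2.2 P hP (conjHom P g) ⟨hP, fun x => hg x x.2, g, fun x => rfl⟩
  obtain ⟨k, hk⟩ := ec_exists E hE hφ₀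
  obtain ⟨-, -, a, ha⟩ := (mem_autGroup (groupFusionSystem S) le_rfl).mp hα
  have haN : a ∈ Subgroup.normalizer (S : Set G) := by
    apply Subgroup.mem_normalizer_iff_map_conj_eq.mpr
    ext y
    constructor
    · rintro ⟨x, hx, rfl⟩
      have := ha ⟨x, hx⟩
      show a * x * a⁻¹ ∈ S
      rw [← this]
      exact Subtype.property _
    · intro hy
      refine ⟨(α.symm ⟨y, hy⟩ : S), Subtype.property _, ?_⟩
      show a * _ * a⁻¹ = y
      rw [← ha]
      simp
  refine ⟨a, haN, EC.congr E (g := k) (by rw [hk] at hφ₀; exact hφ₀) ?_⟩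
  intro x hx
  have h0 : φ₀ ⟨x, hx⟩ ∈ S := (E.le_of_mem hφ₀).2 _
  have h1 : g * x * g⁻¹ = a * φ₀ ⟨x, hx⟩ * a⁻¹ := (heq ⟨x, hx⟩ h0).trans (ha _)
  rw [hk, conjHom_apply] at h1
  calc a⁻¹ * g * x * (a⁻¹ * g)⁻¹ = a⁻¹ * (g * x * g⁻¹) * a := by group
    _ = _ := by rw [h1]; group

/-- The part of `N_G(R)` seen by an invariant system is normal in `N_G(R)`. -/
theorem normalizerPart_conj [Finite G] {R : Subgroup G} (hR : R ≤ S) {n m : G}
    (hn : n ∈ normalizerPart E R hR) (hm : m ∈ Subgroup.normalizer (R : Set G)) :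
    m * n * m⁻¹ ∈ normalizerPart E R hR := by
  obtain ⟨hnN, hnE⟩ := hn
  obtain ⟨a, ha, he⟩ := frattini E hE hR (g := m) fun x hx => hR ((conj_mem_iff_of_mem_normalizer hm).mpr hx)
  set e := a⁻¹ * m with he'
  refine ⟨Subgroup.mul_mem _ (Subgroup.mul_mem _ hm hnN) (Subgroup.inv_mem _ hm), ?_⟩
  set R₁ := R.map (MulAut.conj e).toMonoidHom
  have h1 : EC E R₁ (n * e⁻¹) := EC.comp E (EC.inv E he) hnE fun y hy => by
    obtain ⟨x, hx, rfl⟩ := hy
    show e⁻¹ * (e * x * e⁻¹) * e⁻¹⁻¹ ∈ R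
    have hx' : x ∈ R := hx
    convert hx' using 1
    group
  have h2 : EC E R₁ (e * (n * e⁻¹)) := EC.comp E h1 he fun y hy => by
    obtain ⟨x, hx, rfl⟩ := hy
    show n * e⁻¹ * (e * x * e⁻¹) * (n * e⁻¹)⁻¹ ∈ R
    convert (conj_mem_iff_of_mem_normalizer hnN).mpr hx using 1
    group
  have h3 := invariance E hE h2 ha
  refine EC.mono E (EC.congr E h3 ?_) ?_
  · intro x _
    rw [he']
    group
  · rw [Subgroup.map_map]
    refine le_of_eq ?_
    rw [show ((MulAut.conj a).toMonoidHom.comp (MulAut.conj e).toMonoidHom) = (MulAut.conj m).toMonoidHom from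
      MonoidHom.ext fun x => by simp [he', mul_assoc]]
    exact (map_conj_eq_of_mem_normalizer hm).symm

end Invariant

section Sylow

variable {p : ℕ} [Fact p.Prime] [Finite G] (P : Sylow p G)

/-- A `p`-subgroup normalising `R ≤ P` has order at most `|N_P(R)|` when `R` is fully normalised. -/
theorem card_le_of_fullyNormalized {R U : Subgroup G}
    (hR : (groupFusionSystem (P : Subgroup G)).IsFullyNormalized R) (hU : IsPGroup p U)
    (hUR : U ≤ Subgroup.normalizer (R : Set G)) :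
    Nat.card U ≤ Nat.card (normalizerIn (P : Subgroup G) R) := by
  have hRp : IsPGroup p R := P.2.to_le hR.1
  have hUR' : IsPGroup p (U ⊔ R : Subgroup G) := hU.to_sup_of_normal_right' hRp hUR
  obtain ⟨T, hT⟩ := hUR'.exists_le_sylow
  obtain ⟨g, hg⟩ := MulAction.exists_smul_eq G T P
  have hgmem : ∀ x ∈ U ⊔ R, g * x * g⁻¹ ∈ (P : Subgroup G) := by
    intro x hx
    rw [← hg, Sylow.coe_subgroup_smul]
    exact Subgroup.smul_mem_pointwise_smul x (MulAut.conj g) _ (hT hx)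
  let Q := R.map (MulAut.conj g).toMonoidHom
  have hconj : (groupFusionSystem (P : Subgroup G)).IsConj R Q := by
    refine ⟨conjHom R g, ⟨hR.1, fun x => hgmem x (le_sup_right (a := U) x.2), g, fun x => rfl⟩, ?_⟩
    ext y
    constructor
    · rintro ⟨x, rfl⟩; exact ⟨x, x.2, rfl⟩
    · rintro ⟨x, hx, rfl⟩; exact ⟨⟨x, hx⟩, rfl⟩
  refine le_trans ?_ (hR.2 Q hconj)
  rw [← Subgroup.card_map_of_injective (K := U) (f := (MulAut.conj g).toMonoidHom) (MulAut.conj g).injective]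
  refine Nat.le_of_dvd Nat.card_pos (Subgroup.card_dvd_of_le ?_)
  rintro _ ⟨u, hu, rfl⟩
  refine ⟨hgmem u (le_sup_left (b := R) hu), ?_⟩
  refine Subgroup.mem_normalizer_iff.mpr fun y => ⟨?_, ?_⟩
  · rintro ⟨x, hx, rfl⟩
    refine ⟨u * x * u⁻¹, (conj_mem_iff_of_mem_normalizer (hUR hu)).mpr hx, ?_⟩
    show g * (u * x * u⁻¹) * g⁻¹ = g * u * g⁻¹ * (g * x * g⁻¹) * (g * u * g⁻¹)⁻¹
    group
  · rintro ⟨x, hx, hxy⟩
    refine ⟨u⁻¹ * x * u⁻¹⁻¹, (conj_mem_iff_of_mem_normalizer (hUR (U.inv_mem hu))).mpr hx, ?_⟩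
    have hxy' : g * x * g⁻¹ = g * u * g⁻¹ * y * (g * u * g⁻¹)⁻¹ := hxy
    show g * (u⁻¹ * x * u⁻¹⁻¹) * g⁻¹ = y
    calc g * (u⁻¹ * x * u⁻¹⁻¹) * g⁻¹ = (g * u * g⁻¹)⁻¹ * (g * x * g⁻¹) * (g * u * g⁻¹) := by group
      _ = y := by rw [hxy']; group

/-- For a centric `R ≤ P` every `p`-element centralising `R` lies in `R`. -/
theorem mem_of_centralizes {R : Subgroup G} (hR : (groupFusionSystem (P : Subgroup G)).IsCentric R) {c : G}
    (hc : c ∈ Subgroup.centralizer (R : Set G)) (hcp : IsPGroup p (Subgroup.zpowers c)) : c ∈ R := by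
  have hUR : Subgroup.zpowers c ≤ Subgroup.normalizer (R : Set G) :=
    (Subgroup.zpowers_le.mpr hc).trans (Subgroup.centralizer_le_normalizer _)
  have h' : IsPGroup p (Subgroup.zpowers c ⊔ R : Subgroup G) :=
    hcp.to_sup_of_normal_right' (P.2.to_le hR.1) hUR
  obtain ⟨T, hT⟩ := h'.exists_le_sylow
  obtain ⟨g, hg⟩ := MulAction.exists_smul_eq G T P
  have hgmem : ∀ x ∈ Subgroup.zpowers c ⊔ R, g * x * g⁻¹ ∈ (P : Subgroup G) := by
    intro x hx
    rw [← hg, Sylow.coe_subgroup_smul]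
    exact Subgroup.smul_mem_pointwise_smul x (MulAut.conj g) _ (hT hx)
  let Q := R.map (MulAut.conj g).toMonoidHom
  have hconj : (groupFusionSystem (P : Subgroup G)).IsConj R Q := by
    refine ⟨conjHom R g, ⟨hR.1, fun x => hgmem x (le_sup_right (a := Subgroup.zpowers c) x.2), g, fun x => rfl⟩, ?_⟩
    ext y
    constructor
    · rintro ⟨x, rfl⟩; exact ⟨x, x.2, rfl⟩
    · rintro ⟨x, hx, rfl⟩; exact ⟨⟨x, hx⟩, rfl⟩
  have h1 : g * c * g⁻¹ ∈ centralizerIn (P : Subgroup G) Q := by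
    refine ⟨hgmem c (le_sup_left (b := R) (Subgroup.mem_zpowers c)), Subgroup.mem_centralizer_iff.mpr ?_⟩
    rintro _ ⟨x, hx, rfl⟩
    show g * x * g⁻¹ * (g * c * g⁻¹) = g * c * g⁻¹ * (g * x * g⁻¹)
    have := Subgroup.mem_centralizer_iff.mp hc x hx
    calc g * x * g⁻¹ * (g * c * g⁻¹) = g * (x * c) * g⁻¹ := by group
      _ = g * (c * x) * g⁻¹ := by rw [this]
      _ = _ := by group
  obtain ⟨x, hx, hxc⟩ := hR.2 Q hconj h1
  rwa [← (MulAut.conj g).injective (show MulAut.conj g x = MulAut.conj g c from hxc)]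

theorem centric_of_le {R N : Subgroup G} (hR : (groupFusionSystem (P : Subgroup G)).IsCentric R) (hRN : R ≤ N)
    (hN : N ≤ P) : (groupFusionSystem (P : Subgroup G)).IsCentric N := by
  refine ⟨hN, ?_⟩
  rintro Q ⟨φ, hφ, rfl⟩
  have hconj : (groupFusionSystem (P : Subgroup G)).IsConj R (φ.comp (Subgroup.inclusion hRN)).range :=
    ⟨_, restrict_mem _ hφ hRN, rfl⟩
  have hle : (φ.comp (Subgroup.inclusion hRN)).range ≤ φ.range := by
    rintro _ ⟨x, rfl⟩; exact ⟨_, rfl⟩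
  exact le_trans (le_trans (inf_le_inf_left _ (Subgroup.centralizer_le hle)) (hR.2 _ hconj)) hle

/-- An element centralising a centric `R` and normalising `N ≥ R` with `[N, c] ≤ R` acts on `N` as an element of `R`. -/
theorem exists_mem_conj_eq {R N : Subgroup G} (hR : (groupFusionSystem (P : Subgroup G)).IsCentric R)
    (hN : N ≤ Subgroup.normalizer (R : Set G)) {c : G} (hc : c ∈ Subgroup.centralizer (R : Set G))
    (hd : ∀ x ∈ N, c * x * c⁻¹ * x⁻¹ ∈ R) :
    ∃ z ∈ R, ∀ x ∈ N, c * x * c⁻¹ = z * x * z⁻¹ := by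
  obtain ⟨k, m, hm, hcard⟩ := Nat.exists_eq_pow_mul_and_not_dvd (orderOf_pos c).ne' p (Fact.out : p.Prime).ne_one
  have hcop : Nat.Coprime m (p ^ k) :=
    ((Nat.coprime_comm.mp ((Fact.out : p.Prime).coprime_iff_not_dvd.mpr hm))).pow_right k
  obtain ⟨u, v, huv⟩ := (Nat.Coprime.isCoprime (by exact hcop) : IsCoprime (m : ℤ) ((p ^ k : ℕ) : ℤ))
  set z := c ^ (u * m) with hz
  set c' := c ^ (v * (p ^ k : ℕ)) with hc'
  have hzc : z * c' = c := by rw [hz, hc', ← zpow_add, huv, zpow_one]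
  have hzpow : z ^ (p ^ k) = 1 := by
    rw [hz, ← zpow_natCast, ← zpow_mul,
      show u * m * ((p ^ k : ℕ) : ℤ) = u * (orderOf c : ℕ) by rw [hcard]; push_cast; ring,
      mul_comm, zpow_mul, zpow_natCast, pow_orderOf_eq_one, one_zpow]
  have hc'pow : c' ^ m = 1 := by
    rw [hc', ← zpow_natCast, ← zpow_mul,
      show v * ((p ^ k : ℕ) : ℤ) * (m : ℤ) = v * (orderOf c : ℕ) by rw [hcard]; push_cast; ring,
      mul_comm, zpow_mul, zpow_natCast, pow_orderOf_eq_one, one_zpow]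
  have hzR : z ∈ R := by
    refine mem_of_centralizes P hR (Subgroup.zpow_mem _ hc _) ?_
    obtain ⟨j, -, hj⟩ := (Nat.dvd_prime_pow Fact.out).mp (orderOf_dvd_of_pow_eq_one hzpow)
    exact IsPGroup.of_card (n := j) (by rw [Nat.card_zpowers, hj])
  refine ⟨z, hzR, fun x hx => ?_⟩
  have hzc' : z * c' = c' * z := by rw [hz, hc', ← zpow_add, ← zpow_add, add_comm]
  have hc'C : c' ∈ Subgroup.centralizer (R : Set G) := Subgroup.zpow_mem _ hc _
  set e := c * x * c⁻¹ * x⁻¹ with he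
  set d := z⁻¹ * e * (x * z * x⁻¹) with hd'
  have h1 : c' * x * c'⁻¹ = d * x := by
    rw [hd', he, show c' = z⁻¹ * c by rw [← hzc]; group]
    group
  have hdR : d ∈ R :=
    R.mul_mem (R.mul_mem (R.inv_mem hzR) (hd x hx)) ((conj_mem_iff_of_mem_normalizer (hN hx)).mpr hzR)
  have hiter : ∀ i : ℕ, c' ^ i * x * (c' ^ i)⁻¹ = d ^ i * x := by
    intro i
    induction i with
    | zero => simp
    | succ i ih =>
      have hcd : c' * d ^ i * c'⁻¹ = d ^ i := by
        rw [← Subgroup.mem_centralizer_iff.mp hc'C _ (R.pow_mem hdR i)]; group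
      calc c' ^ (i + 1) * x * (c' ^ (i + 1))⁻¹ = c' * (c' ^ i * x * (c' ^ i)⁻¹) * c'⁻¹ := by
            rw [pow_succ']; group
        _ = c' * (d ^ i * x) * c'⁻¹ := by rw [ih]
        _ = c' * d ^ i * c'⁻¹ * (c' * x * c'⁻¹) := by group
        _ = _ := by rw [hcd, h1, pow_succ]; group
  have hdm : d ^ m = 1 := by
    have := hiter m
    rw [hc'pow, one_mul, inv_one, mul_one] at this
    exact mul_eq_right.mp this.symm
  have hd1 : d = 1 := by
    obtain ⟨j, hj⟩ := (P.2.to_le hR.1) ⟨d, hdR⟩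
    have hj' : d ^ (p ^ j) = 1 := congrArg Subtype.val hj
    have hco : Nat.gcd (p ^ j) m = 1 :=
      Nat.Coprime.pow_left j ((Fact.out : p.Prime).coprime_iff_not_dvd.mpr hm)
    simpa [hco] using pow_gcd_eq_one.mpr ⟨hj', hdm⟩
  rw [hd1, one_mul] at h1
  calc c * x * c⁻¹ = z * (c' * x * c'⁻¹) * z⁻¹ := by rw [← hzc]; group
    _ = z * x * z⁻¹ := by rw [h1]

/-- A map of an invariant saturated system on a centric subgroup, induced by an element normalising it and `P`,
extends to the normaliser. -/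
theorem ec_normalizerIn {E : FusionSystem (P : Subgroup G)}
    (hE : E.IsInvariantIn (groupFusionSystem (P : Subgroup G))) (hsat : E.IsSaturated p) {R : Subgroup G}
    (hR : (groupFusionSystem (P : Subgroup G)).IsCentric R) {g : G} (hgR : g ∈ Subgroup.normalizer (R : Set G))
    (hgP : g ∈ Subgroup.normalizer ((P : Subgroup G) : Set G)) (h : EC E R g) :
    EC E (normalizerIn (P : Subgroup G) R) g := by
  set N := normalizerIn (P : Subgroup G) R with hN
  have hgN : ∀ n, g * n * g⁻¹ ∈ N ↔ n ∈ N := fun n => by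
    constructor
    · rintro ⟨h1, h2⟩
      refine ⟨(conj_mem_iff_of_mem_normalizer hgP).mp h1, ?_⟩
      have h2' : g * n * g⁻¹ ∈ Subgroup.normalizer (R : Set G) := h2
      have := Subgroup.mul_mem _ (Subgroup.mul_mem _ (Subgroup.inv_mem _ hgR) h2') hgR
      show n ∈ Subgroup.normalizer (R : Set G)
      convert this using 1
      group
    · rintro ⟨h1, h2⟩
      exact ⟨(conj_mem_iff_of_mem_normalizer hgP).mpr h1,
        Subgroup.mul_mem _ (Subgroup.mul_mem _ hgR h2) (Subgroup.inv_mem _ hgR)⟩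
  have hEcentric : E.IsCentric R := by
    refine ⟨hR.1, fun Q ⟨φ, hφ, hr⟩ => hR.2 Q ⟨φ, hE.1 R hφ, hr⟩⟩
  have hrange : (conjHom R g).range = R := by
    ext y
    constructor
    · rintro ⟨x, rfl⟩; exact (conj_mem_iff_of_mem_normalizer hgR).mpr x.2
    · intro hy
      exact (map_conj_eq_of_mem_normalizer hgR).ge hy |> fun ⟨x, hx, hxy⟩ => ⟨⟨x, hx⟩, hxy⟩
  obtain ⟨ψ, hψ, hψN, hψR⟩ := extend_centric_aut P.2 E hsat hEcentric h
    (fun x => (conj_mem_iff_of_mem_normalizer hgR).mpr x.2) hrange fun n hn =>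
      ⟨g * n * g⁻¹, (hgN n).mpr hn, fun x hx => by
        show g * (n * x * n⁻¹) * g⁻¹ = g * n * g⁻¹ * (g * x * g⁻¹) * (g * n * g⁻¹)⁻¹
        group⟩
  obtain ⟨k, rfl⟩ := ec_exists E hE hψ
  have hRN : R ≤ N := le_inf hR.1 Subgroup.le_normalizer
  have hcC : g⁻¹ * k ∈ Subgroup.centralizer (R : Set G) := by
    refine Subgroup.mem_centralizer_iff.mpr fun x hx => ?_
    have h1 : k * x * k⁻¹ = g * x * g⁻¹ := hψR x hx (hRN hx)
    calc x * (g⁻¹ * k) = g⁻¹ * (g * x * g⁻¹) * k := by group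
      _ = _ := by rw [← h1]; group
  have hcN : ∀ x ∈ N, g⁻¹ * k * x * (g⁻¹ * k)⁻¹ * x⁻¹ ∈ R := by
    intro x hx
    have h1 : g⁻¹ * k * x * (g⁻¹ * k)⁻¹ ∈ N := by
      rw [← hgN]
      convert hψN ⟨x, hx⟩ using 1
      show _ = k * x * k⁻¹
      group
    have hmem : g⁻¹ * k * x * (g⁻¹ * k)⁻¹ * x⁻¹ ∈ centralizerIn (P : Subgroup G) R := by
      refine ⟨Subgroup.mul_mem _ (Subgroup.mem_inf.mp h1).1 (Subgroup.inv_mem _ (Subgroup.mem_inf.mp hx).1),
        Subgroup.mem_centralizer_iff.mpr fun r hr => ?_⟩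
      set c := g⁻¹ * k
      have hxr : x⁻¹ * r * x ∈ R := by
        have := (conj_mem_iff_of_mem_normalizer (Subgroup.inv_mem _ (Subgroup.mem_inf.mp hx).2)).mpr hr
        rwa [inv_inv] at this
      calc r * (c * x * c⁻¹ * x⁻¹)
          = r * c * x * c⁻¹ * x⁻¹ := by group
        _ = c * r * x * c⁻¹ * x⁻¹ := by rw [Subgroup.mem_centralizer_iff.mp hcC r hr]
        _ = c * x * ((x⁻¹ * r * x) * c⁻¹) * x⁻¹ := by group
        _ = c * x * (c⁻¹ * (x⁻¹ * r * x)) * x⁻¹ := by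
              rw [Subgroup.mem_centralizer_iff.mp (Subgroup.inv_mem _ hcC) _ hxr]
        _ = _ := by group
    exact hR.2 R ⟨conjHom R 1, (groupFusionSystem _).conj_mem hR.1 (one_mem _), by
      ext y; exact ⟨fun ⟨x, hx⟩ => by simpa [← hx, conjHom] using x.2, fun hy => ⟨⟨y, hy⟩, by simp [conjHom]⟩⟩⟩ hmem
  obtain ⟨z, hz, hzN⟩ := exists_mem_conj_eq P hR (inf_le_right) hcC hcN
  have h1 : EC E N z⁻¹ := EC.of_mem E inf_le_left ((P : Subgroup G).inv_mem (hR.1 hz))
  have h2 := EC.comp E h1 hψ fun x hx =>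
    (conj_mem_iff_of_mem_normalizer (Subgroup.le_normalizer (hRN (R.inv_mem hz)))).mpr hx
  refine EC.congr E h2 fun x hx => ?_
  have hzx : z⁻¹ * x * z⁻¹⁻¹ ∈ N :=
    (conj_mem_iff_of_mem_normalizer (Subgroup.le_normalizer (hRN (R.inv_mem hz)))).mpr hx
  calc g * x * g⁻¹ = g * (z * (z⁻¹ * x * z⁻¹⁻¹) * z⁻¹) * g⁻¹ := by group
    _ = g * (g⁻¹ * k * (z⁻¹ * x * z⁻¹⁻¹) * (g⁻¹ * k)⁻¹) * g⁻¹ := by rw [hzN _ hzx]
    _ = _ := by group

/-- Extension all the way up to the Sylow subgroup. -/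
theorem ec_top {E : FusionSystem (P : Subgroup G)}
    (hE : E.IsInvariantIn (groupFusionSystem (P : Subgroup G))) (hsat : E.IsSaturated p) {R : Subgroup G}
    (hR : (groupFusionSystem (P : Subgroup G)).IsCentric R) {g : G} (hgR : g ∈ Subgroup.normalizer (R : Set G))
    (hgP : g ∈ Subgroup.normalizer ((P : Subgroup G) : Set G)) (h : EC E R g) :
    EC E (P : Subgroup G) g := by
  induction hd : Nat.card (P : Subgroup G) - Nat.card R using Nat.strong_induction_on generalizing R with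
  | _ n ih =>
    rcases hR.1.eq_or_lt with heq | hlt
    · exact EC.mono E h heq.ge
    have hlt' : R < normalizerIn (P : Subgroup G) R := by
      refine lt_of_le_of_ne (le_inf hR.1 Subgroup.le_normalizer) fun heq => ?_
      have := P.2.isNilpotent
      have hnc : NormalizerCondition (P : Subgroup G) := Group.normalizerCondition_of_isNilpotent
      have hlt2 : R.subgroupOf P < ⊤ := by
        rw [lt_top_iff_ne_top, Ne, Subgroup.subgroupOf_eq_top]
        exact not_le_of_gt hlt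
      obtain ⟨x, hxN, hxR⟩ := SetLike.exists_of_lt (hnc _ hlt2)
      refine hxR (show (x : G) ∈ R from heq.ge ⟨x.2, ?_⟩)
      refine Subgroup.mem_normalizer_iff.mpr fun y => ?_
      constructor
      · intro hy
        have := (Subgroup.mem_normalizer_iff.mp hxN ⟨y, hR.1 hy⟩).mp hy
        exact this
      · intro hy
        have hyP : y ∈ (P : Subgroup G) := by
          have := (P : Subgroup G).mul_mem ((P : Subgroup G).mul_mem ((P : Subgroup G).inv_mem x.2) (hR.1 hy)) x.2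
          convert this using 1
          group
        exact (Subgroup.mem_normalizer_iff.mp hxN ⟨y, hyP⟩).mpr hy
    have hN := centric_of_le P hR hlt'.le inf_le_left
    have hgN : g ∈ Subgroup.normalizer ((normalizerIn (P : Subgroup G) R) : Set G) := by
      refine Subgroup.mem_normalizer_iff.mpr fun y => ?_
      exact (conj_mem_iff_of_mem_normalizer hgP).symm.and
        (conj_mem_iff_of_mem_normalizer (Subgroup.le_normalizer hgR)).symm
    refine ih _ ?_ hN hgN (ec_normalizerIn P hE hsat hR hgR hgP h) rfl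
    have h1 : Nat.card R < Nat.card (normalizerIn (P : Subgroup G) R) :=
      Set.ncard_lt_ncard hlt' (Set.toFinite _)
    have h2 : Nat.card (normalizerIn (P : Subgroup G) R) ≤ Nat.card (P : Subgroup G) :=
      Nat.le_of_dvd Nat.card_pos (Subgroup.card_dvd_of_le inf_le_left)
    omega

/-- `O^{p'}(N_G(R))` written as in the statements. -/
abbrev pElts (p : ℕ) (R : Subgroup G) : Subgroup G :=
  Subgroup.closure {g : G | g ∈ Subgroup.normalizer (R : Set G) ∧ ∃ k : ℕ, orderOf g = p ^ k}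

theorem pElts_le_normalizerPart {E : FusionSystem (P : Subgroup G)}
    (hE : E.IsInvariantIn (groupFusionSystem (P : Subgroup G))) {R : Subgroup G}
    (hR : (groupFusionSystem (P : Subgroup G)).IsFullyNormalized R) :
    pElts p R ≤ normalizerPart E R hR.1 := by
  rw [pElts, Subgroup.closure_le]
  rintro u ⟨huN, k, hk⟩
  let N₀ : Subgroup G := normalizerIn (P : Subgroup G) R
  let W := Subgroup.normalizer (R : Set G)
  have hN₀p : IsPGroup p (N₀.subgroupOf W) :=
    (P.2.to_le inf_le_left).comap_of_injective W.subtype W.subtype_injective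
  obtain ⟨T, hT⟩ := hN₀p.exists_le_sylow
  have hTeq : (T : Subgroup W).map W.subtype = N₀ := by
    refine (Subgroup.eq_of_le_of_card_ge ?_ ?_).symm
    · intro x hx
      exact ⟨⟨x, (Subgroup.mem_inf.mp hx).2⟩, hT hx, rfl⟩
    · exact card_le_of_fullyNormalized P hR (T.2.map _) (Subgroup.map_subtype_le _)
  have hup : IsPGroup p (Subgroup.zpowers (⟨u, huN⟩ : W)) :=
    IsPGroup.of_card (n := k) (by rw [Nat.card_zpowers, ← Subgroup.orderOf_coe, hk])
  obtain ⟨T', hT'⟩ := hup.exists_le_sylow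
  obtain ⟨w, hw⟩ := MulAction.exists_smul_eq W T' T
  have h1 : w * ⟨u, huN⟩ * w⁻¹ ∈ (T : Subgroup W) := by
    rw [← hw, Sylow.coe_subgroup_smul]
    exact Subgroup.smul_mem_pointwise_smul _ (MulAut.conj w) _ (hT' (Subgroup.mem_zpowers _))
  have h2 : (w : G) * u * (w : G)⁻¹ ∈ N₀ := hTeq.le ⟨_, h1, rfl⟩
  have h3 : (w : G) * u * (w : G)⁻¹ ∈ normalizerPart E R hR.1 :=
    ⟨(Subgroup.mem_inf.mp h2).2, EC.of_mem E hR.1 (Subgroup.mem_inf.mp h2).1⟩
  have h4 := normalizerPart_conj E hE hR.1 h3 (W.inv_mem w.2)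
  show u ∈ normalizerPart E R hR.1
  convert h4 using 1
  group

/-- The elements of `N_G(P)` that `E` sees on the whole of `P`. -/
abbrev topPart (E : FusionSystem (P : Subgroup G)) : Subgroup G := normalizerPart E (P : Subgroup G) le_rfl

/-- The criterion. -/
theorem isSimple (hF : (groupFusionSystem (P : Subgroup G)).IsSaturated p) (hP : (P : Subgroup G) ≠ ⊥)
    (hclosed : ∀ T : Subgroup G, (groupFusionSystem (P : Subgroup G)).StronglyClosed T → T = ⊥ ∨ T = P)
    (hgen : Subgroup.normalizer ((P : Subgroup G) : Set G) ≤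
      (⨆ (R : Subgroup G) (_ : (groupFusionSystem (P : Subgroup G)).IsFullyNormalized R ∧
          (groupFusionSystem (P : Subgroup G)).IsCentric R),
        pElts p R ⊓ Subgroup.normalizer ((P : Subgroup G) : Set G)) ⊔
      Subgroup.centralizer ((P : Subgroup G) : Set G)) :
    (groupFusionSystem (P : Subgroup G)).IsSimple p := by
  refine ⟨hF, hP, fun T E hE => ?_⟩
  obtain ⟨⟨hsat, -, hinv⟩, -⟩ := hE
  rcases hclosed T hinv.2.1 with hT | hT
  · exact Or.inl hT
  subst hT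
  refine Or.inr ⟨rfl, fun R => Set.Subset.antisymm (hinv.1 R) ?_⟩
  have htop : Subgroup.normalizer ((P : Subgroup G) : Set G) ≤ topPart P E := by
    refine hgen.trans (sup_le (iSup₂_le fun Q hQ => ?_) ?_)
    · rintro g ⟨hg, hgP⟩
      obtain ⟨hgQ, hgE⟩ := pElts_le_normalizerPart P hinv hQ.1 hg
      exact ⟨hgP, ec_top P hinv hsat hQ.2 hgQ hgP hgE⟩
    · intro c hc
      refine ⟨Subgroup.centralizer_le_normalizer _ hc,
        EC.congr E (EC.of_mem E le_rfl ((P : Subgroup G).one_mem)) fun x hx => ?_⟩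
      rw [← Subgroup.mem_centralizer_iff.mp hc x hx]
      group
  rintro φ ⟨hR, hφ, g, hg⟩
  obtain rfl := eq_conjHom hg
  obtain ⟨a, ha, he⟩ := frattini E hinv hR (g := g) fun x hx => hφ ⟨x, hx⟩
  have h1 := EC.comp E he (htop ha).2 fun x hx => EC.mem E he hx
  rw [mul_inv_cancel_left] at h1
  exact h1

end Sylow

end Cfsg.Agent.Fusion.GroupSimple
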