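import Mathlib
import Cfsg.Agent.Lib.Fusion.UniTri

/-!
Block coordinates on the symplectic group: unipotent, Levi and Borel elements.
-/

set_option autoImplicit false

namespace Cfsg.Agent.Fusion.SympBlocks

open Matrix Cfsg.Agent.Fusion.UniTri

variable {m : ℕ} {F : Type*} [Field F]

local notation "Mm" => Matrix (Fin m) (Fin m) F
local notation "M2" => Matrix (Fin m ⊕ Fin m) (Fin m ⊕ Fin m) F
local notation "Sp" => Matrix.symplecticGroup (Fin m) F

/-- upper left block -/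
def bA (X : Sp) : Mm := (X : M2).toBlocks₁₁
/-- upper right block -/
def bB (X : Sp) : Mm := (X : M2).toBlocks₁₂
/-- lower left block -/
def bC (X : Sp) : Mm := (X : M2).toBlocks₂₁
/-- lower right block -/
def bD (X : Sp) : Mm := (X : M2).toBlocks₂₂

theorem coe_eq (X : Sp) : (X : M2) = fromBlocks (bA X) (bB X) (bC X) (bD X) :=
  (fromBlocks_toBlocks _).symm

theorem ext_blocks {X Y : Sp} (hA : bA X = bA Y) (hB : bB X = bB Y) (hC : bC X = bC Y)
    (hD : bD X = bD Y) : X = Y :=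
  Subtype.ext (by rw [coe_eq X, coe_eq Y, hA, hB, hC, hD])

/-- An element from its blocks. -/
def ofBlocks (A B C D : Mm) (h1 : Aᵀ * C = Cᵀ * A) (h2 : Bᵀ * D = Dᵀ * B)
    (h3 : Aᵀ * D - Cᵀ * B = 1) : Sp :=
  ⟨fromBlocks A B C D, SymplecticGroup.fromBlocks_mem_iff.mpr ⟨h1, h2, h3⟩⟩

@[simp] theorem bA_ofBlocks (A B C D : Mm) (h1 h2 h3) : bA (ofBlocks A B C D h1 h2 h3) = A :=
  toBlocks_fromBlocks₁₁ ..
@[simp] theorem bB_ofBlocks (A B C D : Mm) (h1 h2 h3) : bB (ofBlocks A B C D h1 h2 h3) = B :=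
  toBlocks_fromBlocks₁₂ ..
@[simp] theorem bC_ofBlocks (A B C D : Mm) (h1 h2 h3) : bC (ofBlocks A B C D h1 h2 h3) = C :=
  toBlocks_fromBlocks₂₁ ..
@[simp] theorem bD_ofBlocks (A B C D : Mm) (h1 h2 h3) : bD (ofBlocks A B C D h1 h2 h3) = D :=
  toBlocks_fromBlocks₂₂ ..

theorem rel (X : Sp) : (bA X)ᵀ * bC X = (bC X)ᵀ * bA X ∧ (bB X)ᵀ * bD X = (bD X)ᵀ * bB X ∧
    (bA X)ᵀ * bD X - (bC X)ᵀ * bB X = 1 :=
  SymplecticGroup.fromBlocks_mem_iff.mp (by rw [← coe_eq X]; exact X.2)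

theorem mul_eq (X Y : Sp) : ((X * Y : Sp) : M2) =
    fromBlocks (bA X * bA Y + bB X * bC Y) (bA X * bB Y + bB X * bD Y)
      (bC X * bA Y + bD X * bC Y) (bC X * bB Y + bD X * bD Y) := by
  rw [Submonoid.coe_mul, coe_eq X, coe_eq Y, fromBlocks_multiply]

@[simp] theorem bA_mul (X Y : Sp) : bA (X * Y) = bA X * bA Y + bB X * bC Y := by
  show ((X * Y : Sp) : M2).toBlocks₁₁ = _
  rw [mul_eq, toBlocks_fromBlocks₁₁]

@[simp] theorem bB_mul (X Y : Sp) : bB (X * Y) = bA X * bB Y + bB X * bD Y := by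
  show ((X * Y : Sp) : M2).toBlocks₁₂ = _
  rw [mul_eq, toBlocks_fromBlocks₁₂]

@[simp] theorem bC_mul (X Y : Sp) : bC (X * Y) = bC X * bA Y + bD X * bC Y := by
  show ((X * Y : Sp) : M2).toBlocks₂₁ = _
  rw [mul_eq, toBlocks_fromBlocks₂₁]

@[simp] theorem bD_mul (X Y : Sp) : bD (X * Y) = bC X * bB Y + bD X * bD Y := by
  show ((X * Y : Sp) : M2).toBlocks₂₂ = _
  rw [mul_eq, toBlocks_fromBlocks₂₂]

theorem one_eq : ((1 : Sp) : M2) = fromBlocks 1 0 0 1 := fromBlocks_one.symm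

@[simp] theorem bA_one : bA (1 : Sp) = 1 := by rw [bA, one_eq, toBlocks_fromBlocks₁₁]
@[simp] theorem bB_one : bB (1 : Sp) = 0 := by rw [bB, one_eq, toBlocks_fromBlocks₁₂]
@[simp] theorem bC_one : bC (1 : Sp) = 0 := by rw [bC, one_eq, toBlocks_fromBlocks₂₁]
@[simp] theorem bD_one : bD (1 : Sp) = 1 := by rw [bD, one_eq, toBlocks_fromBlocks₂₂]

/-! ### The Siegel unipotents -/

/-- `[[1, S], [0, 1]]`. -/
def sh (S : Mm) (hS : Sᵀ = S) : Sp :=
  ofBlocks 1 S 0 1 (by simp) (by simp [hS]) (by simp)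

theorem sh_mul {S S' : Mm} (hS : Sᵀ = S) (hS' : S'ᵀ = S') :
    sh S hS * sh S' hS' = sh (S + S') (by rw [transpose_add, hS, hS']) :=
  ext_blocks (by simp [sh]) (by simp [sh, add_comm]) (by simp [sh]) (by simp [sh])

theorem sh_congr {S S' : Mm} (hS : Sᵀ = S) (hS' : S'ᵀ = S') (h : S = S') : sh S hS = sh S' hS' := by
  subst h; rfl

theorem sh_zero : sh (0 : Mm) (by simp) = 1 :=
  ext_blocks (by simp [sh]) (by simp [sh]) (by simp [sh]) (by simp [sh])

theorem sh_inv {S : Mm} (hS : Sᵀ = S) : (sh S hS)⁻¹ = sh (-S) (by rw [transpose_neg, hS]) :=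
  inv_eq_of_mul_eq_one_right (by rw [sh_mul, sh_congr _ (transpose_zero) (add_neg_cancel S), sh_zero])

/-! ### The Levi embedding of `GL` -/

/-- `[[A, 0], [0, A⁻ᵀ]]`. -/
def lev : GL (Fin m) F →* Sp where
  toFun A := ofBlocks (A : Mm) 0 0 ((A⁻¹ : GL (Fin m) F) : Mm)ᵀ (by simp) (by simp)
    (by rw [← transpose_mul, Units.inv_mul]; simp)
  map_one' := ext_blocks (by simp) (by simp) (by simp) (by simp)
  map_mul' A B := ext_blocks (by simp) (by simp) (by simp) (by simp [transpose_mul])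

@[simp] theorem bA_lev (A : GL (Fin m) F) : bA (lev A) = (A : Mm) := toBlocks_fromBlocks₁₁ ..
@[simp] theorem bB_lev (A : GL (Fin m) F) : bB (lev A) = 0 := toBlocks_fromBlocks₁₂ ..
@[simp] theorem bC_lev (A : GL (Fin m) F) : bC (lev A) = 0 := toBlocks_fromBlocks₂₁ ..
@[simp] theorem bD_lev (A : GL (Fin m) F) : bD (lev A) = ((A⁻¹ : GL (Fin m) F) : Mm)ᵀ := toBlocks_fromBlocks₂₂ ..

theorem congr_symm {S : Mm} (hS : Sᵀ = S) (A : Mm) : (A * S * Aᵀ)ᵀ = A * S * Aᵀ := by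
  rw [transpose_mul, transpose_mul, transpose_transpose, hS, mul_assoc]

theorem lev_conj_sh (A : GL (Fin m) F) {S : Mm} (hS : Sᵀ = S) :
    lev A * sh S hS * (lev A)⁻¹ = sh ((A : Mm) * S * (A : Mm)ᵀ) (congr_symm hS _) := by
  rw [mul_inv_eq_iff_eq_mul]
  refine ext_blocks (by simp [sh]) ?_ (by simp [sh]) (by simp [sh])
  simp only [bB_mul, sh, bB_ofBlocks, bD_ofBlocks, bA_lev, bB_lev, bD_lev, bA_ofBlocks, zero_mul, add_zero,
    mul_zero, zero_add]
  rw [mul_assoc ((A : Mm) * S), ← transpose_mul, Units.inv_mul, transpose_one, mul_one]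

/-! ### Borel subgroup, unipotent subgroup, radicals -/

theorem inv_mem_of_finite' {M : Type*} [Group M] [Finite M] (N : Submonoid M) {x : M} (hx : x ∈ N) :
    x⁻¹ ∈ N := by
  rw [inv_eq_of_mul_eq_one_right (b := x ^ (orderOf x - 1))]
  · exact pow_mem hx _
  · rw [← pow_succ', Nat.sub_add_cancel (orderOf_pos x), pow_orderOf_eq_one]

/-- The monoid of block-triangular elements with upper triangular Levi part. -/
def borMonoid : Submonoid Sp where
  carrier := {X | bC X = 0 ∧ ∀ i j, j < i → bA X i j = 0}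
  one_mem' := ⟨bC_one, fun i j h => by simp [one_apply_ne h.ne']⟩
  mul_mem' := by
    rintro X Y ⟨hX, hX'⟩ ⟨hY, hY'⟩
    refine ⟨by simp [hX, hY], fun i j h => ?_⟩
    rw [bA_mul, hY, mul_zero, add_zero, Matrix.mul_apply]
    refine Finset.sum_eq_zero fun k _ => ?_
    by_cases hk : k < i
    · rw [hX' i k hk, zero_mul]
    · rw [hY' k j (lt_of_lt_of_le h (not_lt.mp hk)), mul_zero]

variable [Fintype F]

instance : Finite Sp := inferInstance

/-- The Borel subgroup. -/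
def bor : Subgroup Sp where
  toSubmonoid := borMonoid
  inv_mem' := inv_mem_of_finite' _

theorem mem_bor {X : Sp} : X ∈ bor ↔ bC X = 0 ∧ ∀ i j, j < i → bA X i j = 0 := Iff.rfl

theorem bA_mul_bor {X Y : Sp} (hY : Y ∈ bor) : bA (X * Y) = bA X * bA Y := by
  rw [bA_mul, hY.1, mul_zero, add_zero]

theorem bor_diag_mul {X Y : Sp} (hX : X ∈ bor) (hY : Y ∈ bor) (i : Fin m) :
    bA (X * Y) i i = bA X i i * bA Y i i := by
  rw [bA_mul_bor hY]
  exact mul_apply_le hX.2 hY.2 le_rfl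

theorem bor_diag_pow {X : Sp} (hX : X ∈ bor) (k : ℕ) (i : Fin m) :
    bA (X ^ k) i i = bA X i i ^ k := by
  induction k with
  | zero => simp
  | succ k ih => rw [pow_succ, bor_diag_mul (pow_mem hX k) hX, ih, pow_succ]

theorem bA_inv_mul {X : Sp} (hX : X ∈ bor) : bA X⁻¹ * bA X = 1 := by
  rw [← bA_mul_bor hX, inv_mul_cancel, bA_one]

theorem bA_mul_inv {X : Sp} (hX : X ∈ bor) : bA X * bA X⁻¹ = 1 := by
  rw [← bA_mul_bor (inv_mem hX), mul_inv_cancel, bA_one]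

theorem bD_eq {X : Sp} (hX : X ∈ bor) : bD X = (bA X⁻¹)ᵀ := by
  have h := (rel X).2.2
  rw [hX.1, transpose_zero, zero_mul, sub_zero] at h
  calc bD X = ((bA X⁻¹)ᵀ * (bA X)ᵀ) * bD X := by rw [← transpose_mul, bA_mul_inv hX]; simp
    _ = _ := by rw [mul_assoc, h, mul_one]

theorem bA_diag_inv {X : Sp} (hX : X ∈ bor) (i : Fin m) : bA X⁻¹ i i * bA X i i = 1 := by
  rw [← bor_diag_mul (inv_mem hX) hX, inv_mul_cancel, bA_one, one_apply_eq]

theorem bA_diag_ne_zero {X : Sp} (hX : X ∈ bor) (i : Fin m) : bA X i i ≠ 0 :=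
  fun h => by simpa [h] using bA_diag_inv hX i

/-- The monoid of unipotent Borel elements. -/
def spUniMonoid : Submonoid Sp where
  carrier := {X | X ∈ bor ∧ ∀ i, bA X i i = 1}
  one_mem' := ⟨one_mem _, fun i => by simp⟩
  mul_mem' := fun hX hY => ⟨mul_mem hX.1 hY.1, fun i => by rw [bor_diag_mul hX.1 hY.1, hX.2, hY.2, one_mul]⟩

/-- The unipotent subgroup `U`. -/
def spUni : Subgroup Sp where
  toSubmonoid := spUniMonoid
  inv_mem' := inv_mem_of_finite' _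

theorem mem_spUni {X : Sp} : X ∈ spUni ↔ X ∈ bor ∧ ∀ i, bA X i i = 1 := Iff.rfl

/-- The Levi part of a unipotent element, in `SL`. -/
def toSL {X : Sp} (hX : X ∈ spUni) : Matrix.SpecialLinearGroup (Fin m) F :=
  ⟨bA X, by
    rw [det_of_isUpperTriangular (M := bA X) fun i j h => hX.1.2 i j h]
    exact Finset.prod_eq_one fun i _ => hX.2 i⟩

theorem toSL_mem {X : Sp} (hX : X ∈ spUni) : toSL hX ∈ (uni : Subgroup (Matrix.SpecialLinearGroup (Fin m) F)) :=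
  ⟨fun i j h => hX.1.2 i j h, hX.2⟩

theorem spUni_bA_apply_eq {X : Sp} (hX : X ∈ spUni) {l : Fin m} (hl : ∀ i, i ≤ l) (M : Mm) (j : Fin m) :
    (bA X * M) l j = M l j := by
  rw [Matrix.mul_apply, Finset.sum_eq_single l, hX.2, one_mul]
  · intro k _ hk
    rw [hX.1.2 l k (lt_of_le_of_ne (hl k) hk), zero_mul]
  · simp

theorem spUni_bD_apply_eq {X : Sp} (hX : X ∈ spUni) {l : Fin m} (hl : ∀ i, i ≤ l) (M : Mm) (i : Fin m) :
    (M * bD X) i l = M i l := by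
  rw [bD_eq hX.1, Matrix.mul_apply, Finset.sum_eq_single l, transpose_apply, (inv_mem hX : X⁻¹ ∈ spUni).2, mul_one]
  · intro k _ hk
    rw [transpose_apply, (inv_mem hX : X⁻¹ ∈ spUni).1.2 l k (lt_of_le_of_ne (hl k) hk), mul_zero]
  · simp

theorem sh_mem_spUni {S : Mm} (hS : Sᵀ = S) : sh S hS ∈ spUni :=
  ⟨⟨by simp [sh], fun i j h => by simp [sh, one_apply_ne h.ne']⟩, fun i => by simp [sh]⟩

theorem lev_mem_bor {A : GL (Fin m) F} (h : ∀ i j, j < i → (A : Mm) i j = 0) : lev A ∈ bor :=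
  ⟨bC_lev A, fun i j hij => by rw [bA_lev]; exact h i j hij⟩

/-- `Q`: the Siegel radical. -/
def siegel : Subgroup Sp where
  carrier := {X | X ∈ spUni ∧ bA X = 1}
  one_mem' := ⟨one_mem _, bA_one⟩
  mul_mem' := fun hX hY => ⟨mul_mem hX.1 hY.1, by rw [bA_mul_bor hY.1.1, hX.2, hY.2, one_mul]⟩
  inv_mem' := fun {X} hX => ⟨inv_mem hX.1, by
    have := bA_inv_mul hX.1.1
    rwa [hX.2, mul_one] at this⟩

theorem mem_siegel {X : Sp} : X ∈ siegel ↔ X ∈ spUni ∧ bA X = 1 := Iff.rfl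

theorem sh_mem_siegel {S : Mm} (hS : Sᵀ = S) : sh S hS ∈ siegel := ⟨sh_mem_spUni hS, by simp [sh]⟩

theorem exists_sh_of_mem_siegel {X : Sp} (hX : X ∈ siegel) : ∃ (S : Mm) (hS : Sᵀ = S), X = sh S hS := by
  have hD : bD X = 1 := by rw [bD_eq hX.1.1, (inv_mem hX : X⁻¹ ∈ siegel).2, transpose_one]
  have hB : (bB X)ᵀ = bB X := by simpa [hD] using (rel X).2.1
  exact ⟨bB X, hB, ext_blocks (by simp [sh, hX.2]) (by simp [sh]) (by simp [sh, hX.1.1.1]) (by simp [sh, hD])⟩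

theorem bB_last_mul {X Y : Sp} (hX : X ∈ spUni) (hY : Y ∈ spUni) {l : Fin m} (hl : ∀ i, i ≤ l) :
    bB (X * Y) l l = bB Y l l + bB X l l := by
  rw [bB_mul, Matrix.add_apply, spUni_bA_apply_eq hX hl, spUni_bD_apply_eq hY hl]

/-- `R`: the radical of the long simple root. -/
def longRad (l : Fin m) (hl : ∀ i, i ≤ l) : Subgroup Sp where
  carrier := {X | X ∈ spUni ∧ bB X l l = 0}
  one_mem' := ⟨one_mem _, by simp⟩
  mul_mem' := fun hX hY => ⟨mul_mem hX.1 hY.1, by rw [bB_last_mul hX.1 hY.1 hl, hX.2, hY.2, add_zero]⟩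
  inv_mem' := fun {X} hX => ⟨inv_mem hX.1, by
    have := bB_last_mul hX.1 (inv_mem hX.1) hl
    rw [mul_inv_cancel, hX.2, add_zero, bB_one] at this
    simpa using this.symm⟩

theorem mem_longRad {l : Fin m} {hl : ∀ i, i ≤ l} {X : Sp} :
    X ∈ longRad l hl ↔ X ∈ spUni ∧ bB X l l = 0 := Iff.rfl

theorem spUni_le_normalizer_siegel : (spUni : Subgroup Sp) ≤ Subgroup.normalizer ((siegel : Subgroup Sp) : Set Sp) := by
  intro u hu
  refine Subgroup.mem_normalizer_iff_map_conj_eq.mpr (Subgroup.eq_of_le_of_card_ge ?_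
    (Subgroup.card_map_of_injective (MulAut.conj u).injective).ge)
  rintro _ ⟨r, hr, rfl⟩
  refine ⟨mul_mem (mul_mem hu hr.1) (inv_mem hu), ?_⟩
  show bA (u * r * u⁻¹) = 1
  rw [bA_mul_bor (inv_mem hu.1), bA_mul_bor hr.1.1, hr.2, mul_one, bA_mul_inv hu.1]

theorem spUni_le_normalizer_longRad {l : Fin m} {hl : ∀ i, i ≤ l} :
    (spUni : Subgroup Sp) ≤ Subgroup.normalizer ((longRad l hl : Subgroup Sp) : Set Sp) := by
  intro u hu
  refine Subgroup.mem_normalizer_iff_map_conj_eq.mpr (Subgroup.eq_of_le_of_card_ge ?_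
    (Subgroup.card_map_of_injective (MulAut.conj u).injective).ge)
  rintro _ ⟨r, hr, rfl⟩
  refine ⟨mul_mem (mul_mem hu hr.1) (inv_mem hu), ?_⟩
  show bB (u * r * u⁻¹) l l = 0
  have h1 := bB_last_mul hu (inv_mem hu) hl
  rw [mul_inv_cancel, bB_one] at h1
  rw [bB_last_mul (mul_mem hu hr.1) (inv_mem hu) hl, bB_last_mul hu hr.1 hl, hr.2, zero_add]
  simpa using h1.symm

theorem lev_mem_normalizer_siegel (A : GL (Fin m) F) : lev A ∈ Subgroup.normalizer (siegel (m := m) (F := F) : Set Sp) := by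
  refine Subgroup.mem_normalizer_iff_map_conj_eq.mpr (Subgroup.eq_of_le_of_card_ge ?_
    (Subgroup.card_map_of_injective (MulAut.conj (lev A)).injective).ge)
  rintro _ ⟨r, hr, rfl⟩
  obtain ⟨S, hS, rfl⟩ := exists_sh_of_mem_siegel hr
  show lev A * sh S hS * (lev A)⁻¹ ∈ siegel
  rw [lev_conj_sh]
  exact sh_mem_siegel _

end Cfsg.Agent.Fusion.SympBlocks
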