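import Mathlib
import Cfsg.Agent.Lib.Fusion.SympBlocks

/-!
The special unitary group in hyperbolic coordinates: blocks of sizes `r`, `d`, `r`.
-/

set_option autoImplicit false
set_option linter.unusedSectionVars false

namespace Cfsg.Agent.Fusion.HermBlocks

open Matrix Cfsg.Agent.Fusion.UniTri

/-- The index type. -/
abbrev Hix (r d : ℕ) : Type := Fin r ⊕ (Fin d ⊕ Fin r)

/-- The involution of the index exchanging the two hyperbolic halves. -/
def flip (r d : ℕ) : Hix r d ≃ Hix r d where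
  toFun x := match x with
    | Sum.inl i => Sum.inr (Sum.inr i)
    | Sum.inr (Sum.inl k) => Sum.inr (Sum.inl k)
    | Sum.inr (Sum.inr i) => Sum.inl i
  invFun x := match x with
    | Sum.inl i => Sum.inr (Sum.inr i)
    | Sum.inr (Sum.inl k) => Sum.inr (Sum.inl k)
    | Sum.inr (Sum.inr i) => Sum.inl i
  left_inv x := by rcases x with i | k | i <;> rfl
  right_inv x := by rcases x with i | k | i <;> rfl

theorem flip_symm (r d : ℕ) : (flip r d).symm = flip r d := rfl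

variable {r d : ℕ} {F : Type*} [Field F]

local notation "RR" => Matrix (Fin r) (Fin r) F
local notation "RD" => Matrix (Fin r) (Fin d) F
local notation "DR" => Matrix (Fin d) (Fin r) F
local notation "DD" => Matrix (Fin d) (Fin d) F
local notation "MM" => Matrix (Hix r d) (Hix r d) F

/-! ### three by three blocks -/

/-- A matrix from its nine blocks. -/
def mk3 (A : RR) (B : RD) (C : RR) (D : DR) (E : DD) (G : DR) (H : RR) (I : RD) (K : RR) : MM :=
  fromBlocks A (fromCols B C) (fromRows D H) (fromBlocks E G I K)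

/-- block (1,1) -/
def c11 (M : MM) : RR := M.submatrix Sum.inl Sum.inl
/-- block (1,2) -/
def c12 (M : MM) : RD := M.submatrix Sum.inl (Sum.inr ∘ Sum.inl)
/-- block (1,3) -/
def c13 (M : MM) : RR := M.submatrix Sum.inl (Sum.inr ∘ Sum.inr)
/-- block (2,1) -/
def c21 (M : MM) : DR := M.submatrix (Sum.inr ∘ Sum.inl) Sum.inl
/-- block (2,2) -/
def c22 (M : MM) : DD := M.submatrix (Sum.inr ∘ Sum.inl) (Sum.inr ∘ Sum.inl)
/-- block (2,3) -/
def c23 (M : MM) : DR := M.submatrix (Sum.inr ∘ Sum.inl) (Sum.inr ∘ Sum.inr)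
/-- block (3,1) -/
def c31 (M : MM) : RR := M.submatrix (Sum.inr ∘ Sum.inr) Sum.inl
/-- block (3,2) -/
def c32 (M : MM) : RD := M.submatrix (Sum.inr ∘ Sum.inr) (Sum.inr ∘ Sum.inl)
/-- block (3,3) -/
def c33 (M : MM) : RR := M.submatrix (Sum.inr ∘ Sum.inr) (Sum.inr ∘ Sum.inr)

theorem mk3_eta (M : MM) :
    mk3 (c11 M) (c12 M) (c13 M) (c21 M) (c22 M) (c23 M) (c31 M) (c32 M) (c33 M) = M := by
  ext i j
  rcases i with i | i | i <;> rcases j with j | j | j <;> rfl

section proj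
variable (A : Matrix (Fin r) (Fin r) F) (B : Matrix (Fin r) (Fin d) F) (C : Matrix (Fin r) (Fin r) F) (D : Matrix (Fin d) (Fin r) F) (E : Matrix (Fin d) (Fin d) F) (G : Matrix (Fin d) (Fin r) F) (H : Matrix (Fin r) (Fin r) F) (I : Matrix (Fin r) (Fin d) F) (K : Matrix (Fin r) (Fin r) F)
@[simp] theorem c11_mk3 : c11 (mk3 A B C D E G H I K) = A := rfl
@[simp] theorem c12_mk3 : c12 (mk3 A B C D E G H I K) = B := rfl
@[simp] theorem c13_mk3 : c13 (mk3 A B C D E G H I K) = C := rfl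
@[simp] theorem c21_mk3 : c21 (mk3 A B C D E G H I K) = D := rfl
@[simp] theorem c22_mk3 : c22 (mk3 A B C D E G H I K) = E := rfl
@[simp] theorem c23_mk3 : c23 (mk3 A B C D E G H I K) = G := rfl
@[simp] theorem c31_mk3 : c31 (mk3 A B C D E G H I K) = H := rfl
@[simp] theorem c32_mk3 : c32 (mk3 A B C D E G H I K) = I := rfl
@[simp] theorem c33_mk3 : c33 (mk3 A B C D E G H I K) = K := rfl
end proj

theorem ext3 {M N : MM} (h11 : c11 M = c11 N) (h12 : c12 M = c12 N) (h13 : c13 M = c13 N)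
    (h21 : c21 M = c21 N) (h22 : c22 M = c22 N) (h23 : c23 M = c23 N)
    (h31 : c31 M = c31 N) (h32 : c32 M = c32 N) (h33 : c33 M = c33 N) : M = N := by
  rw [← mk3_eta M, ← mk3_eta N, h11, h12, h13, h21, h22, h23, h31, h32, h33]

section mul
variable (M N : Matrix (Hix r d) (Hix r d) F)
@[simp] theorem c11_mul : c11 (M * N) = c11 M * c11 N + c12 M * c21 N + c13 M * c31 N := by
  ext i j; simp [c11, c12, c13, c21, c31, Matrix.mul_apply, Fintype.sum_sum_type, add_assoc]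
@[simp] theorem c12_mul : c12 (M * N) = c11 M * c12 N + c12 M * c22 N + c13 M * c32 N := by
  ext i j; simp [c11, c12, c13, c22, c32, Matrix.mul_apply, Fintype.sum_sum_type, add_assoc]
@[simp] theorem c13_mul : c13 (M * N) = c11 M * c13 N + c12 M * c23 N + c13 M * c33 N := by
  ext i j; simp [c11, c12, c13, c23, c33, Matrix.mul_apply, Fintype.sum_sum_type, add_assoc]
@[simp] theorem c21_mul : c21 (M * N) = c21 M * c11 N + c22 M * c21 N + c23 M * c31 N := by
  ext i j; simp [c21, c22, c23, c11, c31, Matrix.mul_apply, Fintype.sum_sum_type, add_assoc]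
@[simp] theorem c22_mul : c22 (M * N) = c21 M * c12 N + c22 M * c22 N + c23 M * c32 N := by
  ext i j; simp [c21, c22, c23, c12, c32, Matrix.mul_apply, Fintype.sum_sum_type, add_assoc]
@[simp] theorem c23_mul : c23 (M * N) = c21 M * c13 N + c22 M * c23 N + c23 M * c33 N := by
  ext i j; simp [c21, c22, c23, c13, c33, Matrix.mul_apply, Fintype.sum_sum_type, add_assoc]
@[simp] theorem c31_mul : c31 (M * N) = c31 M * c11 N + c32 M * c21 N + c33 M * c31 N := by
  ext i j; simp [c31, c32, c33, c11, c21, Matrix.mul_apply, Fintype.sum_sum_type, add_assoc]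
@[simp] theorem c32_mul : c32 (M * N) = c31 M * c12 N + c32 M * c22 N + c33 M * c32 N := by
  ext i j; simp [c31, c32, c33, c12, c22, Matrix.mul_apply, Fintype.sum_sum_type, add_assoc]
@[simp] theorem c33_mul : c33 (M * N) = c31 M * c13 N + c32 M * c23 N + c33 M * c33 N := by
  ext i j; simp [c31, c32, c33, c13, c23, Matrix.mul_apply, Fintype.sum_sum_type, add_assoc]
end mul

@[simp] theorem c11_one : c11 (1 : MM) = 1 := by ext i j; simp [c11, Matrix.one_apply]
@[simp] theorem c12_one : c12 (1 : MM) = 0 := by ext i j; simp [c12, Matrix.one_apply]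
@[simp] theorem c13_one : c13 (1 : MM) = 0 := by ext i j; simp [c13, Matrix.one_apply]
@[simp] theorem c21_one : c21 (1 : MM) = 0 := by ext i j; simp [c21, Matrix.one_apply]
@[simp] theorem c22_one : c22 (1 : MM) = 1 := by ext i j; simp [c22, Matrix.one_apply]
@[simp] theorem c23_one : c23 (1 : MM) = 0 := by ext i j; simp [c23, Matrix.one_apply]
@[simp] theorem c31_one : c31 (1 : MM) = 0 := by ext i j; simp [c31, Matrix.one_apply]
@[simp] theorem c32_one : c32 (1 : MM) = 0 := by ext i j; simp [c32, Matrix.one_apply]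
@[simp] theorem c33_one : c33 (1 : MM) = 1 := by ext i j; simp [c33, Matrix.one_apply]

theorem det_mk3_upper (A : RR) (B : RD) (C : RR) (E : DD) (G : DR) (K : RR) :
    (mk3 A B C 0 E G 0 0 K).det = A.det * (E.det * K.det) := by
  rw [mk3, fromRows_zero, det_fromBlocks_zero₂₁, det_fromBlocks_zero₂₁]

theorem det_mk3_lower (A : RR) (D : DR) (E : DD) (H : RR) (I : RD) (K : RR) :
    (mk3 A 0 0 D E 0 H I K).det = A.det * (E.det * K.det) := by
  rw [mk3, fromCols_zero, det_fromBlocks_zero₁₂, det_fromBlocks_zero₁₂]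

/-! ### conjugate transpose -/

variable (σ : F ≃+* F) [hσ : Fact (∀ a, σ (σ a) = a)]

/-- Conjugate transpose. -/
def ct {m n : Type*} (M : Matrix m n F) : Matrix n m F := (M.map σ)ᵀ

theorem ct_apply {m n : Type*} (M : Matrix m n F) (i : n) (j : m) : ct σ M i j = σ (M j i) := rfl

theorem sigma_sigma (a : F) : σ (σ a) = a := hσ.out a

@[simp] theorem ct_mul {l m n : Type*} [Fintype m] (M : Matrix l m F) (N : Matrix m n F) :
    ct σ (M * N) = ct σ N * ct σ M := by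
  rw [ct, Matrix.map_mul, transpose_mul]; rfl
@[simp] theorem ct_add {m n : Type*} (M N : Matrix m n F) : ct σ (M + N) = ct σ M + ct σ N := by
  ext i j; simp [ct_apply]
@[simp] theorem ct_sub {m n : Type*} (M N : Matrix m n F) : ct σ (M - N) = ct σ M - ct σ N := by
  ext i j; simp [ct_apply]
@[simp] theorem ct_neg {m n : Type*} (M : Matrix m n F) : ct σ (-M) = -ct σ M := by
  ext i j; simp [ct_apply]
@[simp] theorem ct_zero {m n : Type*} : ct σ (0 : Matrix m n F) = 0 := by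
  ext i j; simp [ct_apply]
@[simp] theorem ct_one {m : Type*} [DecidableEq m] : ct σ (1 : Matrix m m F) = 1 := by
  ext i j; rw [ct_apply, one_apply, one_apply]; split_ifs <;> simp_all
@[simp] theorem ct_smul {m n : Type*} (a : F) (M : Matrix m n F) : ct σ (a • M) = σ a • ct σ M := by
  ext i j; simp [ct_apply]
@[simp] theorem ct_ct {m n : Type*} (M : Matrix m n F) : ct σ (ct σ M) = M := by
  ext i j; simp [ct_apply, sigma_sigma σ]
theorem ct_single {m n : Type*} [DecidableEq m] [DecidableEq n] (i : m) (j : n) (a : F) :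
    ct σ (single i j a) = single j i (σ a) := by
  ext k l
  rw [ct_apply, single_apply, single_apply]
  by_cases h : i = l ∧ j = k
  · rw [if_pos h, if_pos ⟨h.2, h.1⟩]
  · rw [if_neg h, if_neg (fun e => h ⟨e.2, e.1⟩), map_zero]
theorem det_ct {m : Type*} [DecidableEq m] [Fintype m] (M : Matrix m m F) : (ct σ M).det = σ M.det := by
  rw [ct, det_transpose, RingEquiv.map_det]; rfl

/-- The adjoint with respect to the hermitian form. -/
def adj (M : MM) : MM := (ct σ M).submatrix (flip r d) (flip r d)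

theorem adj_mul (M N : MM) : adj σ (M * N) = adj σ N * adj σ M := by
  rw [adj, adj, adj, ct_mul, submatrix_mul_equiv]

@[simp] theorem c11_adj (M : MM) : c11 (adj σ M) = ct σ (c33 M) := rfl
@[simp] theorem c12_adj (M : MM) : c12 (adj σ M) = ct σ (c23 M) := rfl
@[simp] theorem c13_adj (M : MM) : c13 (adj σ M) = ct σ (c13 M) := rfl
@[simp] theorem c21_adj (M : MM) : c21 (adj σ M) = ct σ (c32 M) := rfl
@[simp] theorem c22_adj (M : MM) : c22 (adj σ M) = ct σ (c22 M) := rfl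
@[simp] theorem c23_adj (M : MM) : c23 (adj σ M) = ct σ (c12 M) := rfl
@[simp] theorem c31_adj (M : MM) : c31 (adj σ M) = ct σ (c31 M) := rfl
@[simp] theorem c32_adj (M : MM) : c32 (adj σ M) = ct σ (c21 M) := rfl
@[simp] theorem c33_adj (M : MM) : c33 (adj σ M) = ct σ (c11 M) := rfl

theorem adj_adj (M : MM) : adj σ (adj σ M) = M := by
  refine ext3 ?_ ?_ ?_ ?_ ?_ ?_ ?_ ?_ ?_ <;> simp

theorem adj_one : adj σ (1 : MM) = 1 := by
  refine ext3 ?_ ?_ ?_ ?_ ?_ ?_ ?_ ?_ ?_ <;> simp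

/-- The special unitary group in hyperbolic coordinates. -/
def HU (r d : ℕ) : Subgroup (Matrix.SpecialLinearGroup (Hix r d) F) where
  carrier := {g | adj σ g.1 * g.1 = 1}
  one_mem' := by
    rw [Set.mem_ofPred_eq, Matrix.SpecialLinearGroup.coe_one, adj_one, one_mul]
  mul_mem' := by
    intro g h hg hh
    rw [Set.mem_ofPred_eq] at hg hh ⊢
    rw [Matrix.SpecialLinearGroup.coe_mul, adj_mul, mul_assoc, ← mul_assoc (adj σ g.1), hg, one_mul, hh]
  inv_mem' := by
    intro g hg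
    rw [Set.mem_ofPred_eq] at hg ⊢
    have h2 : g.1 * (g⁻¹).1 = 1 := congrArg Subtype.val (mul_inv_cancel g)
    have h3 : (g⁻¹).1 = adj σ g.1 := (left_inv_eq_right_inv hg h2).symm
    rw [h3, adj_adj, ← h3]
    exact h2

variable {σ}

theorem adj_mul_self (X : HU σ r d) : adj σ X.1.1 * X.1.1 = 1 := X.2

theorem val_inv (X : HU σ r d) : (X⁻¹).1.1 = adj σ X.1.1 :=
  (left_inv_eq_right_inv (adj_mul_self X) (congrArg (fun Y : HU σ r d => Y.1.1) (mul_inv_cancel X))).symm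

theorem val_mul (X Y : HU σ r d) : (X * Y).1.1 = X.1.1 * Y.1.1 := rfl

theorem val_one : (1 : HU σ r d).1.1 = 1 := rfl

theorem hu_ext {X Y : HU σ r d} (h : X.1.1 = Y.1.1) : X = Y := Subtype.ext (Subtype.ext h)

variable (σ)

/-- An element from a matrix. -/
def mkHU (M : MM) (hdet : M.det = 1) (h : adj σ M * M = 1) : HU σ r d := ⟨⟨M, hdet⟩, h⟩

/-- The Siegel unipotent with parameters `v`, `S`. -/
def sh (v : DR) (S : RR) (h : S + ct σ S + ct σ v * v = 0) : HU σ r d :=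
  mkHU σ (mk3 1 (-ct σ v) S 0 1 v 0 0 1) (by rw [det_mk3_upper]; simp) (by
    refine ext3 ?_ ?_ ?_ ?_ ?_ ?_ ?_ ?_ ?_ <;> simp
    linear_combination (norm := abel) h)

/-- The opposite Siegel unipotent. -/
def shl (a : DR) (S : RR) (h : S + ct σ S + ct σ a * a = 0) : HU σ r d :=
  mkHU σ (mk3 1 0 0 a 1 0 S (-ct σ a) 1) (by rw [det_mk3_lower]; simp) (by
    refine ext3 ?_ ?_ ?_ ?_ ?_ ?_ ?_ ?_ ?_ <;> simp
    linear_combination (norm := abel) h)

/-- The Levi embedding of `SL_r`. -/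
def levS : Matrix.SpecialLinearGroup (Fin r) F →* HU σ r d where
  toFun A := mkHU σ (mk3 A.1 0 0 0 1 0 0 0 (ct σ (A⁻¹).1))
    (by rw [det_mk3_upper, det_ct, A.2, (A⁻¹).2]; simp) (by
      refine ext3 ?_ ?_ ?_ ?_ ?_ ?_ ?_ ?_ ?_ <;>
        simp [-Matrix.SpecialLinearGroup.coe_inv, -ct_mul, ← ct_mul σ, ← Matrix.SpecialLinearGroup.coe_mul])
  map_one' := hu_ext (by
    show mk3 _ 0 0 0 1 0 0 0 _ = (1 : MM)
    refine ext3 ?_ ?_ ?_ ?_ ?_ ?_ ?_ ?_ ?_ <;> simp [-Matrix.SpecialLinearGroup.coe_inv, inv_one])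
  map_mul' A B := hu_ext (by
    show mk3 _ 0 0 0 1 0 0 0 _ = mk3 A.1 0 0 0 1 0 0 0 (ct σ (A⁻¹).1) * mk3 B.1 0 0 0 1 0 0 0 (ct σ (B⁻¹).1)
    refine ext3 ?_ ?_ ?_ ?_ ?_ ?_ ?_ ?_ ?_ <;>
      simp [-Matrix.SpecialLinearGroup.coe_inv, _root_.mul_inv_rev])

/-- The scalar element. -/
def scal (a : F) (ha : σ a * a = 1) (hn : a ^ Fintype.card (Hix r d) = 1) : HU σ r d :=
  mkHU σ (a • 1) (by rw [det_smul, det_one, mul_one, hn]) (by
    rw [Matrix.mul_smul, mul_one]
    refine ext3 ?_ ?_ ?_ ?_ ?_ ?_ ?_ ?_ ?_ <;>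
      simp [c11, c12, c13, c21, c22, c23, c31, c32, c33, adj, ct, Matrix.submatrix, Matrix.smul_apply] <;>
      ext i j <;> simp [Matrix.one_apply, flip] <;> split_ifs <;> simp_all [mul_comm])

theorem scal_central (a : F) (ha : σ a * a = 1) (hn : a ^ Fintype.card (Hix r d) = 1) :
    scal σ a ha hn ∈ Subgroup.center (HU σ r d) :=
  Subgroup.mem_center_iff.mpr fun X => hu_ext (by
    show X.1.1 * (a • (1 : MM)) = (a • (1 : MM)) * X.1.1
    simp)

section proj2
variable (v : Matrix (Fin d) (Fin r) F) (S : Matrix (Fin r) (Fin r) F) (h : S + ct σ S + ct σ v * v = 0)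
@[simp] theorem val_sh : (sh σ v S h).1.1 = mk3 1 (-ct σ v) S 0 1 v 0 0 1 := rfl
@[simp] theorem val_shl : (shl σ v S h).1.1 = mk3 1 0 0 v 1 0 S (-ct σ v) 1 := rfl
end proj2

@[simp] theorem val_levS (A : Matrix.SpecialLinearGroup (Fin r) F) :
    (levS σ A : HU σ r d).1.1 = mk3 A.1 0 0 0 1 0 0 0 (ct σ (A⁻¹).1) := rfl

@[simp] theorem val_scal (a : F) (ha : σ a * a = 1) (hn : a ^ Fintype.card (Hix r d) = 1) :
    (scal σ a ha hn).1.1 = a • (1 : MM) := rfl

theorem sh_congr {v v' : DR} {S S' : RR} (h h') (hv : v = v') (hS : S = S') :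
    sh σ v S h = sh σ v' S' h' := by subst hv; subst hS; rfl

theorem sh_mul_cond {v v' : DR} {S S' : RR} (h : S + ct σ S + ct σ v * v = 0)
    (h' : S' + ct σ S' + ct σ v' * v' = 0) :
    (S + S' - ct σ v * v') + ct σ (S + S' - ct σ v * v') + ct σ (v + v') * (v + v') = 0 := by
  simp [Matrix.add_mul, Matrix.mul_add]
  linear_combination (norm := abel) h + h'

theorem sh_mul {v v' : DR} {S S' : RR} (h : S + ct σ S + ct σ v * v = 0)
    (h' : S' + ct σ S' + ct σ v' * v' = 0) :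
    sh σ v S h * sh σ v' S' h' = sh σ (v + v') (S + S' - ct σ v * v') (sh_mul_cond σ h h') :=
  hu_ext (by
    refine ext3 ?_ ?_ ?_ ?_ ?_ ?_ ?_ ?_ ?_ <;> simp [val_mul] <;> abel)

theorem zero_cond : (0 : RR) + ct σ (0 : RR) + ct σ (0 : DR) * (0 : DR) = 0 := by simp

theorem sh_zero : sh σ (0 : DR) (0 : RR) (zero_cond σ) = 1 :=
  hu_ext (by refine ext3 ?_ ?_ ?_ ?_ ?_ ?_ ?_ ?_ ?_ <;> simp [val_one])

theorem inv_cond {v : DR} {S : RR} (h : S + ct σ S + ct σ v * v = 0) :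
    ct σ S + ct σ (ct σ S) + ct σ (-v) * (-v) = 0 := by
  simp
  linear_combination (norm := abel) h

theorem sh_inv {v : DR} {S : RR} (h : S + ct σ S + ct σ v * v = 0) :
    (sh σ v S h)⁻¹ = sh σ (-v) (ct σ S) (inv_cond σ h) :=
  hu_ext (by rw [val_inv]; refine ext3 ?_ ?_ ?_ ?_ ?_ ?_ ?_ ?_ ?_ <;> simp)

theorem shl_inv {v : DR} {S : RR} (h : S + ct σ S + ct σ v * v = 0) :
    (shl σ v S h)⁻¹ = shl σ (-v) (ct σ S) (inv_cond σ h) :=
  hu_ext (by rw [val_inv]; refine ext3 ?_ ?_ ?_ ?_ ?_ ?_ ?_ ?_ ?_ <;> simp)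

theorem lev_cond {v : DR} {S : RR} (h : S + ct σ S + ct σ v * v = 0) (A : RR) :
    A * S * ct σ A + ct σ (A * S * ct σ A) + ct σ (v * ct σ A) * (v * ct σ A) = 0 := by
  have e : A * (S + ct σ S + ct σ v * v) * ct σ A = 0 := by rw [h, mul_zero, zero_mul]
  simpa [Matrix.mul_add, Matrix.add_mul, Matrix.mul_assoc] using e

theorem levS_conj_sh (A : Matrix.SpecialLinearGroup (Fin r) F) {v : DR} {S : RR}
    (h : S + ct σ S + ct σ v * v = 0) :
    levS σ A * sh σ v S h * (levS σ A)⁻¹ = sh σ (v * ct σ A.1) (A.1 * S * ct σ A.1) (lev_cond σ h A.1) := by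
  rw [mul_inv_eq_iff_eq_mul]
  have e : ct σ A.1 * ct σ (A⁻¹).1 = 1 := by
    rw [← ct_mul, ← Matrix.SpecialLinearGroup.coe_mul, inv_mul_cancel]; simp
  refine hu_ext ?_
  refine ext3 ?_ ?_ ?_ ?_ ?_ ?_ ?_ ?_ ?_ <;>
    simp [-Matrix.SpecialLinearGroup.coe_inv, val_mul, Matrix.mul_assoc, e]

/-! ### Borel subgroup, unipotent subgroup, radicals -/

/-- The monoid of block triangular elements with triangular Levi part. -/
def borMonoid (r d : ℕ) : Submonoid (HU σ r d) where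
  carrier := {X | c21 X.1.1 = 0 ∧ c31 X.1.1 = 0 ∧ c32 X.1.1 = 0 ∧ ∀ i j, j < i → c11 X.1.1 i j = 0}
  one_mem' := ⟨by simp [val_one], by simp [val_one], by simp [val_one],
    fun i j h => by simp [val_one, one_apply_ne h.ne']⟩
  mul_mem' := by
    rintro X Y ⟨hX1, hX2, hX3, hX⟩ ⟨hY1, hY2, hY3, hY⟩
    refine ⟨by simp [val_mul, hX1, hX2, hX3, hY1, hY2, hY3], by simp [val_mul, hX1, hX2, hX3, hY1, hY2, hY3],
      by simp [val_mul, hX1, hX2, hX3, hY1, hY2, hY3], fun i j h => ?_⟩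
    simp only [val_mul, c11_mul, hY1, hY2, mul_zero, Matrix.mul_zero, add_zero, Matrix.mul_apply]
    refine Finset.sum_eq_zero fun k _ => ?_
    by_cases hk : k < i
    · rw [hX i k hk, zero_mul]
    · rw [hY k j (lt_of_lt_of_le h (not_lt.mp hk)), mul_zero]

variable [Fintype F]

/-- The Borel subgroup. -/
def bor (r d : ℕ) : Subgroup (HU σ r d) where
  toSubmonoid := borMonoid σ r d
  inv_mem' := SympBlocks.inv_mem_of_finite' _

variable {σ}

theorem mem_bor {X : HU σ r d} : X ∈ bor σ r d ↔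
    c21 X.1.1 = 0 ∧ c31 X.1.1 = 0 ∧ c32 X.1.1 = 0 ∧ ∀ i j, j < i → c11 X.1.1 i j = 0 := Iff.rfl

theorem c11_mul_bor {X Y : HU σ r d} (hY : Y ∈ bor σ r d) :
    c11 (X * Y).1.1 = c11 X.1.1 * c11 Y.1.1 := by
  simp [val_mul, hY.1, hY.2.1]

theorem c22_mul_bor {X Y : HU σ r d} (hX : X ∈ bor σ r d) (hY : Y ∈ bor σ r d) :
    c22 (X * Y).1.1 = c22 X.1.1 * c22 Y.1.1 := by
  simp [val_mul, hX.1, hY.2.2.1]

theorem bor_diag_mul {X Y : HU σ r d} (hX : X ∈ bor σ r d) (hY : Y ∈ bor σ r d) (i : Fin r) :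
    c11 (X * Y).1.1 i i = c11 X.1.1 i i * c11 Y.1.1 i i := by
  rw [c11_mul_bor hY]
  exact mul_apply_le hX.2.2.2 hY.2.2.2 le_rfl

theorem c33_eq (X : HU σ r d) : c33 X.1.1 = ct σ (c11 (X⁻¹).1.1) := by
  rw [val_inv]; simp

theorem c23_eq (X : HU σ r d) : c23 X.1.1 = ct σ (c12 (X⁻¹).1.1) := by
  rw [val_inv]; simp

theorem bA_diag_inv {X : HU σ r d} (hX : X ∈ bor σ r d) (i : Fin r) :
    c11 (X⁻¹).1.1 i i * c11 X.1.1 i i = 1 := by
  rw [← bor_diag_mul (inv_mem hX) hX, inv_mul_cancel, val_one, c11_one, one_apply_eq]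

theorem diag_ne_zero {X : HU σ r d} (hX : X ∈ bor σ r d) (i : Fin r) : c11 X.1.1 i i ≠ 0 :=
  fun h => by simpa [h] using bA_diag_inv hX i

theorem bor_det {X : HU σ r d} (hX : X ∈ bor σ r d) :
    (c11 X.1.1).det * ((c22 X.1.1).det * σ (c11 (X⁻¹).1.1).det) = 1 := by
  have h := X.1.2
  rw [← mk3_eta X.1.1, hX.1, hX.2.1, hX.2.2.1, det_mk3_upper, c33_eq, det_ct] at h
  exact h

theorem det_c11 {X : HU σ r d} (hX : X ∈ bor σ r d) : (c11 X.1.1).det = ∏ i, c11 X.1.1 i i :=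
  det_of_isUpperTriangular (M := c11 X.1.1) fun i j h => hX.2.2.2 i j h

variable (σ)

/-- The monoid of unipotent elements. -/
def uMonoid (r d : ℕ) : Submonoid (HU σ r d) where
  carrier := {X | X ∈ bor σ r d ∧ (∀ i, c11 X.1.1 i i = 1) ∧ c22 X.1.1 = 1}
  one_mem' := ⟨one_mem _, fun i => by simp [val_one], by simp [val_one]⟩
  mul_mem' := fun hX hY => ⟨mul_mem hX.1 hY.1,
    fun i => by rw [bor_diag_mul hX.1 hY.1, hX.2.1, hY.2.1, one_mul],
    by rw [c22_mul_bor hX.1 hY.1, hX.2.2, hY.2.2, one_mul]⟩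

/-- The unipotent subgroup `U`. -/
def huUni (r d : ℕ) : Subgroup (HU σ r d) where
  toSubmonoid := uMonoid σ r d
  inv_mem' := SympBlocks.inv_mem_of_finite' _

variable {σ}

theorem mem_huUni {X : HU σ r d} : X ∈ huUni σ r d ↔
    X ∈ bor σ r d ∧ (∀ i, c11 X.1.1 i i = 1) ∧ c22 X.1.1 = 1 := Iff.rfl

/-- The Levi part of a unipotent element. -/
def toSL {X : HU σ r d} (hX : X ∈ huUni σ r d) : Matrix.SpecialLinearGroup (Fin r) F :=
  ⟨c11 X.1.1, by rw [det_c11 hX.1]; exact Finset.prod_eq_one fun i _ => hX.2.1 i⟩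

theorem toSL_mem {X : HU σ r d} (hX : X ∈ huUni σ r d) :
    toSL hX ∈ (uni : Subgroup (Matrix.SpecialLinearGroup (Fin r) F)) :=
  ⟨fun i j h => hX.1.2.2.2 i j h, hX.2.1⟩

theorem levS_mem_bor {A : Matrix.SpecialLinearGroup (Fin r) F} (h : ∀ i j, j < i → A.1 i j = 0) :
    (levS σ A : HU σ r d) ∈ bor σ r d :=
  ⟨by simp, by simp, by simp, fun i j hij => by simpa using h i j hij⟩

theorem levS_mem_huUni {A : Matrix.SpecialLinearGroup (Fin r) F} (hA : A ∈ uni) :
    (levS σ A : HU σ r d) ∈ huUni σ r d :=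
  ⟨levS_mem_bor hA.1, fun i => by simpa using hA.2 i, by simp⟩

theorem sh_mem_huUni {v : Matrix (Fin d) (Fin r) F} {S : RR} (h : S + ct σ S + ct σ v * v = 0) :
    sh σ v S h ∈ huUni σ r d :=
  ⟨⟨by simp, by simp, by simp, fun i j hij => by simp [one_apply_ne hij.ne']⟩,
    fun i => by simp, by simp⟩

variable (σ)

/-- The Siegel radical. -/
def siegel (r d : ℕ) : Subgroup (HU σ r d) where
  carrier := {X | X ∈ huUni σ r d ∧ c11 X.1.1 = 1}
  one_mem' := ⟨one_mem _, by simp [val_one]⟩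
  mul_mem' := fun hX hY => ⟨mul_mem hX.1 hY.1, by rw [c11_mul_bor hY.1.1, hX.2, hY.2, one_mul]⟩
  inv_mem' := fun {X} hX => ⟨inv_mem hX.1, by
    have h : c11 (X⁻¹).1.1 * c11 X.1.1 = 1 := by
      rw [← c11_mul_bor hX.1.1, inv_mul_cancel, val_one, c11_one]
    rwa [hX.2, mul_one] at h⟩

variable {σ}

theorem sh_mem_siegel {v : Matrix (Fin d) (Fin r) F} {S : RR} (h : S + ct σ S + ct σ v * v = 0) :
    sh σ v S h ∈ siegel σ r d := ⟨sh_mem_huUni h, by simp⟩

theorem exists_sh_of_mem_siegel {X : HU σ r d} (hX : X ∈ siegel σ r d) :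
    ∃ v S h, X = sh σ v S h := by
  obtain ⟨⟨⟨h21, h31, h32, -⟩, -, h22⟩, h11⟩ := hX
  have hi : c11 (X⁻¹).1.1 = 1 := ((siegel σ r d).inv_mem (x := X) ⟨⟨⟨h21, h31, h32, fun i j hij => by
    rw [h11, one_apply_ne hij.ne']⟩, fun i => by rw [h11, one_apply_eq], h22⟩, h11⟩).2
  have h33 : c33 X.1.1 = 1 := by rw [c33_eq, hi, ct_one]
  have h := adj_mul_self X
  have h12 := congrArg c12 h
  have h13 := congrArg c13 h
  simp [h22, h32, h11, h33, h31] at h12 h13
  have hB : c12 X.1.1 = -ct σ (c23 X.1.1) := eq_neg_of_add_eq_zero_left h12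
  refine ⟨c23 X.1.1, c13 X.1.1, by linear_combination (norm := abel) h13, hu_ext ?_⟩
  refine ext3 ?_ ?_ ?_ ?_ ?_ ?_ ?_ ?_ ?_ <;> simp [h11, h21, h22, h31, h32, h33, hB]

theorem levS_conj_mem_siegel (A : Matrix.SpecialLinearGroup (Fin r) F) {X : HU σ r d}
    (hX : X ∈ siegel σ r d) : levS σ A * X * (levS σ A)⁻¹ ∈ siegel σ r d := by
  obtain ⟨v, S, h, rfl⟩ := exists_sh_of_mem_siegel hX
  rw [levS_conj_sh]
  exact sh_mem_siegel _

theorem huUni_le_normalizer_siegel :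
    huUni σ r d ≤ Subgroup.normalizer ((siegel σ r d : Subgroup (HU σ r d)) : Set (HU σ r d)) := by
  intro u hu
  refine Subgroup.mem_normalizer_iff_map_conj_eq.mpr (Subgroup.eq_of_le_of_card_ge ?_
    (Subgroup.card_map_of_injective (MulAut.conj u).injective).ge)
  rintro _ ⟨x, hx, rfl⟩
  refine ⟨mul_mem (mul_mem hu hx.1) (inv_mem hu), ?_⟩
  show c11 (u * x * u⁻¹).1.1 = 1
  rw [c11_mul_bor (inv_mem hu.1), c11_mul_bor hx.1.1, hx.2, mul_one, ← c11_mul_bor (inv_mem hu.1),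
    mul_inv_cancel, val_one, c11_one]

theorem levS_mem_normalizer_siegel (A : Matrix.SpecialLinearGroup (Fin r) F) :
    (levS σ A : HU σ r d) ∈
      Subgroup.normalizer ((siegel σ r d : Subgroup (HU σ r d)) : Set (HU σ r d)) := by
  refine Subgroup.mem_normalizer_iff_map_conj_eq.mpr (Subgroup.eq_of_le_of_card_ge ?_
    (Subgroup.card_map_of_injective (MulAut.conj (levS σ A : HU σ r d)).injective).ge)
  rintro _ ⟨x, hx, rfl⟩
  exact levS_conj_mem_siegel A hx

end Cfsg.Agent.Fusion.HermBlocks
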