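import Cfsg.Agent.Lib.Fusion.HermRankOne

/-!
Centralisers of the two radicals, and the centre, of the hyperbolic special unitary group.
-/

set_option autoImplicit false
set_option linter.unusedSectionVars false

namespace Cfsg.Agent.Fusion.HermBlocks

open Matrix Cfsg.Agent.Fusion.UniTri
open Cfsg.Agent.Fusion.SympBlocks (dE dE_mul_dE dE_transpose dE_eqs)

variable {r d : ℕ} {F : Type*} [Field F] {σ : F ≃+* F} [hσ : Fact (∀ a, σ (σ a) = a)]

local notation "RR" => Matrix (Fin r) (Fin r) F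
local notation "RD" => Matrix (Fin r) (Fin d) F
local notation "DR" => Matrix (Fin d) (Fin r) F

/-- The skew pair of indices with parameter `c`. -/
def pc (σ : F ≃+* F) (i j : Fin r) (c : F) : RR := single i j c - single j i (σ c)

theorem pc_skew (i j : Fin r) (c : F) : pc σ i j c + ct σ (pc σ i j c) = 0 := by
  rw [pc, ct_sub, ct_single, ct_single, sigma_sigma σ]; abel

theorem skew_to_cond {S : RR} (h : S + ct σ S = 0) : S + ct σ S + ct σ (0 : DR) * (0 : DR) = 0 := by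
  simp [h]

theorem smul_dE_skew {γ : F} (hγ : σ γ = -γ) (i : Fin r) :
    γ • (dE i : RR) + ct σ (γ • (dE i : RR)) = 0 := by
  rw [ct_smul, ct_dE, hγ, neg_smul, add_neg_cancel]

theorem exists_skew_ne_zero (hne : σ ≠ 1) : ∃ γ : F, σ γ = -γ ∧ γ ≠ 0 := by
  obtain ⟨x, hx⟩ : ∃ x, σ x ≠ x := by
    by_contra hc
    push Not at hc
    exact hne (RingEquiv.ext hc)
  exact ⟨x - σ x, by rw [map_sub, sigma_sigma σ]; ring, sub_ne_zero.mpr (Ne.symm hx)⟩

theorem commute_sh {X : HU σ r d} {v : DR} {S : RR} {h : S + ct σ S + ct σ v * v = 0}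
    (e : X * sh σ v S h = sh σ v S h * X) :
    (-(ct σ v * c21 X.1.1) + S * c31 X.1.1 = 0) ∧
    (c31 X.1.1 * S + c32 X.1.1 * v = 0) ∧
    (-(c11 X.1.1 * ct σ v) = -(ct σ v * c22 X.1.1) + S * c32 X.1.1) ∧
    (-(c21 X.1.1 * ct σ v) = v * c32 X.1.1) ∧
    (c21 X.1.1 * S + c22 X.1.1 * v = v * c33 X.1.1) ∧
    (c11 X.1.1 * S + c12 X.1.1 * v = -(ct σ v * c23 X.1.1) + S * c33 X.1.1) := by
  have e' := congrArg (fun Y : HU σ r d => Y.1.1) e
  have e11 := congrArg c11 e'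
  have e33 := congrArg c33 e'
  have e12 := congrArg c12 e'
  have e22 := congrArg c22 e'
  have e23 := congrArg c23 e'
  have e13 := congrArg c13 e'
  simp [val_mul] at e11 e33 e12 e22 e23 e13
  refine ⟨?_, ?_, ?_, ?_, ?_, ?_⟩
  · linear_combination (norm := abel) -e11
  · linear_combination (norm := abel) e33
  · linear_combination (norm := abel) e12
  · linear_combination (norm := abel) e22
  · linear_combination (norm := abel) e23
  · linear_combination (norm := abel) e13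

theorem commute_sh_zero {X : HU σ r d} {S : RR} {h : S + ct σ S + ct σ (0 : DR) * (0 : DR) = 0}
    (e : X * sh σ 0 S h = sh σ 0 S h * X) :
    S * c31 X.1.1 = 0 ∧ S * c32 X.1.1 = 0 ∧ c21 X.1.1 * S = 0 ∧ c11 X.1.1 * S = S * c33 X.1.1 := by
  obtain ⟨h1, -, h3, -, h5, h6⟩ := commute_sh e
  simp at h1 h3 h5 h6
  exact ⟨h1, h3.symm, h5, h6⟩

variable [Fintype F]

theorem dE_smul_eqs {A D : RR} {γ : F} (h0 : γ ≠ 0) {i : Fin r} (h : A * (γ • dE i) = (γ • dE i) * D) :
    (∀ k, k ≠ i → A k i = 0) ∧ (∀ k, k ≠ i → D i k = 0) ∧ A i i = D i i := by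
  refine dE_eqs ?_
  rw [Matrix.mul_smul, Matrix.smul_mul] at h
  exact smul_right_injective _ h0 h

theorem pc_eqs {A D : RR} {i j : Fin r} (hij : i ≠ j) (h : A * pc σ i j 1 = pc σ i j 1 * D) :
    A i i = D j j ∧ A j j = D i i := by
  have h1 := congrArg (fun M : RR => M i j) h
  have h2 := congrArg (fun M : RR => M j i) h
  simp only [pc, map_one, mul_sub, sub_mul, Matrix.sub_apply] at h1 h2
  simp [hij, hij.symm] at h1 h2
  exact ⟨h1, h2⟩

/-- Commuting with the unipotents of enough skew matrices forces triangular shape. -/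
theorem shape_of_commute {X : HU σ r d} {l : Fin r} {γ : F} (h0 : γ ≠ 0) (hγ : σ γ = -γ)
    (hd : ∀ i, i ≠ l → X * sh σ 0 (γ • dE i) (skew_to_cond (smul_dE_skew hγ i)) =
      sh σ 0 (γ • dE i) (skew_to_cond (smul_dE_skew hγ i)) * X)
    (hp : ∀ i, i ≠ l → X * sh σ 0 (pc σ i l 1) (skew_to_cond (pc_skew i l 1)) =
      sh σ 0 (pc σ i l 1) (skew_to_cond (pc_skew i l 1)) * X)
    (hi₀ : ∃ i, i ≠ l) :
    c31 X.1.1 = 0 ∧ c32 X.1.1 = 0 ∧ c21 X.1.1 = 0 ∧
      (∀ i, i ≠ l → (∀ k, k ≠ i → c11 X.1.1 k i = 0) ∧ c11 X.1.1 i i = c33 X.1.1 i i) ∧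
      (∀ i, i ≠ l → c11 X.1.1 i i = c33 X.1.1 l l ∧ c11 X.1.1 l l = c33 X.1.1 i i) := by
  obtain ⟨i₀, hi₀⟩ := hi₀
  have key : ∀ {β : Type} (M : Matrix (Fin r) β F),
      (∀ i, i ≠ l → ((γ • dE i : RR) * M = 0) ∧ (pc σ i l 1 * M = 0)) → M = 0 := by
    intro β M hM
    ext a b
    by_cases ha : a = l
    · have h1 := congrArg (fun N : Matrix (Fin r) β F => N i₀ b) (hM i₀ hi₀).2
      simpa [pc, Matrix.sub_mul, hi₀, Ne.symm hi₀, ha] using h1
    · have h1 := congrArg (fun N : Matrix (Fin r) β F => N a b) (hM a ha).1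
      simpa [dE, h0, Matrix.smul_mul] using h1
  refine ⟨key _ fun i hi => ⟨(commute_sh_zero (hd i hi)).1, (commute_sh_zero (hp i hi)).1⟩,
    key _ fun i hi => ⟨(commute_sh_zero (hd i hi)).2.1, (commute_sh_zero (hp i hi)).2.1⟩, ?_, ?_, ?_⟩
  · ext a b
    by_cases hb : b = l
    · have h1 := congrArg (fun N : DR => N a i₀) (commute_sh_zero (hp i₀ hi₀)).2.2.1
      simpa [pc, Matrix.mul_sub, hi₀, Ne.symm hi₀, hb] using h1
    · have h1 := congrArg (fun N : DR => N a b) (commute_sh_zero (hd b hb)).2.2.1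
      simpa [dE, h0, Matrix.mul_smul] using h1
  · intro i hi
    obtain ⟨e1, -, e3⟩ := dE_smul_eqs h0 (commute_sh_zero (hd i hi)).2.2.2
    exact ⟨e1, e3⟩
  · intro i hi
    exact pc_eqs hi (commute_sh_zero (hp i hi)).2.2.2

theorem mul_scal {a : F} (ha : σ a * a = 1) (hn : a ^ Fintype.card (Hix r d) = 1) (X : HU σ r d) :
    (scal σ a ha hn * X).1.1 = a • X.1.1 := by
  rw [val_mul, val_scal]; simp

section smulblocks
variable (a : F) (M : Matrix (Hix r d) (Hix r d) F)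
theorem c11_smul : c11 (a • M) = a • c11 M := rfl
theorem c12_smul : c12 (a • M) = a • c12 M := rfl
theorem c13_smul : c13 (a • M) = a • c13 M := rfl
theorem c21_smul : c21 (a • M) = a • c21 M := rfl
theorem c22_smul : c22 (a • M) = a • c22 M := rfl
theorem c31_smul : c31 (a • M) = a • c31 M := rfl
theorem c32_smul : c32 (a • M) = a • c32 M := rfl
end smulblocks

/-- From triangular shape with constant diagonal to a scalar times a unipotent. -/
theorem exists_scal_mem_huUni {X : HU σ r d} {a : F} (h21 : c21 X.1.1 = 0)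
    (h31 : c31 X.1.1 = 0) (h32 : c32 X.1.1 = 0) (hlow : ∀ i j, j < i → c11 X.1.1 i j = 0)
    (hdiag : ∀ i, c11 X.1.1 i i = a) (h22 : c22 X.1.1 = a • 1) (h33 : ∃ i, c33 X.1.1 i i = a) :
    ∃ (ha : σ (σ a) * σ a = 1) (hn : (σ a) ^ Fintype.card (Hix r d) = 1),
      scal σ (σ a) ha hn * X ∈ huUni σ r d := by
  have hX : X ∈ bor σ r d := ⟨h21, h31, h32, hlow⟩
  have hinv : ∀ i, c11 (X⁻¹).1.1 i i = a⁻¹ := fun i =>
    eq_inv_of_mul_eq_one_left (by rw [← hdiag i]; exact bA_diag_inv hX i)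
  obtain ⟨i₀, hi₀⟩ := h33
  rw [c33_eq, ct_apply, hinv] at hi₀
  have hane : a ≠ 0 := hdiag i₀ ▸ diag_ne_zero hX i₀
  have ha : a * σ a = 1 := by
    conv_lhs => arg 1; rw [← hi₀]
    rw [← map_mul, inv_mul_cancel₀ hane, map_one]
  have hdet := bor_det hX
  rw [det_c11 hX, det_c11 (inv_mem hX), map_prod, h22, det_smul, det_one, mul_one,
    Finset.prod_eq_pow_card (b := a) (fun i _ => hdiag i),
    Finset.prod_eq_pow_card (b := a) (fun i _ => by rw [hinv, hi₀]), Finset.card_univ] at hdet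
  have hn : (σ a) ^ Fintype.card (Hix r d) = 1 := by
    rw [← map_pow, Fintype.card_sum, Fintype.card_sum, pow_add, pow_add, hdet, map_one]
  have hb : σ (σ a) * σ a = 1 := by rw [sigma_sigma σ, ha]
  refine ⟨hb, hn, ⟨⟨?_, ?_, ?_, fun i j hij => ?_⟩, fun i => ?_, ?_⟩⟩
  · rw [mul_scal, c21_smul, h21, smul_zero]
  · rw [mul_scal, c31_smul, h31, smul_zero]
  · rw [mul_scal, c32_smul, h32, smul_zero]
  · rw [mul_scal, c11_smul, Matrix.smul_apply, hlow i j hij, smul_zero]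
  · rw [mul_scal, c11_smul, Matrix.smul_apply, hdiag, smul_eq_mul, mul_comm, ha]
  · rw [mul_scal, c22_smul, h22, smul_smul, mul_comm, ha, one_smul]

theorem eq_scal_mul {a : F} (ha : σ (σ a) * σ a = 1) (hn : (σ a) ^ Fintype.card (Hix r d) = 1)
    (X : HU σ r d) : ∃ z ∈ Subgroup.center (HU σ r d), X = z * (scal σ (σ a) ha hn * X) :=
  ⟨(scal σ (σ a) ha hn)⁻¹, inv_mem (scal_central σ _ ha hn), by rw [inv_mul_cancel_left]⟩

theorem c22_eq_of_commute [hd : Fact (d ≤ 1)] {X : HU σ r d} {i : Fin r} {a b : F}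
    {h : b + σ b + (d : F) * (σ 1 * 1) = 0} (h32 : c32 X.1.1 = 0) (hii : c11 X.1.1 i i = a)
    (e : X * up σ i 1 b h = up σ i 1 b h * X) : c22 X.1.1 = a • 1 := by
  have : Subsingleton (Fin d) := Fin.subsingleton_iff_le_one.mpr hd.out
  have e3 := (commute_sh (show X * sh σ _ _ _ = sh σ _ _ _ * X from e)).2.2.1
  simp only [h32, Matrix.mul_zero, add_zero, one_smul, neg_inj] at e3
  ext k k'
  rw [Subsingleton.elim k' k, Matrix.smul_apply, one_apply_eq, smul_eq_mul, mul_one]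
  have h1 := congrArg (fun M : RD => M i k) e3
  simp only [Matrix.mul_apply, ct_rho_apply] at h1
  rw [Fintype.sum_subsingleton _ k] at h1
  simp at h1
  rw [← h1]
  simp [hii]

theorem exists_up_one (hne : σ ≠ 1) [hd : Fact (d ≤ 1)] :
    ∃ b : F, b + σ b + (d : F) * (σ 1 * 1) = 0 ∧ b ≠ 0 := by
  obtain ⟨γ, hγ, h0⟩ := exists_skew_ne_zero (σ := σ) hne
  rcases (show d = 0 ∨ d = 1 by have := hd.out; omega) with h | h
  · exact ⟨γ, by subst h; simp [hγ], h0⟩
  · obtain ⟨x, hx⟩ : ∃ x, x + σ x ≠ 0 := by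
      by_contra hc
      push Not at hc
      have h1 := hc 1
      rw [map_one] at h1
      exact hne (RingEquiv.ext fun x => by
        have h2 := hc x
        show σ x = x
        have h3 : x + x = 0 := by linear_combination x * h1
        linear_combination h2 - h3)
    refine ⟨-(x / (x + σ x)), ?_, ?_⟩
    · subst h
      rw [map_neg, map_div₀, map_add, sigma_sigma σ, add_comm (σ x) x, map_one]
      field_simp
      ring
    · intro e
      have hx0 : x = 0 := by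
        rcases div_eq_zero_iff.mp (neg_eq_zero.mp e) with h' | h'
        · exact h'
        · exact absurd h' hx
      simp [hx0] at hx

theorem centralizer_siegel [Fact (d ≤ 1)] (hne : σ ≠ 1) (hr : 2 ≤ r) {X : HU σ r d}
    (h : X ∈ Subgroup.centralizer ((siegel σ r d : Subgroup (HU σ r d)) : Set (HU σ r d))) :
    ∃ (a : F) (ha : σ (σ a) * σ a = 1) (hn : (σ a) ^ Fintype.card (Hix r d) = 1),
      scal σ (σ a) ha hn * X ∈ siegel σ r d ∧ ∀ i, c11 X.1.1 i i = a := by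
  obtain ⟨γ, hγ, h0⟩ := exists_skew_ne_zero (σ := σ) hne
  have hc : ∀ {v : DR} {S : RR} (hS : S + ct σ S + ct σ v * v = 0),
      X * sh σ v S hS = sh σ v S hS * X := fun hS =>
    (Subgroup.mem_centralizer_iff.mp h _ (sh_mem_siegel hS)).symm
  have other : ∀ l : Fin r, ∃ i, i ≠ l := fun l => by
    by_cases h0 : l = ⟨0, by omega⟩
    · exact ⟨⟨1, by omega⟩, by simp [h0, Fin.ext_iff]⟩
    · exact ⟨⟨0, by omega⟩, Ne.symm h0⟩
  have hsh := fun l : Fin r => shape_of_commute (X := X) (l := l) h0 hγ (fun i _ => hc _) (fun i _ => hc _) (other l)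
  let i₀ : Fin r := ⟨0, by omega⟩
  set a := c11 X.1.1 i₀ i₀
  have hall : ∀ i, c11 X.1.1 i i = a := fun i => by
    by_cases hi : i = i₀
    · rw [hi]
    · obtain ⟨-, -, -, hd1, hd2⟩ := hsh i₀
      obtain ⟨-, -, -, hd1', -⟩ := hsh i
      rw [(hd2 i hi).1, ← (hd1' i₀ (Ne.symm hi)).2]
  have hoff : ∀ k i, k ≠ i → c11 X.1.1 k i = 0 := fun k i hki => by
    obtain ⟨l, hl⟩ := other i
    exact ((hsh l).2.2.2.1 i (Ne.symm hl)).1 k hki
  obtain ⟨b, hb, -⟩ := exists_up_one (σ := σ) (d := d) hne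
  have h22 := c22_eq_of_commute (i := i₀) (h := hb) (hsh i₀).2.1 rfl (hc _)
  obtain ⟨j, hj⟩ := other i₀
  obtain ⟨ha, hn, hu⟩ := exists_scal_mem_huUni (hsh i₀).2.2.1 (hsh i₀).1 (hsh i₀).2.1
    (fun i k hki => hoff i k hki.ne') hall h22 ⟨j, by rw [← ((hsh i₀).2.2.2.1 j hj).2, hall]⟩
  refine ⟨a, ha, hn, ⟨hu, ?_⟩, hall⟩
  rw [mul_scal, c11_smul]
  ext i k
  by_cases hik : i = k
  · subst hik
    rw [Matrix.smul_apply, hall, one_apply_eq, smul_eq_mul]
    have := hu.2.1 i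
    rwa [mul_scal, c11_smul, Matrix.smul_apply, hall, smul_eq_mul] at this
  · rw [Matrix.smul_apply, hoff i k hik, smul_zero, one_apply_ne hik]

theorem centralizer_lastRad [Fact (d ≤ 1)] (hne : σ ≠ 1) (hr : 2 ≤ r) {l : Fin r} {hl : ∀ i, i ≤ l}
    {X : HU σ r d}
    (h : X ∈ Subgroup.centralizer ((lastRad σ l hl : Subgroup (HU σ r d)) : Set (HU σ r d))) :
    ∃ (a : F) (ha : σ (σ a) * σ a = 1) (hn : (σ a) ^ Fintype.card (Hix r d) = 1),
      scal σ (σ a) ha hn * X ∈ lastRad σ l hl := by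
  obtain ⟨γ, hγ, h0⟩ := exists_skew_ne_zero (σ := σ) hne
  obtain ⟨i₀, hi₀⟩ : ∃ i, i ≠ l := by
    by_cases h0 : l = ⟨0, by omega⟩
    · exact ⟨⟨1, by omega⟩, by simp [h0, Fin.ext_iff]⟩
    · exact ⟨⟨0, by omega⟩, Ne.symm h0⟩
  have hc : ∀ {v : DR} {S : RR} (hS : S + ct σ S + ct σ v * v = 0), (∀ k, v k l = 0) → S l l = 0 →
      X * sh σ v S hS = sh σ v S hS * X := fun hS hv0 hS0 =>
    (Subgroup.mem_centralizer_iff.mp h _ ⟨sh_mem_huUni hS,
      fun k => by simp [ct_apply, hv0 k], by simpa using hS0⟩).symm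
  obtain ⟨h31, h32, h21, hd1, hd2⟩ := shape_of_commute (X := X) (l := l) h0 hγ
    (fun i hi => hc _ (fun k => rfl) (by simp [dE, hi]))
    (fun i hi => hc _ (fun k => rfl) (by simp [pc, hi])) ⟨i₀, hi₀⟩
  set a := c11 X.1.1 l l
  have hall : ∀ i, c11 X.1.1 i i = a := fun i => by
    by_cases hi : i = l
    · rw [hi]
    · rw [(hd1 i hi).2, ← (hd2 i hi).2]
  have hlow : ∀ i j, j < i → c11 X.1.1 i j = 0 := fun i j hij =>
    (hd1 j (lt_of_lt_of_le hij (hl i)).ne).1 i hij.ne'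
  obtain ⟨b, hb, -⟩ := exists_up_one (σ := σ) (d := d) hne
  have h22 := c22_eq_of_commute (i := i₀) (h := hb) h32 (hall i₀)
    (hc _ (fun k => by simp [rho_apply, Ne.symm hi₀]) (by simp [dE, hi₀]))
  obtain ⟨ha, hn, hu⟩ := exists_scal_mem_huUni h21 h31 h32 hlow hall h22 ⟨i₀, by rw [← (hd1 i₀ hi₀).2, hall]⟩
  have hT : (levS σ (SpecialLinearGroup.transvection hi₀ (1 : F)) : HU σ r d) ∈ lastRad σ l hl :=
    ⟨levS_mem_huUni (transvection_mem_uni (lt_of_le_of_ne (hl i₀) hi₀) 1), by simp, by simp⟩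
  have he := congrArg (fun Y : HU σ r d => Y.1.1) (Subgroup.mem_centralizer_iff.mp h _ hT)
  refine ⟨a, ha, hn, hu, fun k => ?_, ?_⟩
  · rw [mul_scal, c12_smul, Matrix.smul_apply]
    have h12 := congrArg (fun M => c12 M i₀ k) he
    simp [val_mul, SpecialLinearGroup.transvection_coe, Matrix.add_mul] at h12
    rw [h12, smul_zero]
  · rw [mul_scal, c13_smul, Matrix.smul_apply]
    have h13 := congrArg (fun M => c13 M i₀ l) he
    simp [val_mul, SpecialLinearGroup.transvection_inv, SpecialLinearGroup.transvection_coe, Matrix.add_mul,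
      Matrix.mul_add, ct_single, -Matrix.SpecialLinearGroup.coe_inv, hi₀, Ne.symm hi₀] at h13
    rw [h13, smul_zero]

theorem center_eq [Fact (d ≤ 1)] (hne : σ ≠ 1) (hr : 2 ≤ r) {z : HU σ r d}
    (hz : z ∈ Subgroup.center (HU σ r d)) :
    ∃ (a : F) (ha : σ (σ a) * σ a = 1) (hn : (σ a) ^ Fintype.card (Hix r d) = 1),
      scal σ (σ a) ha hn * z = 1 := by
  obtain ⟨a, ha, hn, hs, -⟩ := centralizer_siegel hne hr (Subgroup.center_le_centralizer _ hz)
  obtain ⟨v, S, hS, he⟩ := exists_sh_of_mem_siegel hs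
  obtain ⟨γ, hγ, h0⟩ := exists_skew_ne_zero (σ := σ) hne
  have hcS : sh σ v S hS ∈ Subgroup.center (HU σ r d) := he ▸ mul_mem (scal_central σ _ ha hn) hz
  have key : ∀ i, S * (γ • dE i : RR) = 0 ∧ v * (γ • dE i : RR) = 0 := fun i => by
    have e := congrArg (fun Y : HU σ r d => Y.1.1)
      (Subgroup.mem_center_iff.mp hcS (shl σ 0 (γ • dE i) (skew_to_cond (smul_dE_skew hγ i))))
    have e11 := congrArg c11 e
    have e21 := congrArg c21 e
    simp [val_mul] at e11 e21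
    exact ⟨by simpa [Matrix.mul_smul, or_comm] using e11.symm, by simpa [Matrix.mul_smul, or_comm] using e21.symm⟩
  have hS0 : S = 0 := by
    ext k i
    simpa [dE, h0, Matrix.mul_smul] using congrArg (fun M : RR => M k i) (key i).1
  have hv0 : v = 0 := by
    ext k i
    simpa [dE, h0, Matrix.mul_smul] using congrArg (fun M : DR => M k i) (key i).2
  exact ⟨a, ha, hn, by rw [he, sh_congr σ hS (zero_cond σ) hv0 hS0, sh_zero]⟩

end Cfsg.Agent.Fusion.HermBlocks
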