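import Cfsg.Agent.Lib.Fusion.HermNormalizer
import Cfsg.Agent.Lib.Fusion.CoverSimple
import Cfsg.Agent.Lib.Field.HermDiag

/-!
The defining characteristic fusion system of the projective special unitary group is simple.
-/

set_option autoImplicit false
set_option linter.unusedSectionVars false

namespace Cfsg.Agent.Fusion.HermBlocks

open Matrix Cfsg.Agent.Fusion.UniTri Cfsg.Agent.Fusion.GroupSimple
open Cfsg.Agent.Fusion.SympBlocks (dE dE_mul_dE)

variable {r d : ℕ} {F : Type*} [Field F] {σ : F ≃+* F} [hσ : Fact (∀ a, σ (σ a) = a)] [Fintype F]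

local notation "RR" => Matrix (Fin r) (Fin r) F
local notation "DR" => Matrix (Fin d) (Fin r) F

/-- The skew matrices whose unipotent lies in `T`. -/
def skSet (T : Subgroup (HU σ r d)) : AddSubgroup (Matrix (Fin r) (Fin r) F) where
  carrier := {S | ∃ h, sh σ (0 : Matrix (Fin d) (Fin r) F) S h ∈ T}
  zero_mem' := ⟨zero_cond σ, by rw [sh_zero]; exact T.one_mem⟩
  add_mem' := by
    rintro S S' ⟨hS, h⟩ ⟨hS', h'⟩
    have hc : (S + S') + ct σ (S + S') + ct σ (0 : DR) * (0 : DR) = 0 := by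
      simpa using sh_mul_cond σ hS hS'
    refine ⟨hc, ?_⟩
    have e := T.mul_mem h h'
    rwa [sh_mul, sh_congr σ _ hc (add_zero 0) (by simp)] at e
  neg_mem' := by
    rintro S ⟨hS, h⟩
    have e : ct σ S = -S := eq_neg_of_add_eq_zero_right (by simpa using hS)
    have hc : -S + ct σ (-S) + ct σ (0 : DR) * (0 : DR) = 0 := by simp [e]
    refine ⟨hc, ?_⟩
    have e' := T.inv_mem h
    rwa [sh_inv, sh_congr σ _ hc neg_zero e] at e'

theorem exists_norm_eq (hne : σ ≠ 1) {c : F} (hc : σ c = c) : ∃ z : F, z * σ z = c := by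
  by_cases h0 : c = 0
  · exact ⟨0, by simp [h0]⟩
  obtain ⟨z, hz⟩ := FieldExt.exists_norm_invol σ (sigma_sigma σ) hne (Units.mk0 c h0) hc
  exact ⟨z, hz⟩

section Closed

variable {T : Subgroup (HU σ r d)} (hTU : T ≤ huUni σ r d)
  (hfus : ∀ x ∈ T, ∀ g, g * x * g⁻¹ ∈ huUni σ r d → g * x * g⁻¹ ∈ T)
include hTU hfus

theorem congr_mem (A : Matrix.SpecialLinearGroup (Fin r) F) {S : RR} (h : S ∈ skSet T) :
    A.1 * S * ct σ A.1 ∈ skSet T := by
  obtain ⟨hS, hT⟩ := h
  have hc := lev_cond σ hS A.1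
  rw [Matrix.zero_mul] at hc
  refine ⟨hc, ?_⟩
  have := hfus _ hT (levS σ A) (by rw [levS_conj_sh]; exact sh_mem_huUni _)
  rwa [levS_conj_sh, sh_congr σ _ hc (Matrix.zero_mul _) rfl] at this

theorem smul_dE_mem_scale (hne : σ ≠ 1) {i k : Fin r} (hik : i ≠ k) {γ c : F} (hγ : σ γ = -γ)
    (h0 : γ ≠ 0) (h : γ • (dE i : RR) ∈ skSet T) (hc : σ c = -c) : c • (dE i : RR) ∈ skSet T := by
  obtain ⟨z, hz⟩ := exists_norm_eq hne (show σ (c / γ) = c / γ by rw [map_div₀, hc, hγ, neg_div_neg_eq])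
  by_cases hz0 : z = 0
  · have hc0 : c = 0 := by
      rw [hz0, zero_mul] at hz
      exact ((div_eq_zero_iff).mp hz.symm).resolve_right h0
    simp [hc0, zero_mem]
  have h1 := congr_mem hTU hfus (SpecialLinearGroup.diag2n hik z hz0) h
  convert h1 using 1
  rw [SpecialLinearGroup.diag2n_coe]
  ext a b
  rw [Matrix.mul_apply, Finset.sum_eq_single b]
  · rw [ct_apply, diagonal_apply_eq, Matrix.diagonal_mul]
    by_cases hab : a = i ∧ b = i
    · obtain ⟨rfl, rfl⟩ := hab
      simp [dE]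
      field_simp at hz
      linear_combination -hz
    · have : (dE i : RR) a b = 0 := single_apply_of_ne _ _ _ _ _ fun e => hab ⟨e.1.symm, e.2.symm⟩
      simp [this]
  · intro x _ hx
    rw [ct_apply, diagonal_apply_ne _ (Ne.symm hx), map_zero, mul_zero]
  · simp

theorem smul_dE_move {i k : Fin r} (hki : k ≠ i) {γ : F} (h : γ • (dE i : RR) ∈ skSet T) :
    γ • (dE k : RR) ∈ skSet T := by
  have h1 := congr_mem hTU hfus (SpecialLinearGroup.transvection hki (1 : F)) h
  have h2 := congr_mem hTU hfus (SpecialLinearGroup.transvection (Ne.symm hki) (-1 : F)) h1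
  convert h2 using 1
  simp only [SpecialLinearGroup.transvection_coe, ct_add, ct_one, ct_single, map_one, map_neg]
  simp [dE, Matrix.add_mul, Matrix.mul_add, ← single_neg, hki, Ne.symm hki]

theorem pc_mem {i j : Fin r} (hij : i ≠ j) {γ : F} (hγ : σ γ = -γ) (h0 : γ ≠ 0)
    (hd : ∀ k c, σ c = -c → c • (dE k : RR) ∈ skSet T) (c : F) : pc σ i j c ∈ skSet T := by
  have h1 := congr_mem hTU hfus (SpecialLinearGroup.transvection hij (c / γ)) (hd j γ hγ)
  have h2 := sub_mem (sub_mem h1 (hd j γ hγ)) (hd i (c / γ * γ * σ (c / γ)) (by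
    rw [map_mul, map_mul, sigma_sigma σ, hγ]; ring))
  convert h2 using 1
  simp only [SpecialLinearGroup.transvection_coe, ct_add, ct_one, ct_single]
  simp [dE, pc, Matrix.add_mul, Matrix.mul_add, smul_single, h0, mul_assoc]
  have : γ * σ (c / γ) = -σ c := by rw [map_div₀, hγ]; field_simp
  rw [show γ * (σ c / σ γ) = -σ c by rw [← map_div₀]; exact this, ← single_neg]
  abel

theorem levS_transvection_mem {i j : Fin r} (hij : i < j) {γ : F} (hγ : σ γ = -γ) (h0 : γ ≠ 0)
    {c : F} (h : pc σ i j c ∈ skSet T) :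
    (levS σ (SpecialLinearGroup.transvection hij.ne (c / γ)) : HU σ r d) ∈ T := by
  obtain ⟨hS, hT⟩ := h
  set w : HU σ r d := wel σ j γ hγ
  have key : w * sh σ 0 (pc σ i j c) hS = levS σ (SpecialLinearGroup.transvection hij.ne (c / γ)) * w := by
    have hji : j ≠ i := hij.ne'
    refine hu_ext ?_
    rw [val_mul, val_mul, val_wel σ j γ hγ h0, val_sh, val_levS]
    refine ext3 ?_ ?_ ?_ ?_ ?_ ?_ ?_ ?_ ?_ <;>
      simp [-Matrix.SpecialLinearGroup.coe_inv, SpecialLinearGroup.transvection_inv,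
        SpecialLinearGroup.transvection_coe, dE, pc, ct_single, Matrix.add_mul, Matrix.mul_add, Matrix.sub_mul,
        Matrix.mul_sub, smul_single, hij.ne, hji, ← single_neg, h0, hγ, map_div₀] <;>
      (try field_simp) <;> (try simp only [single_neg, neg_neg]) <;> (try abel)
  have h2 : w * sh σ 0 (pc σ i j c) hS * w⁻¹ = levS σ (SpecialLinearGroup.transvection hij.ne (c / γ)) := by
    rw [key, mul_inv_cancel_right]
  rw [← h2]
  refine hfus _ hT w ?_
  rw [h2]
  exact levS_mem_huUni (transvection_mem_uni hij _)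

theorem skew_mem (hd : ∀ k c, σ c = -c → c • (dE k : RR) ∈ skSet T)
    (hp : ∀ i j, i < j → ∀ c, pc σ i j c ∈ skSet T) {S : RR} (hS : S + ct σ S = 0) : S ∈ skSet T := by
  have hsum : ∀ f : Fin r → Fin r → F, (∑ i, ∑ j, single i j (f i j) : RR) = Matrix.of f := fun f =>
    (matrix_eq_sum_single (Matrix.of f)).symm
  have hsk : ∀ a b, σ (S b a) = -S a b := fun a b => by
    have := congrArg (fun M : RR => M a b) hS
    simp only [Matrix.add_apply, ct_apply, Matrix.zero_apply] at this
    exact eq_neg_of_add_eq_zero_right this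
  have e : S = ∑ i, S i i • (dE i : RR) + ∑ i, ∑ j, pc σ i j (if i < j then S i j else 0) := by
    have e1 : (∑ i, S i i • (dE i : RR)) = diagonal fun i => S i i := by
      ext a b
      by_cases hab : a = b
      · subst hab
        simp [Matrix.sum_apply, dE, Matrix.single_apply]
      · rw [diagonal_apply_ne _ hab, Matrix.sum_apply]
        refine Finset.sum_eq_zero fun c _ => ?_
        simp [dE, Matrix.single_apply]
        rintro rfl h'
        exact absurd h' hab
    have e2 : (∑ i, ∑ j, pc σ i j (if i < j then S i j else 0) : RR) =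
        Matrix.of (fun i j => if i < j then S i j else 0) -
          Matrix.of (fun i j => σ (if j < i then S j i else 0)) := by
      simp only [pc, Finset.sum_sub_distrib]
      rw [hsum, Finset.sum_comm, hsum (fun i j => σ (if j < i then S j i else 0))]
    rw [e1, e2]
    ext a b
    rcases lt_trichotomy a b with hab | hab | hab
    · simp [hab, hab.ne, hab.not_gt]
    · subst hab; simp
    · simp [hab, hab.ne', hab.not_gt, hsk]
  rw [e]
  refine add_mem (sum_mem fun i _ => hd i _ (hsk i i)) (sum_mem fun i _ => sum_mem fun j _ => ?_)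
  split_ifs with h
  · exact hp i j h _
  · simp [pc, zero_mem]

theorem huUni_le [Fact (d ≤ 1)] (hne : σ ≠ 1) (hr : 2 ≤ r) {γ : F} (hγ : σ γ = -γ) (h0 : γ ≠ 0)
    (hd : ∀ k c, σ c = -c → c • (dE k : RR) ∈ skSet T) : huUni σ r d ≤ T := by
  have hp : ∀ i j, i < j → ∀ c, pc σ i j c ∈ skSet T := fun i j h c => pc_mem hTU hfus h.ne hγ h0 hd c
  have hlev : ∀ g ∈ (uni : Subgroup (Matrix.SpecialLinearGroup (Fin r) F)), (levS σ g : HU σ r d) ∈ T := by
    intro g hg
    have : (uni : Subgroup (Matrix.SpecialLinearGroup (Fin r) F)) ≤ T.comap (levS σ) := by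
      refine uni_le_of_transvection_mem fun i j hij c => ?_
      have := levS_transvection_mem hTU hfus hij hγ h0 (hp i j hij (c * γ))
      rw [Subgroup.mem_comap]
      rwa [mul_div_cancel_right₀ _ h0] at this
    exact this hg
  -- the `v`-parts occurring in `T`
  let V : AddSubgroup DR :=
    { carrier := {v | ∃ S h, sh σ v S h ∈ T}
      zero_mem' := ⟨0, zero_cond σ, by rw [sh_zero]; exact T.one_mem⟩
      add_mem' := by
        rintro v v' ⟨S, hS, hT⟩ ⟨S', hS', hT'⟩
        refine ⟨S + S' - ct σ v * v', sh_mul_cond σ hS hS', ?_⟩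
        rw [← sh_mul σ hS hS']
        exact T.mul_mem hT hT'
      neg_mem' := by
        rintro v ⟨S, hS, hT⟩
        refine ⟨ct σ S, inv_cond σ hS, ?_⟩
        rw [← sh_inv σ hS]
        exact T.inv_mem hT }
  have hVlev : ∀ (A : Matrix.SpecialLinearGroup (Fin r) F) v, v ∈ V → v * ct σ A.1 ∈ V := by
    rintro A v ⟨S, hS, hT⟩
    refine ⟨_, lev_cond σ hS A.1, ?_⟩
    rw [← levS_conj_sh]
    exact hfus _ hT _ (by rw [levS_conj_sh]; exact sh_mem_huUni _)
  have hrho : ∀ (i : Fin r) (a : F), a • (rho i : DR) ∈ V := by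
    have hnorm : ∀ a : F, ∃ b : F, b + σ b + (d : F) * (σ a * a) = 0 := fun a => by
      obtain ⟨b, hb, -⟩ := exists_up_one (σ := σ) (d := d) hne
      refine ⟨b * (σ a * a), ?_⟩
      rw [map_mul, map_mul, sigma_sigma σ]
      rw [map_one, one_mul, mul_one] at hb
      linear_combination (σ a * a) * hb
    -- first coordinates below another one
    have hlow : ∀ (i j : Fin r), i < j → ∀ a : F, a • (rho i : DR) ∈ V := by
      intro i j hij a
      obtain ⟨b, hb⟩ := hnorm a
      set t : Matrix.SpecialLinearGroup (Fin r) F := SpecialLinearGroup.transvection hij.ne (1 : F)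
      have hy : (levS σ t : HU σ r d) ∈ T := hlev t (transvection_mem_uni hij 1)
      set y : HU σ r d := levS σ t
      set u : HU σ r d := up σ j a b hb
      have huU : u ∈ huUni σ r d := sh_mem_huUni _
      have hconj : u * y⁻¹ * u⁻¹ ∈ T :=
        hfus _ (T.inv_mem hy) u (mul_mem (mul_mem huU (hTU (T.inv_mem hy))) (inv_mem huU))
      have hc := T.mul_mem hy hconj
      rw [← mul_assoc, ← mul_assoc] at hc
      have e : y * u * y⁻¹ = _ := levS_conj_sh σ t (rk_cond σ hb j)
      rw [e] at hc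
      dsimp only [u] at hc
      rw [up, sh_inv, sh_mul] at hc
      have hm : (a • (rho j : DR)) * ct σ t.1 + -(a • rho j) ∈ V := ⟨_, _, hc⟩
      convert hm using 1
      simp only [t, SpecialLinearGroup.transvection_coe, ct_add, ct_one, ct_single, map_one,
        Matrix.mul_add, Matrix.mul_one]
      rw [add_comm (a • rho j : DR), add_neg_cancel_right, Matrix.smul_mul]
      congr 1
      ext k c
      by_cases hc : c = i
      · subst hc; simp [rho_apply, Matrix.mul_apply, single_apply]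
      · simp [rho_apply, Matrix.mul_single_apply_of_ne (hbj := hc), hc]
    intro i a
    by_cases hi : ∃ j, i < j
    · obtain ⟨j, hj⟩ := hi
      exact hlow i j hj a
    · push Not at hi
      obtain ⟨k, hk⟩ : ∃ k, k ≠ i := by
        by_cases h : i = ⟨0, by omega⟩
        · exact ⟨⟨1, by omega⟩, by simp [h, Fin.ext_iff]⟩
        · exact ⟨⟨0, by omega⟩, Ne.symm h⟩
      have hki : k < i := lt_of_le_of_ne (hi k) hk
      have h1 := hVlev (SpecialLinearGroup.transvection hk.symm (1 : F)) _ (hlow k i hki a)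
      have h2 := sub_mem h1 (hlow k i hki a)
      convert h2 using 1
      simp only [SpecialLinearGroup.transvection_coe, ct_add, ct_one, ct_single, map_one,
        Matrix.mul_add, Matrix.mul_one]
      rw [add_sub_cancel_left, Matrix.smul_mul]
      congr 1
      ext l c
      by_cases hc : c = i
      · subst hc; simp [rho_apply, Matrix.mul_apply, single_apply]
      · simp [rho_apply, Matrix.mul_single_apply_of_ne (hbj := hc), hc]
  have hV : ∀ v : DR, v ∈ V := by
    intro v
    have e : v = ∑ i, (∑ k, v k i) • (rho i : DR) := by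
      have : Subsingleton (Fin d) := Fin.subsingleton_iff_le_one.mpr Fact.out
      ext k c
      rw [Matrix.sum_apply, Finset.sum_eq_single c]
      · rw [Matrix.smul_apply, rho_apply, if_pos rfl, Fintype.sum_subsingleton _ k, smul_eq_mul, mul_one]
      · intro i _ hi; simp [rho_apply, Ne.symm hi]
      · simp
    exact e ▸ sum_mem fun i _ => hrho i _
  have hsh : ∀ v S (h : S + ct σ S + ct σ v * v = 0), sh σ v S h ∈ T := by
    intro v S h
    obtain ⟨S', h', hT⟩ := hV v
    have hz : sh σ v S h * (sh σ v S' h')⁻¹ ∈ T := by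
      rw [sh_inv, sh_mul]
      have hc := sh_mul_cond σ h (inv_cond σ h')
      obtain ⟨h'', hT''⟩ := skew_mem hTU hfus hd hp (S := S + ct σ S' - ct σ v * -v) (by simpa using hc)
      rwa [sh_congr σ hc h'' (add_neg_cancel v) rfl]
    simpa using T.mul_mem hz hT
  intro X hX
  set g := toSL hX
  have hs : (levS σ g)⁻¹ * X ∈ siegel σ r d := by
    refine ⟨mul_mem (inv_mem (levS_mem_huUni (toSL_mem hX))) hX, ?_⟩
    rw [c11_mul_bor hX.1]
    calc c11 ((levS σ g : HU σ r d)⁻¹).1.1 * c11 X.1.1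
        = c11 ((levS σ g : HU σ r d)⁻¹).1.1 * c11 (levS σ g : HU σ r d).1.1 := by rw [val_levS, c11_mk3]; rfl
      _ = 1 := by rw [← c11_mul_bor (levS_mem_huUni (toSL_mem hX)).1, inv_mul_cancel, val_one, c11_one]
  obtain ⟨v, S, h, he⟩ := exists_sh_of_mem_siegel hs
  rw [← mul_inv_cancel_left (levS σ g) X, he]
  exact T.mul_mem (hlev g (toSL_mem hX)) (hsh v S h)

theorem exists_central_dE [Fact (d ≤ 1)] (hne : σ ≠ 1) (hr : 2 ≤ r) (p : ℕ) [Fact p.Prime] [CharP F p]
    (hne' : T ≠ ⊥) : ∃ i γ, σ γ = -γ ∧ γ ≠ 0 ∧ γ • (dE i : RR) ∈ skSet T := by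
  obtain ⟨γ₀, hγ₀, h0⟩ := exists_skew_ne_zero (σ := σ) hne
  have : (T.subgroupOf (huUni σ r d)).Normal :=
    ⟨fun t ht g => hfus _ ht g (mul_mem (mul_mem g.2 t.2) (inv_mem g.2))⟩
  have hne2 : T.subgroupOf (huUni σ r d) ≠ ⊥ := by
    rw [Ne, Subgroup.subgroupOf_eq_bot, disjoint_iff, inf_of_le_left hTU]
    exact hne'
  obtain ⟨⟨z, hzT, hzC⟩, hz1⟩ := Subgroup.ne_bot_iff_exists_ne_one.mp
    (PGroup.inf_center_ne_bot (huUni_isPGroup (σ := σ) (r := r) (d := d) p) _ hne2)
  have hcomm : ∀ x ∈ huUni σ r d, x * z.1 = z.1 * x := fun x hx =>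
    congrArg Subtype.val (Subgroup.mem_center_iff.mp hzC ⟨x, hx⟩)
  obtain ⟨a, ha, hn, hs, hdiag⟩ := centralizer_siegel hne hr
    (Subgroup.mem_centralizer_iff.mpr fun x hx => hcomm x hx.1)
  let i₀ : Fin r := ⟨0, by omega⟩
  have ha1 : a = 1 := by rw [← hdiag i₀]; exact z.2.2.1 i₀
  subst ha1
  rw [show scal σ (σ 1) ha hn = (1 : HU σ r d) from hu_ext (by simp [val_one]), one_mul] at hs
  obtain ⟨v, S, hS, he⟩ := exists_sh_of_mem_siegel hs
  have hsh : ∀ {v' : DR} {S' : RR} (h' : S' + ct σ S' + ct σ v' * v' = 0),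
      ct σ v * v' = ct σ v' * v := by
    intro v' S' h'
    have := congrArg (fun Y : HU σ r d => c13 Y.1.1) (hcomm _ (sh_mem_huUni h'))
    simp [he, val_mul] at this
    linear_combination (norm := abel) this
  have hv : v = 0 := by
    rcases Nat.eq_zero_or_pos d with hd0 | hd0
    · subst hd0; exact Subsingleton.elim _ _
    have : Subsingleton (Fin d) := Fin.subsingleton_iff_le_one.mpr Fact.out
    ext k i
    obtain ⟨j, hj⟩ : ∃ j, j ≠ i := by
      by_cases h : i = i₀
      · exact ⟨⟨1, by omega⟩, by simp [h, i₀, Fin.ext_iff]⟩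
      · exact ⟨i₀, Ne.symm h⟩
    obtain ⟨b, hb, -⟩ := exists_up_one (σ := σ) (d := d) hne
    have e := congrArg (fun M : RR => M i j) (hsh (rk_cond σ hb j))
    simp [Matrix.mul_apply, ct_apply, rho_apply, Ne.symm hj, Fintype.sum_subsingleton _ k] at e
    simpa using e
  subst hv
  have hlev : ∀ (A : Matrix.SpecialLinearGroup (Fin r) F), A ∈ uni → A.1 * S * ct σ A.1 = S := by
    intro A hA
    have h1 : levS σ A * z.1 * (levS σ A)⁻¹ = z.1 := by
      rw [hcomm _ (levS_mem_huUni hA), mul_inv_cancel_right]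
    rw [he, levS_conj_sh] at h1
    simpa using congrArg (fun Y : HU σ r d => c13 Y.1.1) h1
  have hsk : ∀ a b, σ (S b a) = -S a b := fun a b => by
    have := congrArg (fun M : RR => M a b) hS
    simp only [ct_zero, Matrix.zero_mul, add_zero, Matrix.add_apply, ct_apply, Matrix.zero_apply] at this
    exact eq_neg_of_add_eq_zero_right this
  have hexp : ∀ (j : Fin r) (hj : i₀ < j) (c : F) (b : Fin r),
      c * S j b + (if b = i₀ then S i₀ j * σ c + c * S j j * σ c else 0) = 0 := by
    intro j hj c b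
    have e := congrArg (fun M : RR => M i₀ b) (hlev _ (transvection_mem_uni hj c))
    simp only [SpecialLinearGroup.transvection_coe, ct_add, ct_one, ct_single, Matrix.add_mul,
      Matrix.mul_add, Matrix.one_mul, Matrix.mul_one, Matrix.add_apply] at e
    by_cases hb : b = i₀
    · subst hb
      simp [Matrix.mul_apply, single_apply, hj.ne, hj.ne'] at e
      rw [if_pos rfl]
      linear_combination e
    · simp [Matrix.mul_single_apply_of_ne (hbj := hb), Matrix.single_mul_apply_same] at e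
      rw [if_neg hb, add_zero]
      simpa using e
  have hrow : ∀ j, i₀ < j → ∀ b, b ≠ i₀ → S j b = 0 := fun j hj b hb => by
    simpa [hb] using hexp j hj 1 b
  have hoff : ∀ j, i₀ < j → S j i₀ = 0 := by
    intro j hj
    by_contra hne0
    obtain ⟨x, hx⟩ : ∃ x, σ x ≠ x := by
      by_contra hc
      push Not at hc
      exact hne (RingEquiv.ext hc)
    have h2 := hexp j hj (x / S j i₀) i₀
    rw [if_pos rfl, hrow j hj j hj.ne', mul_zero, zero_mul, add_zero] at h2
    have h3 : S i₀ j = -σ (S j i₀) := by rw [hsk i₀ j, neg_neg]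
    rw [h3, map_div₀] at h2
    have hs0 : σ (S j i₀) ≠ 0 := by simpa using hne0
    field_simp at h2
    exact hx (by linear_combination -h2)
  have hpos : ∀ a, a ≠ i₀ → i₀ < a := fun a ha => lt_of_le_of_ne (Fin.le_def.mpr (Nat.zero_le _)) (Ne.symm ha)
  have hS1 : S = S i₀ i₀ • (dE i₀ : RR) := by
    ext a b
    simp only [dE, Matrix.smul_apply, single_apply, smul_eq_mul]
    by_cases ha : a = i₀
    · subst ha
      by_cases hb : b = i₀
      · simp [hb]
      · rw [← neg_eq_iff_eq_neg.mpr (hsk i₀ b), hoff b (hpos b hb)]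
        simp [Ne.symm hb]
    · by_cases hb : b = i₀
      · rw [hb, hoff a (hpos a ha)]; simp [Ne.symm ha]
      · rw [hrow a (hpos a ha) b hb]; simp [Ne.symm ha]
  refine ⟨i₀, S i₀ i₀, hsk i₀ i₀, fun h00 => hz1 (Subtype.ext (Subtype.ext ?_)), ?_⟩
  · show z.1 = 1
    rw [h00, zero_smul] at hS1
    rw [he, sh_congr σ hS (zero_cond σ) rfl hS1, sh_zero]
  · refine ⟨by rw [← hS1]; exact hS, ?_⟩
    have : z.1 ∈ T := hzT
    rw [he] at this
    rwa [sh_congr σ _ hS rfl hS1.symm]

end Closed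

/-- The last index. -/
def lastIdx (r : ℕ) (hr : 2 ≤ r) : Fin r := ⟨r - 1, by omega⟩

theorem le_lastIdx {r : ℕ} (hr : 2 ≤ r) (i : Fin r) : i ≤ lastIdx r hr := by
  rw [Fin.le_def]; simp [lastIdx]; omega

/-- The two radicals. -/
def rads (hr : 2 ≤ r) : Bool → Subgroup (HU σ r d)
  | true => siegel σ r d
  | false => lastRad σ (lastIdx r hr) (le_lastIdx hr)

theorem setup [Fact (d ≤ 1)] (p : ℕ) [Fact p.Prime] [CharP F p] (hne : σ ≠ 1) (hr : 2 ≤ r) :
    CoverSimple.Setup p (huUni σ r d) (Subgroup.center (HU σ r d)) (rads (σ := σ) (d := d) hr) := by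
  obtain ⟨γ, hγ, h0⟩ := exists_skew_ne_zero (σ := σ) hne
  have hd1 : d ≤ 1 := Fact.out
  let i₀ : Fin r := ⟨0, by omega⟩
  have hbor : ∀ x : HU σ r d,
      x ∈ Subgroup.normalizer ((huUni σ r d : Subgroup (HU σ r d)) : Set (HU σ r d)) → x ∈ bor σ r d :=
    fun x => mem_bor_of_normalizer hne (by omega)
  have hscal : ∀ (a : F) ha hn, scal σ a ha hn ∈ bor σ r d ∧
      (∀ i, c11 (scal σ a ha hn : HU σ r d).1.1 i i = a) ∧ c22 (scal σ a ha hn : HU σ r d).1.1 = a • 1 := by
    intro a ha hn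
    refine ⟨⟨?_, ?_, ?_, fun i j hij => ?_⟩, fun i => ?_, ?_⟩
    · rw [val_scal, c21_smul, c21_one, smul_zero]
    · rw [val_scal, c31_smul, c31_one, smul_zero]
    · rw [val_scal, c32_smul, c32_one, smul_zero]
    · rw [val_scal, c11_smul, c11_one, Matrix.smul_apply, one_apply_ne hij.ne', smul_zero]
    · rw [val_scal, c11_smul, c11_one, Matrix.smul_apply, one_apply_eq, smul_eq_mul, mul_one]
    · rw [val_scal, c22_smul, c22_one]
  have hdiagpow : ∀ {x : HU σ r d}, x ∈ bor σ r d → ∀ (n : ℕ) i,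
      c11 (x ^ n).1.1 i i = c11 x.1.1 i i ^ n := by
    intro x hx n i
    induction n with
    | zero => rw [pow_zero, pow_zero, val_one, c11_one, one_apply_eq]
    | succ n ih => rw [pow_succ, bor_diag_mul (pow_mem hx n) hx, ih, pow_succ]
  have h22pow : ∀ {x : HU σ r d}, x ∈ bor σ r d → ∀ (n : ℕ),
      c22 (x ^ n).1.1 = c22 x.1.1 ^ n := by
    intro x hx n
    induction n with
    | zero => rw [pow_zero, pow_zero, val_one, c22_one]
    | succ n ih => rw [pow_succ, c22_mul_bor (pow_mem hx n) hx, ih, pow_succ]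
  refine ⟨le_rfl, ?_, huUni_isPGroup p, ?_, ?_, ?_, ?_, ?_, ?_, ?_⟩
  · intro z hz k h
    obtain ⟨a, ha, hn, hz'⟩ := center_eq hne hr hz
    have hb := hscal (σ a) ha hn
    have hzb : z ∈ bor σ r d := by rw [eq_inv_of_mul_eq_one_right hz']; exact inv_mem hb.1
    have h1 := hdiagpow hzb (p ^ k) i₀
    rw [h, val_one, c11_one, one_apply_eq] at h1
    have h2 : c11 z.1.1 i₀ i₀ = 1 := eq_of_pow_eq p (k := k) (by rw [one_pow, ← h1])
    have h3 : c11 (scal σ (σ a) ha hn * z).1.1 i₀ i₀ = 1 := by rw [hz', val_one, c11_one, one_apply_eq]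
    rw [mul_scal, c11_smul, Matrix.smul_apply, h2, smul_eq_mul, mul_one] at h3
    rw [eq_inv_of_mul_eq_one_right hz', show scal σ (σ a) ha hn = (1 : HU σ r d) from
      hu_ext (by rw [val_scal, h3, one_smul, val_one]), inv_one]
  · intro h
    have h1 : sh σ 0 (γ • dE i₀) (skew_to_cond (smul_dE_skew hγ i₀)) ∈ huUni σ r d := sh_mem_huUni _
    rw [h, Subgroup.mem_bot] at h1
    have h2 := congrArg (fun X : HU σ r d => c13 X.1.1 i₀ i₀) h1
    simp [val_one, dE, h0] at h2
  · intro x hx k hk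
    have hb := hbor x hx
    obtain ⟨a, ha, hn, hz⟩ := center_eq hne hr hk
    have hσa : σ a ≠ 0 := fun e => by rw [e, mul_zero] at ha; exact zero_ne_one ha
    have hpk := pow_mem hb (p ^ k)
    have hdiag : ∀ i, σ a * c11 x.1.1 i i ^ p ^ k = 1 := fun i => by
      have h1 := congrArg (fun X : HU σ r d => c11 X.1.1 i i) hz
      rw [mul_scal, c11_smul, Matrix.smul_apply, hdiagpow hb, val_one, c11_one, one_apply_eq] at h1
      exact h1
    have h22 : σ a • c22 x.1.1 ^ p ^ k = 1 := by
      have h1 := congrArg (fun X : HU σ r d => c22 X.1.1) hz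
      rw [mul_scal, c22_smul, h22pow hb, val_one, c22_one] at h1
      exact h1
    set t := c11 x.1.1 i₀ i₀
    have hd : ∀ i, c11 x.1.1 i i = t := fun i =>
      eq_of_pow_eq p (k := k) (mul_left_cancel₀ hσa ((hdiag i).trans (hdiag i₀).symm))
    have ht : t ^ p ^ k = a := by
      have h1 := hdiag i₀
      rw [← mul_right_inj' hσa, h1]
      rw [sigma_sigma σ] at ha
      rw [mul_comm, ha]
    have hxd : c22 x.1.1 = t • 1 := by
      have : Subsingleton (Fin d) := Fin.subsingleton_iff_le_one.mpr hd1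
      ext i j
      rw [Subsingleton.elim j i, Matrix.smul_apply, one_apply_eq, smul_eq_mul, mul_one]
      refine eq_of_pow_eq p (k := k) (mul_left_cancel₀ hσa ?_)
      have h1 := congrArg (fun M : Matrix (Fin d) (Fin d) F => M i i) h22
      have hpw : ∀ n : ℕ, (c22 x.1.1 ^ n) i i = c22 x.1.1 i i ^ n := fun n => by
        induction n with
        | zero => simp
        | succ n ih => rw [pow_succ, pow_succ, Matrix.mul_apply, Fintype.sum_subsingleton _ i, ih]
      simp only [Matrix.smul_apply, hpw, one_apply_eq, smul_eq_mul] at h1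
      rw [h1, hdiag i₀]
    have htt : σ t * t = 1 := eq_of_pow_eq p (k := k) (by
      rw [mul_pow, ← map_pow, ht, one_pow]
      rw [sigma_sigma σ] at ha
      rw [mul_comm, ha])
    obtain ⟨ha', hn', hu⟩ := exists_scal_mem_huUni (X := x) (a := t) hb.1 hb.2.1 hb.2.2.1 hb.2.2.2 hd hxd
      ⟨i₀, by
        rw [c33_eq, ct_apply, eq_inv_of_mul_eq_one_left (bA_diag_inv hb i₀)]
        show σ t⁻¹ = t
        rw [map_inv₀]
        exact inv_eq_of_mul_eq_one_right htt⟩
    obtain ⟨z', hz', e⟩ := eq_scal_mul ha' hn' x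
    rw [e]
    exact Subgroup.mul_mem_sup hz' hu
  · intro T hTU hne' hfus
    obtain ⟨i, c, hc, hc0, hT⟩ := exists_central_dE hTU hfus hne hr p hne'
    refine huUni_le hTU hfus hne hr hγ h0 fun k e he => ?_
    obtain ⟨j, hj⟩ : ∃ j, j ≠ i := by
      by_cases h : i = i₀
      · exact ⟨⟨1, by omega⟩, by simp [h, i₀, Fin.ext_iff]⟩
      · exact ⟨i₀, Ne.symm h⟩
    have hi := smul_dE_mem_scale hTU hfus hne (Ne.symm hj) hc hc0 hT he
    by_cases hki : k = i
    · exact hki ▸ hi
    · exact smul_dE_move hTU hfus hki hi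
  · rintro (_ | _)
    · exact fun X hX => hX.1
    · exact fun X hX => hX.1
  · rintro (_ | _)
    · exact huUni_le_normalizer_lastRad (hl := le_lastIdx hr)
    · exact huUni_le_normalizer_siegel
  · rintro (_ | _) X hX
    · obtain ⟨a, ha, hn, hs⟩ := centralizer_lastRad (hl := le_lastIdx hr) hne hr hX
      obtain ⟨z, hz, e⟩ := eq_scal_mul ha hn X
      rw [e]
      exact Subgroup.mul_mem_sup hz hs
    · obtain ⟨a, ha, hn, hs, -⟩ := centralizer_siegel hne hr hX
      obtain ⟨z, hz, e⟩ := eq_scal_mul ha hn X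
      rw [e]
      exact Subgroup.mul_mem_sup hz hs
  · intro x hx
    refine Subgroup.mem_sup_left ?_
    set Y := ⨆ i, pElts p (rads (σ := σ) (d := d) hr i) ⊓
      Subgroup.normalizer ((huUni σ r d : Subgroup (HU σ r d)) : Set (HU σ r d))
    have hY : ∀ i y, y ∈ pElts p (rads hr i) → y ∈ bor σ r d → y ∈ Y := fun i y h1 h2 =>
      Subgroup.mem_iSup_of_mem i ⟨h1, bor_le_normalizer h2⟩
    have hgen : ∀ i (y : HU σ r d),
        y ∈ Subgroup.normalizer ((rads (σ := σ) (d := d) hr i : Subgroup (HU σ r d)) : Set (HU σ r d)) →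
        (∃ k : ℕ, y ^ p ^ k = 1) → y ∈ pElts p (rads hr i) := fun i y h1 ⟨k, hk⟩ => by
      obtain ⟨j, -, hj⟩ := (Nat.dvd_prime_pow Fact.out).mp (orderOf_dvd_of_pow_eq_one hk)
      exact Subgroup.subset_closure ⟨h1, j, hj⟩
    have hU : ∀ i, ∀ u ∈ huUni σ r d, u ∈ pElts p (rads hr i) := fun i u hu => by
      obtain ⟨k, hk⟩ := huUni_isPGroup (σ := σ) (r := r) (d := d) p ⟨u, hu⟩
      refine hgen i u ?_ ⟨k, congrArg Subtype.val hk⟩
      cases i
      · exact huUni_le_normalizer_lastRad (hl := le_lastIdx hr) hu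
      · exact huUni_le_normalizer_siegel hu
    have hSL : ∀ g : Matrix.SpecialLinearGroup (Fin r) F, (levS σ g : HU σ r d) ∈ pElts p (rads hr true) := by
      intro g
      have : (pElts p (rads (σ := σ) (d := d) hr true)).comap (levS σ) = ⊤ := by
        refine Cfsg.Agent.GL.SL_eq_top_of_transvection_mem fun i j hij c => hgen _ _ ?_ ⟨1, ?_⟩
        · exact levS_mem_normalizer_siegel _
        · rw [pow_one, ← map_pow, transvection_pow_char p hij c, map_one]
      exact (this ▸ Subgroup.mem_top g : g ∈ Subgroup.comap (levS σ) _)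
    have hb := hbor x hx
    set l := lastIdx r hr
    set δ := ∏ i, c11 x.1.1 i i with hδ
    have hδ0 : δ ≠ 0 := Finset.prod_ne_zero_iff.mpr fun i _ => diag_ne_zero hb i
    have hlp : ∀ a b (h : b + σ b + (d : F) * (σ a * a) = 0), lo σ l a b h ∈ pElts p (rads hr false) := by
      intro a b h
      obtain ⟨k, hk⟩ := huUni_isPGroup (σ := σ) (r := r) (d := d) p
        ⟨sh σ (a • rho l) (b • dE l) (rk_cond σ h l), sh_mem_huUni _⟩
      refine hgen _ _ (lo_mem_normalizer_lastRad (hl := le_lastIdx hr) a b h) ⟨k, ?_⟩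
      exact lo_pow_eq_one h k (congrArg Subtype.val hk)
    have hδd : d = 0 → σ δ = δ := by
      intro hd0
      subst hd0
      have h1 := bor_det hb
      rw [det_c11 hb, det_c11 (inv_mem hb), det_isEmpty, one_mul, map_prod] at h1
      have e : ∀ i, σ (c11 (x⁻¹).1.1 i i) * σ (c11 x.1.1 i i) = 1 := fun i => by
        rw [← map_mul, bA_diag_inv hb, map_one]
      have h2 : (∏ i, σ (c11 (x⁻¹).1.1 i i)) * σ δ = 1 := by
        rw [hδ, map_prod, ← Finset.prod_mul_distrib]
        exact Finset.prod_eq_one fun i _ => e i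
      exact mul_left_cancel₀ (left_ne_zero_of_mul_eq_one h2) (h2.trans (by rw [mul_comm]; exact h1.symm))
    obtain ⟨a, hab⟩ : ∃ a : F, δ * γ + σ (δ * γ) + (d : F) * (σ a * a) = 0 := by
      rcases (show d = 0 ∨ d = 1 by omega) with h | h
      · refine ⟨0, ?_⟩
        rw [map_mul, hδd h, hγ]; ring
      · obtain ⟨z, hz⟩ := exists_norm_eq hne (c := -(δ * γ + σ (δ * γ))) (by
          rw [map_neg, map_add, sigma_sigma σ, add_comm])
        refine ⟨z, ?_⟩
        rw [h, Nat.cast_one, one_mul, mul_comm (σ z), hz, add_neg_cancel]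
    obtain ⟨h, hhH, hhbor, hh11⟩ := exists_torus_elt (H := pElts p (rads (σ := σ) (d := d) hr false)) (l := l)
      hγ h0 (fun a b h => hU false _ (sh_mem_huUni _)) hlp hab (mul_ne_zero hδ0 h0)
    rw [mul_div_cancel_right₀ _ h0] at hh11
    have hhY : h ∈ Y := hY false h hhH hhbor
    have hb' : h⁻¹ * x ∈ bor σ r d := mul_mem (inv_mem hhbor) hb
    set dd : Fin r → F := fun i => c11 (h⁻¹ * x).1.1 i i
    have hd1' : ∏ i, dd i = 1 := by
      have e : ∀ i, c11 h.1.1 i i * dd i = c11 x.1.1 i i := fun i => by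
        rw [← bor_diag_mul hhbor hb', mul_inv_cancel_left]
      have e2 : ∏ i, c11 h.1.1 i i = δ := by
        rw [Finset.prod_eq_single l]
        · simp [hh11, dE]
        · intro i _ hi; simp [hh11, dE, Ne.symm hi]
        · simp
      have e3 := (Finset.prod_congr rfl fun i _ => e i : ∏ i, c11 h.1.1 i i * dd i = δ)
      rw [Finset.prod_mul_distrib, e2] at e3
      exact mul_left_cancel₀ hδ0 (e3.trans (mul_one δ).symm)
    set g : HU σ r d := levS σ (diagSL dd hd1')
    have hg : g ∈ bor σ r d := levS_mem_bor fun i j hij => diagonal_apply_ne _ hij.ne'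
    have hgY : g ∈ Y := hY true _ (hSL _) hg
    have hy := mul_mem (inv_mem hg) hb'
    have hdiag1 : ∀ i, c11 (g⁻¹ * (h⁻¹ * x)).1.1 i i = 1 := fun i => by
      rw [bor_diag_mul (inv_mem hg) hb']
      have hgd : c11 g.1.1 i i = dd i := by
        show c11 (levS σ (diagSL dd hd1') : HU σ r d).1.1 i i = dd i
        rw [val_levS, c11_mk3]; exact diagonal_apply_eq dd i
      show _ * dd i = 1
      rw [← hgd, bA_diag_inv hg]
    have hu : g⁻¹ * (h⁻¹ * x) ∈ huUni σ r d := by
      refine ⟨hy, hdiag1, ?_⟩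
      have hdet := bor_det hy
      have hinv1 : ∀ i, c11 ((g⁻¹ * (h⁻¹ * x))⁻¹).1.1 i i = 1 := fun i => by
        have := bA_diag_inv hy i
        rwa [hdiag1, mul_one] at this
      rw [det_c11 hy, det_c11 (inv_mem hy), Finset.prod_eq_one fun i _ => hdiag1 i,
        Finset.prod_eq_one fun i _ => hinv1 i, map_one, one_mul, mul_one] at hdet
      have : Subsingleton (Fin d) := Fin.subsingleton_iff_le_one.mpr hd1
      ext i j
      rw [det_eq_elem_of_subsingleton _ i] at hdet
      rw [Subsingleton.elim j i, one_apply_eq]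
      exact hdet
    have e : x = h * (g * (g⁻¹ * (h⁻¹ * x))) := by group
    rw [e]
    exact mul_mem hhY (mul_mem hgY (hY true _ (hU true _ hu) hu.1))

end Cfsg.Agent.Fusion.HermBlocks
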