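import Cfsg.Agent.Lib.Fusion.HermBlocks
import Cfsg.Agent.Lib.Field.HermDiag
import Cfsg.Agent.Lib.Forms.Herm
import Cfsg.Prelude.Def_Classical

/-!
`Cfsg.SU` in hyperbolic coordinates.
-/

set_option autoImplicit false
set_option linter.unusedSectionVars false

namespace Cfsg.Agent.Fusion.HermBlocks

open Matrix

variable {F : Type*} [Field F] [Fintype F] {q : ℕ}

/-- `x ↦ x ^ q` as an automorphism. -/
noncomputable def qAut (hF : Fintype.card F = q ^ 2) : F ≃+* F :=
  RingEquiv.ofBijective (Forms.qEnd hF)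
    (Function.Involutive.bijective (fun x => Forms.qEnd_qEnd hF x))

theorem qAut_apply (hF : Fintype.card F = q ^ 2) (x : F) : qAut hF x = x ^ q := rfl

theorem qAut_invol (hF : Fintype.card F = q ^ 2) (x : F) : qAut hF (qAut hF x) = x :=
  Forms.qEnd_qEnd hF x

theorem qAut_ne_one (hF : Fintype.card F = q ^ 2) : qAut hF ≠ 1 := fun h =>
  Forms.qEnd_ne_id hF (RingHom.ext fun x => RingEquiv.congr_fun h x)

theorem mem_SU_iff_matrix (hF : Fintype.card F = q ^ 2) {n : ℕ} (g : Matrix.SpecialLinearGroup (Fin n) F) :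
    g ∈ Cfsg.SU n F q ↔ ct (qAut hF) g.1 * g.1 = 1 := by
  have key : ∀ u v : Fin n → F, Cfsg.hermForm n F q u v = (qAut hF ∘ v) ⬝ᵥ u := by
    intro u v
    simp [Cfsg.hermForm, dotProduct, qAut_apply, mul_comm]
  have hcomp : ∀ w : Fin n → F, qAut hF ∘ (g.1 *ᵥ w) = g.1.map (qAut hF) *ᵥ (qAut hF ∘ w) :=
    fun w => funext fun i => RingHom.map_mulVec (qAut hF : F →+* F) g.1 w i
  have h2 : ∀ u v : Fin n → F, Cfsg.hermForm n F q (g.1 *ᵥ u) (g.1 *ᵥ v) =
      (qAut hF ∘ v) ⬝ᵥ ((ct (qAut hF) g.1 * g.1) *ᵥ u) := by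
    intro u v
    rw [key, hcomp, ← Matrix.mulVec_mulVec, Matrix.dotProduct_mulVec (qAut hF ∘ v), ct,
      Matrix.vecMul_transpose]
  have hmem : g ∈ Cfsg.SU n F q ↔
      ∀ u v, Cfsg.hermForm n F q (g.1 *ᵥ u) (g.1 *ᵥ v) = Cfsg.hermForm n F q u v := Iff.rfl
  rw [hmem]
  constructor
  · intro h
    ext i j
    have e := h (Pi.single j 1) (Pi.single i 1)
    rw [h2, key] at e
    have hs : qAut hF ∘ (Pi.single i (1 : F) : Fin n → F) = Pi.single i 1 := by
      funext x
      by_cases hx : x = i
      · subst hx; simp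
      · simp [hx]
    rw [hs] at e
    simpa [Matrix.one_apply, Pi.single_apply, @eq_comm _ j i] using e
  · intro h u v
    rw [h2, key, h, Matrix.one_mulVec]

/-- `SU_n` is the hyperbolic group of shape `(r, d, r)`. -/
theorem exists_equiv_SU (hF : Fintype.card F = q ^ 2) [Fact (∀ a, qAut hF (qAut hF a) = a)] {r d n : ℕ}
    (e : Hix r d ≃ Fin n) : Nonempty (HU (qAut hF) r d ≃* Cfsg.SU n F q) := by
  classical
  set σ := qAut hF
  -- the hermitian matrix of the hyperbolic form
  let J : Matrix (Hix r d) (Hix r d) F := (1 : Matrix (Hix r d) (Hix r d) F).submatrix (flip r d) id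
  have hJl : ∀ M : Matrix (Hix r d) (Hix r d) F, J * M = M.submatrix (flip r d) id := fun M => by
    ext a b
    simp [J, Matrix.mul_apply, Matrix.one_apply]
  have hJJ : J * J = 1 := by
    rw [hJl]
    ext a b
    have : (flip r d) (flip r d a) = a := (flip r d).left_inv a
    simp [J, Matrix.submatrix, Matrix.one_apply, this]
  have hJr : ∀ M : Matrix (Hix r d) (Hix r d) F, M * J = M.submatrix id (flip r d) := fun M => by
    ext a b
    rw [Matrix.mul_apply, Finset.sum_eq_single (flip r d b)]
    · have : flip r d (flip r d b) = b := (flip r d).left_inv b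
      simp [J, Matrix.one_apply, this]
    · intro x _ hx
      have : flip r d x ≠ b := fun h => hx (by rw [← h]; exact ((flip r d).left_inv x).symm)
      simp [J, Matrix.one_apply, this]
    · simp
  have hadj : ∀ M, adj σ M = J * ct σ M * J := fun M => by
    rw [hJl, hJr, adj]; rfl
  set J' : Matrix (Fin n) (Fin n) F := J.submatrix e.symm e.symm
  have hJ' : J' * J' = 1 := by rw [Matrix.submatrix_mul_equiv, hJJ, submatrix_one_equiv]
  have hherm : (J'.map σ).transpose = J' := by
    ext a b
    simp only [J', J, Matrix.transpose_apply, Matrix.map_apply, Matrix.submatrix_apply, Matrix.one_apply, id]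
    have hiff : ∀ x y : Hix r d, flip r d x = y ↔ flip r d y = x := fun x y =>
      ⟨fun h => by rw [← h]; exact (flip r d).left_inv x, fun h => by rw [← h]; exact (flip r d).left_inv y⟩
    by_cases h : flip r d (e.symm b) = e.symm a
    · rw [if_pos h, if_pos ((hiff _ _).mp h), map_one]
    · rw [if_neg h, if_neg (fun h' => h ((hiff _ _).mp h')), map_zero]
  obtain ⟨hh, hfac⟩ := FieldExt.exists_herm_factor σ (qAut_invol hF) (qAut_ne_one hF)
    (⟨J', J', hJ', hJ'⟩ : GL (Fin n) F) hherm
  change (hh : Matrix (Fin n) (Fin n) F) * ct σ (hh : Matrix (Fin n) (Fin n) F) = J' at hfac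
  set m : Matrix (Fin n) (Fin n) F := ct σ (hh : Matrix (Fin n) (Fin n) F) with hm
  set m' : Matrix (Fin n) (Fin n) F := ct σ ((hh⁻¹ : GL (Fin n) F) : Matrix (Fin n) (Fin n) F) with hm'
  have hmm' : m * m' = 1 := by rw [hm, hm', ← ct_mul, Units.inv_mul, ct_one]
  have hm'm : m' * m = 1 := by rw [hm, hm', ← ct_mul, Units.mul_inv, ct_one]
  have hctm : ct σ m = (hh : Matrix (Fin n) (Fin n) F) := ct_ct σ _
  -- conjugation by `m`
  let f : Matrix.SpecialLinearGroup (Hix r d) F → Matrix.SpecialLinearGroup (Fin n) F := fun g =>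
    ⟨m * g.1.submatrix e.symm e.symm * m', by
      rw [det_mul, det_mul, det_submatrix_equiv_self, g.2, mul_one, ← det_mul, hmm', det_one]⟩
  have hfmul : ∀ g h, f (g * h) = f g * f h := fun g h => Subtype.ext (by
    show m * (g.1 * h.1).submatrix e.symm e.symm * m' =
      m * g.1.submatrix e.symm e.symm * m' * (m * h.1.submatrix e.symm e.symm * m')
    rw [← Matrix.submatrix_mul_equiv g.1 h.1 e.symm e.symm e.symm]
    simp only [Matrix.mul_assoc]
    rw [← Matrix.mul_assoc m' m, hm'm, Matrix.one_mul])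
  have hiff : ∀ g, f g ∈ Cfsg.SU n F q ↔ g ∈ HU σ r d := by
    intro g
    rw [mem_SU_iff_matrix hF]
    show ct σ (m * g.1.submatrix e.symm e.symm * m') * (m * g.1.submatrix e.symm e.symm * m') = 1 ↔
      adj σ g.1 * g.1 = 1
    have e1 : adj σ g.1 * g.1 = 1 ↔ ct σ g.1 * J * g.1 = J := by
      rw [hadj]
      constructor
      · intro h
        have := congrArg (J * ·) h
        simpa [← Matrix.mul_assoc, hJJ] using this
      · intro h
        have := congrArg (J * ·) h
        simpa [← Matrix.mul_assoc, hJJ] using this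
    have e2 : ct σ g.1 * J * g.1 = J ↔
        ct σ (g.1.submatrix e.symm e.symm) * J' * g.1.submatrix e.symm e.symm = J' := by
      have : ct σ (g.1.submatrix e.symm e.symm) = (ct σ g.1).submatrix e.symm e.symm := rfl
      rw [this, Matrix.submatrix_mul_equiv, Matrix.submatrix_mul_equiv]
      exact ⟨fun h => by rw [h], fun h => (Matrix.reindex e e).injective h⟩
    rw [e1, e2]
    set X := g.1.submatrix e.symm e.symm
    rw [← hfac, ct_mul, ct_mul, hctm]
    constructor
    · intro h
      have := congrArg (fun M => (hh : Matrix (Fin n) (Fin n) F) * M * m) h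
      simp only [hm, hm', ct_ct, Matrix.mul_one] at this
      simp only [← Matrix.mul_assoc, Units.mul_inv, Matrix.one_mul] at this
      simp only [Matrix.mul_assoc, ← hm, ← hm', hm'm, Matrix.mul_one] at this
      simpa [Matrix.mul_assoc, hm] using this
    · intro h
      have := congrArg (fun M => ((hh⁻¹ : GL (Fin n) F) : Matrix (Fin n) (Fin n) F) * M * m') h
      simp only [← Matrix.mul_assoc, Units.inv_mul, Matrix.one_mul] at this
      simp only [← hm, hmm'] at this
      simpa [Matrix.mul_assoc, hm, hm'] using this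
  let φ : HU σ r d →* Cfsg.SU n F q := MonoidHom.mk' (fun g => ⟨f g.1, (hiff g.1).mpr g.2⟩)
    (fun g h => Subtype.ext (hfmul g.1 h.1))
  refine ⟨MulEquiv.ofBijective φ ⟨fun g h hgh => ?_, fun g => ?_⟩⟩
  · have h1 : m * g.1.1.submatrix e.symm e.symm * m' = m * h.1.1.submatrix e.symm e.symm * m' :=
      congrArg (fun y : Cfsg.SU n F q => y.1.1) hgh
    have h2 := congrArg (fun M => m' * M * m) h1
    simp only [← Matrix.mul_assoc, hm'm, Matrix.one_mul] at h2
    simp only [Matrix.mul_assoc, hm'm, Matrix.mul_one] at h2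
    exact Subtype.ext (Subtype.ext ((Matrix.reindex e e).injective h2))
  · let X : Matrix.SpecialLinearGroup (Hix r d) F := ⟨(m' * g.1.1 * m).submatrix e e, by
      rw [det_submatrix_equiv_self, det_mul, det_mul, g.1.2, mul_one, ← det_mul, hm'm, det_one]⟩
    have hX : f X = g.1 := Subtype.ext (by
      show m * ((m' * g.1.1 * m).submatrix e e).submatrix e.symm e.symm * m' = g.1.1
      rw [Matrix.submatrix_submatrix, show (e : Hix r d → Fin n) ∘ e.symm = id from funext e.apply_symm_apply,
        Matrix.submatrix_id_id]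
      simp only [← Matrix.mul_assoc, hmm', Matrix.one_mul]
      rw [Matrix.mul_assoc, hmm', Matrix.mul_one])
    exact ⟨⟨X, (hiff X).mp (by rw [hX]; exact g.2)⟩, Subtype.ext hX⟩

end Cfsg.Agent.Fusion.HermBlocks
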