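import Cfsg.Agent.Lib.Fusion.HermCentralizer
import Cfsg.Agent.Lib.Fusion.SympNormalizer

/-!
The normaliser of the unipotent subgroup of the hyperbolic special unitary group.
-/

set_option autoImplicit false
set_option linter.unusedSectionVars false

namespace Cfsg.Agent.Fusion.HermBlocks

open Matrix Cfsg.Agent.Fusion.UniTri
open Cfsg.Agent.Fusion.SympBlocks (dE tri_of_intertwine)

variable {r d : ℕ} {F : Type*} [Field F] {σ : F ≃+* F} [hσ : Fact (∀ a, σ (σ a) = a)]

local notation "RR" => Matrix (Fin r) (Fin r) F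
local notation "DR" => Matrix (Fin d) (Fin r) F

/-- The flag order. -/
def flag (r d : ℕ) : Hix r d ≃ Fin (r + (d + r)) :=
  (Equiv.sumCongr (Equiv.refl _) ((Equiv.sumCongr (Equiv.refl _) Fin.revPerm).trans finSumFinEquiv)).trans
    finSumFinEquiv

theorem flag_inl (i : Fin r) : ((flag r d (Sum.inl i)) : ℕ) = i := by simp [flag]

theorem flag_mid (k : Fin d) : ((flag r d (Sum.inr (Sum.inl k))) : ℕ) = r + k := by simp [flag]

theorem flag_inr (i : Fin r) :
    ((flag r d (Sum.inr (Sum.inr i))) : ℕ) = r + (d + (r - ((i : ℕ) + 1))) := by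
  simp [flag, Fin.val_rev]

/-- An element in flag coordinates. -/
def flagMat (X : HU σ r d) : Matrix (Fin (r + (d + r))) (Fin (r + (d + r))) F :=
  X.1.1.submatrix (flag r d).symm (flag r d).symm

theorem flagMat_apply (X : HU σ r d) (a b : Hix r d) :
    flagMat X (flag r d a) (flag r d b) = X.1.1 a b := by
  simp [flagMat]

theorem flagMat_mul (X Y : HU σ r d) : flagMat (X * Y) = flagMat X * flagMat Y := by
  rw [flagMat, flagMat, flagMat, val_mul, Matrix.submatrix_mul_equiv]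

section entries
variable (X : HU σ r d)
theorem e11 (i j : Fin r) : X.1.1 (Sum.inl i) (Sum.inl j) = c11 X.1.1 i j := rfl
theorem e12 (i : Fin r) (k : Fin d) : X.1.1 (Sum.inl i) (Sum.inr (Sum.inl k)) = c12 X.1.1 i k := rfl
theorem e13 (i j : Fin r) : X.1.1 (Sum.inl i) (Sum.inr (Sum.inr j)) = c13 X.1.1 i j := rfl
theorem e21 (k : Fin d) (j : Fin r) : X.1.1 (Sum.inr (Sum.inl k)) (Sum.inl j) = c21 X.1.1 k j := rfl
theorem e22 (k k' : Fin d) :
    X.1.1 (Sum.inr (Sum.inl k)) (Sum.inr (Sum.inl k')) = c22 X.1.1 k k' := rfl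
theorem e23 (k : Fin d) (j : Fin r) :
    X.1.1 (Sum.inr (Sum.inl k)) (Sum.inr (Sum.inr j)) = c23 X.1.1 k j := rfl
theorem e31 (i j : Fin r) : X.1.1 (Sum.inr (Sum.inr i)) (Sum.inl j) = c31 X.1.1 i j := rfl
theorem e32 (i : Fin r) (k : Fin d) :
    X.1.1 (Sum.inr (Sum.inr i)) (Sum.inr (Sum.inl k)) = c32 X.1.1 i k := rfl
theorem e33 (i j : Fin r) : X.1.1 (Sum.inr (Sum.inr i)) (Sum.inr (Sum.inr j)) = c33 X.1.1 i j := rfl
end entries

variable [Fintype F]

theorem flagMat_uni_sub_one [Fact (d ≤ 1)] {u : HU σ r d} (hu : u ∈ huUni σ r d) :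
    ∀ a b, b ≤ a → (flagMat u - 1) a b = 0 := by
  have : Subsingleton (Fin d) := Fin.subsingleton_iff_le_one.mpr Fact.out
  intro a b
  obtain ⟨a, rfl⟩ := (flag r d).surjective a
  obtain ⟨b, rfl⟩ := (flag r d).surjective b
  intro h
  rw [Matrix.sub_apply, flagMat_apply, Fin.le_def] at *
  rcases a with i | i | i <;> rcases b with j | j | j <;> simp only [flag_inl, flag_inr, flag_mid] at h
  · rw [e11]
    rcases eq_or_lt_of_le (Fin.le_def.mpr h) with h' | h'
    · subst h'; simp [hu.2.1]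
    · rw [hu.1.2.2.2 i j h']; simp [h'.ne']
  · exact absurd h (by omega)
  · exact absurd h (by omega)
  · rw [e21, hu.1.1]; simp
  · rw [e22, hu.2.2, Subsingleton.elim j i]; simp
  · exact absurd h (by have := i.2; omega)
  · rw [e31, hu.1.2.1]; simp
  · rw [e32, hu.1.2.2.1]; simp
  · rw [e33, c33_eq, ct_apply]
    have hle : i ≤ j := by
      rw [Fin.le_def]; omega
    rcases eq_or_lt_of_le hle with h' | h'
    · subst h'; rw [(inv_mem hu : u⁻¹ ∈ huUni σ r d).2.1, map_one, one_apply_eq, sub_self]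
    · rw [(inv_mem hu : u⁻¹ ∈ huUni σ r d).1.2.2.2 j i h', map_zero]; simp [h'.ne]

theorem exists_regular [Fact (d ≤ 1)] (hne : σ ≠ 1) (hr : 0 < r) :
    ∃ u ∈ huUni σ r d, ∀ a b : Fin (r + (d + r)), (b : ℕ) = (a : ℕ) + 1 → (flagMat u - 1) a b ≠ 0 := by
  have hd1 : d ≤ 1 := Fact.out
  set A : RR := Matrix.of fun i j => if i = j ∨ (j : ℕ) = (i : ℕ) + 1 then 1 else 0 with hAdef
  have hA0 : ∀ i j, j < i → A i j = 0 := fun i j h => by
    have := Fin.lt_def.mp h
    simp [A, h.ne']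
    omega
  have hdet : A.det = 1 := by
    rw [det_of_isUpperTriangular (M := A) hA0]
    simp [A]
  let g : Matrix.SpecialLinearGroup (Fin r) F := ⟨A, hdet⟩
  have hg : g ∈ uni := ⟨hA0, fun i => by simp [g, A]⟩
  let l : Fin r := ⟨r - 1, by omega⟩
  obtain ⟨b₀, hb₀, hb0⟩ := exists_up_one (σ := σ) (d := d) hne
  set u : HU σ r d := levS σ g * up σ l 1 b₀ hb₀
  have hu : u ∈ huUni σ r d := mul_mem (levS_mem_huUni hg) (sh_mem_huUni _)
  have hval : ∀ M N : Matrix (Hix r d) (Hix r d) F, (levS σ g : HU σ r d).1.1 = M →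
      (up σ l 1 b₀ hb₀).1.1 = N → u.1.1 = M * N := fun M N h1 h2 => by rw [← h1, ← h2]; rfl
  have hu' := hval _ _ (val_levS σ g) (val_sh σ _ _ _)
  refine ⟨u, hu, fun a b => ?_⟩
  obtain ⟨a, rfl⟩ := (flag r d).surjective a
  obtain ⟨b, rfl⟩ := (flag r d).surjective b
  intro h
  have hne' : flag r d a ≠ flag r d b := fun e => by rw [e] at h; omega
  rw [Matrix.sub_apply, one_apply_ne hne', sub_zero, flagMat_apply]
  rcases a with i | i | i <;> rcases b with j | j | j <;> simp only [flag_inl, flag_inr, flag_mid] at h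
  · rw [e11, hu']
    simp [g, A, h]
  · have hi : i = l := Fin.ext (by simp [l]; omega)
    rw [e12, hu', hi]
    simp [g, A, Matrix.mul_apply, rho_apply, ct_apply]
  · have hd0 : d = 0 := by omega
    have hi : i = l := Fin.ext (by simp [l]; omega)
    have hj : j = l := Fin.ext (by simp [l]; omega)
    rw [e13, hu', hi, hj]
    simp [g, A, dE, hb0]
  · exact absurd h (by omega)
  · exact absurd h (by have := j.2; omega)
  · have hj : j = l := Fin.ext (by simp [l]; have := i.2; omega)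
    rw [e23, hu', hj]
    simp [rho_apply]
  · exact absurd h (by omega)
  · exact absurd h (by have := j.2; omega)
  · have hij : (i : ℕ) = (j : ℕ) + 1 := by have := j.2; omega
    rw [e33, hu']
    have h1 := mul_apply_succ hg (inv_mem hg) (k := j) (k' := i) hij
    rw [mul_inv_cancel] at h1
    simp only [Matrix.SpecialLinearGroup.coe_one, one_apply_ne (show j ≠ i from fun e => by
      rw [e] at hij; omega)] at h1
    have h2 := eq_neg_of_add_eq_zero_right h1.symm
    simp [-Matrix.SpecialLinearGroup.coe_inv, ct_apply, h2]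
    simp [g, A, hij]

theorem mem_bor_of_normalizer [Fact (d ≤ 1)] (hne : σ ≠ 1) (hr : 0 < r) {x : HU σ r d}
    (hx : x ∈ Subgroup.normalizer ((huUni σ r d : Subgroup (HU σ r d)) : Set (HU σ r d))) :
    x ∈ bor σ r d := by
  obtain ⟨u, hu, hs⟩ := exists_regular (r := r) (d := d) hne hr
  have hu' : x⁻¹ * u * x ∈ huUni σ r d := by
    have := (Subgroup.mem_normalizer_iff.mp (inv_mem hx) u).mp hu
    rwa [inv_inv] at this
  have e : (flagMat u - 1) * flagMat x = flagMat x * (flagMat (x⁻¹ * u * x) - 1) := by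
    rw [sub_mul, mul_sub, one_mul, mul_one, ← flagMat_mul, ← flagMat_mul, mul_assoc, mul_inv_cancel_left]
  have hy := tri_of_intertwine (flagMat_uni_sub_one hu) hs (flagMat_uni_sub_one hu') e
  refine ⟨?_, ?_, ?_, fun i j h => ?_⟩
  · ext i j
    have := hy (flag r d (Sum.inr (Sum.inl i))) (flag r d (Sum.inl j))
      (by rw [Fin.lt_def, flag_inl, flag_mid]; omega)
    rwa [flagMat_apply, e21] at this
  · ext i j
    have := hy (flag r d (Sum.inr (Sum.inr i))) (flag r d (Sum.inl j))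
      (by rw [Fin.lt_def, flag_inl, flag_inr]; omega)
    rwa [flagMat_apply, e31] at this
  · ext i j
    have := hy (flag r d (Sum.inr (Sum.inr i))) (flag r d (Sum.inr (Sum.inl j)))
      (by rw [Fin.lt_def, flag_mid, flag_inr]; omega)
    rwa [flagMat_apply, e32] at this
  · have := hy (flag r d (Sum.inl i)) (flag r d (Sum.inl j))
      (by rw [Fin.lt_def, flag_inl, flag_inl]; exact h)
    rwa [flagMat_apply, e11] at this

theorem bor_le_normalizer :
    bor σ r d ≤ Subgroup.normalizer ((huUni σ r d : Subgroup (HU σ r d)) : Set (HU σ r d)) := by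
  intro g hg
  refine Subgroup.mem_normalizer_iff_map_conj_eq.mpr (Subgroup.eq_of_le_of_card_ge ?_
    (Subgroup.card_map_of_injective (MulAut.conj g).injective).ge)
  rintro _ ⟨u, hu, rfl⟩
  refine ⟨mul_mem (mul_mem hg hu.1) (inv_mem hg), fun i => ?_, ?_⟩
  · show c11 (g * u * g⁻¹).1.1 i i = 1
    rw [bor_diag_mul (mul_mem hg hu.1) (inv_mem hg), bor_diag_mul hg hu.1, hu.2.1, mul_one, mul_comm,
      bA_diag_inv hg]
  · show c22 (g * u * g⁻¹).1.1 = 1
    rw [c22_mul_bor (mul_mem hg hu.1) (inv_mem hg), c22_mul_bor hg hu.1, hu.2.2, mul_one,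
      ← c22_mul_bor hg (inv_mem hg), mul_inv_cancel, val_one, c22_one]

theorem sh_zero_pow (S : RR) (h : S + ct σ S + ct σ (0 : DR) * (0 : DR) = 0) (j : ℕ) :
    ∃ h', (sh σ 0 S h) ^ j = sh σ 0 (j • S) h' := by
  induction j with
  | zero => exact ⟨by simp, by rw [pow_zero, sh_congr σ (S := 0 • S) (by simp) (zero_cond σ) rfl (zero_smul ℕ S), sh_zero]⟩
  | succ j ih =>
    obtain ⟨h', e⟩ := ih
    rw [pow_succ, e, sh_mul]
    refine ⟨?_, sh_congr σ _ _ (add_zero _) ?_⟩
    · have e2 := congrArg ((j + 1) • ·) (show S + ct σ S = 0 by simpa using h)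
      have e3 : ∀ n : ℕ, ct σ (n • S) = n • ct σ S := fun n => by
        induction n with
        | zero => simp
        | succ n ihn => rw [succ_nsmul, succ_nsmul, ct_add, ihn]
      simp only [smul_add, smul_zero, ← e3] at e2
      simp only [ct_zero, Matrix.zero_mul, add_zero]
      exact e2
    · rw [ct_zero, Matrix.zero_mul, sub_zero, succ_nsmul]

theorem huUni_isPGroup (p : ℕ) [Fact p.Prime] [CharP F p] : IsPGroup p (huUni σ r d) := by
  rintro ⟨X, hX⟩
  obtain ⟨k, hk⟩ := isPGroup_uni (n := r) (F := F) p ⟨toSL hX, toSL_mem hX⟩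
  have hA : c11 (X ^ p ^ k).1.1 = 1 := by
    have hpow : ∀ j : ℕ, c11 (X ^ j).1.1 = c11 X.1.1 ^ j := fun j => by
      induction j with
      | zero => rw [pow_zero, pow_zero, val_one, c11_one]
      | succ j ih => rw [pow_succ, c11_mul_bor hX.1, ih, pow_succ]
    rw [hpow]
    exact congrArg (fun g : Matrix.SpecialLinearGroup (Fin r) F => (g : RR)) (congrArg Subtype.val hk)
  obtain ⟨v, S, hS, he⟩ := exists_sh_of_mem_siegel
    (show X ^ p ^ k ∈ siegel σ r d from ⟨pow_mem hX _, hA⟩)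
  have hp : ∀ j : ℕ, ∃ S' h', (sh σ v S hS) ^ j = sh σ (j • v) S' h' := fun j => by
    induction j with
    | zero => exact ⟨0, by simp, by rw [pow_zero, sh_congr σ (v := 0 • v) (by simp) (zero_cond σ) (zero_smul ℕ v) rfl, sh_zero]⟩
    | succ j ih =>
      obtain ⟨S', h', e⟩ := ih
      rw [pow_succ, e, sh_mul]
      exact ⟨_, by simpa [succ_nsmul] using sh_mul_cond σ h' hS, sh_congr σ _ _ (succ_nsmul v j).symm rfl⟩
  obtain ⟨S', h', e⟩ := hp p
  have hv0 : p • v = 0 := by ext a b; simp [CharP.cast_eq_zero F p]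
  have h0 : S' + ct σ S' + ct σ (0 : DR) * (0 : DR) = 0 := by simpa [hv0] using h'
  rw [sh_congr σ h' h0 hv0 rfl] at e
  obtain ⟨h'', e'⟩ := sh_zero_pow S' h0 p
  refine ⟨k + 1 + 1, Subtype.ext ?_⟩
  show X ^ p ^ (k + 1 + 1) = 1
  rw [pow_succ, pow_mul, pow_succ, pow_mul, he, e, e', sh_congr σ _ (zero_cond σ) rfl
    (show p • S' = 0 by ext a b; simp [CharP.cast_eq_zero F p]), sh_zero]

end Cfsg.Agent.Fusion.HermBlocks
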