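import Cfsg.Agent.Lib.Fusion.SympBlocks
import Cfsg.Agent.Lib.GL.Basic

/-!
Rank one subgroups of the symplectic group attached to the coordinates, and centralisers of the radicals.
-/

set_option autoImplicit false
set_option linter.unusedSectionVars false

namespace Cfsg.Agent.Fusion.SympBlocks

open Matrix Cfsg.Agent.Fusion.UniTri

variable {m : ℕ} {F : Type*} [Field F]

local notation "Mm" => Matrix (Fin m) (Fin m) F
local notation "Sp" => Matrix.symplecticGroup (Fin m) F

/-- The unit matrix `E_{jj}`. -/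
def dE (j : Fin m) : Mm := single j j 1

theorem dE_transpose (j : Fin m) : (dE j : Mm)ᵀ = dE j := transpose_single ..

theorem dE_mul_dE (j : Fin m) : (dE j : Mm) * dE j = dE j := by simp [dE]

theorem smul_dE_symm (c : F) (j : Fin m) : (c • (dE j : Mm))ᵀ = c • dE j := by
  rw [transpose_smul, dE_transpose]

theorem block_identity (j : Fin m) (a b c d : F) :
    ((1 : Mm) + a • dE j) * (1 + b • dE j) + (c • dE j) * (d • dE j) =
      1 + (a + b + a * b + c * d) • dE j := by
  simp only [add_mul, mul_add, one_mul, mul_one, Matrix.smul_mul, Matrix.mul_smul, dE_mul_dE, smul_smul]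
  module

theorem cross_identity (j : Fin m) (a b : F) :
    ((1 : Mm) + a • dE j) * (b • dE j) = ((1 + a) * b) • dE j := by
  simp only [add_mul, one_mul, Matrix.smul_mul, Matrix.mul_smul, dE_mul_dE, smul_smul]
  module

theorem cross_identity' (j : Fin m) (a b : F) :
    (b • dE j) * ((1 : Mm) + a • dE j) = ((1 + a) * b) • dE j := by
  simp only [mul_add, mul_one, Matrix.smul_mul, Matrix.mul_smul, dE_mul_dE, smul_smul]
  module

theorem det_two (g : Matrix.SpecialLinearGroup (Fin 2) F) : g.1 0 0 * g.1 1 1 - g.1 0 1 * g.1 1 0 = 1 := by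
  rw [← det_fin_two]; exact g.2

/-- `SL₂` acting on the `j`-th hyperbolic pair. -/
def psi (j : Fin m) : Matrix.SpecialLinearGroup (Fin 2) F →* Sp where
  toFun g := ofBlocks (1 + (g.1 0 0 - 1) • dE j) (g.1 0 1 • dE j) (g.1 1 0 • dE j)
    (1 + (g.1 1 1 - 1) • dE j)
    (by
      simp only [transpose_add, transpose_one, smul_dE_symm, cross_identity, cross_identity'])
    (by
      simp only [transpose_add, transpose_one, smul_dE_symm, cross_identity, cross_identity'])
    (by
      simp only [transpose_add, transpose_one, smul_dE_symm, sub_eq_add_neg, ← Matrix.neg_mul, ← neg_smul]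
      rw [block_identity, add_eq_left]
      convert zero_smul F (dE j : Mm)
      linear_combination det_two g)
  map_one' := ext_blocks (by simp) (by simp) (by simp) (by simp)
  map_mul' g h := by
    have e : ∀ a b, (g * h).1 a b = g.1 a 0 * h.1 0 b + g.1 a 1 * h.1 1 b := fun a b => by
      rw [Matrix.SpecialLinearGroup.coe_mul, Matrix.mul_apply, Fin.sum_univ_two]
    refine ext_blocks ?_ ?_ ?_ ?_
    · simp only [bA_mul, bA_ofBlocks, bB_ofBlocks, bC_ofBlocks, block_identity, e]
      ring_nf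
    · simp only [bB_mul, bA_ofBlocks, bB_ofBlocks, bD_ofBlocks, cross_identity, cross_identity', e]
      rw [← add_smul]
      ring_nf
    · simp only [bC_mul, bA_ofBlocks, bC_ofBlocks, bD_ofBlocks, cross_identity, cross_identity', e]
      rw [← add_smul]
      ring_nf
    · simp only [bD_mul, bB_ofBlocks, bC_ofBlocks, bD_ofBlocks, e]
      rw [add_comm (_ • dE j * _), block_identity]
      ring_nf

@[simp] theorem bA_psi (j : Fin m) (g : Matrix.SpecialLinearGroup (Fin 2) F) :
    bA (psi j g) = 1 + (g.1 0 0 - 1) • dE j := toBlocks_fromBlocks₁₁ ..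
@[simp] theorem bB_psi (j : Fin m) (g : Matrix.SpecialLinearGroup (Fin 2) F) :
    bB (psi j g) = g.1 0 1 • dE j := toBlocks_fromBlocks₁₂ ..
@[simp] theorem bC_psi (j : Fin m) (g : Matrix.SpecialLinearGroup (Fin 2) F) :
    bC (psi j g) = g.1 1 0 • dE j := toBlocks_fromBlocks₂₁ ..
@[simp] theorem bD_psi (j : Fin m) (g : Matrix.SpecialLinearGroup (Fin 2) F) :
    bD (psi j g) = 1 + (g.1 1 1 - 1) • dE j := toBlocks_fromBlocks₂₂ ..

theorem psi_upper (j : Fin m) (c : F) :
    psi j (SpecialLinearGroup.transvection (zero_ne_one : (0 : Fin 2) ≠ 1) c) = sh (c • dE j) (smul_dE_symm c j) := by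
  refine ext_blocks ?_ ?_ ?_ ?_ <;> simp [sh, SpecialLinearGroup.transvection_coe]

/-- The lower root element of the `j`-th hyperbolic pair. -/
def low (j : Fin m) (c : F) : Sp :=
  psi j (SpecialLinearGroup.transvection (one_ne_zero : (1 : Fin 2) ≠ 0) c)

theorem bA_low (j : Fin m) (c : F) : bA (low j c) = (1 : Mm) := by
  simp [low, SpecialLinearGroup.transvection_coe]
theorem bB_low (j : Fin m) (c : F) : bB (low j c) = (0 : Mm) := by
  simp [low, SpecialLinearGroup.transvection_coe]
theorem bC_low (j : Fin m) (c : F) : bC (low j c) = c • (dE j : Mm) := by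
  simp [low, SpecialLinearGroup.transvection_coe]
theorem bD_low (j : Fin m) (c : F) : bD (low j c) = (1 : Mm) := by
  simp [low, SpecialLinearGroup.transvection_coe]

theorem low_inv (j : Fin m) (c : F) : (low j c)⁻¹ = low j (-c) := by
  refine inv_eq_of_mul_eq_one_right (ext_blocks ?_ ?_ ?_ ?_) <;>
    simp [bA_low, bB_low, bC_low, bD_low]

variable [Fintype F]

theorem low_mem_normalizer_longRad {l : Fin m} {hl : ∀ i, i ≤ l} (c : F) :
    low l c ∈ Subgroup.normalizer ((longRad l hl : Subgroup Sp) : Set Sp) := by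
  refine Subgroup.mem_normalizer_iff_map_conj_eq.mpr (Subgroup.eq_of_le_of_card_ge ?_
    (Subgroup.card_map_of_injective (MulAut.conj (low l c)).injective).ge)
  rintro _ ⟨r, ⟨hr, hrB⟩, rfl⟩
  show low l c * r * (low l c)⁻¹ ∈ longRad l hl
  rw [low_inv]
  have hEA : (dE l : Mm) * bA r = dE l := by
    ext a b
    by_cases ha : a = l
    · subst ha
      simp only [dE, Matrix.single_mul_apply_same, one_mul]
      by_cases hb : b = a
      · subst hb; simp [hr.2]
      · rw [hr.1.2 a b (lt_of_le_of_ne (hl b) hb)]; simp [Ne.symm hb]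
    · simp [dE, Matrix.single_mul_apply_of_ne (h := ha), Ne.symm ha]
  have hDE : bD r * (dE l : Mm) = dE l := by
    ext a b
    by_cases hb : b = l
    · subst hb
      simp only [dE, Matrix.mul_single_apply_same, mul_one]
      rw [bD_eq hr.1, transpose_apply]
      by_cases ha : a = b
      · subst ha; simp [(inv_mem hr : r⁻¹ ∈ spUni).2]
      · rw [(inv_mem hr : r⁻¹ ∈ spUni).1.2 b a (lt_of_le_of_ne (hl a) ha)]; simp [Ne.symm ha]
    · simp [dE, Matrix.mul_single_apply_of_ne (hbj := hb), Ne.symm hb]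
  have hEBE : (dE l : Mm) * bB r * dE l = 0 := by
    rw [dE, Matrix.single_mul_mul_single, hrB]
    simp
  have hA' : bA (low l c * r * low l (-c)) = bA r + (-c) • (bB r * dE l) := by
    simp [bA_low, bB_low, bC_low, bD_low]
  have hB' : bB (low l c * r * low l (-c)) = bB r := by
    simp [bA_low, bB_low, bC_low, bD_low]
  have hC' : bC (low l c * r * low l (-c)) = 0 := by
    simp [bA_low, bB_low, bC_low, bD_low, hr.1.1, add_mul, Matrix.mul_smul, Matrix.smul_mul, hEA, hEBE,
      hDE, mul_add, ← mul_assoc]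
  have hoff : ∀ i j, j ≠ l → ((-c) • (bB r * (dE l : Mm))) i j = 0 := fun i j h => by
    simp [dE, Matrix.mul_single_apply_of_ne (hbj := h)]
  refine ⟨⟨⟨hC', fun i j hij => ?_⟩, fun i => ?_⟩, by rw [hB']; exact hrB⟩
  · rw [hA', Matrix.add_apply, hr.1.2 i j hij, zero_add]
    exact hoff i j (ne_of_lt (lt_of_lt_of_le hij (hl i)))
  · rw [hA', Matrix.add_apply, hr.2 i]
    by_cases h : i = l
    · subst h; simp [dE, hrB]
    · rw [hoff i i h, add_zero]

theorem psi_mem_closure_low (j : Fin m) (H : Subgroup Sp) (hu : ∀ c : F, sh (c • dE j) (smul_dE_symm c j) ∈ H)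
    (hl : ∀ c : F, low j c ∈ H) (g : Matrix.SpecialLinearGroup (Fin 2) F) : psi j g ∈ H := by
  have h : H.comap (psi j) = ⊤ := by
    refine Cfsg.Agent.GL.SL_eq_top_of_transvection_mem fun a b hab c => ?_
    rw [Subgroup.mem_comap]
    fin_cases a <;> fin_cases b
    · exact absurd rfl hab
    · exact (psi_upper j c).symm ▸ hu c
    · exact hl c
    · exact absurd rfl hab
  exact (h ▸ Subgroup.mem_top g : g ∈ H.comap (psi j))

/-! ### centralisers -/

theorem commute_sh {X : Sp} {S : Mm} {hS : Sᵀ = S} (h : X * sh S hS = sh S hS * X) :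
    S * bC X = 0 ∧ bC X * S = 0 ∧ bA X * S = S * bD X := by
  have h1 := congrArg bA h
  have h2 := congrArg bB h
  have h3 := congrArg bD h
  simp only [bA_mul, bB_mul, bD_mul, sh, bA_ofBlocks, bB_ofBlocks, bC_ofBlocks, bD_ofBlocks, mul_one, one_mul,
    mul_zero, zero_mul, add_zero, zero_add] at h1 h2 h3
  exact ⟨by simpa using h1.symm, by simpa using h3, add_right_cancel (h2.trans (add_comm _ _))⟩

/-- The scalar element `a` with `a² = 1`. -/
def scal (a : F) (ha : a * a = 1) : Sp :=
  ofBlocks (a • 1) 0 0 (a • 1) (by simp) (by simp) (by simp [smul_smul, ha])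

theorem scal_central (a : F) (ha : a * a = 1) : (scal a ha : Sp) ∈ Subgroup.center Sp :=
  Subgroup.mem_center_iff.mpr fun X => ext_blocks (by simp [scal]) (by simp [scal]) (by simp [scal])
    (by simp [scal])

theorem scal_mul_scal (a : F) (ha : a * a = 1) : (scal a ha : Sp) * scal a ha = 1 :=
  ext_blocks (by simp [scal, smul_smul, ha]) (by simp [scal]) (by simp [scal]) (by simp [scal, smul_smul, ha])

/-- The symmetric unit matrix of a pair of indices. -/
def pr (i j : Fin m) : Mm := single i j 1 + single j i 1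

theorem pr_transpose (i j : Fin m) : (pr i j : Mm)ᵀ = pr i j := by
  rw [pr, transpose_add, transpose_single, transpose_single, add_comm]

theorem dE_eqs {A D : Mm} {i : Fin m} (h : A * dE i = dE i * D) :
    (∀ k, k ≠ i → A k i = 0) ∧ (∀ k, k ≠ i → D i k = 0) ∧ A i i = D i i := by
  refine ⟨fun k hk => ?_, fun k hk => ?_, ?_⟩
  · simpa [dE, Matrix.single_mul_apply_of_ne (h := hk)] using congrArg (fun M : Mm => M k i) h
  · have := congrArg (fun M : Mm => M i k) h
    simpa [dE, Matrix.mul_single_apply_of_ne (hbj := hk), eq_comm] using this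
  · simpa [dE] using congrArg (fun M : Mm => M i i) h

theorem pr_eqs {A D : Mm} {i j : Fin m} (hij : i ≠ j) (h : A * pr i j = pr i j * D) :
    A i i = D j j ∧ A j j = D i i := by
  have h1 := congrArg (fun M : Mm => M i j) h
  have h2 := congrArg (fun M : Mm => M j i) h
  simp only [pr, mul_add, add_mul, Matrix.add_apply] at h1 h2
  simp [hij, hij.symm] at h1 h2
  exact ⟨h1, h2⟩

theorem bC_eq_zero_of_commute {X : Sp} {l : Fin m}
    (hd : ∀ i, i ≠ l → X * sh (dE i) (dE_transpose i) = sh (dE i) (dE_transpose i) * X)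
    (hl : ∃ i, i ≠ l ∧ X * sh (pr i l) (pr_transpose i l) = sh (pr i l) (pr_transpose i l) * X) :
    bC X = 0 := by
  ext a b
  by_cases ha : a = l
  · subst ha
    obtain ⟨i, hi, h⟩ := hl
    have h1 := congrArg (fun M : Mm => M i b) (commute_sh h).1
    simpa [pr, add_mul, hi, Ne.symm hi] using h1
  · have h1 := congrArg (fun M : Mm => M a b) (commute_sh (hd a ha)).1
    simpa [dE] using h1

theorem centralizer_siegel [hm : Fact (2 ≤ m)] {X : Sp}
    (h : X ∈ Subgroup.centralizer ((siegel : Subgroup Sp) : Set Sp)) :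
    ∃ (a : F) (ha : a * a = 1), scal a ha * X ∈ siegel := by
  have h2 := hm.out
  have hc : ∀ {S : Mm} (hS : Sᵀ = S), X * sh S hS = sh S hS * X := fun hS =>
    (Subgroup.mem_centralizer_iff.mp h _ (sh_mem_siegel hS)).symm
  have hC : bC X = 0 :=
    bC_eq_zero_of_commute (l := ⟨0, by omega⟩) (fun i _ => hc _)
      ⟨⟨1, by omega⟩, by simp [Fin.ext_iff], hc _⟩
  have hdiag := fun i => dE_eqs (commute_sh (hc (dE_transpose i))).2.2
  have hpair := fun i j (hij : i ≠ j) => pr_eqs hij (commute_sh (hc (pr_transpose i j))).2.2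
  set a := bA X ⟨0, by omega⟩ ⟨0, by omega⟩
  have hall : ∀ i, bA X i i = a ∧ bD X i i = a := by
    intro i
    have key : bA X i i = a := by
      by_cases hi : i = ⟨0, by omega⟩
      · rw [hi]
      · rw [(hpair i _ hi).1, ← (hdiag _).2.2]
    exact ⟨key, by rw [← (hdiag i).2.2, key]⟩
  have hA : bA X = a • 1 := by
    ext i j
    by_cases hij : i = j
    · subst hij; simp [(hall i).1]
    · simp [hij, (hdiag j).1 i hij]
  have hD : bD X = a • 1 := by
    ext i j
    by_cases hij : i = j
    · subst hij; simp [(hall i).2]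
    · simp [hij, (hdiag i).2.1 j (Ne.symm hij)]
  have ha : a * a = 1 := by
    have h3 := congrArg (fun M : Mm => M ⟨0, by omega⟩ ⟨0, by omega⟩) (rel X).2.2
    simpa [hA, hD, hC] using h3
  refine ⟨a, ha, ⟨⟨⟨?_, ?_⟩, ?_⟩, ?_⟩⟩
  · simp [scal, hC]
  · intro i j hij
    simp [scal, hA, hC, smul_smul, ha, one_apply_ne hij.ne']
  · intro i
    simp [scal, hA, hC, smul_smul, ha]
  · simp [scal, hA, hC, smul_smul, ha]

theorem transvection_bA (l : Fin m) {i : Fin m} (hil : i ≠ l) :
    ∀ a b, (SpecialLinearGroup.transvection hil (1 : F)).1 a b =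
      (if a = b then 1 else 0) + (if i = a ∧ l = b then 1 else 0) :=
  transvection_apply hil 1

/-- The image of `SL_m` in the Levi subgroup. -/
def levS : Matrix.SpecialLinearGroup (Fin m) F →* Sp := lev.comp SpecialLinearGroup.toGL

theorem bA_levS (g : Matrix.SpecialLinearGroup (Fin m) F) : bA (levS g) = (g : Mm) := bA_lev _
theorem bB_levS (g : Matrix.SpecialLinearGroup (Fin m) F) : bB (levS g) = 0 := bB_lev _

theorem levS_mem_spUni {g : Matrix.SpecialLinearGroup (Fin m) F} (hg : g ∈ uni) : levS g ∈ (spUni : Subgroup Sp) :=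
  ⟨⟨bC_lev _, fun i j h => by rw [bA_levS]; exact hg.1 i j h⟩, fun i => by rw [bA_levS]; exact hg.2 i⟩

theorem bD_levS_transvection {i j : Fin m} (hij : i ≠ j) (c : F) :
    bD (levS (SpecialLinearGroup.transvection hij c)) = 1 + single j i (-c) := by
  show bD (lev _) = _
  rw [bD_lev, ← map_inv]
  have : (SpecialLinearGroup.transvection hij c)⁻¹ = SpecialLinearGroup.transvection hij (-c) := by
    refine inv_eq_of_mul_eq_one_right ?_
    exact SpecialLinearGroup.transvection_mul_neg hij c
  rw [this]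
  simp [SpecialLinearGroup.transvection_coe, transpose_single]

theorem centralizer_longRad [hm : Fact (2 ≤ m)] {l : Fin m} {hl : ∀ i, i ≤ l} {X : Sp}
    (h : X ∈ Subgroup.centralizer ((longRad l hl : Subgroup Sp) : Set Sp)) :
    ∃ (a : F) (ha : a * a = 1), scal a ha * X ∈ longRad l hl := by
  have h2 := hm.out
  obtain ⟨i₀, hi₀⟩ : ∃ i : Fin m, i ≠ l := by
    by_cases h0 : l = ⟨0, by omega⟩
    · exact ⟨⟨1, by omega⟩, by simp [h0, Fin.ext_iff]⟩
    · exact ⟨⟨0, by omega⟩, Ne.symm h0⟩
  have hc : ∀ {S : Mm} (hS : Sᵀ = S), S l l = 0 → X * sh S hS = sh S hS * X := fun hS h0 =>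
    (Subgroup.mem_centralizer_iff.mp h _ ⟨sh_mem_spUni hS, by simpa [sh] using h0⟩).symm
  have hdE : ∀ i, i ≠ l → (dE i : Mm) l l = 0 := fun i hi => by simp [dE, hi]
  have hpr : ∀ i, i ≠ l → (pr i l : Mm) l l = 0 := fun i hi => by simp [pr, hi]
  have hC : bC X = 0 :=
    bC_eq_zero_of_commute (fun i hi => hc _ (hdE i hi)) ⟨i₀, hi₀, hc _ (hpr i₀ hi₀)⟩
  have hdiag := fun i (hi : i ≠ l) => dE_eqs (commute_sh (hc (dE_transpose i) (hdE i hi))).2.2
  have hpair := fun i (hi : i ≠ l) => pr_eqs hi (commute_sh (hc (pr_transpose i l) (hpr i hi))).2.2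
  set a := bA X l l
  have hall : ∀ i, bA X i i = a := by
    intro i
    by_cases hi : i = l
    · rw [hi]
    · rw [(hdiag i hi).2.2, ← (hpair i hi).2]
  have hlow : ∀ i j, j < i → bA X i j = 0 := fun i j hij =>
    (hdiag j (ne_of_lt (lt_of_lt_of_le hij (hl i)))).1 i hij.ne'
  have ha : a * a = 1 := by
    have h3 := congrArg (fun M : Mm => M i₀ i₀) (rel X).2.2
    simp only [hC, transpose_zero, zero_mul, sub_zero, Matrix.mul_apply, one_apply_eq] at h3
    rw [Finset.sum_eq_single i₀] at h3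
    · rw [transpose_apply, ← (hdiag i₀ hi₀).2.2, hall] at h3
      exact h3
    · intro k _ hk
      rw [transpose_apply, (hdiag i₀ hi₀).1 k hk, zero_mul]
    · simp
  have hB : bB X l l = 0 := by
    set y : Sp := levS (SpecialLinearGroup.transvection hi₀ (1 : F))
    have hy : y ∈ longRad l hl :=
      ⟨levS_mem_spUni (transvection_mem_uni (lt_of_le_of_ne (hl i₀) hi₀) 1), by simp [y, bB_levS]⟩
    have h4 := congrArg (fun Z : Sp => bB Z i₀ l) (Subgroup.mem_centralizer_iff.mp h y hy)
    simp only [bB_mul, y, bB_levS, zero_mul, mul_zero, add_zero, zero_add] at h4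
    rw [bA_levS, bD_levS_transvection, SpecialLinearGroup.transvection_coe, add_mul, mul_add, one_mul,
      mul_one, Matrix.add_apply, Matrix.add_apply, Matrix.mul_single_apply_of_ne (hbj := Ne.symm hi₀),
      add_zero, Matrix.single_mul_apply_same, one_mul, add_eq_left] at h4
    exact h4
  refine ⟨a, ha, ⟨⟨⟨?_, ?_⟩, ?_⟩, ?_⟩⟩
  · simp [scal, hC]
  · intro i j hij
    simp [scal, hC, hlow i j hij]
  · intro i
    simp [scal, hC, hall i, ha]
  · simp [scal, hB]

theorem center_eq [Fact (2 ≤ m)] {z : Sp} (hz : z ∈ Subgroup.center Sp) :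
    ∃ (a : F) (ha : a * a = 1), z = scal a ha := by
  obtain ⟨a, ha, hs⟩ := centralizer_siegel (Subgroup.center_le_centralizer _ hz)
  obtain ⟨S, hS, he⟩ := exists_sh_of_mem_siegel hs
  have hcS : sh S hS ∈ Subgroup.center Sp := he ▸ mul_mem (scal_central a ha) hz
  have h1 := congrArg bA (Subgroup.mem_center_iff.mp hcS (SymplecticGroup.symJ (Fin m) F))
  have hJ : ((SymplecticGroup.symJ (Fin m) F : Sp) : Matrix (Fin m ⊕ Fin m) (Fin m ⊕ Fin m) F) =
      fromBlocks 0 (-1) 1 0 := rfl
  simp only [bA_mul, sh, bA_ofBlocks, bB_ofBlocks, bC_ofBlocks] at h1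
  rw [show bA (SymplecticGroup.symJ (Fin m) F) = 0 by rw [bA, hJ, toBlocks_fromBlocks₁₁],
    show bC (SymplecticGroup.symJ (Fin m) F) = 1 by rw [bC, hJ, toBlocks_fromBlocks₂₁]] at h1
  simp at h1
  refine ⟨a, ha, ?_⟩
  have h2 : scal a ha * z = 1 := by rw [he, sh_congr hS (transpose_zero) h1.symm, sh_zero]
  rw [← one_mul z, ← scal_mul_scal a ha, mul_assoc, h2, mul_one]

end Cfsg.Agent.Fusion.SympBlocks
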