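import Cfsg.Agent.Lib.Fusion.HermBlocks
import Cfsg.Agent.Lib.Fusion.SympSL2

/-!
Rank one subgroups of the hyperbolic unitary group and the radical of the last simple root.
-/

set_option autoImplicit false
set_option linter.unusedSectionVars false

namespace Cfsg.Agent.Fusion.HermBlocks

open Matrix Cfsg.Agent.Fusion.UniTri
open Cfsg.Agent.Fusion.SympBlocks (dE dE_mul_dE dE_transpose)

variable {r d : ℕ} {F : Type*} [Field F] (σ : F ≃+* F) [hσ : Fact (∀ a, σ (σ a) = a)]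

local notation "RR" => Matrix (Fin r) (Fin r) F
local notation "RD" => Matrix (Fin r) (Fin d) F
local notation "DR" => Matrix (Fin d) (Fin r) F

/-- The row picking the `j`-th coordinate. -/
def rho (j : Fin r) : DR := Matrix.of fun _ i => if i = j then 1 else 0

theorem rho_apply (j : Fin r) (k : Fin d) (i : Fin r) :
    (rho j : DR) k i = if i = j then 1 else 0 := rfl

theorem ct_rho_apply (j : Fin r) (i : Fin r) (k : Fin d) :
    ct σ (rho j : DR) i k = if i = j then 1 else 0 := by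
  rw [ct_apply, rho_apply]; split_ifs <;> simp

theorem ct_dE (j : Fin r) : ct σ (dE j : RR) = dE j := by rw [dE, ct_single, map_one]

theorem ctrho_mul_rho (j : Fin r) : ct σ (rho j : DR) * (rho j : DR) = (d : F) • (dE j : RR) := by
  ext a b
  rw [Matrix.mul_apply, Matrix.smul_apply, dE, single_apply]
  simp only [ct_rho_apply, rho_apply]
  by_cases ha : a = j
  · subst ha
    by_cases hb : b = a
    · subst hb; simp
    · simp [hb, Ne.symm hb]
  · simp [ha, Ne.symm ha]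

theorem rho_mul_dE (j : Fin r) : (rho j : DR) * (dE j : RR) = rho j := by
  ext k b
  by_cases hb : b = j
  · subst hb; simp [dE, rho_apply]
  · simp [dE, Matrix.mul_single_apply_of_ne (hbj := hb), rho_apply, hb]

theorem dE_mul_ctrho (j : Fin r) : (dE j : RR) * ct σ (rho j : DR) = ct σ (rho j : DR) := by
  rw [← ct_dE σ j, ← ct_mul, rho_mul_dE]

theorem rho_mul_ctrho [hd : Fact (d ≤ 1)] (j : Fin r) : (rho j : DR) * ct σ (rho j : DR) = 1 := by
  have : Subsingleton (Fin d) := Fin.subsingleton_iff_le_one.mpr hd.out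
  ext k k'
  rw [Subsingleton.elim k' k, Matrix.mul_apply, one_apply_eq]
  simp [rho_apply, ct_rho_apply]

theorem rk_cond {a b : F} (h : b + σ b + (d : F) * (σ a * a) = 0) (j : Fin r) :
    b • (dE j : RR) + ct σ (b • (dE j : RR)) + ct σ (a • (rho j : DR)) * (a • (rho j : DR)) = 0 := by
  simp only [ct_smul, ct_dE, Matrix.smul_mul, Matrix.mul_smul, ctrho_mul_rho, smul_smul, ← add_smul]
  rw [show b + σ b + a * (σ a * (d : F)) = 0 by linear_combination h, zero_smul]

/-- The upper root element of the `j`-th hyperbolic line. -/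
def up (j : Fin r) (a b : F) (h : b + σ b + (d : F) * (σ a * a) = 0) : HU σ r d :=
  sh σ (a • rho j) (b • dE j) (rk_cond σ h j)

/-- The lower root element of the `j`-th hyperbolic line. -/
def lo (j : Fin r) (a b : F) (h : b + σ b + (d : F) * (σ a * a) = 0) : HU σ r d :=
  shl σ (a • rho j) (b • dE j) (rk_cond σ h j)

theorem skew_cond {c : F} (hc : σ c = -c) : c + σ c + (d : F) * (σ 0 * 0) = 0 := by
  rw [hc]; ring

theorem inv_skew {c : F} (hc : σ c = -c) : σ (-c⁻¹) = -(-c⁻¹) := by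
  rw [map_neg, map_inv₀, hc, inv_neg, neg_neg]

/-- The Weyl element of the `j`-th hyperbolic line. -/
def wel (j : Fin r) (γ : F) (hγ : σ γ = -γ) : HU σ r d :=
  up σ j 0 γ (skew_cond σ hγ) * lo σ j 0 (-γ⁻¹) (skew_cond σ (inv_skew σ hγ)) * up σ j 0 γ (skew_cond σ hγ)

theorem val_wel (j : Fin r) (γ : F) (hγ : σ γ = -γ) (h0 : γ ≠ 0) :
    (wel σ j γ hγ : HU σ r d).1.1 =
      mk3 (1 - dE j) 0 (γ • dE j) 0 1 0 ((-γ⁻¹) • dE j) 0 (1 - dE j) := by
  have e : ∀ c : F, ((1 : RR) + c • dE j) * dE j = (1 + c) • dE j := fun c => by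
    rw [add_mul, one_mul, Matrix.smul_mul, dE_mul_dE, add_smul, one_smul]
  refine ext3 ?_ ?_ ?_ ?_ ?_ ?_ ?_ ?_ ?_ <;>
    simp [wel, up, lo, val_mul, Matrix.smul_mul, Matrix.mul_smul, dE_mul_dE, smul_smul, Matrix.add_mul,
      Matrix.mul_add, h0] <;>
    abel

theorem val_wel_inv (j : Fin r) (γ : F) (hγ : σ γ = -γ) (h0 : γ ≠ 0) :
    ((wel σ j γ hγ : HU σ r d)⁻¹).1.1 =
      mk3 (1 - dE j) 0 ((-γ) • dE j) 0 1 0 (γ⁻¹ • dE j) 0 (1 - dE j) := by
  rw [val_inv, val_wel σ j γ hγ h0]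
  refine ext3 ?_ ?_ ?_ ?_ ?_ ?_ ?_ ?_ ?_ <;> simp [ct_dE, hγ, map_inv₀]

/-! ### The product `lo * up * lo` -/

theorem lo_cond_left {a b : F} (h : b + σ b + (d : F) * (σ a * a) = 0) (hb : b ≠ 0) :
    (σ b)⁻¹ + σ (σ b)⁻¹ + (d : F) * (σ (-(a / b)) * (-(a / b))) = 0 := by
  have hsb : σ b ≠ 0 := by simpa using hb
  rw [map_inv₀, sigma_sigma σ, map_neg, map_div₀]
  field_simp
  linear_combination h

theorem lo_cond_right {a b : F} (h : b + σ b + (d : F) * (σ a * a) = 0) (hb : b ≠ 0) :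
    (σ b)⁻¹ + σ (σ b)⁻¹ + (d : F) * (σ (-(a / σ b)) * (-(a / σ b))) = 0 := by
  have hsb : σ b ≠ 0 := by simpa using hb
  rw [map_inv₀, sigma_sigma σ, map_neg, map_div₀, sigma_sigma σ]
  field_simp
  linear_combination h

/-- The element `lo * up * lo`, monomial in the `j`-th line. -/
def nel (j : Fin r) (a b : F) (h : b + σ b + (d : F) * (σ a * a) = 0) (hb : b ≠ 0) : HU σ r d :=
  lo σ j (-(a / b)) (σ b)⁻¹ (lo_cond_left σ h hb) * up σ j a b h *
    lo σ j (-(a / σ b)) (σ b)⁻¹ (lo_cond_right σ h hb)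

theorem nel_blocks [Fact (d ≤ 1)] (j : Fin r) (a b : F) (h : b + σ b + (d : F) * (σ a * a) = 0) (hb : b ≠ 0) :
    let n := (nel σ j a b h hb).1.1
    c11 n = 1 - dE j ∧ c13 n = b • (dE j : RR) ∧ c21 n = (0 : DR) ∧ c23 n = (0 : DR) ∧
      c31 n = (σ b)⁻¹ • (dE j : RR) ∧ c32 n = (0 : RD) ∧ c33 n * dE j = 0 := by
  have hsb : σ b ≠ 0 := by simpa using hb
  have e1 : ∀ M : DR, (1 : Matrix (Fin d) (Fin d) F) * M = M := fun M => Matrix.one_mul M
  have hsimp : ∀ x : F, σ (σ x) = x := sigma_sigma σ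
  have hd01 : d = 0 ∨ d = 1 := by have := (Fact.out : d ≤ 1); omega
  refine ⟨?_, ?_, ?_, ?_, ?_, ?_, ?_⟩ <;>
    simp only [nel, lo, up, val_mul, val_sh, val_shl, c11_mul, c12_mul, c13_mul, c21_mul, c22_mul, c23_mul,
      c31_mul, c32_mul, c33_mul, c11_mk3, c12_mk3, c13_mk3, c21_mk3, c22_mk3, c23_mk3, c31_mk3, c32_mk3,
      c33_mk3, Matrix.mul_one, Matrix.one_mul, Matrix.mul_zero, Matrix.zero_mul, add_zero, zero_add, ct_smul,
      Matrix.smul_mul, Matrix.mul_smul, ctrho_mul_rho, rho_mul_ctrho, rho_mul_dE, dE_mul_ctrho, dE_mul_dE,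
      Matrix.neg_mul, Matrix.mul_neg, smul_smul, Matrix.add_mul, Matrix.mul_add, smul_add, smul_neg,
      Matrix.mul_assoc, map_neg, map_div₀, map_inv₀, hsimp] <;>
    rcases hd01 with rfl | rfl <;>
    (try simp only [Nat.cast_zero, Nat.cast_one] at h ⊢) <;>
    (try exact Subsingleton.elim _ _) <;>
    match_scalars <;> field_simp <;>
    first
      | ring1
      | linear_combination h
      | linear_combination -h
      | linear_combination a * h
      | linear_combination -a * h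
      | linear_combination σ a * h
      | linear_combination -σ a * h
      | linear_combination b * h
      | linear_combination σ b * h
      | linear_combination -b * h
      | linear_combination -σ b * h
      | linear_combination σ a * a * h

variable [Fintype F]

/-- `R`: the radical of the last simple root. -/
def lastRad (l : Fin r) (hl : ∀ i, i ≤ l) : Subgroup (HU σ r d) where
  carrier := {X | X ∈ huUni σ r d ∧ (∀ k, c12 X.1.1 l k = 0) ∧ c13 X.1.1 l l = 0}
  one_mem' := ⟨one_mem _, by simp [val_one], by simp [val_one]⟩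
  mul_mem' := by
    rintro X Y ⟨hX, hXB, hXC⟩ ⟨hY, hYB, hYC⟩
    exact ⟨mul_mem hX hY,
      fun k => by rw [row12_mul hX hY hl, hXB, hYB, add_zero],
      by rw [ll13_mul hX hY hl, hXC, hYC]; simp [hXB]⟩
  inv_mem' := by
    rintro X ⟨hX, hXB, hXC⟩
    refine ⟨inv_mem hX, fun k => ?_, ?_⟩
    · have := row12_mul (σ := σ) hX (inv_mem hX) hl k
      rw [mul_inv_cancel, val_one, c12_one, Matrix.zero_apply, hXB, add_zero] at this
      exact this.symm
    · have := ll13_mul (σ := σ) hX (inv_mem hX) hl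
      rw [mul_inv_cancel, val_one, c13_one, Matrix.zero_apply, hXC] at this
      simpa [hXB] using this.symm
where
  row12_mul {σ : F ≃+* F} [Fact (∀ a, σ (σ a) = a)] {X Y : HU σ r d} (hX : X ∈ huUni σ r d)
      (hY : Y ∈ huUni σ r d) {l : Fin r} (hl : ∀ i, i ≤ l) (k : Fin d) :
      c12 (X * Y).1.1 l k = c12 Y.1.1 l k + c12 X.1.1 l k := by
    rw [val_mul, c12_mul, hY.2.2, Matrix.mul_one, hY.1.2.2.1, Matrix.mul_zero, add_zero, Matrix.add_apply,
      Matrix.mul_apply, Finset.sum_eq_single l, hX.2.1, one_mul]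
    · intro i _ hi
      rw [hX.1.2.2.2 l i (lt_of_le_of_ne (hl i) hi), zero_mul]
    · simp
  ll13_mul {σ : F ≃+* F} [Fact (∀ a, σ (σ a) = a)] {X Y : HU σ r d} (hX : X ∈ huUni σ r d)
      (hY : Y ∈ huUni σ r d) {l : Fin r} (hl : ∀ i, i ≤ l) :
      c13 (X * Y).1.1 l l =
        c13 Y.1.1 l l + (∑ k, c12 X.1.1 l k * c23 Y.1.1 k l) + c13 X.1.1 l l := by
    rw [val_mul, c13_mul, Matrix.add_apply, Matrix.add_apply]
    have h1 : (c11 X.1.1 * c13 Y.1.1) l l = c13 Y.1.1 l l := by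
      rw [Matrix.mul_apply, Finset.sum_eq_single l, hX.2.1, one_mul]
      · intro i _ hi
        rw [hX.1.2.2.2 l i (lt_of_le_of_ne (hl i) hi), zero_mul]
      · simp
    have h3 : (c13 X.1.1 * c33 Y.1.1) l l = c13 X.1.1 l l := by
      rw [c33_eq, Matrix.mul_apply, Finset.sum_eq_single l, ct_apply, (inv_mem hY : Y⁻¹ ∈ huUni σ r d).2.1,
        map_one, mul_one]
      · intro i _ hi
        rw [ct_apply, (inv_mem hY : Y⁻¹ ∈ huUni σ r d).1.2.2.2 l i (lt_of_le_of_ne (hl i) hi), map_zero,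
          mul_zero]
      · simp
    rw [h1, h3, Matrix.mul_apply]

variable {σ}

theorem mem_lastRad {l : Fin r} {hl : ∀ i, i ≤ l} {X : HU σ r d} :
    X ∈ lastRad σ l hl ↔ X ∈ huUni σ r d ∧ (∀ k, c12 X.1.1 l k = 0) ∧ c13 X.1.1 l l = 0 := Iff.rfl

theorem huUni_le_normalizer_lastRad {l : Fin r} {hl : ∀ i, i ≤ l} :
    huUni σ r d ≤
      Subgroup.normalizer ((lastRad σ l hl : Subgroup (HU σ r d)) : Set (HU σ r d)) := by
  intro u hu
  refine Subgroup.mem_normalizer_iff_map_conj_eq.mpr (Subgroup.eq_of_le_of_card_ge ?_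
    (Subgroup.card_map_of_injective (MulAut.conj u).injective).ge)
  rintro _ ⟨x, ⟨hx, hxB, hxC⟩, rfl⟩
  have hi := inv_mem hu
  have hH : ∀ k, c23 x.1.1 k l = 0 := fun k => by
    have := (lastRad σ l hl).inv_mem (x := x) ⟨hx, hxB, hxC⟩
    rw [c23_eq, ct_apply, this.2.1, map_zero]
  refine ⟨mul_mem (mul_mem hu hx) hi, fun k => ?_, ?_⟩
  · show c12 (u * x * u⁻¹).1.1 l k = 0
    rw [lastRad.row12_mul (mul_mem hu hx) hi hl, lastRad.row12_mul hu hx hl, hxB, zero_add,
      ← lastRad.row12_mul hu hi hl, mul_inv_cancel, val_one, c12_one, Matrix.zero_apply]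
  · show c13 (u * x * u⁻¹).1.1 l l = 0
    have h0 := lastRad.ll13_mul hu hi hl
    rw [mul_inv_cancel, val_one, c13_one, Matrix.zero_apply] at h0
    rw [lastRad.ll13_mul (mul_mem hu hx) hi hl, lastRad.ll13_mul hu hx hl, hxC]
    simp only [lastRad.row12_mul hu hx hl, hxB, zero_add, hH, mul_zero, Finset.sum_const_zero]
    exact h0.symm

theorem mul_congr_row {α : Type*} [Fintype α] {β γ : Type*} {l : α} {X : Matrix β α F}
    (hX : ∀ b i, i ≠ l → X b i = 0) {M N : Matrix α γ F} (h : ∀ c, M l c = N l c) : X * M = X * N := by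
  ext b c
  rw [Matrix.mul_apply, Matrix.mul_apply]
  refine Finset.sum_congr rfl fun i _ => ?_
  by_cases hi : i = l
  · rw [hi, h]
  · rw [hX b i hi, zero_mul, zero_mul]

theorem mul_congr_col {α : Type*} [Fintype α] {β γ : Type*} {l : α} {Y : Matrix α γ F}
    (hY : ∀ i c, i ≠ l → Y i c = 0) {M N : Matrix β α F} (h : ∀ b, M b l = N b l) : M * Y = N * Y := by
  ext b c
  rw [Matrix.mul_apply, Matrix.mul_apply]
  refine Finset.sum_congr rfl fun i _ => ?_
  by_cases hi : i = l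
  · rw [hi, h]
  · rw [hY i c hi, mul_zero, mul_zero]

theorem lo_mem_normalizer_lastRad {l : Fin r} {hl : ∀ i, i ≤ l} (a b : F)
    (h : b + σ b + (d : F) * (σ a * a) = 0) :
    lo σ l a b h ∈ Subgroup.normalizer ((lastRad σ l hl : Subgroup (HU σ r d)) : Set (HU σ r d)) := by
  refine Subgroup.mem_normalizer_iff_map_conj_eq.mpr (Subgroup.eq_of_le_of_card_ge ?_
    (Subgroup.card_map_of_injective (MulAut.conj (lo σ l a b h)).injective).ge)
  rintro _ ⟨x, hxR, rfl⟩
  obtain ⟨hx, hxB, hxC⟩ := hxR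
  have hxi : x⁻¹ ∈ lastRad σ l hl := (lastRad σ l hl).inv_mem ⟨hx, hxB, hxC⟩
  set v : DR := a • rho l with hv
  set S : RR := b • dE l with hS
  have hvs : ∀ k i, i ≠ l → v k i = 0 := fun k i hi => by simp [hv, rho_apply, hi]
  have hSs : ∀ k i, i ≠ l → S k i = 0 := fun k i hi => by simp [hS, dE, single_apply, Ne.symm hi]
  have hS's : ∀ i c, i ≠ l → ct σ S i c = 0 := fun i c hi => by rw [ct_apply, hSs c i hi, map_zero]
  have hvc : ∀ i c, i ≠ l → ct σ v i c = 0 := fun i c hi => by rw [ct_apply, hvs c i hi, map_zero]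
  have hA : ∀ c, c11 x.1.1 l c = (1 : RR) l c := fun c => by
    rcases eq_or_lt_of_le (hl c) with hc | hc
    · subst hc; rw [hx.2.1, one_apply_eq]
    · rw [hx.1.2.2.2 l c hc, one_apply_ne hc.ne']
  have hK : ∀ i, c33 x.1.1 i l = (1 : RR) i l := fun i => by
    rw [c33_eq, ct_apply]
    rcases eq_or_lt_of_le (hl i) with hi | hi
    · subst hi; rw [hxi.1.2.1, map_one, one_apply_eq]
    · rw [hxi.1.1.2.2.2 l i hi, map_zero, one_apply_ne hi.ne]
  have hH : ∀ k, c23 x.1.1 k l = (0 : DR) k l := fun k => by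
    rw [c23_eq, ct_apply, hxi.2.1, map_zero, Matrix.zero_apply]
  have vA : v * c11 x.1.1 = v := by rw [mul_congr_row hvs hA, Matrix.mul_one]
  have vB : v * c12 x.1.1 = 0 := by
    rw [mul_congr_row hvs (N := 0) (fun k => by rw [hxB, Matrix.zero_apply]), Matrix.mul_zero]
  have SA : S * c11 x.1.1 = S := by rw [mul_congr_row hSs hA, Matrix.mul_one]
  have SB : S * c12 x.1.1 = 0 := by
    rw [mul_congr_row hSs (N := 0) (fun k => by rw [hxB, Matrix.zero_apply]), Matrix.mul_zero]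
  have hvC : ∀ k, (v * c13 x.1.1) k l = 0 := fun k => by
    rw [Matrix.mul_apply, Finset.sum_eq_single l, hxC, mul_zero]
    · intro i _ hi; rw [hvs k i hi, zero_mul]
    · simp
  have hSC : ∀ k, (S * c13 x.1.1) k l = 0 := fun k => by
    rw [Matrix.mul_apply, Finset.sum_eq_single l, hxC, mul_zero]
    · intro i _ hi; rw [hSs k i hi, zero_mul]
    · simp
  set X2 : DR := v * c13 x.1.1 + c23 x.1.1 with hX2
  set X3 : RR := S * c13 x.1.1 + -(ct σ v * c23 x.1.1) + c33 x.1.1 with hX3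
  have hX2l : ∀ k, X2 k l = (0 : DR) k l := fun k => by
    rw [hX2, Matrix.add_apply, hvC, hH, zero_add]
  have hX3l : ∀ k, X3 k l = (1 : RR) k l := fun k => by
    rw [hX3, Matrix.add_apply, Matrix.add_apply, hSC, hK, Matrix.neg_apply, Matrix.mul_apply]
    simp [hH]
  have e21 : X2 * ct σ S = 0 := by rw [mul_congr_col hS's hX2l, Matrix.zero_mul]
  have e22 : X2 * ct σ v = 0 := by rw [mul_congr_col hvc hX2l, Matrix.zero_mul]
  have e31 : X3 * ct σ S = ct σ S := by rw [mul_congr_col hS's hX3l, Matrix.one_mul]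
  have e32 : X3 * ct σ v = ct σ v := by rw [mul_congr_col hvc hX3l, Matrix.one_mul]
  have hcond : S + ct σ S + ct σ v * v = 0 := rk_cond σ h l
  show lo σ l a b h * x * (lo σ l a b h)⁻¹ ∈ lastRad σ l hl
  rw [lo, shl_inv]
  have h21 : c21 x.1.1 = 0 := hx.1.1
  have h31 : c31 x.1.1 = 0 := hx.1.2.1
  have h32 : c32 x.1.1 = 0 := hx.1.2.2.1
  have h22 : c22 x.1.1 = 1 := hx.2.2
  refine ⟨⟨⟨?_, ?_, ?_, fun i j hij => ?_⟩, fun i => ?_, ?_⟩, fun k => ?_, ?_⟩
  · simp [val_mul, ← hv, ← hS, h21, h31, h32, h22, vA, vB, ← hX2, e21]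
  · simp [val_mul, ← hv, ← hS, h21, h31, h32, h22, SA, SB, ← hX3, e31]
    linear_combination (norm := abel) hcond
  · simp [val_mul, ← hv, ← hS, h21, h31, h32, h22, SB, ← hX3, e32]
  · have hne : j ≠ l := (lt_of_lt_of_le hij (hl i)).ne
    simp [val_mul, ← hv, ← hS, h21, h31, h32, h22, hx.1.2.2.2 i j hij, Matrix.mul_apply]
    have : ∀ k, ct σ S k j = 0 := fun k => by rw [ct_apply, hS]; simp [dE, single_apply, Ne.symm hne]
    simp [hvs _ j hne, this]
  · simp [val_mul, ← hv, ← hS, h21, h31, h32, h22, hx.2.1, Matrix.mul_apply]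
    by_cases hi : i = l
    · subst hi
      rw [Finset.sum_eq_zero (fun k _ => by rw [hxB, zero_mul]), Finset.sum_eq_single i]
      · simp [hxC]
      · intro k _ hk; simp [hS's k i hk]
      · simp
    · have : ∀ k, ct σ S k i = 0 := fun k => by rw [ct_apply, hS]; simp [dE, single_apply, Ne.symm hi]
      simp [hvs _ i hi, this]
  · simp [val_mul, ← hv, ← hS, h21, h31, h32, h22, vB, ← hX2, e22]
  · simp [val_mul, ← hv, ← hS, h21, h31, h32, h22, hxB, Matrix.mul_apply]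
    refine Finset.sum_eq_zero fun i _ => ?_
    by_cases hi : i = l
    · subst hi; simp [hxC]
    · simp [hvc i k hi]
  · simp [val_mul, ← hv, ← hS, h21, h31, h32, h22, hxC]

/-- Exchanging the two halves transposes `shl` and `sh`. -/
theorem lo_pow_eq_one {l : Fin r} {a b : F} (h : b + σ b + (d : F) * (σ a * a) = 0) (k : ℕ)
    {p : ℕ} (hk : (sh σ (a • rho l) (b • dE l) (rk_cond σ h l)) ^ p ^ k = 1) :
    (lo σ l a b h) ^ p ^ k = 1 := by
  let π : Matrix (Hix r d) (Hix r d) F → Matrix (Hix r d) (Hix r d) F := fun M => M.submatrix (flip r d) (flip r d)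
  have hπm : ∀ M N, π (M * N) = π M * π N := fun M N => (submatrix_mul_equiv M N _ _ _).symm
  have hπ1 : π 1 = 1 := submatrix_one_equiv _
  have e : (lo σ l a b h).1.1 = π (sh σ (a • rho l) (b • dE l) (rk_cond σ h l)).1.1 := by
    refine ext3 ?_ ?_ ?_ ?_ ?_ ?_ ?_ ?_ ?_ <;> rfl
  have hpow : ∀ n : ℕ, ((lo σ l a b h) ^ n).1.1 = π ((sh σ (a • rho l) (b • dE l) (rk_cond σ h l)) ^ n).1.1 := by
    intro n
    induction n with
    | zero => rw [pow_zero, pow_zero, val_one, hπ1]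
    | succ n ih => rw [pow_succ, pow_succ, val_mul, val_mul, hπm, ih, e]
  refine hu_ext ?_
  rw [hpow, hk, val_one, hπ1]

theorem exists_torus_elt [Fact (d ≤ 1)] {l : Fin r} {H : Subgroup (HU σ r d)} {γ : F} (hγ : σ γ = -γ)
    (h0 : γ ≠ 0) (hu : ∀ a b (h : b + σ b + (d : F) * (σ a * a) = 0), up σ l a b h ∈ H)
    (hlo : ∀ a b (h : b + σ b + (d : F) * (σ a * a) = 0), lo σ l a b h ∈ H)
    {a b : F} (h : b + σ b + (d : F) * (σ a * a) = 0) (hb : b ≠ 0) :
    ∃ t ∈ H, t ∈ bor σ r d ∧ c11 t.1.1 = 1 + (b / γ - 1) • dE l := by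
  refine ⟨nel σ l a b h hb * (wel σ l γ hγ)⁻¹, H.mul_mem (H.mul_mem (H.mul_mem (hlo _ _ _) (hu _ _ _))
    (hlo _ _ _)) (H.inv_mem (H.mul_mem (H.mul_mem (hu _ _ _) (hlo _ _ _)) (hu _ _ _))), ?_⟩
  obtain ⟨n11, n13, n21, n23, n31, n32, n33⟩ := nel_blocks σ l a b h hb
  have e : (1 - dE l : RR) * (1 - dE l) = 1 - dE l := by
    simp [sub_mul, mul_sub, dE_mul_dE]
  have e11 : c11 (nel σ l a b h hb * (wel σ l γ hγ)⁻¹).1.1 = 1 + (b / γ - 1) • dE l := by
    rw [val_mul, val_wel_inv σ l γ hγ h0]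
    simp [n11, n13, e, Matrix.smul_mul, Matrix.mul_smul, dE_mul_dE, smul_smul, div_eq_mul_inv]
    module
  refine ⟨⟨?_, ?_, ?_, ?_⟩, e11⟩
  · rw [val_mul, val_wel_inv σ l γ hγ h0]
    simp [n21, n23]
  · rw [val_mul, val_wel_inv σ l γ hγ h0]
    simp [n31, Matrix.mul_smul, n33, Matrix.smul_mul, mul_sub, dE_mul_dE]
  · rw [val_mul, val_wel_inv σ l γ hγ h0]
    simp [n32]
  · intro i j hij
    rw [e11]
    simp [dE, single_apply, one_apply_ne hij.ne']
    rintro rfl h'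
    exact absurd h' hij.ne'

end Cfsg.Agent.Fusion.HermBlocks
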