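import Cfsg.Agent.Lib.Fusion.CharWitness
import Cfsg.Agent.Lib.Fusion.Tate
import Cfsg.Agent.Lib.Fusion.Constrained
import Cfsg.Agent.Lib.PGroup.Frattini

/-!
A saturated system in which every subgroup of one order `1 < d < |S|` is supplemented by strongly
closed subgroups and none of them is moved inside its normalizer is of inner type.
-/

set_option autoImplicit false

universe u v

namespace Cfsg.Agent.Fusion

open Cfsg Cfsg.FusionSystem

variable {Ω : Type u} [Group Ω] {S : Subgroup Ω} {F : FusionSystem S} {p : ℕ}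

/-- Every subgroup `Q` of order `d` has a strongly closed `P` with `Q ⊔ P` and `Q ⊓ P` strongly
closed, and no nontrivial automorphism of order prime to `p` moves inside the normalizer of a
subgroup of order `d`. -/
structure Supplemented (F : FusionSystem S) (p d : ℕ) : Prop where
  supp : ∀ Q : Subgroup Ω, Q ≤ S → Nat.card Q = d →
    ∃ P : Subgroup Ω, F.StronglyClosed P ∧ F.StronglyClosed (Q ⊔ P) ∧ F.StronglyClosed (Q ⊓ P)
  fix : ∀ H R : Subgroup Ω, H ≤ R → R ≤ S → R ≤ Subgroup.normalizer (H : Set Ω) →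
    Nat.card H = d → ∀ a ∈ F.autGroup R, (orderOf a).Coprime p →
      (∀ x : R, (x : Ω) ∈ H → ((a x : R) : Ω) ∈ H) → a = 1

variable {Ω' : Type v} [Group Ω'] {S' : Subgroup Ω'} {θ : S →* Ω'} {X : Subgroup Ω}
  {E : FusionSystem S'}

/-- The image of a strongly closed subgroup above the kernel is strongly closed. -/
theorem stronglyClosed_imageAlong (hE : F.IsFactorSystem X θ E) {T : Subgroup Ω}
    (hT : F.StronglyClosed T) (hXT : X ≤ T) : E.StronglyClosed (imageAlong θ T) := by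
  obtain ⟨hXS, hker, hr, hHom⟩ := hE
  refine ⟨?_, fun R hR φ hφ y => ?_⟩
  · intro y hy
    obtain ⟨x, -, rfl⟩ := mem_imageAlong_iff.1 hy
    exact hr.le ⟨x, rfl⟩
  · obtain ⟨-, ψ, hψ, hP, hψS, hP', hind⟩ := (hHom R φ).1 hφ
    obtain ⟨x, hx, hxy⟩ := mem_imageAlong_iff.1 (hR y.2)
    have hxR : (x : Ω) ∈ preimageAlong θ R := mem_preimageAlong.2 ⟨x.2, by rw [hxy]; exact y.2⟩
    have hle : preimageAlong θ R ≤ T := by
      refine le_trans (fun z hz => ?_) ((preimage_image hker hXS hT.1).le.trans (sup_le le_rfl hXT))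
      obtain ⟨h1, h2⟩ := mem_preimageAlong.1 hz
      exact mem_preimageAlong.2 ⟨h1, hR h2⟩
    refine mem_imageAlong_iff.2 ⟨⟨_, hψS ⟨x, hxR⟩⟩, hT.2 _ hle ψ hψ ⟨x, hxR⟩, ?_⟩
    rw [show y = ⟨θ ⟨x, hP hxR⟩, hP' ⟨x, hxR⟩⟩ from Subtype.ext hxy.symm]
    exact (hind ⟨x, hxR⟩).symm

/-- Modulo `X` every map is a conjugation, when the factor system is inner. -/
theorem exists_conj_mod [Finite S] [Fact p.Prime] (hS : IsPGroup p S) (hF : F.IsSaturated p)
    (hX : F.StronglyClosed X) (hE : F.IsFactorSystem X θ E)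
    (hin : ∀ P, E.Hom P = (innerFusionSystem S').Hom P) {P : Subgroup Ω} {φ : P →* Ω}
    (hφ : φ ∈ F.Hom P) : ∃ g ∈ S, ∀ x : P, (g * x * g⁻¹)⁻¹ * φ x ∈ X := by
  obtain ⟨φ', hφ', hP, hφS, hP', hind⟩ := exists_induced hS hF hX hE hφ
  obtain ⟨-, hker, hr, -⟩ := hE
  rw [hin] at hφ'
  obtain ⟨-, g', hg', hconj⟩ := hφ'
  obtain ⟨g, rfl⟩ := hr.ge hg'
  refine ⟨g, g.2, fun x => ?_⟩
  refine (hker ((g * ⟨x, hP x.2⟩ * g⁻¹)⁻¹ * ⟨φ x, hφS x⟩)).1 ?_
  rw [map_mul, map_inv, inv_mul_eq_one, ← hind x, hconj, map_mul, map_mul, map_inv]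

/-- An inner factor system by a subgroup inside the Frattini subgroup forces inner type. -/
theorem isInnerType_of_le_frattini [Finite S] [Fact p.Prime] (hS : IsPGroup p S)
    (hF : F.IsSaturated p) (hX : F.StronglyClosed X) (hE : F.IsFactorSystem X θ E)
    (hin : ∀ P, E.Hom P = (innerFusionSystem S').Hom P)
    (hle : X ≤ (frattini S).map S.subtype) : IsInnerType F p := by
  refine (isInnerType_iff hS hF).2 (hom_eq_inner_of_focal_le_frattini hS hF ?_)
  refine (Subgroup.closure_le _).2 ?_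
  rintro _ ⟨P, φ, x, hφ, rfl⟩
  obtain ⟨g, hg, hgx⟩ := exists_conj_mod hS hF hX hE hin hφ
  have hxS : (x : Ω) ∈ S := dom_le hφ x.2
  have h1 : (x : Ω)⁻¹ * (g * x * g⁻¹) ∈ (frattini S).map S.subtype := by
    refine Subgroup.map_mono (PGroup.commutator_le_frattini hS) ?_
    rw [Subgroup.map_subtype_commutator]
    have h := Subgroup.commutator_mem_commutator (S.inv_mem hxS) hg
    rw [commutatorElement_def, inv_inv] at h
    simpa [mul_assoc] using h
  have h2 := Subgroup.mul_mem _ h1 (hle (hgx x))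
  rwa [mul_assoc, mul_inv_cancel_left] at h2

theorem card_preimageAlong [Finite S] (hker : ∀ s : S, θ s = 1 ↔ (s : Ω) ∈ X) (hXS : X ≤ S)
    {Q' : Subgroup Ω'} (hQ' : Q' ≤ θ.range) :
    Nat.card (preimageAlong θ Q') = Nat.card Q' * Nat.card X := by
  rw [preimageAlong, Subgroup.card_map_of_injective S.subtype_injective]
  let f : Q'.comap θ →* Q' := θ.subgroupComap Q'
  have hf : Function.Surjective f := by
    rintro ⟨y, hy⟩
    obtain ⟨s, rfl⟩ := hQ' hy
    exact ⟨⟨s, hy⟩, rfl⟩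
  rw [Subgroup.card_eq_card_quotient_mul_card_subgroup f.ker,
    Nat.card_congr (QuotientGroup.quotientKerEquivOfSurjective f hf).toEquiv]
  congr 1
  refine Nat.card_congr
    { toFun := fun z => ⟨((z : Q'.comap θ) : S), (hker _).1 (congrArg Subtype.val z.2)⟩
      invFun := fun x => ⟨⟨⟨x, hXS x.2⟩, ?_⟩, Subtype.ext ((hker ⟨x, hXS x.2⟩).2 x.2)⟩
      left_inv := fun z => rfl
      right_inv := fun x => rfl }
  show θ _ ∈ Q'
  rw [(hker ⟨x, hXS x.2⟩).2 x.2]
  exact one_mem _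

/-- The supplement condition passes to the factor by a smaller strongly closed subgroup. -/
theorem Supplemented.factor [Finite S] [Fact p.Prime] (hS : IsPGroup p S) (hF : F.IsSaturated p)
    (hX : F.StronglyClosed X) (hE : F.IsFactorSystem X θ E) {d' : ℕ}
    (h : Supplemented F p (d' * Nat.card X)) : Supplemented E p d' := by
  obtain ⟨hXS, hker, hr, hHom⟩ := id hE
  have hpre : ∀ {Q' : Subgroup Ω'}, Q' ≤ S' → Nat.card Q' = d' →
      Nat.card (preimageAlong θ Q') = d' * Nat.card X := fun hQ' hc => by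
    rw [card_preimageAlong hker hXS (hr.ge.trans' hQ'), hc]
  refine ⟨fun Q' hQ' hc => ?_, fun H' R' hHR hR' hRn hc a' ha' hco hinv => ?_⟩
  · set Q := preimageAlong θ Q' with hQ
    have hXQ : X ≤ Q := ker_le_preimage hker hXS Q'
    obtain ⟨P, hP, hQP, hQP'⟩ := h.supp Q (preimageAlong_le θ _) (hpre hQ' hc)
    have himg : ∀ {T : Subgroup Ω}, T ≤ S → imageAlong θ (T ⊔ X) = imageAlong θ T := by
      intro T hT
      refine le_antisymm ?_ ?_
      · rw [← preimage_image hker hXS hT, image_preimage hr]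
        intro y hy
        obtain ⟨x, -, rfl⟩ := mem_imageAlong_iff.1 hy
        exact hr.le ⟨x, rfl⟩
      · intro y hy
        obtain ⟨x, hx, rfl⟩ := mem_imageAlong_iff.1 hy
        exact mem_imageAlong_iff.2 ⟨x, Subgroup.mem_sup_left hx, rfl⟩
    refine ⟨imageAlong θ P, ?_, ?_, ?_⟩
    · rw [← himg hP.1]
      exact stronglyClosed_imageAlong hE (stronglyClosed_sup hS hF hP hX) le_sup_right
    · have heq : Q' ⊔ imageAlong θ P = imageAlong θ (Q ⊔ P) := by
        conv_lhs => rw [← image_preimage hr hQ']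
        rw [imageAlong, imageAlong, imageAlong, ← Subgroup.map_sup,
          ← Subgroup.subgroupOf_sup (preimageAlong_le θ _) hP.1]
      rw [heq]
      exact stronglyClosed_imageAlong hE hQP (hXQ.trans le_sup_left)
    · have heq : Q' ⊓ imageAlong θ P = imageAlong θ (Q ⊓ P ⊔ X) := by
        rw [himg (inf_le_right.trans hP.1)]
        refine le_antisymm (fun y hy => ?_) fun y hy => ?_
        · obtain ⟨x, hx, rfl⟩ := mem_imageAlong_iff.1 hy.2
          exact mem_imageAlong_iff.2 ⟨x, ⟨mem_preimageAlong.2 ⟨x.2, hy.1⟩, hx⟩, rfl⟩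
        · obtain ⟨x, hx, rfl⟩ := mem_imageAlong_iff.1 hy
          exact ⟨(mem_preimageAlong.1 hx.1).2, mem_imageAlong_iff.2 ⟨x, hx.2, rfl⟩⟩
      rw [heq]
      exact stronglyClosed_imageAlong hE (stronglyClosed_sup hS hF hQP' hX) le_sup_right
  · obtain ⟨ind, hsurj, hind⟩ := exists_inducedHom (p := p) hX hE hR'
    obtain ⟨⟨a₀, ha₀⟩, hind₀⟩ := hsurj ⟨a', ha'⟩
    have := finite_mulAut (Ω := Ω) (preimageAlong_le θ R')
    obtain ⟨k, hk⟩ := exists_pow_coprime (p := p) a₀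
    have hPS := preimageAlong_le θ R'
    have hHP : preimageAlong θ H' ≤ preimageAlong θ R' := fun x hx => by
      obtain ⟨h1, h2⟩ := mem_preimageAlong.1 hx
      exact mem_preimageAlong.2 ⟨h1, hHR h2⟩
    have hnorm : preimageAlong θ R' ≤
        Subgroup.normalizer ((preimageAlong θ H' : Subgroup Ω) : Set Ω) := fun x hx => by
      obtain ⟨h1, h2⟩ := mem_preimageAlong.1 hx
      exact conj_mem_preimage h1 (hRn h2)
    have hc1 : a₀ ^ p ^ k = 1 := by
      refine h.fix _ _ hHP hPS hnorm (hpre (hHR.trans hR') hc) _ (Subgroup.pow_mem _ ha₀ _) hk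
        fun x hx => ?_
      obtain ⟨_, hxW⟩ := mem_preimageAlong.1 hx
      refine mem_preimageAlong.2 ⟨hPS ((a₀ ^ p ^ k) x).2, ?_⟩
      have hgen : ∀ i : ℕ, θ ⟨(a₀ ^ i) x, hPS ((a₀ ^ i) x).2⟩ ∈ H' := by
        intro i
        induction i with
        | zero => exact hxW
        | succ i hi =>
          have h1 := hind ⟨a₀, ha₀⟩ ((a₀ ^ i) x) (hHR hi) (hPS (a₀ ((a₀ ^ i) x)).2)
          rw [hind₀] at h1
          have h2 := hinv ⟨_, hHR hi⟩ hi
          rw [show (⟨((a₀ ^ (i + 1)) x : Ω), hPS ((a₀ ^ (i + 1)) x).2⟩ : S) =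
            ⟨(a₀ ((a₀ ^ i) x) : Ω), hPS (a₀ ((a₀ ^ i) x)).2⟩ from
              Subtype.ext (by rw [pow_succ' a₀]; rfl), ← h1]
          exact h2
      exact hgen _
    refine eq_one_of_coprime hco (j := k) ?_
    have h2 : ind ⟨a₀, ha₀⟩ ^ p ^ k = 1 := by
      rw [← map_pow, show (⟨a₀, ha₀⟩ : F.autGroup _) ^ p ^ k = 1 from Subtype.ext hc1, map_one]
    rw [hind₀] at h2
    exact congrArg Subtype.val h2

/-- A normal subgroup of order `d` forces inner type. -/
theorem Supplemented.isInnerType_of_isNormal [Finite S] [Fact p.Prime] {d : ℕ}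
    (h : Supplemented F p d) {Z : Subgroup Ω} (hZn : F.IsNormal Z) (hZ : Nat.card Z = d) :
    IsInnerType F p := by
  by_contra hne
  obtain ⟨P, hP, a, ha, hco, ha1⟩ := exists_of_not_isInnerType hne
  obtain ⟨ψ, hψ, hψr, hψe, hψZ⟩ := exists_extension_of_isNormal hZn hP ha
  have hPZ : P ⊔ Z ≤ S := sup_le hP hZn.1
  have : Finite (MulAut ↥(P ⊔ Z)) := finite_mulAut hPZ
  obtain ⟨k, hk⟩ := exists_pow_coprime (p := p) (toAut hψ hψr)
  have hm : toAut hψ hψr ^ p ^ k ∈ F.autGroup (P ⊔ Z) := Subgroup.pow_mem _ (toAut_mem hψ hψr) _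
  have hc1 := h.fix Z (P ⊔ Z) le_sup_right hPZ (hPZ.trans (le_normalizer_of_isNormal hZn)) hZ _ hm hk
    (fun x hx => apply_mem_of_stronglyClosed (stronglyClosed_of_isNormal hZn) hPZ hm hx)
  refine ha1 (eq_one_of_coprime hco (j := k) (MulEquiv.ext fun x => Subtype.ext ?_))
  have hpow : ∀ (i : ℕ) (x : P),
      (((toAut hψ hψr ^ i) (Subgroup.inclusion le_sup_left x) : ↥(P ⊔ Z)) : Ω) =
        ((a ^ i) x : Ω) := by
    intro i
    induction i with
    | zero => intro x; rfl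
    | succ i hi =>
      intro x
      rw [pow_succ', pow_succ', MulAut.mul_apply, MulAut.mul_apply,
        show (toAut hψ hψr ^ i) (Subgroup.inclusion le_sup_left x) =
          Subgroup.inclusion le_sup_left ((a ^ i) x) from Subtype.ext (hi x), coe_toAut, hψe]
  rw [← hpow, hc1]
  rfl

theorem mem_normalizer_of_conj_mem_fin [Finite S] {H : Subgroup Ω} (hH : H ≤ S) {g : Ω}
    (h : ∀ y ∈ H, g * y * g⁻¹ ∈ H) : g ∈ Subgroup.normalizer (H : Set Ω) := by
  have := finite_of_le (Ω := Ω) hH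
  refine Subgroup.mem_normalizer_iff.2 fun y => ⟨h y, fun hy => ?_⟩
  have hf : Function.Injective (fun x : H => (⟨g * x * g⁻¹, h x x.2⟩ : H)) := fun a b hab =>
    Subtype.ext (mul_left_cancel (mul_right_cancel (congrArg Subtype.val hab)))
  obtain ⟨x, hx⟩ := (Finite.injective_iff_surjective.1 hf) ⟨g * y * g⁻¹, hy⟩
  exact (mul_left_cancel (mul_right_cancel (congrArg Subtype.val hx)) : (x : Ω) = y) ▸ x.2

theorem mem_mul_of_sup {Q P : Subgroup Ω} (hQ : Q ≤ S) (hP : F.StronglyClosed P) {x : Ω}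
    (hx : x ∈ Q ⊔ P) : ∃ q ∈ Q, ∃ w ∈ P, q * w = x := by
  have h := Subgroup.coe_mul_of_left_le_normalizer_right Q P
    (hQ.trans (le_normalizer_of_stronglyClosed hP))
  rw [← SetLike.mem_coe, h] at hx
  obtain ⟨q, hq, w, hw, hqw⟩ := hx
  exact ⟨q, hq, w, hw, hqw⟩

omit [Group Ω] in
/-- A subgroup of prescribed order between two given ones. -/
theorem exists_subgroup_card [Group Ω] [Fact p.Prime] {A B : Subgroup Ω} [Finite B] (hAB : A ≤ B)
    (hB : IsPGroup p B) {m : ℕ} (hA : Nat.card A ≤ p ^ m) (hmB : p ^ m ≤ Nat.card B) :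
    ∃ Q : Subgroup Ω, A ≤ Q ∧ Q ≤ B ∧ Nat.card Q = p ^ m := by
  have hp1 := (Fact.out : p.Prime).one_lt
  obtain ⟨i, hi⟩ := IsPGroup.iff_card.1 (hB.to_subgroup (A.subgroupOf B))
  obtain ⟨j, hj⟩ := IsPGroup.iff_card.1 hB
  have hcA : Nat.card (A.subgroupOf B) = Nat.card A :=
    Nat.card_congr (Subgroup.subgroupOfEquivOfLe hAB).toEquiv
  obtain ⟨K, hK, hAK⟩ := Sylow.exists_subgroup_card_pow_prime_le p (m := m)
    (hj ▸ pow_dvd_pow p ((Nat.pow_le_pow_iff_right hp1).1 (hj ▸ hmB))) (A.subgroupOf B) hi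
    ((Nat.pow_le_pow_iff_right hp1).1 (by rw [← hi, hcA]; exact hA))
  refine ⟨K.map B.subtype, fun x hx => ⟨⟨x, hAB hx⟩, hAK hx, rfl⟩, Subgroup.map_subtype_le K, ?_⟩
  rw [Subgroup.card_map_of_injective B.subtype_injective, hK]

theorem supplemented_isInnerType_aux (n : ℕ) : ∀ {Ω : Type u} [Group Ω] {S : Subgroup Ω} [Finite S]
    {p : ℕ} [Fact p.Prime] (F : FusionSystem S) (m : ℕ), Nat.card S = n → IsPGroup p S →
    F.IsSaturated p → 0 < m → p ^ m < n → Supplemented F p (p ^ m) → IsInnerType F p := by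
  induction n using Nat.strong_induction_on with
  | _ n ih =>
  intro Ω _ S _ p _ F m hn hS hF hm hmn h
  have hp : p.Prime := Fact.out
  have hfin : ∀ {T : Subgroup Ω}, T ≤ S → Finite T := fun hT => finite_of_le hT
  have h1d : 1 < p ^ m := Nat.one_lt_pow hm.ne' hp.one_lt
  -- factors by small strongly closed subgroups are inner
  have hfac : ∀ X : Subgroup Ω, F.StronglyClosed X → X ≠ ⊥ → Nat.card X < p ^ m →
      ∃ (N : Subgroup S) (_ : N.Normal) (E : FusionSystem (⊤ : Subgroup (S ⧸ N))),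
        F.IsFactorSystem X (QuotientGroup.mk' N) E ∧ IsInnerType E p ∧
          ∀ P, E.Hom P = (innerFusionSystem (⊤ : Subgroup (S ⧸ N))).Hom P := by
    intro X hX hXne hXlt
    have hXn : (X.subgroupOf S).Normal := (Subgroup.normal_subgroupOf_iff_le_normalizer hX.1).2
      (le_normalizer_of_stronglyClosed hX)
    refine ⟨X.subgroupOf S, hXn, ?_⟩
    set θ : S →* S ⧸ X.subgroupOf S := QuotientGroup.mk' _
    have hker : ∀ s : S, θ s = 1 ↔ (s : Ω) ∈ X := fun s => QuotientGroup.eq_one_iff s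
    have hr : θ.range = ⊤ := MonoidHom.range_eq_top.2 (QuotientGroup.mk'_surjective _)
    have hE := factorSystem_spec F hX θ hker hr
    have hEs := isSaturated_factorSystem hS hF hX hE
    have hTop : IsPGroup p (⊤ : Subgroup (S ⧸ X.subgroupOf S)) := (hS.to_quotient _).to_subgroup ⊤
    have := hfin hX.1
    obtain ⟨i, hi⟩ := IsPGroup.iff_card.1 (hS.to_le hX.1)
    have him : i < m := (Nat.pow_lt_pow_iff_right hp.one_lt).1 (hi ▸ hXlt)
    have hcX : Nat.card (X.subgroupOf S) = p ^ i :=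
      (Nat.card_congr (Subgroup.subgroupOfEquivOfLe hX.1).toEquiv).trans hi
    have hq : Nat.card (⊤ : Subgroup (S ⧸ X.subgroupOf S)) * p ^ i = n := by
      rw [Subgroup.card_top, ← hcX, ← hn, ← Subgroup.card_eq_card_quotient_mul_card_subgroup]
    have hi1 : 1 < p ^ i := by
      rw [← hi]
      exact Finite.one_lt_card_iff_nontrivial.2 ((Subgroup.nontrivial_iff_ne_bot _).2 hXne)
    have hd : p ^ (m - i) * p ^ i = p ^ m := by rw [← pow_add, Nat.sub_add_cancel him.le]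
    have hlt : Nat.card (⊤ : Subgroup (S ⧸ X.subgroupOf S)) < n := by
      conv_rhs => rw [← hq]
      exact lt_mul_of_one_lt_right Nat.card_pos hi1
    have hsup : Supplemented (factorSystem F hX θ hker hr) p (p ^ (m - i)) :=
      Supplemented.factor hS hF hX hE (by rw [hi, hd]; exact h)
    have hin := ih _ hlt (factorSystem F hX θ hker hr) (m - i) rfl hTop hEs (by omega)
      (Nat.lt_of_mul_lt_mul_right (a := p ^ i) (by rw [hd, hq]; exact hmn)) hsup
    exact ⟨_, hE, hin, (isInnerType_iff hTop hEs).1 hin⟩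
  -- strongly closed subgroups of order `p`
  have hprime : ∀ X : Subgroup Ω, F.StronglyClosed X → Nat.card X = p → IsInnerType F p := by
    intro X hX hXc
    have := hfin hX.1
    have hXab : IsMulCommutative X := by
      have := isCyclic_of_prime_card hXc
      exact ⟨⟨fun a b => (IsCyclic.commGroup (α := X)).mul_comm a b⟩⟩
    have hXn := isNormal_of_abelian hS hF hX hXab
    by_contra hne
    have hne' : Nat.card X ≠ p ^ m := fun hc => hne (h.isInnerType_of_isNormal hXn hc)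
    have hXlt : Nat.card X < p ^ m := by
      refine lt_of_le_of_ne ?_ hne'
      rw [hXc]
      exact le_self_pow (by exact hp.one_lt.le) hm.ne'
    have hXne : X ≠ ⊥ := fun h0 => hp.one_lt.ne' (by rw [← hXc, h0, Subgroup.card_bot])
    obtain ⟨N, _, E, hE, hEin, hEhom⟩ := hfac X hX hXne hXlt
    refine not_isInnerType_factorSystem hS hne hXn ?_ hE hEin
    have := finite_autGroup (F := F) hX.1
    refine isPGroup_of_coprime_orderOf_eq_one fun β hβ => ?_
    obtain ⟨hβm, hβr⟩ := hom_of_mem_autGroup hX.1 β.2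
    set θ : S →* S ⧸ N := QuotientGroup.mk' N
    obtain ⟨-, hker, hr, -⟩ := id hE
    set T := preimageAlong θ (⊤ : Subgroup (S ⧸ N))
    have hTS : T ≤ S := preimageAlong_le θ _
    have hST : S ≤ T := fun x hx => mem_preimageAlong.2 ⟨hx, trivial⟩
    have hSC : S ≤ centralizerIn S X := by
      intro g hg
      refine mem_centralizerIn.2 ⟨hg, fun x hx => ?_⟩
      have hn' : (X.subgroupOf S).Normal := (Subgroup.normal_subgroupOf_iff_le_normalizer hX.1).2
        (le_normalizer_of_stronglyClosed hX)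
      have hc : Nat.card (X.subgroupOf S) = p :=
        (Nat.card_congr (Subgroup.subgroupOfEquivOfLe hX.1).toEquiv).trans hXc
      have h1 := PGroup.le_center_of_card_eq hS (X.subgroupOf S) hc
        (show (⟨x, hX.1 hx⟩ : S) ∈ X.subgroupOf S from hx)
      exact (congrArg Subtype.val (Subgroup.mem_center_iff.1 h1 ⟨g, hg⟩)).symm
    have hXfn : F.IsFullyNormalized X := ⟨hX.1, fun R _ => by
      rw [show normalizerIn S X = S from
        le_antisymm inf_le_left (le_inf le_rfl (le_normalizer_of_stronglyClosed hX))]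
      exact card_le_of_le le_rfl (normalizerIn_le S R)⟩
    obtain ⟨ψ, hψ, hψe⟩ := exists_extension (isReceptive_of_fullyNormalized hS hF hXfn) hβm hβr
      ((hTS.trans hSC).trans (centralizerIn_le_extender _))
    have hψr := range_eq_of_le hψ hTS (fun x => hST (apply_mem hψ x)) le_rfl
    have hXT : X ≤ T := hX.1.trans hST
    have : Finite (MulAut T) := finite_mulAut hTS
    obtain ⟨k, hk⟩ := exists_pow_coprime (p := p) (toAut hψ hψr)
    set c := toAut hψ hψr ^ p ^ k with hcdef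
    have hcm : c ∈ F.autGroup T := Subgroup.pow_mem _ (toAut_mem hψ hψr) _
    -- `c` is trivial modulo `X`
    obtain ⟨ind, -, hind⟩ := exists_inducedHom (p := p) hX hE (le_rfl : (⊤ : Subgroup (S ⧸ N)) ≤ ⊤)
    obtain ⟨j, hj⟩ := hEin _ le_top (ind ⟨c, hcm⟩)
    have hind1 : ind ⟨c, hcm⟩ = 1 := eq_one_of_coprime
      (Nat.Coprime.coprime_dvd_left (orderOf_map_dvd ind _) (by rwa [Subgroup.orderOf_mk])) hj
    have hmod : ∀ x : T, (x : Ω)⁻¹ * (c x : Ω) ∈ X := by
      intro x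
      refine (hker (⟨x, hTS x.2⟩⁻¹ * ⟨c x, hTS (c x).2⟩)).1 ?_
      have h1 := hind ⟨c, hcm⟩ x trivial (hTS (c x).2)
      rw [hind1] at h1
      rw [map_mul, map_inv, inv_mul_eq_one]
      exact h1
    -- so it fixes a subgroup of order `d` above `X`
    obtain ⟨H, hXH, hHT, hH⟩ := exists_subgroup_card (A := X) (B := S) hX.1 hS hXlt.le (hn ▸ hmn.le)
    have hHT' : H ≤ T := hHT.trans hST
    have hinv : ∀ x : T, (x : Ω) ∈ H → (c x : Ω) ∈ H := fun x hx => by
      have := H.mul_mem hx (hXH (hmod x))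
      rwa [mul_inv_cancel_left] at this
    have hres := restrict_mem ((mem_autGroup_iff hTS).1 hcm) hHT'
    have hHr := range_eq_of_le hres hHT (fun x => hinv _ x.2) le_rfl
    have := finite_mulAut (Ω := Ω) hHT
    have hpow : ∀ (i : ℕ) (x : H), (((toAut hres hHr ^ i) x : H) : Ω) =
        ((c ^ i) ⟨x, hHT' x.2⟩ : T) := by
      intro i
      induction i with
      | zero => intro x; rfl
      | succ i hi =>
        intro x
        rw [pow_succ', pow_succ', MulAut.mul_apply, MulAut.mul_apply, coe_toAut,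
          show (c ^ i) ⟨x, hHT' x.2⟩ = ⟨((toAut hres hHr ^ i) x : Ω),
            hHT' ((toAut hres hHr ^ i) x).2⟩ from Subtype.ext (hi x).symm]
        rfl
    have hord : toAut hres hHr ^ orderOf c = 1 := MulEquiv.ext fun x => Subtype.ext (by
      rw [hpow, pow_orderOf_eq_one]; rfl)
    have hc1 := h.fix H H le_rfl hHT Subgroup.le_normalizer hH _ (toAut_mem hres hHr)
      (Nat.Coprime.coprime_dvd_left (orderOf_dvd_of_pow_eq_one hord) hk) fun x _ => (_ : H).2
    refine eq_one_of_coprime hβ (j := k) (Subtype.ext (MulEquiv.ext fun z => Subtype.ext ?_))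
    have hβpow : ∀ (i : ℕ) (z : X), (((toAut hψ hψr ^ i) ⟨z, hXT z.2⟩ : T) : Ω) =
        (((β : MulAut X) ^ i) z : Ω) := by
      intro i
      induction i with
      | zero => intro z; rfl
      | succ i hi =>
        intro z
        rw [pow_succ', pow_succ', MulAut.mul_apply, MulAut.mul_apply,
          show (toAut hψ hψr ^ i) ⟨z, hXT z.2⟩ =
            ⟨(((β : MulAut X) ^ i) z : Ω), hXT (((β : MulAut X) ^ i) z).2⟩ from Subtype.ext (hi z),
          coe_toAut]
        exact hψe _ (((β : MulAut X) ^ i) z).2 _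
    rw [SubgroupClass.coe_pow, ← hβpow, ← hcdef]
    have h3 := hpow 1 ⟨z, hXH z.2⟩
    rw [pow_one, pow_one, hc1] at h3
    exact h3.symm
  by_contra hne
  have hnab : ∀ X : Subgroup Ω, F.StronglyClosed X → Nat.card X = p ^ m → ¬ IsMulCommutative X :=
    fun X hX hXc hab => hne (h.isInnerType_of_isNormal (isNormal_of_abelian hS hF hX hab) hXc)
  -- minimal strongly closed subgroups
  let Min : Subgroup Ω → Prop := fun X => F.StronglyClosed X ∧ X ≠ ⊥ ∧
    ∀ Y : Subgroup Ω, F.StronglyClosed Y → Y ≤ X → Y ≠ ⊥ → Y = X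
  have hMin : ∀ T : Subgroup Ω, F.StronglyClosed T → T ≠ ⊥ → ∃ X, Min X ∧ X ≤ T := by
    intro T hT hT1
    have hex : ∃ c, ∃ X : Subgroup Ω, F.StronglyClosed X ∧ X ≠ ⊥ ∧ X ≤ T ∧ Nat.card X = c :=
      ⟨_, T, hT, hT1, le_rfl, rfl⟩
    classical
    obtain ⟨X, hX, hX1, hXT, hXc⟩ := Nat.find_spec hex
    refine ⟨X, ⟨hX, hX1, fun Y hY hYX hY1 => ?_⟩, hXT⟩
    have hle := Nat.find_min' hex ⟨Y, hY, hY1, hYX.trans hXT, rfl⟩
    exact eq_of_le_of_card_le hX.1 hYX (hXc ▸ hle)
  -- no subgroup of order `d` meets such a subgroup in a nontrivial proper subgroup unless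
  -- its supplement avoids it
  have hdisj : ∀ X, Min X → ∀ Q P : Subgroup Ω, F.StronglyClosed P → F.StronglyClosed (Q ⊓ P) →
      Q ⊓ X ≠ ⊥ → Q ⊓ X ≠ X → P ⊓ X = ⊥ := by
    intro X hX Q P hP hQP h1 h2
    by_contra hne'
    have hXP : X ≤ P := inf_eq_right.1 (hX.2.2 _ (stronglyClosed_inf hP hX.1) inf_le_right hne')
    have heq : Q ⊓ X = Q ⊓ P ⊓ X := by rw [inf_assoc, inf_eq_right.2 hXP]
    exact h2 (hX.2.2 _ (heq ▸ stronglyClosed_inf hQP hX.1) inf_le_right h1)
  have hminle : ∀ X, Min X → Nat.card X ≤ p ^ m := by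
    intro X hX
    by_contra hgt
    have := hfin hX.1.1
    obtain ⟨H, -, hHX, hH⟩ := exists_subgroup_card (A := ⊥) (B := X) bot_le (hS.to_le hX.1.1)
      (by rw [Subgroup.card_bot]; exact h1d.le) (not_le.1 hgt).le
    obtain ⟨P, hP, hHP, hHP'⟩ := h.supp H (hHX.trans hX.1.1) hH
    have hH1 : H ≠ ⊥ := fun h0 => h1d.ne (by rw [← hH, h0, Subgroup.card_bot])
    have hHne : H ≠ X := fun h0 => hgt (h0 ▸ hH.le)
    have hPX : P ⊓ X = ⊥ := hdisj X hX H P hP hHP' (by rwa [inf_eq_left.2 hHX])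
      (by rwa [inf_eq_left.2 hHX])
    have hcl := stronglyClosed_inf hHP hX.1
    have hX' : (H ⊔ P) ⊓ X = X := hX.2.2 _ hcl inf_le_right
      fun h0 => hH1 (le_bot_iff.1 (h0 ▸ le_inf le_sup_left hHX))
    refine hHne (le_antisymm hHX fun x hx => ?_)
    obtain ⟨q, hq, w, hw, rfl⟩ :=
      mem_mul_of_sup (hHX.trans hX.1.1) hP ((inf_eq_right.1 hX') hx)
    have hw' : w ∈ P ⊓ X := ⟨hw, by
      have := X.mul_mem (X.inv_mem (hHX hq)) hx
      rwa [inv_mul_cancel_left] at this⟩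
    rw [hPX, Subgroup.mem_bot] at hw'
    rwa [hw', mul_one]
  -- a second minimal subgroup, disjoint from the first
  have hsecond : ∀ X, Min X → ∀ Q : Subgroup Ω, Q ≤ S → Nat.card Q = p ^ m →
      Q ⊓ X ≠ ⊥ → Q ⊓ X ≠ X → ∃ Y, Min Y ∧ Y ⊓ X = ⊥ := by
    intro X hX Q hQ hQc h1 h2
    obtain ⟨P, hP, hQP, hQP'⟩ := h.supp Q hQ hQc
    have hPX := hdisj X hX Q P hP hQP' h1 h2
    have hP1 : P ≠ ⊥ := by
      rintro rfl
      rw [sup_bot_eq] at hQP
      exact h2 (hX.2.2 _ (stronglyClosed_inf hQP hX.1) inf_le_right h1)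
    obtain ⟨Y, hY, hYP⟩ := hMin P hP hP1
    exact ⟨Y, hY, le_bot_iff.1 (hPX ▸ inf_le_inf_right X hYP)⟩
  -- all minimal subgroups have order `d`
  have hminc : ∀ X, Min X → Nat.card X = p ^ m := by
    intro X hX
    refine le_antisymm (hminle X hX) (not_lt.1 fun hlt => ?_)
    obtain ⟨N, _, E, hE, -, hEhom⟩ := hfac X hX.1 hX.2.1 hlt
    have hXS := hX.1.1
    have := hfin hXS
    have hnΦ : ¬ X.subgroupOf S ≤ frattini S := fun hle => hne
      (isInnerType_of_le_frattini hS hF hX.1 hE hEhom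
        (fun x hx => ⟨⟨x, hXS hx⟩, hle hx, rfl⟩))
    have hXn : (X.subgroupOf S).Normal := (Subgroup.normal_subgroupOf_iff_le_normalizer hXS).2
      (le_normalizer_of_stronglyClosed hX.1)
    -- an element `z` of order `p`
    obtain ⟨z, hzX, hzo, hzΦ⟩ : ∃ z : S, z ∈ X.subgroupOf S ∧ orderOf z = p ∧
        ¬ X.subgroupOf S ≤ frattini S ⊔ Subgroup.zpowers z := by
      by_cases hI : X.subgroupOf S ⊓ frattini S = ⊥
      · have hne0 : X.subgroupOf S ≠ ⊥ := fun h0 => hnΦ (h0 ▸ bot_le)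
        obtain ⟨z, hz, -, hzo⟩ := PGroup.exists_orderOf_eq_mem_center hS (X.subgroupOf S) hne0
        refine ⟨z, hz, hzo, fun hle => ?_⟩
        have hXz : X.subgroupOf S ≤ Subgroup.zpowers z := fun x hx => by
          have h' := hle hx
          rw [← SetLike.mem_coe, Subgroup.normal_mul] at h'
          obtain ⟨f, hf, w, hw, rfl⟩ := h'
          have hfm : f ∈ X.subgroupOf S ⊓ frattini S := ⟨by
            have := Subgroup.mul_mem _ hx (Subgroup.inv_mem _ (Subgroup.zpowers_le.2 hz hw))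
            rwa [mul_inv_cancel_right] at this, hf⟩
          rw [hI, Subgroup.mem_bot] at hfm
          show f * w ∈ _
          rwa [hfm, one_mul]
        have hcard := Subgroup.card_le_of_le hXz
        rw [Nat.card_zpowers, hzo, Nat.card_congr (Subgroup.subgroupOfEquivOfLe hXS).toEquiv]
          at hcard
        obtain ⟨i, hi⟩ := IsPGroup.iff_card.1 (hS.to_le hXS)
        have hi1 : i = 1 := by
          have hle1 : i ≤ 1 := (Nat.pow_le_pow_iff_right hp.one_lt).1 (by rw [pow_one, ← hi]; exact hcard)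
          refine le_antisymm hle1 (Nat.pos_of_ne_zero fun h0 => hX.2.1 (Subgroup.card_eq_one.1 ?_))
          rw [hi, h0, pow_zero]
        exact hne (hprime X hX.1 (by rw [hi, hi1, pow_one]))
      · obtain ⟨z, hz, -, hzo⟩ := PGroup.exists_orderOf_eq_mem_center hS _ hI
        refine ⟨z, hz.1, hzo, fun hle => hnΦ ?_⟩
        rwa [sup_eq_left.2 (Subgroup.zpowers_le.2 hz.2)] at hle
    -- a maximal subgroup containing it but not `X`
    set M₀ := frattini S ⊔ Subgroup.zpowers z with hM₀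
    have hM₀n : M₀.Normal := ⟨fun w hw g => by
      have h' : g * w * g⁻¹ * w⁻¹ ∈ M₀ := Subgroup.mem_sup_left (PGroup.commutator_le_frattini hS
        (Subgroup.commutator_mem_commutator (Subgroup.mem_top g) (Subgroup.mem_top w)))
      simpa using Subgroup.mul_mem _ h' hw⟩
    obtain ⟨M, hM, hXM⟩ : ∃ M : Subgroup (S ⧸ M₀), IsCoatom M ∧
        ¬ (X.subgroupOf S).map (QuotientGroup.mk' M₀) ≤ M := by
      by_contra hall
      push Not at hall
      have h0 := PGroup.le_frattini_of_forall_coatom hall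
      rw [← PGroup.map_frattini hS (QuotientGroup.mk' M₀) (QuotientGroup.mk'_surjective _),
        Subgroup.map_le_map_iff, QuotientGroup.ker_mk',
        sup_eq_right.2 (le_sup_left : frattini S ≤ M₀)] at h0
      exact hzΦ h0
    set M' := M.comap (QuotientGroup.mk' M₀) with hM'
    have hM'idx : M'.index = p := by
      rw [hM', Subgroup.index_comap_of_surjective _ (QuotientGroup.mk'_surjective _)]
      exact PGroup.index_of_isCoatom (hS.to_quotient M₀) hM
    have hzM : z ∈ M' := by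
      show QuotientGroup.mk' M₀ z ∈ M
      rw [show QuotientGroup.mk' M₀ z = 1 from
        (QuotientGroup.eq_one_iff z).2 (Subgroup.mem_sup_right (Subgroup.mem_zpowers z))]
      exact one_mem _
    have hle : Subgroup.zpowers (z : Ω) ≤ M'.map S.subtype :=
      Subgroup.zpowers_le.2 ⟨z, hzM, rfl⟩
    have := hfin (Subgroup.map_subtype_le M')
    have hMc : p ^ m ≤ Nat.card (M'.map S.subtype) := by
      rw [Subgroup.card_map_of_injective S.subtype_injective]
      obtain ⟨e, he⟩ := IsPGroup.iff_card.1 (hS.to_subgroup M')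
      have hprod := Subgroup.card_mul_index M'
      rw [hM'idx, hn, he, ← pow_succ] at hprod
      rw [he]
      have hme : m < e + 1 := (Nat.pow_lt_pow_iff_right hp.one_lt).1 (hprod ▸ hmn)
      exact Nat.pow_le_pow_right hp.pos (by omega)
    obtain ⟨Q, hzQ, hQM, hQc⟩ := exists_subgroup_card hle (hS.to_le (Subgroup.map_subtype_le M'))
      (by rw [Nat.card_zpowers, Subgroup.orderOf_coe, hzo]; exact le_self_pow hp.one_lt.le hm.ne')
      hMc
    have hQS := hQM.trans (Subgroup.map_subtype_le M')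
    have hz1 : (z : Ω) ≠ 1 := fun h0 => hp.one_lt.ne' (by
      rw [← hzo, ← Subgroup.orderOf_coe, h0, orderOf_one])
    have h1 : Q ⊓ X ≠ ⊥ := fun h0 => hz1 (Subgroup.mem_bot.1 (h0 ▸
      (⟨hzQ (Subgroup.mem_zpowers _), hzX⟩ : (z : Ω) ∈ Q ⊓ X)))
    have h2 : Q ⊓ X ≠ X := fun h0 => hXM fun y hy => by
      obtain ⟨x, hx, rfl⟩ := hy
      obtain ⟨x', hx', hxe⟩ := hQM ((inf_eq_right.1 h0) hx)
      rw [Subtype.ext hxe] at hx'
      exact hx'
    obtain ⟨Y, hY, hYX⟩ := hsecond X hX Q hQS hQc h1 h2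
    -- the fusion in `Y` is inner
    have hYS := hY.1.1
    have := hfin hYS
    have hYn : (Y.subgroupOf S).Normal := (Subgroup.normal_subgroupOf_iff_le_normalizer hYS).2
      (le_normalizer_of_stronglyClosed hY.1)
    have hY0 : Y.subgroupOf S ≠ ⊥ := fun h0 => hY.2.1 (by
      rw [← Subgroup.map_subgroupOf_eq_of_le hYS, h0, Subgroup.map_bot])
    obtain ⟨y, hy, hyc, hyo⟩ := PGroup.exists_orderOf_eq_mem_center hS (Y.subgroupOf S) hY0
    have hcl : F.StronglyClosed (Subgroup.zpowers (y : Ω)) := by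
      refine ⟨Subgroup.zpowers_le.2 y.2, fun R hR φ hφ x => ?_⟩
      obtain ⟨g, hg, hgx⟩ := exists_conj_mod hS hF hX.1 hE hEhom hφ
      have hRY : R ≤ Y := hR.trans (Subgroup.zpowers_le.2 hy)
      have hxY : φ x ∈ Y := hY.1.2 R hRY φ hφ x
      obtain ⟨i, hi⟩ := hR x.2
      have hi' : (y : Ω) ^ i = (x : Ω) := hi
      have hgc : g * (x : Ω) * g⁻¹ = x := by
        rw [← hi', ← Subgroup.coe_zpow, mul_inv_eq_iff_eq_mul]
        exact congrArg Subtype.val
          (Subgroup.mem_center_iff.1 ((Subgroup.center S).zpow_mem hyc i) ⟨g, hg⟩)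
      have hm' : (x : Ω)⁻¹ * φ x ∈ Y ⊓ X := ⟨Y.mul_mem (Y.inv_mem (hRY x.2)) hxY, hgc ▸ hgx x⟩
      rw [hYX, Subgroup.mem_bot, inv_mul_eq_one] at hm'
      rw [← hm']
      exact hR x.2
    exact hne (hprime _ hcl (by rw [Nat.card_zpowers, Subgroup.orderOf_coe, hyo]))
  -- two minimal subgroups of order `d`
  obtain ⟨X, hX, -⟩ := hMin S ⟨le_rfl, fun R hR φ hφ x => apply_mem hφ x⟩
    fun h0 => by
      rw [h0, Subgroup.card_bot] at hn
      omega
  have hm2 : 2 ≤ m := by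
    by_contra hlt
    have hm1 : m = 1 := by omega
    exact hne (hprime X hX.1 (by rw [hminc X hX, hm1, pow_one]))
  have hd2 : p ^ 2 ≤ p ^ m := Nat.pow_le_pow_right hp.pos hm2
  have hcentral : ∀ Z, Min Z → ∃ z ∈ Z, z ∈ Subgroup.centralizer (S : Set Ω) ∧ orderOf z = p := by
    intro Z hZ
    have hZn : (Z.subgroupOf S).Normal := (Subgroup.normal_subgroupOf_iff_le_normalizer hZ.1.1).2
      (le_normalizer_of_stronglyClosed hZ.1)
    have hZ0 : Z.subgroupOf S ≠ ⊥ := fun h0 => hZ.2.1 (by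
      rw [← Subgroup.map_subgroupOf_eq_of_le hZ.1.1, h0, Subgroup.map_bot])
    obtain ⟨z, hz, hzc, hzo⟩ := PGroup.exists_orderOf_eq_mem_center hS (Z.subgroupOf S) hZ0
    exact ⟨z, hz, Subgroup.mem_centralizer_iff.2 fun g hg =>
      congrArg Subtype.val (Subgroup.mem_center_iff.1 hzc ⟨g, hg⟩), by
      rw [Subgroup.orderOf_coe, hzo]⟩
  have hne1 : ∀ {z : Ω}, orderOf z = p → z ≠ 1 := fun hz h0 => hp.one_lt.ne' (by
    rw [← hz, h0, orderOf_one])
  have := hfin hX.1.1
  obtain ⟨x, hxX, hxc, hxo⟩ := hcentral X hX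
  obtain ⟨Q₀, hQ₀, hQ₀c, hxQ₀, hQ₀X⟩ : ∃ Q : Subgroup Ω, Q ≤ S ∧ Nat.card Q = p ^ m ∧ x ∈ Q ∧
      Q ≠ X := by
    obtain ⟨g, hg, hgX⟩ : ∃ g ∈ S, g ∉ X := by
      by_contra hall
      push Not at hall
      have hSX : S = X := le_antisymm hall hX.1.1
      rw [← hminc X hX, ← hn, hSX] at hmn
      exact lt_irrefl _ hmn
    set A := Subgroup.closure ({x, g} : Set Ω) with hA
    have hxA : x ∈ A := Subgroup.subset_closure (by simp)
    have hgA : g ∈ A := Subgroup.subset_closure (by simp)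
    have hAS : A ≤ S := (Subgroup.closure_le _).2 (by
      intro y hy
      rcases hy with rfl | rfl
      exacts [hX.1.1 hxX, hg])
    have hAab : IsMulCommutative A := Subgroup.isMulCommutative_closure (by
      intro a ha b hb
      have h' := Subgroup.mem_centralizer_iff.1 hxc g hg
      rcases ha with rfl | rfl <;> rcases hb with rfl | rfl
      exacts [rfl, h'.symm, h', rfl])
    have := hfin hAS
    rcases le_or_gt (Nat.card A) (p ^ m) with hle | hgt
    · obtain ⟨Q, hAQ, hQS, hQc⟩ := exists_subgroup_card hAS hS hle (hn ▸ hmn.le)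
      exact ⟨Q, hQS, hQc, hAQ hxA, fun h0 => hgX (h0 ▸ hAQ hgA)⟩
    · obtain ⟨Q, hxQ, hQA, hQc⟩ := exists_subgroup_card (Subgroup.zpowers_le.2 hxA) (hS.to_le hAS)
        (m := m) (by rw [Nat.card_zpowers, hxo]; exact le_self_pow hp.one_lt.le hm.ne') hgt.le
      refine ⟨Q, hQA.trans hAS, hQc, hxQ (Subgroup.mem_zpowers x), fun h0 =>
        hnab X hX.1 (hminc X hX) ⟨⟨fun a b => Subtype.ext ?_⟩⟩⟩
      exact (congrArg Subtype.val
        (hAab.is_comm.comm ⟨a, hQA (h0.ge a.2)⟩ ⟨b, hQA (h0.ge b.2)⟩) :)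
  obtain ⟨Y, hY, hYX⟩ := hsecond X hX Q₀ hQ₀ hQ₀c
    (fun h0 => hne1 hxo (Subgroup.mem_bot.1 (h0 ▸ (⟨hxQ₀, hxX⟩ : x ∈ Q₀ ⊓ X))))
    fun h0 => hQ₀X (eq_of_le_of_card_le hQ₀ (inf_eq_right.1 h0)
      (hQ₀c.trans_le (hminc X hX).ge)).symm
  -- a subgroup of order `d` meeting both
  have := hfin hY.1.1
  obtain ⟨y, hyY, hyc, hyo⟩ := hcentral Y hY
  have hXY := stronglyClosed_sup hS hF hX.1 hY.1
  have := hfin hXY.1
  set A := Subgroup.zpowers x ⊔ Subgroup.zpowers y with hA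
  have hAXY : A ≤ X ⊔ Y := sup_le ((Subgroup.zpowers_le.2 hxX).trans le_sup_left)
    ((Subgroup.zpowers_le.2 hyY).trans le_sup_right)
  have hAcard : Nat.card A ≤ p ^ m := by
    refine le_trans ?_ hd2
    have hn' : Subgroup.zpowers x ≤ Subgroup.normalizer (Subgroup.zpowers y : Set Ω) :=
      Subgroup.zpowers_le.2 (Subgroup.centralizer_le_normalizer _ (Subgroup.mem_centralizer_iff.2
        fun w hw => ((Subgroup.mem_centralizer_iff.1 hxc w
          (Subgroup.zpowers_le.2 (hY.1.1 hyY) hw)))))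
    have hcoe := Subgroup.coe_mul_of_left_le_normalizer_right _ _ hn'
    calc Nat.card A
        = Nat.card ((A : Subgroup Ω) : Set Ω) := rfl
      _ ≤ Nat.card (Subgroup.zpowers x) * Nat.card (Subgroup.zpowers y) := by
          rw [hA, hcoe]
          exact Set.natCard_mul_le
      _ = p ^ 2 := by rw [Nat.card_zpowers, Nat.card_zpowers, hxo, hyo, pow_two]
  obtain ⟨Q, hAQ, hQXY, hQc⟩ := exists_subgroup_card hAXY (hS.to_le hXY.1) hAcard
    ((hminc X hX).ge.trans (card_le_of_le hXY.1 le_sup_left))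
  have hQS := hQXY.trans hXY.1
  have hyX : y ∉ X := fun h0 => hne1 hyo (Subgroup.mem_bot.1 (hYX ▸ (⟨hyY, h0⟩ : y ∈ Y ⊓ X)))
  have hxY : x ∉ Y := fun h0 => hne1 hxo (Subgroup.mem_bot.1 (hYX ▸ (⟨h0, hxX⟩ : x ∈ Y ⊓ X)))
  have hxQ : x ∈ Q := hAQ (Subgroup.mem_sup_left (Subgroup.mem_zpowers x))
  have hyQ : y ∈ Q := hAQ (Subgroup.mem_sup_right (Subgroup.mem_zpowers y))
  have hQX : Q ⊓ X ≠ X := fun h0 => hyX (by
    rw [eq_of_le_of_card_le hQS (inf_eq_right.1 h0) (hQc.trans_le (hminc X hX).ge)]; exact hyQ)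
  have hQY : Q ⊓ Y ≠ Y := fun h0 => hxY (by
    rw [eq_of_le_of_card_le hQS (inf_eq_right.1 h0) (hQc.trans_le (hminc Y hY).ge)]; exact hxQ)
  have hQX1 : Q ⊓ X ≠ ⊥ := fun h0 =>
    hne1 hxo (Subgroup.mem_bot.1 (h0 ▸ (⟨hxQ, hxX⟩ : x ∈ Q ⊓ X)))
  have hQY1 : Q ⊓ Y ≠ ⊥ := fun h0 =>
    hne1 hyo (Subgroup.mem_bot.1 (h0 ▸ (⟨hyQ, hyY⟩ : y ∈ Q ⊓ Y)))
  obtain ⟨P, hP, hQP, hQP'⟩ := h.supp Q hQS hQc
  have hPX := hdisj X hX Q P hP hQP' hQX1 hQX
  have hPY := hdisj Y hY Q P hP hQP' hQY1 hQY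
  have hPXY : P ⊓ (X ⊔ Y) = ⊥ := by
    by_contra hne'
    obtain ⟨Z, hZ, hZle⟩ := hMin _ (stronglyClosed_inf hP hXY) hne'
    have hcom : ∀ W, Min W → P ⊓ W = ⊥ → W ≤ Subgroup.centralizer (Z : Set Ω) := by
      intro W hW hPW w hw
      refine Subgroup.mem_centralizer_iff.2 fun c hc => ?_
      have hwZ := (Subgroup.mem_normalizer_iff.1
        (le_normalizer_of_stronglyClosed hZ.1 (hW.1.1 hw)) c⁻¹).1 (Z.inv_mem hc)
      have hcW := (Subgroup.mem_normalizer_iff.1
        (le_normalizer_of_stronglyClosed hW.1 (hZ.1.1 hc)) w).1 hw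
      have hmem : c * w * c⁻¹ * w⁻¹ ∈ P ⊓ W := by
        refine ⟨(hZle.trans inf_le_left) ?_, W.mul_mem hcW (W.inv_mem hw)⟩
        have := Z.mul_mem hc hwZ
        simpa [mul_assoc] using this
      rw [hPW, Subgroup.mem_bot, mul_inv_eq_one, mul_inv_eq_iff_eq_mul] at hmem
      exact hmem
    have hle : X ⊔ Y ≤ Subgroup.centralizer (Z : Set Ω) :=
      sup_le (hcom X hX hPX) (hcom Y hY hPY)
    refine hnab Z hZ.1 (hminc Z hZ) ⟨⟨fun a b => Subtype.ext ?_⟩⟩
    exact Subgroup.mem_centralizer_iff.1 (hle ((hZle.trans inf_le_right) b.2)) a a.2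
  have hX' : (Q ⊔ P) ⊓ X = X := hX.2.2 _ (stronglyClosed_inf hQP hX.1) inf_le_right
    fun h0 => hQX1 (le_bot_iff.1 (h0 ▸ inf_le_inf_right X le_sup_left))
  refine hQX (inf_eq_right.2 fun w hw => ?_)
  obtain ⟨q, hq, π, hπ, rfl⟩ := mem_mul_of_sup hQS hP ((inf_eq_right.1 hX') hw)
  have hπ' : π ∈ P ⊓ (X ⊔ Y) := ⟨hπ, by
    have := (X ⊔ Y).mul_mem ((X ⊔ Y).inv_mem (hQXY hq)) (Subgroup.mem_sup_left hw)
    rwa [inv_mul_cancel_left] at this⟩
  rw [hPXY, Subgroup.mem_bot] at hπ'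
  rwa [hπ', mul_one]

/-- A saturated system with the supplement condition for some order strictly between `1` and
`|S|` is of inner type. -/
theorem Supplemented.isInnerType [Finite S] [Fact p.Prime] (hS : IsPGroup p S)
    (hF : F.IsSaturated p) {m : ℕ} (hm : 0 < m) (hmn : p ^ m < Nat.card S)
    (h : Supplemented F p (p ^ m)) : IsInnerType F p :=
  supplemented_isInnerType_aux _ F m rfl hS hF hm hmn h

end Cfsg.Agent.Fusion
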