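import Mathlib
import Cfsg.Agent.Lib.PGroup.Basic

/-!
The upper central series of a finite `p`-group of maximal class.
-/

set_option autoImplicit false

namespace Cfsg.Agent.Fusion

open scoped commutatorElement

open Subgroup (center lowerCentralSeries lowerCentralSeries_eq_bot_iff_upperCentralSeries_eq_top)

variable {G : Type*} [Group G] [Finite G] {p n : ℕ} [hp : Fact p.Prime]

theorem upperCentralSeries_lt_succ (hG : IsPGroup p G) {i : ℕ}
    (h : Subgroup.upperCentralSeries G i ≠ ⊤) :
    Subgroup.upperCentralSeries G i < Subgroup.upperCentralSeries G (i + 1) := by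
  refine lt_of_le_of_ne (Subgroup.upperCentralSeries_mono G (Nat.le_succ i)) fun he => h ?_
  have : Group.IsNilpotent G := hG.isNilpotent
  have hst : ∀ j, Subgroup.upperCentralSeries G (i + j) = Subgroup.upperCentralSeries G i := by
    intro j
    induction j with
    | zero => rfl
    | succ j ih =>
      ext x
      rw [← add_assoc, Subgroup.mem_upperCentralSeries_succ_iff, ih]
      conv_rhs => rw [he, Subgroup.mem_upperCentralSeries_succ_iff]
  obtain ⟨m, hm⟩ := Group.IsNilpotent.nilpotent G
  rw [← hst m]
  exact top_unique (hm ▸ Subgroup.upperCentralSeries_mono G (Nat.le_add_left m i))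

/-- In a group of order `p ^ n` and class `n - 1` the `i`-th centre has order `p ^ i`. -/
theorem card_upperCentralSeries (hG : IsPGroup p G) (hn : Nat.card G = p ^ n) (h3 : 3 ≤ n)
    (hmax : (⊤ : Subgroup G).lowerCentralSeries (n - 2) ≠ ⊥) {i : ℕ} (hi : i ≤ n - 2) :
    Nat.card ↥(Subgroup.upperCentralSeries G i) = p ^ i := by
  have htop : Subgroup.upperCentralSeries G (n - 2) ≠ ⊤ := fun h =>
    hmax (lowerCentralSeries_eq_bot_iff_upperCentralSeries_eq_top.2 h)
  have hne : ∀ j ≤ n - 2, Subgroup.upperCentralSeries G j ≠ ⊤ := fun j hj h =>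
    htop (top_unique (h ▸ Subgroup.upperCentralSeries_mono G hj))
  have hstep : ∀ j, j < n - 2 → p * Nat.card ↥(Subgroup.upperCentralSeries G j) ≤
      Nat.card ↥(Subgroup.upperCentralSeries G (j + 1)) := fun j hj =>
    PGroup.mul_card_le_card hG (upperCentralSeries_lt_succ hG (hne j hj.le))
  have hlow : ∀ j ≤ n - 2, p ^ j ≤ Nat.card ↥(Subgroup.upperCentralSeries G j) := by
    intro j
    induction j with
    | zero => simp
    | succ j ih =>
      intro hj
      calc p ^ (j + 1) = p * p ^ j := by ring
        _ ≤ p * Nat.card ↥(Subgroup.upperCentralSeries G j) := Nat.mul_le_mul_left p (ih (by omega))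
        _ ≤ _ := hstep j (by omega)
  -- the top term has index at least `p ^ 2`
  have hidx : Nat.card ↥(Subgroup.upperCentralSeries G (n - 2)) ≤ p ^ (n - 2) := by
    obtain ⟨a, ha⟩ := PGroup.card_eq_pow hG (Subgroup.upperCentralSeries G (n - 2))
    rw [ha]
    refine Nat.pow_le_pow_right hp.out.pos ?_
    by_contra hlt
    obtain ⟨b, hb⟩ := PGroup.index_eq_pow hG (Subgroup.upperCentralSeries G (n - 2))
    have hab := Subgroup.card_mul_index (Subgroup.upperCentralSeries G (n - 2))
    rw [ha, hb, hn, ← pow_add] at hab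
    have hab' := Nat.pow_right_injective hp.out.two_le hab
    have hb0 : b ≠ 0 := fun h0 => htop (Subgroup.index_eq_one.1 (by rw [hb, h0, pow_zero]))
    have hb1 : b = 1 := by omega
    rw [hb1, pow_one] at hb
    refine htop (eq_top_iff.2 fun x _ => ?_)
    obtain ⟨k, hk⟩ : ∃ k, n - 2 = k + 1 := ⟨n - 3, by omega⟩
    rw [hk] at hb ⊢
    set M := Subgroup.upperCentralSeries G k
    set N := Subgroup.upperCentralSeries G (k + 1)
    have : IsCyclic (G ⧸ N) := isCyclic_of_prime_card (p := p) (by rw [← Subgroup.index_eq_card, hb])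
    let f : G ⧸ M →* G ⧸ N :=
      QuotientGroup.map M N (MonoidHom.id G) (Subgroup.upperCentralSeries_mono G (Nat.le_succ k))
    have hf : f.ker ≤ center (G ⧸ M) := by
      intro q hq
      induction q using QuotientGroup.induction_on with
      | H a =>
        have ha : a ∈ N := (QuotientGroup.eq_one_iff a).1 hq
        rw [Subgroup.mem_center_iff]
        intro r
        induction r using QuotientGroup.induction_on with
        | H b =>
          have h := Subgroup.mem_upperCentralSeries_succ_iff.1 ha b
          rw [← commutatorElement_eq_one_iff_mul_comm, ← commutatorElement_inv]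
          rw [inv_eq_one]
          exact (QuotientGroup.eq_one_iff (N := M) _).2 h
    rw [Subgroup.mem_upperCentralSeries_succ_iff]
    intro y
    refine (QuotientGroup.eq_one_iff (N := M) _).1 ?_
    show ⁅(x : G ⧸ M), (y : G ⧸ M)⁆ = 1
    exact commutatorElement_eq_one_iff_mul_comm.2 (commutative_of_cyclic_center_quotient f hf _ _)
  refine le_antisymm ?_ (hlow i hi)
  have hup : ∀ d ≤ n - 2,
      Nat.card ↥(Subgroup.upperCentralSeries G (n - 2 - d)) * p ^ d ≤ p ^ (n - 2) := by
    intro d
    induction d with
    | zero => intro _; simpa using hidx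
    | succ d ih =>
      intro hd
      refine le_trans ?_ (ih (by omega))
      have h := hstep (n - 2 - (d + 1)) (by omega)
      rw [show n - 2 - (d + 1) + 1 = n - 2 - d by omega] at h
      calc _ = (p * Nat.card ↥(Subgroup.upperCentralSeries G (n - 2 - (d + 1)))) * p ^ d := by ring
        _ ≤ _ := Nat.mul_le_mul_right _ h
  have h := hup (n - 2 - i) (by omega)
  rw [show n - 2 - (n - 2 - i) = i by omega,
    show p ^ (n - 2) = p ^ i * p ^ (n - 2 - i) by rw [← pow_add]; congr 1; omega] at h
  exact Nat.le_of_mul_le_mul_right h (pow_pos hp.out.pos _)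

theorem card_center_of_maxClass (hG : IsPGroup p G) (hn : Nat.card G = p ^ n) (h3 : 3 ≤ n)
    (hmax : (⊤ : Subgroup G).lowerCentralSeries (n - 2) ≠ ⊥) :
    Nat.card ↥(center G) = p := by
  have h := card_upperCentralSeries hG hn h3 hmax (i := 1) (by omega)
  rwa [Subgroup.upperCentralSeries_one, pow_one] at h

end Cfsg.Agent.Fusion
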