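import Cfsg.Agent.Lib.Fusion.AbIndexP.Essential

/-!
A group with a strongly `p`-embedded subgroup acting faithfully on an elementary abelian group of
order `p³` has Sylow `p`-subgroups of order at most `p`, provided a Sylow subgroup fixes a line and a
plane containing it.
-/

set_option autoImplicit false
set_option linter.unusedSectionVars false

namespace Cfsg.Agent.Fusion.TransvectionGroups

open Cfsg Cfsg.Agent.Fusion Cfsg.Agent.Fusion.SmallEss Cfsg.Agent.Fusion.AbIndexP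

variable {E : Type*} [Group E] [Finite E] {p : ℕ} [Fact p.Prime]

/-- `a` fixes `W` pointwise and moves everything along `c ∈ W`. -/
structure IsTv (a : MulAut E) (W : Subgroup E) (c : E) : Prop where
  mem : c ∈ W
  fix : ∀ w ∈ W, a w = w
  shift : ∀ v, v⁻¹ * a v ∈ Subgroup.zpowers c

theorem IsTv.conj {a : MulAut E} {W : Subgroup E} {c : E} (h : IsTv a W c) (g : MulAut E) :
    IsTv (g * a * g⁻¹) (W.map g.toMonoidHom) (g c) := by
  refine ⟨Subgroup.mem_map_of_mem g.toMonoidHom h.mem, ?_, fun v => ?_⟩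
  · rintro _ ⟨w, hw, rfl⟩
    simp [MulAut.mul_apply, h.fix w hw]
  · obtain ⟨i, hi⟩ := Subgroup.mem_zpowers_iff.1 (h.shift (g⁻¹ v))
    refine Subgroup.mem_zpowers_iff.2 ⟨i, ?_⟩
    rw [← map_zpow, hi]
    simp [MulAut.mul_apply]

/-- Two transvections, one of which fixes the centre of the other, lie in a common `p`-group. -/
theorem exists_pGroup (hE : IsPGroup p E) {a b : MulAut E} {Wa Wb : Subgroup E} {ca cb : E}
    (ha : IsTv a Wa ca) (hb : IsTv b Wb cb) (hba : b ca = ca) :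
    ∃ Q : Subgroup (MulAut E), IsPGroup p Q ∧ a ∈ Q ∧ b ∈ Q := by
  classical
  have : Finite (MulAut E) :=
    Finite.of_injective (fun b : MulAut E => (b : E → E)) DFunLike.coe_injective
  let f : ℕ → Subgroup E := fun i => match i with
    | 0 => ⊥
    | 1 => Subgroup.zpowers ca
    | 2 => Subgroup.zpowers ca ⊔ Subgroup.zpowers cb
    | _ => ⊤
  have stab : ∀ x : MulAut E, x = a ∨ x = b → ∀ i < 3, ∀ v ∈ f (i + 1), v⁻¹ * x v ∈ f i := by
    intro x hx i hi v hv
    interval_cases i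
    · obtain ⟨j, rfl⟩ := Subgroup.mem_zpowers_iff.1 hv
      have : x ca = ca := by rcases hx with rfl | rfl; exacts [ha.fix ca ha.mem, hba]
      show _ ∈ (⊥ : Subgroup E)
      rw [Subgroup.mem_bot, map_zpow, this, inv_mul_cancel]
    · rcases hx with hx | hx <;> rw [hx]
      · exact ha.shift v
      · show _ ∈ Subgroup.zpowers ca
        have hle : f 2 ≤ b.toMonoidHom.eqLocus (MonoidHom.id E) := by
          show Subgroup.zpowers ca ⊔ Subgroup.zpowers cb ≤ _
          exact sup_le (Subgroup.zpowers_le.2 hba) (Subgroup.zpowers_le.2 (hb.fix cb hb.mem))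
        rw [show b v = v from hle hv, inv_mul_cancel]
        exact one_mem _
    · rcases hx with rfl | rfl
      · exact Subgroup.mem_sup_left (ha.shift v)
      · exact Subgroup.mem_sup_right (hb.shift v)
  have hmono : ∀ i < 3, f i ≤ f (i + 1) := by
    intro i hi
    interval_cases i
    · exact bot_le
    · exact le_sup_left
    · exact le_top
  have hpres : ∀ x : MulAut E, x = a ∨ x = b → ∀ i ≤ 3, ∀ v ∈ f i, x v ∈ f i := by
    intro x hx i hi v hv
    match i with
    | 0 => rw [show v = 1 from Subgroup.mem_bot.1 hv, map_one]; exact one_mem _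
    | j + 1 =>
      have := hmono j (by omega) (stab x hx j (by omega) v hv)
      simpa using (f (j + 1)).mul_mem hv this
  let B : Subgroup (MulAut E) := Subgroup.closure {a, b}
  have hinv : ∀ i ≤ 3, ∀ x ∈ B, ∀ v ∈ f i, x v ∈ f i := by
    intro i hi x hx
    rw [← Subgroup.mem_toSubmonoid, Subgroup.closure_toSubmonoid_of_finite] at hx
    induction hx using Submonoid.closure_induction with
    | mem x hx => exact hpres x (by simpa using hx) i hi
    | one => exact fun v hv => hv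
    | mul x y _ _ hx hy => exact fun v hv => hx _ (hy v hv)
  exact ⟨chainStab B f 3 hinv, isPGroup_chainStab hE B f 3 rfl rfl hinv,
    ⟨Subgroup.subset_closure (Or.inl rfl), stab a (Or.inl rfl)⟩,
    ⟨Subgroup.subset_closure (Or.inr rfl), stab b (Or.inr rfl)⟩⟩

/-- An automorphism of `p`-power order fixing a subgroup of index `p` is a transvection. -/
theorem exists_isTv (hcomm : ∀ u v : E, u * v = v * u) {a : MulAut E} {k : ℕ} (hk : a ^ p ^ k = 1)
    {W : Subgroup E} (hW : Nat.card E ≤ p * Nat.card W) (hfix : ∀ w ∈ W, a w = w)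
    {v₀ : E} (hgen : Subgroup.zpowers v₀ ⊔ W = ⊤) : IsTv a W (v₀⁻¹ * a v₀) := by
  have hmem : ∀ v, v⁻¹ * a v ∈ W := fun v =>
    apply_inv_mul_mem le_top (by rwa [Subgroup.card_top]) hk (fun w hw => (hfix w hw).symm ▸ hw)
      (fun _ _ => Subgroup.mem_top _) (Subgroup.mem_top v)
  have : W.Normal := ⟨fun w hw g => by rwa [hcomm g w, mul_inv_cancel_right]⟩
  refine ⟨hmem v₀, hfix, fun v => ?_⟩
  obtain ⟨u, hu, w, hw, rfl⟩ :=
    Subgroup.mem_sup_of_normal_right.1 (hgen.ge (Subgroup.mem_top v))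
  obtain ⟨i, rfl⟩ := Subgroup.mem_zpowers_iff.1 hu
  refine Subgroup.mem_zpowers_iff.2 ⟨i, ?_⟩
  rw [map_mul, map_zpow, hfix w hw, (show Commute v₀⁻¹ (a v₀) from hcomm _ _).mul_zpow, inv_zpow,
    hcomm (a v₀ ^ i) w, mul_inv_rev, mul_assoc, hcomm w (a v₀ ^ i)]
  rw [show w⁻¹ * ((v₀ ^ i)⁻¹ * (a v₀ ^ i * w)) = w⁻¹ * ((v₀ ^ i)⁻¹ * a v₀ ^ i) * w by group,
    hcomm w⁻¹, inv_mul_cancel_right]

/-- The main statement. -/
theorem card_le_of_stronglyEmbedded {X : Type*} [Group X] [Finite X] (ι : X →* MulAut E)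
    (hι : Function.Injective ι) (hcomm : ∀ u v : E, u * v = v * u) (hexp : ∀ v : E, v ^ p = 1)
    (hcard : Nat.card E = p ^ 3) (P : Sylow p X) {Y : Subgroup X}
    (hY : kGeneratedCore p 1 (P : Subgroup X) ≤ Y) (hne : Y ≠ ⊤) {W : Subgroup E}
    (hW : Nat.card W = p ^ 2) {z : E} (hz : z ∈ W) (hz1 : z ≠ 1)
    (hfixz : ∀ x ∈ (P : Subgroup X), ι x z = z)
    (hPW : ∀ x ∈ (P : Subgroup X), ∀ w ∈ W, ι x w ∈ W) : Nat.card (P : Subgroup X) ≤ p := by
  classical
  have hp := (Fact.out : p.Prime)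
  by_contra hlt
  have hP2 : p ^ 2 ≤ Nat.card (P : Subgroup X) := by
    obtain ⟨m, hm⟩ := IsPGroup.iff_card.1 P.2
    rw [hm] at hlt ⊢
    refine Nat.pow_le_pow_right hp.pos ?_
    by_contra h
    exact hlt ((Nat.pow_le_pow_right hp.pos (show m ≤ 1 by omega)).trans (pow_one p).le)
  have hE : IsPGroup p E := IsPGroup.of_card hcard
  have hnorm : ∀ H : Subgroup E, H.Normal :=
    fun H => ⟨fun w hw g => by rwa [hcomm g w, mul_inv_cancel_right]⟩
  have hppow : ∀ x ∈ (P : Subgroup X), ∃ k : ℕ, ι x ^ p ^ k = 1 := fun x hx => by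
    obtain ⟨k, hk⟩ := P.2 ⟨x, hx⟩
    exact ⟨k, by rw [← map_pow, show x ^ p ^ k = 1 from congrArg Subtype.val hk, map_one]⟩
  have hzcard : Nat.card (Subgroup.zpowers z) = p := by
    rw [Nat.card_zpowers, orderOf_eq_prime (hexp z) hz1]
  have hzW : Subgroup.zpowers z ≤ W := Subgroup.zpowers_le.2 hz
  obtain ⟨w₀, hw₀, hw₀'⟩ : ∃ w ∈ W, w ∉ Subgroup.zpowers z := by
    refine SetLike.not_le_iff_exists.1 fun h => ?_
    have := Subgroup.card_le_of_le h
    rw [hW, hzcard, sq] at this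
    have := hp.two_le
    nlinarith
  have hWgen : Subgroup.zpowers w₀ ⊔ Subgroup.zpowers z = W := by
    refine Subgroup.eq_of_le_of_card_ge (sup_le (Subgroup.zpowers_le.2 hw₀) hzW) ?_
    have := PGroup.mul_card_le_card hE (H := Subgroup.zpowers z)
      (K := Subgroup.zpowers w₀ ⊔ Subgroup.zpowers z)
      (right_lt_sup.2 fun h => hw₀' (h (Subgroup.mem_zpowers _)))
    rwa [hzcard, ← sq, ← hW] at this
  -- an element of `P` fixing `W` pointwise
  obtain ⟨t, htP, ht1, htW⟩ : ∃ t ∈ (P : Subgroup X), t ≠ 1 ∧ ∀ w ∈ W, ι t w = w := by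
    have hL : ∀ x ∈ (P : Subgroup X), w₀⁻¹ * ι x w₀ ∈ Subgroup.zpowers z := fun x hx => by
      obtain ⟨k, hk⟩ := hppow x hx
      refine apply_inv_mul_mem hzW (by rw [hW, hzcard, sq]) hk ?_ (hPW x hx) hw₀
      intro v hv
      obtain ⟨j, rfl⟩ := Subgroup.mem_zpowers_iff.1 hv
      rw [map_zpow, hfixz x hx]
      exact zpow_mem (Subgroup.mem_zpowers z) j
    obtain ⟨α, β, hne', heq⟩ : ∃ α β : (P : Subgroup X), α ≠ β ∧
        ι α w₀ = ι β w₀ := by
      by_contra hcon
      push Not at hcon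
      have := Nat.card_le_card_of_injective
        (fun x : (P : Subgroup X) => (⟨_, hL x x.2⟩ : Subgroup.zpowers z)) (fun α β h => by
          by_contra hab
          exact hcon α β hab (mul_left_cancel (congrArg Subtype.val h)))
      rw [hzcard] at this
      exact hlt this
    refine ⟨(β : X)⁻¹ * α, mul_mem (inv_mem β.2) α.2, fun h => hne' (Subtype.ext
      (inv_mul_eq_one.1 h).symm), ?_⟩
    have hle : W ≤ (ι ((β : X)⁻¹ * α)).toMonoidHom.eqLocus (MonoidHom.id E) := by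
      rw [← hWgen]
      refine sup_le (Subgroup.zpowers_le.2 ?_) (Subgroup.zpowers_le.2 ?_)
      · show ι ((β : X)⁻¹ * α) w₀ = w₀
        rw [map_mul, MulAut.mul_apply, heq, map_inv, MulAut.inv_apply_self]
      · exact hfixz _ (mul_mem (inv_mem β.2) α.2)
    exact fun w hw => hle hw
  -- the centre of `t`
  have hWtop : W ≠ ⊤ := fun h => by
    rw [h, Subgroup.card_top, hcard] at hW
    exact absurd (Nat.pow_right_injective hp.two_le hW) (by omega)
  have hindexW : ∀ H : Subgroup E, p ^ 2 ≤ Nat.card H → Nat.card E ≤ p * Nat.card H := fun H h => by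
    rw [hcard, pow_succ']
    exact Nat.mul_le_mul_left p h
  have htv : ∀ x ∈ (P : Subgroup X), x ≠ 1 → ∀ H : Subgroup E, p ^ 2 ≤ Nat.card H →
      (∀ w ∈ H, ι x w = w) → ∃ c, IsTv (ι x) H c := by
    intro x hx hx1 H hH hfix
    obtain ⟨k, hk⟩ := hppow x hx
    obtain ⟨v₀, -, hv₀⟩ : ∃ v ∈ (⊤ : Subgroup E), v ∉ H := by
      refine SetLike.not_le_iff_exists.1 fun h => hx1 (hι ?_)
      rw [map_one]
      exact MulEquiv.ext fun v => hfix v (h (Subgroup.mem_top v))
    refine ⟨_, exists_isTv hcomm hk (hindexW H hH) hfix (v₀ := v₀) ?_⟩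
    refine Subgroup.eq_top_of_card_eq _ (le_antisymm (Subgroup.card_le_card_group _) ?_)
    exact (hindexW H hH).trans (PGroup.mul_card_le_card hE
      (right_lt_sup.2 fun h => hv₀ (h (Subgroup.mem_zpowers _))))
  obtain ⟨c, hc⟩ := htv t htP ht1 W hW.ge htW
  -- separation of Sylow subgroups
  obtain ⟨g, -, hg⟩ : ∃ g ∈ (⊤ : Subgroup X), g ∉ Y :=
    SetLike.not_le_iff_exists.1 fun h => hne (top_le_iff.1 h)
  have key : ∀ s ∈ (P : Subgroup X), s ≠ 1 → ∀ x : X, ∀ Q : Subgroup (MulAut E), IsPGroup p Q →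
      ι s ∈ Q → ι (x * t * x⁻¹) ∈ Q → x ∈ Y := by
    intro s hs hs1 x Q hQ hsQ hxQ
    obtain ⟨R, hR⟩ := (hQ.comap_of_injective ι hι).exists_le_sylow
    obtain ⟨y, hy⟩ := MulAction.exists_smul_eq X R P
    have hmem : ∀ q ∈ Q.comap ι, y * q * y⁻¹ ∈ (P : Subgroup X) := fun q hq => by
      rw [← hy, Sylow.coe_subgroup_smul]
      exact Subgroup.smul_mem_pointwise_smul _ (MulAut.conj y) _ (hR hq)
    have h1 := mem_of_kGeneratedCore_le hY hs hs1 (hmem s hsQ)
    have h2 : (y * x) * t * (y * x)⁻¹ ∈ (P : Subgroup X) := by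
      simpa [mul_assoc] using hmem _ hxQ
    simpa using Y.mul_mem (Y.inv_mem h1) (mem_of_kGeneratedCore_le hY htP ht1 h2)
  set t' := g * t * g⁻¹ with ht'
  have hc' : IsTv (ι t') (W.map (ι g).toMonoidHom) (ι g c) := by
    rw [ht', map_mul, map_mul, map_inv]
    exact hc.conj (ι g)
  set v := ι g c with hv
  have hvW : v ∉ W := fun h => by
    obtain ⟨Q, hQ, h1, h2⟩ := exists_pGroup hE hc' hc (htW v h)
    exact hg (key t htP ht1 g Q hQ h2 h1)
  -- `P` is regular on the coset of `v`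
  have hstab : ∀ x ∈ (P : Subgroup X), ι x v = v → x = 1 := by
    intro x hx hxv
    by_contra hx1
    have hH : p ^ 2 ≤ Nat.card ↥((ι x).toMonoidHom.eqLocus (MonoidHom.id E)) := by
      have hlt' : Subgroup.zpowers z < (ι x).toMonoidHom.eqLocus (MonoidHom.id E) :=
        SetLike.lt_iff_le_and_exists.2 ⟨Subgroup.zpowers_le.2 (hfixz x hx), v, hxv,
          fun h => hvW (hzW h)⟩
      have := PGroup.mul_card_le_card hE hlt'
      rwa [hzcard, ← sq] at this
    obtain ⟨d, hd⟩ := htv x hx hx1 _ hH (fun w hw => hw)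
    obtain ⟨Q, hQ, h1, h2⟩ := exists_pGroup hE hc' hd hxv
    exact hg (key x hx hx1 g Q hQ h2 h1)
  let o : ↥(P : Subgroup X) → ↥W := fun x => ⟨v⁻¹ * ι x v, by
    obtain ⟨k, hk⟩ := hppow x x.2
    exact apply_inv_mul_mem le_top (by rw [Subgroup.card_top]; exact hindexW W hW.ge) hk
      (hPW x x.2) (fun _ _ => Subgroup.mem_top _) (Subgroup.mem_top v)⟩
  have ho : Function.Bijective o := by
    refine Function.Injective.bijective_of_nat_card_le (fun α β h => ?_) (hW.le.trans hP2)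
    have h' := mul_left_cancel (congrArg Subtype.val h)
    have := hstab ((β : X)⁻¹ * α) (mul_mem (inv_mem β.2) α.2) (by
      rw [map_mul, MulAut.mul_apply, h', map_inv, MulAut.inv_apply_self])
    exact Subtype.ext (inv_mul_eq_one.1 this).symm
  obtain ⟨m, hm, hm1⟩ : ∃ m ∈ W ⊓ W.map (ι g).toMonoidHom, m ≠ 1 := by
    refine Subgroup.bot_or_exists_ne_one _ |>.resolve_left fun h => ?_
    have h1 := Subgroup.index_inf_le (H := W) (K := W.map (ι g).toMonoidHom)
    have hWg : Nat.card (W.map (ι g).toMonoidHom) = p ^ 2 :=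
      (Subgroup.card_map_of_injective (ι g).injective).trans hW
    have hiW := Subgroup.card_mul_index W
    have hiWg := Subgroup.card_mul_index (W.map (ι g).toMonoidHom)
    rw [hW, hcard] at hiW
    rw [hWg, hcard] at hiWg
    have e1 : W.index = p := Nat.eq_of_mul_eq_mul_left (pow_pos hp.pos 2) (hiW.trans (pow_succ p 2))
    have e2 : (W.map (ι g).toMonoidHom).index = p :=
      Nat.eq_of_mul_eq_mul_left (pow_pos hp.pos 2) (hiWg.trans (pow_succ p 2))
    rw [h, Subgroup.index_bot, hcard, e1, e2] at h1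
    have := hp.two_le
    nlinarith
  obtain ⟨x, hx⟩ := ho.2 ⟨m, hm.1⟩
  have hxv : ι x v = v * m := by
    rw [← show v⁻¹ * ι x v = m from congrArg Subtype.val hx, mul_inv_cancel_left]
  have hx1 : (x : X) ≠ 1 := fun h => hm1 (by
    rw [h, map_one, MulAut.one_apply] at hxv
    exact (mul_eq_left.1 hxv.symm))
  have hfixv : ι t' (ι x v) = ι x v := by
    rw [hxv, map_mul, hc'.fix v hc'.mem, hc'.fix m hm.2]
  obtain ⟨Q, hQ, h1, h2⟩ := exists_pGroup hE (hc'.conj (ι x)) hc' hfixv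
  -- move `Q` back
  have hconj : ∀ q ∈ Q, ι g⁻¹ * q * ι g ∈ Q.map (MulAut.conj (ι g⁻¹)).toMonoidHom :=
    fun q hq => ⟨q, hq, by simp [map_inv]⟩
  have h2' : ι t ∈ Q.map (MulAut.conj (ι g⁻¹)).toMonoidHom := by
    have h := hconj _ h2
    rwa [← map_mul, ← map_mul, show g⁻¹ * t' * g = t by rw [ht']; group] at h
  have h1' : ι (g⁻¹ * x * g * t * (g⁻¹ * x * g)⁻¹) ∈ Q.map (MulAut.conj (ι g⁻¹)).toMonoidHom := by
    have h := hconj _ h1
    rw [← map_inv ι, ← map_mul, ← map_mul, ← map_mul, ← map_mul] at h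
    convert h using 2
    rw [ht']; group
  have hxY := key t htP ht1 (g⁻¹ * x * g) _ (hQ.map _) h2' h1'
  -- a `p`-element of `Y` conjugate into `P`
  have hPY : (P : Subgroup X) ≤ Y :=
    (Subgroup.le_normalizer.trans (normalizer_le_kGeneratedCore P.2 le_rfl fun h => ht1
      (Subgroup.mem_bot.1 (h ▸ htP)))).trans hY
  have hcy : IsPGroup p ((Subgroup.zpowers (g⁻¹ * x * g)).subgroupOf Y) := by
    refine IsPGroup.of_equiv ?_ (Subgroup.subgroupOfEquivOfLe (Subgroup.zpowers_le.2 hxY)).symm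
    refine (P.2.map (MulAut.conj g⁻¹).toMonoidHom).to_le ?_
    exact Subgroup.zpowers_le.2 ⟨x, x.2, by simp⟩
  obtain ⟨T, hT⟩ := hcy.exists_le_sylow
  obtain ⟨y, hy⟩ := MulAction.exists_smul_eq Y T (P.subtype hPY)
  have h3 : (y : X) * (g⁻¹ * x * g) * (y : X)⁻¹ ∈ (P : Subgroup X) := by
    have h1 : y * ⟨g⁻¹ * x * g, hxY⟩ * y⁻¹ ∈ ((P.subtype hPY : Sylow p Y) : Subgroup Y) := by
      rw [← hy, Sylow.coe_subgroup_smul]
      exact Subgroup.smul_mem_pointwise_smul _ (MulAut.conj y) _ (hT (Subgroup.mem_zpowers _))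
    exact h1
  have h4 : ((y : X) * g⁻¹) * x * ((y : X) * g⁻¹)⁻¹ ∈ (P : Subgroup X) := by
    simpa [mul_assoc] using h3
  have := Y.mul_mem (Y.inv_mem y.2) (mem_of_kGeneratedCore_le hY x.2 hx1 h4)
  rw [inv_mul_cancel_left] at this
  exact hg (inv_mem_iff.1 this)

end Cfsg.Agent.Fusion.TransvectionGroups
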