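import Cfsg.Agent.Lib.Fusion.InternalAut
import Cfsg.Agent.Lib.Fusion.TransvectionPair
import Cfsg.Agent.Lib.Fusion.TransvectionGroups
import Cfsg.Agent.Lib.MaxClass.SmallSelfCentralizing

/-!
A saturated fusion system on a `p`-group of maximal class of order at least `p⁵`, `p ≥ 5`, has no
elementary abelian essential subgroup of order `p³`.
-/

set_option autoImplicit false
set_option linter.unusedSectionVars false

namespace Cfsg.Agent.Fusion.MaxClassRankThree

open Cfsg Cfsg.FusionSystem Cfsg.Agent.Fusion Cfsg.Agent.Fusion.Internal Cfsg.Agent.MaxClass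
open Cfsg.Agent.Pearl (lcs_succ_mem lcs_comm_mem)
open scoped commutatorElement

/-! ### Commutators with nearly central values -/

section Calculus

variable {G : Type*} [Group G]

theorem comm_zpow_right {x y : G} (hy : Commute ⁅x, y⁆ y) (b : ℤ) : ⁅x, y ^ b⁆ = ⁅x, y⁆ ^ b := by
  have h1 : x * y * x⁻¹ = ⁅x, y⁆ * y := by simp only [commutatorElement_def]; group
  rw [commutatorElement_def, ← conj_zpow, h1, hy.mul_zpow, mul_assoc, mul_inv_cancel, mul_one]

theorem comm_zpow {x y : G} (hx : Commute ⁅x, y⁆ x) (hy : Commute ⁅x, y⁆ y) (a b : ℤ) :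
    ⁅x ^ a, y ^ b⁆ = ⁅x, y⁆ ^ (a * b) := by
  have hc : ⁅y ^ b, x⁆ = ⁅x, y⁆ ^ (-b) := by
    rw [← commutatorElement_inv, comm_zpow_right hy, zpow_neg]
  have h2 := comm_zpow_right (x := y ^ b) (y := x) (hc ▸ hx.zpow_left (-b)) a
  rw [← commutatorElement_inv, h2, hc, ← zpow_mul, ← zpow_neg]
  congr 1
  ring

theorem comm_congr {x y m l : G} {a b : ℤ} (hx : Commute ⁅x, y⁆ x) (hy : Commute ⁅x, y⁆ y)
    (hm : Commute m y) (hl : Commute l x) (hml : Commute m l) :
    ⁅x ^ a * m, y ^ b * l⁆ = ⁅x, y⁆ ^ (a * b) := by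
  have h1 : Commute m (y ^ b * l) := (hm.zpow_right b).mul_right hml
  have e1 : ⁅x ^ a * m, y ^ b * l⁆ = ⁅x ^ a, y ^ b * l⁆ := by
    calc ⁅x ^ a * m, y ^ b * l⁆ = x ^ a * ⁅m, y ^ b * l⁆ * (x ^ a)⁻¹ * ⁅x ^ a, y ^ b * l⁆ := by
          simp only [commutatorElement_def]; group
      _ = _ := by rw [commutatorElement_eq_one_iff_mul_comm.mpr h1.eq, mul_one, mul_inv_cancel, one_mul]
  have e2 : ⁅x ^ a, y ^ b * l⁆ = ⁅x ^ a, y ^ b⁆ := by
    calc ⁅x ^ a, y ^ b * l⁆ = ⁅x ^ a, y ^ b⁆ * (y ^ b * ⁅x ^ a, l⁆ * (y ^ b)⁻¹) := by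
          simp only [commutatorElement_def]; group
      _ = _ := by
        rw [commutatorElement_eq_one_iff_mul_comm.mpr (hl.zpow_right a).symm.eq, mul_one, mul_inv_cancel,
          mul_one]
  rw [e1, e2, comm_zpow hx hy]

theorem dvd_sub_of_eq {p : ℕ} [Fact p.Prime] {q : G} (hq : q ^ p = 1) (hq1 : q ≠ 1) {a b : ℤ}
    (h : q ^ a = q ^ b) : (p : ℤ) ∣ a - b := by
  rw [← orderOf_eq_prime hq hq1, orderOf_dvd_iff_zpow_eq_one, zpow_sub, h, mul_inv_cancel]

theorem zpow_eq_zpow_of_dvd {p : ℕ} {q : G} (hq : q ^ p = 1) {a b : ℤ} (h : (p : ℤ) ∣ a - b) :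
    q ^ a = q ^ b := by
  obtain ⟨c, hc⟩ := h
  rw [show a = b + (p : ℤ) * c by omega, zpow_add, zpow_mul, zpow_natCast, hq, one_zpow, mul_one]

theorem not_dvd_two {p : ℕ} (hp5 : 5 ≤ p) : ¬ (p : ℤ) ∣ 2 := fun h => by
  have := Int.le_of_dvd two_pos h
  omega

theorem commute_mk' {N : Subgroup G} [N.Normal] {a b : G} (h : ⁅a, b⁆ ∈ N) :
    Commute (QuotientGroup.mk' N a) (QuotientGroup.mk' N b) := by
  refine commutatorElement_eq_one_iff_mul_comm.mp ?_
  rw [← map_commutatorElement]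
  exact (QuotientGroup.eq_one_iff _).mpr h

theorem mk'_eq_one {N : Subgroup G} [N.Normal] {a : G} (h : a ∈ N) : QuotientGroup.mk' N a = 1 :=
  (QuotientGroup.eq_one_iff _).mpr h

theorem zpow_eq_of_odd_order {p : ℕ} (hp2 : p ≠ 2) [Fact p.Prime] {q : G} (hq : q ^ p = 1)
    (h : q = q⁻¹) : q = 1 := by
  have h2 : q ^ 2 = 1 := by
    rw [pow_two]
    nth_rewrite 1 [h]
    exact inv_mul_cancel q
  have hco : Nat.gcd 2 p = 1 :=
    (Nat.coprime_primes Nat.prime_two Fact.out).mpr (Ne.symm hp2)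
  have := pow_gcd_eq_one.mpr ⟨h2, hq⟩
  rwa [hco, pow_one] at this

end Calculus

/-! ### Evaluation of internal automorphisms -/

section Eval

variable {G : Type*} [Group G] {K : Subgroup G}

open Classical in
/-- An automorphism of `K` as a map of `G`. -/
noncomputable def ev (β : MulAut ↥K) (x : G) : G :=
  if h : x ∈ K then (β ⟨x, h⟩ : G) else x

theorem ev_apply (β : MulAut ↥K) {x : G} (h : x ∈ K) : ev β x = β ⟨x, h⟩ := dif_pos h

theorem ev_mem (β : MulAut ↥K) {x : G} (h : x ∈ K) : ev β x ∈ K := by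
  rw [ev_apply β h]; exact (β _).2

theorem ev_mul (β : MulAut ↥K) {x y : G} (hx : x ∈ K) (hy : y ∈ K) :
    ev β (x * y) = ev β x * ev β y := by
  rw [ev_apply β hx, ev_apply β hy, ev_apply β (mul_mem hx hy), ← Subgroup.coe_mul, ← map_mul]
  rfl

theorem ev_inv (β : MulAut ↥K) {x : G} (hx : x ∈ K) : ev β x⁻¹ = (ev β x)⁻¹ := by
  rw [ev_apply β hx, ev_apply β (inv_mem hx), ← Subgroup.coe_inv, ← map_inv]
  rfl

theorem ev_zpow (β : MulAut ↥K) {x : G} (hx : x ∈ K) (i : ℤ) : ev β (x ^ i) = ev β x ^ i := by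
  rw [ev_apply β hx, ev_apply β (zpow_mem hx i), ← Subgroup.coe_zpow, ← map_zpow]
  rfl

theorem ev_comm (β : MulAut ↥K) {x y : G} (hx : x ∈ K) (hy : y ∈ K) :
    ev β ⁅x, y⁆ = ⁅ev β x, ev β y⁆ := by
  simp only [commutatorElement_def]
  rw [ev_mul β (mul_mem (mul_mem hx hy) (inv_mem hx)) (inv_mem hy),
    ev_mul β (mul_mem hx hy) (inv_mem hx), ev_mul β hx hy, ev_inv β hx, ev_inv β hy]

theorem ev_injective (β : MulAut ↥K) {x y : G} (hx : x ∈ K) (hy : y ∈ K) (h : ev β x = ev β y) :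
    x = y := by
  rw [ev_apply β hx, ev_apply β hy] at h
  exact congrArg Subtype.val (β.injective (Subtype.ext h))

theorem ev_pow (β : MulAut ↥K) {x : G} (hx : x ∈ K) (i : ℕ) : ev (β ^ i) x = (ev β)^[i] x := by
  induction i with
  | zero => rw [ev_apply _ hx]; rfl
  | succ i ih =>
    rw [Function.iterate_succ_apply', ← ih, ev_apply _ hx, ev_apply _ hx, pow_succ', MulAut.mul_apply,
      ev_apply β ((β ^ i) ⟨x, hx⟩).2]

theorem exists_ev_eq [Finite G] (β : MulAut ↥K) {H : Subgroup G} (hHK : H ≤ K)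
    (hinv : ∀ x ∈ H, ev β x ∈ H) {y : G} (hy : y ∈ H) : ∃ x ∈ H, ev β x = y := by
  have hb : Function.Bijective (fun x : H => (⟨ev β x, hinv x x.2⟩ : H)) :=
    Function.Injective.bijective_of_nat_card_le
      (fun a b h => Subtype.ext (ev_injective β (hHK a.2) (hHK b.2) (congrArg Subtype.val h))) le_rfl
  obtain ⟨x, hx⟩ := hb.2 ⟨y, hy⟩
  exact ⟨x, x.2, congrArg Subtype.val hx⟩

theorem ev_of_agree {L : Subgroup G} (hKL : K ≤ L) {β : MulAut ↥K} {γ' : MulAut ↥L}
    (h : ∀ (x : ↥K) (hx : (x : G) ∈ L), (γ' ⟨x, hx⟩ : G) = β x) {x : G} (hx : x ∈ K) :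
    ev γ' x = ev β x := by
  rw [ev_apply γ' (hKL hx), ev_apply β hx]
  exact h ⟨x, hx⟩ (hKL hx)

end Eval

/-! ### The setting -/

variable {Ω : Type*} [Group Ω] {S : Subgroup Ω}

set_option quotPrecheck false
local notation "γ" => Subgroup.lowerCentralSeries (⊤ : Subgroup ↥S)

/-- An elementary abelian essential subgroup of order `p³`, with its normalizer of order `p⁴`. -/
structure Ctx (p n : ℕ) (F : FusionSystem S) (E₀ : Subgroup ↥S) : Prop where
  hS : IsPGroup p S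
  hF : F.IsSaturated p
  hp5 : 5 ≤ p
  h5 : 5 ≤ n
  card : Nat.card ↥S = p ^ n
  cls : (⊤ : Subgroup ↥S).lowerCentralSeries (n - 2) ≠ ⊥
  ess : F.IsEssential p (up E₀)
  self : SelfCent p E₀
  norm : Nat.card (Subgroup.normalizer (E₀ : Set ↥S)) = p ^ 4

variable [Finite S] {p n : ℕ} [Fact p.Prime] {F : FusionSystem S} {E₀ : Subgroup ↥S} {e : ↥S}

theorem card_normalizerIn_up (K : Subgroup ↥S) :
    Nat.card (normalizerIn S (up K)) = Nat.card (Subgroup.normalizer (K : Set ↥S)) := by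
  rw [normalizerIn_up, card_up]

namespace Ctx

theorem p_ne_two (hc : Ctx p n F E₀) : p ≠ 2 := by have := hc.hp5; omega

theorem three_le (hc : Ctx p n F E₀) : 3 ≤ n := by have := hc.h5; omega

theorem pow_lcs (hc : Ctx p n F E₀) {i : ℕ} (hi : 1 ≤ i) {w : ↥S} (hw : w ∈ γ i) :
    w ^ p ∈ γ (i + 1) := by
  rcases Nat.lt_or_ge i (n - 1) with hlt | hge
  · let π := QuotientGroup.mk' (γ (i + 1))
    have h1 : Nat.card ((γ i).map π) = (γ (i + 1)).relIndex (γ i) := by
      rw [← Subgroup.relIndex_ker, QuotientGroup.ker_mk']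
    have h2 := Subgroup.relIndex_mul_relIndex ⊥ (γ (i + 1)) (γ i) bot_le (lcs_le (Nat.le_succ i))
    rw [Subgroup.relIndex_bot_left, Subgroup.relIndex_bot_left,
      Pearl.card_lcs hc.three_le hc.card hc.cls (by omega), Pearl.card_lcs hc.three_le hc.card hc.cls hi,
      show n - 1 - i = n - 1 - (i + 1) + 1 by omega, pow_succ] at h2
    have hcard : Nat.card ((γ i).map π) = p := by
      rw [h1]
      exact Nat.eq_of_mul_eq_mul_left (pow_pos (Fact.out : p.Prime).pos _) h2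
    have h3 := congrArg Subtype.val
      (pow_card_eq_one' (x := (⟨π w, Subgroup.mem_map_of_mem π hw⟩ : (γ i).map π)))
    rw [hcard] at h3
    refine (QuotientGroup.eq_one_iff _).mp ?_
    have h4 : π w ^ p = 1 := h3
    rw [← map_pow] at h4
    exact h4
  · rw [Pearl.lcs_high hc.three_le hc.card hge, Subgroup.mem_bot] at hw
    rw [hw, one_pow]
    exact one_mem _

theorem exists_shape_conj (hc : Ctx p n F E₀) {E' : Subgroup ↥S} (h : F.IsConj (up E₀) (up E'))
    (hN : p ^ 4 ≤ Nat.card (Subgroup.normalizer (E' : Set ↥S))) : ∃ e', Shape p n E' e' := by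
  have hle := hc.ess.2.1.2 _ h
  rw [card_normalizerIn_up, card_normalizerIn_up, hc.norm] at hle
  obtain ⟨φ, hφ, hr⟩ := h
  have hmem : ∀ a ∈ E', ∃ b : ↥(up E₀), φ b = a := fun a ha => hr.ge (coe_mem_up.2 ha)
  refine SelfCent.exists_shape hc.card hc.cls hc.h5 ⟨?_, ?_, ?_, ?_⟩ (le_antisymm hle hN)
  · rw [← card_up E', isConj_card ⟨φ, hφ, hr⟩, card_up, hc.self.card]
  · intro a ha b hb
    obtain ⟨a', ha'⟩ := hmem a ha
    obtain ⟨b', hb'⟩ := hmem b hb
    refine Subtype.ext ?_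
    show (a : Ω) * b = b * a
    rw [← ha', ← hb', ← map_mul, ← map_mul]
    refine congrArg φ (Subtype.ext ?_)
    exact (congrArg Subtype.val (hc.self.comm _ (mk_mem a'.2) _ (mk_mem b'.2)) :)
  · intro a ha
    obtain ⟨a', ha'⟩ := hmem a ha
    refine Subtype.ext ?_
    show (a : Ω) ^ p = 1
    have h0 : a' ^ p = 1 := by
      refine Subtype.ext ?_
      exact (congrArg Subtype.val (hc.self.pow _ (mk_mem a'.2)) :)
    rw [← ha', ← map_pow, h0, map_one]
  · intro g hg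
    refine coe_mem_up.1 (hc.ess.1.2 _ ⟨φ, hφ, hr⟩ ?_)
    rw [centralizerIn_up]
    exact coe_mem_up.2 hg

theorem card_normalizer_sup (hc : Ctx p n F E₀) {E' : Subgroup ↥S} {e' : ↥S} (hs : Shape p n E' e')
    {j : ℕ} (hj : 1 ≤ j) (hjn : j ≤ n - 4) :
    Nat.card (Subgroup.normalizer ((E' ⊔ γ j : Subgroup ↥S) : Set ↥S)) = p ^ (n - j + 1) := by
  obtain ⟨i, rfl⟩ : ∃ i, j = i + 1 := ⟨j - 1, by omega⟩
  rw [hs.normalizer_sup hc.card hc.cls hc.h5 hjn]
  rcases Nat.eq_zero_or_pos i with rfl | hi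
  · rw [Subgroup.lowerCentralSeries_zero, sup_top_eq, Subgroup.card_top, hc.card]
    congr 1
    have := hc.h5; omega
  · rw [hs.card_sup hc.card hc.cls hc.h5 hi (by omega)]
    congr 1
    omega

/-- The members of the normalizer tower are fully normalized. -/
theorem fullyNormalized_tower (hc : Ctx p n F E₀) (hs : Shape p n E₀ e) {j : ℕ} (hj : 1 ≤ j)
    (hjn : j ≤ n - 4) : F.IsFullyNormalized (up (E₀ ⊔ γ j)) := by
  set K := E₀ ⊔ γ j with hK
  refine ⟨up_le K, ?_⟩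
  rintro Q ⟨φ, hφ, rfl⟩
  let φ' : ↥K →* ↥S :=
    { toFun := fun x => ⟨φ ⟨((x : ↥S) : Ω), coe_mem_up.2 x.2⟩, apply_mem hφ _⟩
      map_one' := Subtype.ext (map_one φ)
      map_mul' := fun a b => Subtype.ext (map_mul φ ⟨_, coe_mem_up.2 a.2⟩ ⟨_, coe_mem_up.2 b.2⟩) }
  have hinj : Function.Injective φ' := fun a b h => by
    have := F.injective_of_mem hφ (congrArg Subtype.val h)
    exact Subtype.ext (Subtype.ext (congrArg Subtype.val this :))
  let im : Subgroup ↥S → Subgroup ↥S := fun H => (H.subgroupOf K).map φ'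
  have hcard : ∀ H ≤ K, Nat.card (im H) = Nat.card H := fun H hH => by
    rw [Subgroup.card_map_of_injective hinj, Nat.card_congr (Subgroup.subgroupOfEquivOfLe hH).toEquiv]
  have hnorm : ∀ A B : Subgroup ↥S, A ≤ K → A ≤ Subgroup.normalizer (B : Set ↥S) →
      im A ≤ Subgroup.normalizer (im B : Set ↥S) := by
    intro A B _ hAB
    refine (Subgroup.map_mono ?_).trans (Subgroup.le_normalizer_map φ')
    intro a ha
    refine Subgroup.mem_normalizer_iff.2 fun b => ?_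
    exact Subgroup.mem_normalizer_iff.1 (hAB ha) b
  have hE'c : F.IsConj (up E₀) (up (im E₀)) := by
    refine ⟨_, restrict_mem hφ (Subgroup.map_mono (le_sup_left : E₀ ≤ K)), ?_⟩
    ext y
    constructor
    · rintro ⟨x, rfl⟩
      exact ⟨_, ⟨⟨⟨(x : Ω), up_le _ x.2⟩, (le_sup_left : E₀ ≤ K) (mk_mem x.2)⟩, mk_mem x.2, rfl⟩, rfl⟩
    · rintro ⟨_, ⟨a, ha, rfl⟩, rfl⟩
      exact ⟨⟨((a : ↥S) : Ω), coe_mem_up.2 ha⟩, rfl⟩
  have hN : Subgroup.normalizer (E₀ : Set ↥S) = E₀ ⊔ γ (n - 4) := by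
    rw [hs.normalizer_eq, hs.sup_eq le_rfl]
  have hNK : Subgroup.normalizer (E₀ : Set ↥S) ≤ K := hN.le.trans (sup_le_sup_left (lcs_le hjn) _)
  obtain ⟨e', hs'⟩ := hc.exists_shape_conj hE'c (by
    rw [← hc.norm, ← hcard _ hNK]
    exact Subgroup.card_le_of_le (hnorm _ _ hNK le_rfl))
  have hall : ∀ d, j + d ≤ n - 4 → im (E₀ ⊔ γ (n - 4 - d)) = im E₀ ⊔ γ (n - 4 - d) := by
    intro d
    induction d with
    | zero =>
      intro _
      rw [Nat.sub_zero, ← hN]
      refine Subgroup.eq_of_le_of_card_ge ?_ ?_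
      · rw [hs'.sup_eq le_rfl, ← hs'.normalizer_eq]
        exact hnorm _ _ hNK le_rfl
      · rw [hs'.card_sup hc.card hc.cls hc.h5 (by omega) le_rfl, hcard _ hNK, hc.norm,
          show n - (n - 4) = 4 by have := hc.h5; omega]
    | succ d ih =>
      intro hd
      have hle : E₀ ⊔ γ (n - 4 - (d + 1)) ≤ K := sup_le_sup_left (lcs_le (by omega)) _
      refine Subgroup.eq_of_le_of_card_ge ?_ ?_
      · rw [← hs'.normalizer_sup hc.card hc.cls hc.h5 (j := n - 4 - (d + 1)) (by omega),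
          show n - 4 - (d + 1) + 1 = n - 4 - d by omega, ← ih (by omega)]
        refine hnorm _ _ hle ?_
        rw [show n - 4 - d = n - 4 - (d + 1) + 1 by omega,
          hs.normalizer_sup hc.card hc.cls hc.h5 (by omega)]
      · rw [hs'.card_sup hc.card hc.cls hc.h5 (by omega) (by omega), hcard _ hle,
          hs.card_sup hc.card hc.cls hc.h5 (by omega) (by omega)]
  have hKim : im K = im E₀ ⊔ γ j := by
    have := hall (n - 4 - j) (by omega)
    rwa [show n - 4 - (n - 4 - j) = j by omega] at this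
  have hQ : φ.range = up (im K) := by
    ext y
    constructor
    · rintro ⟨x, rfl⟩
      exact ⟨_, ⟨⟨⟨(x : Ω), up_le _ x.2⟩, mk_mem x.2⟩, mk_mem x.2, rfl⟩, rfl⟩
    · rintro ⟨_, ⟨a, ha, rfl⟩, rfl⟩
      exact ⟨⟨((a : ↥S) : Ω), coe_mem_up.2 ha⟩, rfl⟩
  rw [hQ, card_normalizerIn_up, card_normalizerIn_up, hKim, hc.card_normalizer_sup hs' hj hjn,
    hc.card_normalizer_sup hs hj hjn]

end Ctx

/-- What is known about the automorphism on `N_S(E)`. -/
structure Signs (p n : ℕ) (E₀ : Subgroup ↥S) (e z : ↥S) (s : ↥S → ↥S) : Prop where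
  he : s e * e ∈ E₀ ⊓ (⊤ : Subgroup ↥S).lowerCentralSeries 1
  hz : s z = z⁻¹
  hW : ∀ w ∈ E₀ ⊓ (⊤ : Subgroup ↥S).lowerCentralSeries 1,
    s w ∈ E₀ ⊓ (⊤ : Subgroup ↥S).lowerCentralSeries 1
  hx : ∀ x ∈ (⊤ : Subgroup ↥S).lowerCentralSeries (n - 4),
    s x ∈ (⊤ : Subgroup ↥S).lowerCentralSeries (n - 4) ∧
      s x * x⁻¹ ∈ E₀ ⊓ (⊤ : Subgroup ↥S).lowerCentralSeries 1
  hfix : ∃ c ∈ E₀ ⊓ (⊤ : Subgroup ↥S).lowerCentralSeries 1, c ≠ 1 ∧ s c = c

theorem Signs.congr {z : ↥S} {s s' : ↥S → ↥S} (h : Signs p n E₀ e z s)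
    (hW : ∀ x ∈ E₀ ⊓ γ 1, s' x = s x) (he : s' e = s e) (hz : s' z = s z)
    (hx : ∀ x ∈ γ (n - 4), s' x = s x) : Signs p n E₀ e z s' := by
  refine ⟨he ▸ h.he, hz ▸ h.hz, fun w hw => hW w hw ▸ h.hW w hw, fun x hx' => hx x hx' ▸ h.hx x hx', ?_⟩
  obtain ⟨c, hc, hc1, hcs⟩ := h.hfix
  exact ⟨c, hc, hc1, (hW c hc).trans hcs⟩

/-- The elements `z = ⁅x, e⁆` generating the centre of a transvection. -/
structure Gen (p n : ℕ) (E₀ : Subgroup ↥S) (e x z : ↥S) : Prop where
  hx : x ∈ (⊤ : Subgroup ↥S).lowerCentralSeries (n - 4)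
  hxE : x ∉ E₀
  hz : z = ⁅x, e⁆
  hzW : z ∈ E₀ ⊓ (⊤ : Subgroup ↥S).lowerCentralSeries 1
  hz1 : z ≠ 1
  span : (E₀ ⊓ (⊤ : Subgroup ↥S).lowerCentralSeries 1) ⊔ Subgroup.zpowers x =
    (⊤ : Subgroup ↥S).lowerCentralSeries (n - 4)
  comm : ∀ a ∈ (⊤ : Subgroup ↥S).lowerCentralSeries (n - 4),
    ∀ b ∈ (⊤ : Subgroup ↥S).lowerCentralSeries (n - 4), a * b = b * a

namespace Ctx

theorem exists_mul (hc : Ctx p n F E₀) (hs : Shape p n E₀ e) {a : ↥S} (ha : a ∈ E₀) :
    ∃ i : ℤ, ∃ w ∈ E₀ ⊓ γ 1, e ^ i * w = a := by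
  have hle : E₀ ≤ Subgroup.zpowers e ⊔ γ 1 := by
    conv_lhs => rw [← hs.gen]
    exact sup_le_sup_left inf_le_right _
  obtain ⟨c, hc', w, hw, rfl⟩ := Subgroup.mem_sup_of_normal_right.1 (hle ha)
  obtain ⟨i, rfl⟩ := Subgroup.mem_zpowers_iff.1 hc'
  refine ⟨i, w, Subgroup.mem_inf.2 ⟨?_, hw⟩, rfl⟩
  simpa using mul_mem (inv_mem (zpow_mem hs.mem i)) ha

theorem exists_gen (hc : Ctx p n F E₀) (hs : Shape p n E₀ e) : ∃ x z, Gen p n E₀ e x z := by
  have hp := (Fact.out : p.Prime)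
  have h5 := hc.h5
  set W := E₀ ⊓ γ 1 with hW
  have hc3 : Nat.card (γ (n - 4)) = p ^ 3 := by
    rw [Pearl.card_lcs hc.three_le hc.card hc.cls (by omega), show n - 1 - (n - 4) = 3 by omega]
  obtain ⟨x, hx, hxW⟩ : ∃ x ∈ γ (n - 4), x ∉ W := by
    refine SetLike.not_le_iff_exists.1 fun h => ?_
    have := Subgroup.card_le_of_le h
    rw [hc3, hs.card_inf] at this
    have := (Nat.pow_le_pow_iff_right hp.one_lt).1 this
    omega
  have hxE : x ∉ E₀ := fun h => hxW ⟨h, lcs_le (by omega) hx⟩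
  have hspan : W ⊔ Subgroup.zpowers x = γ (n - 4) := by
    refine Subgroup.eq_of_le_of_card_ge (sup_le hs.inf_le (Subgroup.zpowers_le.2 hx)) ?_
    have := PGroup.mul_card_le_card (IsPGroup.of_card hc.card) (H := W) (K := W ⊔ Subgroup.zpowers x)
      (left_lt_sup.2 fun h => hxW (h (Subgroup.mem_zpowers x)))
    rwa [hs.card_inf, ← pow_succ', ← hc3] at this
  have hWcomm : ∀ a ∈ γ (n - 4), ∀ w ∈ W, Commute a w := by
    intro a ha w hw
    rcases Nat.lt_or_ge n 6 with h | h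
    · rcases hs.cases with ⟨rfl, -, -, hWeq⟩ | ⟨h6, -⟩ | ⟨h6, -⟩
      · exact commute_of_lcs hc.three_le hc.card le_rfl ha (hWeq.le hw)
      · omega
      · omega
    · exact commute_of_lcs hc.three_le hc.card (by omega) ha (hs.inf_le hw)
  have hcomm : ∀ a ∈ γ (n - 4), ∀ b ∈ γ (n - 4), a * b = b * a := by
    have hle : γ (n - 4) ≤ Subgroup.centralizer ({x} : Set ↥S) := by
      rw [← hspan]
      exact sup_le (fun w hw => Subgroup.mem_centralizer_singleton_iff.2 (hWcomm x hx w hw).symm.eq)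
        (Subgroup.zpowers_le.2 (Subgroup.mem_centralizer_singleton_iff.2 rfl))
    intro a ha b hb
    have hle2 : γ (n - 4) ≤ Subgroup.centralizer ({a} : Set ↥S) := by
      rw [← hspan]
      exact sup_le (fun w hw => Subgroup.mem_centralizer_singleton_iff.2 (hWcomm a ha w hw).symm.eq)
        (Subgroup.zpowers_le.2 (Subgroup.mem_centralizer_singleton_iff.2
          (Subgroup.mem_centralizer_singleton_iff.1 (hle ha)).symm))
    exact (Subgroup.mem_centralizer_singleton_iff.1 (hle2 hb)).symm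
  have hxN : x ∈ Subgroup.normalizer (E₀ : Set ↥S) := hs.normalizer_eq.ge (Subgroup.mem_sup_right hx)
  refine ⟨x, _, hx, hxE, rfl, ⟨comm_mem_of_normalizer hxN hs.mem, lcs_le (by omega) (lcs_succ_mem hx e)⟩,
    ?_, hspan, hcomm⟩
  intro h1
  refine hxE (hc.self.mem_of_commute fun a ha => ?_)
  obtain ⟨i, w, hw, rfl⟩ := hc.exists_mul hs ha
  exact ((show Commute e x from (commutatorElement_eq_one_iff_mul_comm.1 h1).symm).zpow_left i).mul_left
    (hWcomm x hx w hw).symm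

theorem W_central (hc : Ctx p n F E₀) (hs : Shape p n E₀ e) {x z : ↥S} (hg : Gen p n E₀ e x z)
    {g w : ↥S} (hgN : g ∈ Subgroup.normalizer (E₀ : Set ↥S)) (hw : w ∈ E₀ ⊓ γ 1) : Commute g w := by
  rw [hs.normalizer_eq] at hgN
  have hle : Subgroup.zpowers e ⊔ γ (n - 4) ≤ Subgroup.centralizer ({w} : Set ↥S) :=
    sup_le (Subgroup.zpowers_le.2 (Subgroup.mem_centralizer_singleton_iff.2 (hc.self.comm e hs.mem w hw.1)))
      fun a ha => Subgroup.mem_centralizer_singleton_iff.2 (hg.comm a ha w (hs.inf_le hw))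
  exact Subgroup.mem_centralizer_singleton_iff.1 (hle hgN)

/-- The chain step: extend along the normalizer tower. -/
theorem extend_tower (hc : Ctx p n F E₀) (hs : Shape p n E₀ e) {j : ℕ} (hj : 1 ≤ j) (hjn : j ≤ n - 4)
    {β : MulAut ↥(E₀ ⊔ γ j)} (hβ : β ∈ aut F (E₀ ⊔ γ j)) {m : ℕ} (hm : β ^ m = 1) (hmp : ¬ p ∣ m)
    (f : ℕ → Subgroup ↥S) (N : ℕ) (h0 : f 0 = ⊥) (hN : f N = E₀ ⊔ γ j)
    (hmono : ∀ i < N, f i ≤ f (i + 1)) (hcard : ∀ i < N, Nat.card (f (i + 1)) ≤ p * Nat.card (f i))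
    (hinv : ∀ i < N, ∀ x ∈ f i, ev β x ∈ f i)
    (hconj : ∀ g ∈ E₀ ⊔ γ (j - 1), ∀ i < N, ∀ x ∈ f i, g * x * g⁻¹ ∈ f i) :
    ∃ β' ∈ aut F (E₀ ⊔ γ (j - 1)), (∃ m', ¬ p ∣ m' ∧ β' ^ m' = 1) ∧
      ∀ x ∈ E₀ ⊔ γ j, ev β' x = ev β x := by
  have hL : Subgroup.normalizer ((E₀ ⊔ γ j : Subgroup ↥S) : Set ↥S) = E₀ ⊔ γ (j - 1) := by
    have := hs.normalizer_sup hc.card hc.cls hc.h5 (j := j - 1) (by omega)
    rwa [show j - 1 + 1 = j by omega] at this
  have hfK : ∀ i ≤ N, f i ≤ E₀ ⊔ γ j := by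
    have : ∀ d, d ≤ N → f (N - d) ≤ E₀ ⊔ γ j := by
      intro d
      induction d with
      | zero => intro _; rw [Nat.sub_zero, hN]
      | succ d ih =>
        intro hd
        refine le_trans ?_ (ih (by omega))
        have h1 := hmono (N - (d + 1)) (by omega)
        rwa [show N - (d + 1) + 1 = N - d by omega] at h1
    intro i hi
    have h1 := this (N - i) (by omega)
    rwa [show N - (N - i) = i by omega] at h1
  obtain ⟨β', hβ', hagree, hm'⟩ := Internal.exists_extension hc.hS hc.hF (hc.fullyNormalized_tower hs hj hjn)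
    hβ hm hmp f N h0 hN hmono hcard
    (fun i hi x hx => by
      rcases Nat.lt_or_eq_of_le hi with h | rfl
      · rw [← ev_apply β x.2]; exact hinv i h x hx
      · rw [hN]; exact (β x).2)
    (fun g hgn i hi x hx => by
      rcases Nat.lt_or_eq_of_le hi with h | rfl
      · exact hconj g (hL ▸ hgn) i h x hx
      · rw [hN] at hx ⊢; exact (Subgroup.mem_normalizer_iff.1 hgn x).1 hx)
    hL
  exact ⟨β', hβ', hm', fun x hx =>
    ev_of_agree (sup_le_sup_left (lcs_le (Nat.sub_le j 1)) _) hagree hx⟩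

/-- The automorphism of `N_S(E)`. -/
theorem exists_base (hc : Ctx p n F E₀) (hs : Shape p n E₀ e) {x z : ↥S} (hg : Gen p n E₀ e x z) :
    ∃ β ∈ aut F (E₀ ⊔ γ (n - 4)), (∃ m, ¬ p ∣ m ∧ β ^ m = 1) ∧ Signs p n E₀ e z (ev β) := by
  classical
  have hp := (Fact.out : p.Prime)
  have h5 := hc.h5
  have hp2 := hc.p_ne_two
  set W := E₀ ⊓ γ 1 with hWdef
  have hWE : W ≤ E₀ := inf_le_left
  have hN : Subgroup.normalizer (E₀ : Set ↥S) = E₀ ⊔ γ (n - 4) := by
    rw [hs.normalizer_eq, hs.sup_eq le_rfl]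
  have hxN : x ∈ Subgroup.normalizer (E₀ : Set ↥S) := hN.ge (Subgroup.mem_sup_right hg.hx)
  let zE : ↥E₀ := ⟨z, hWE hg.hzW⟩
  let eE : ↥E₀ := ⟨e, hs.mem⟩
  set t : MulAut ↥E₀ := Subgroup.normalizerMonoidHom E₀ ⟨x, hxN⟩ with ht
  have htval : ∀ a : ↥E₀, (t a : ↥S) = x * a * x⁻¹ := fun a => rfl
  have hcommE : ∀ a b : ↥E₀, a * b = b * a := fun a b => Subtype.ext (hc.self.comm _ a.2 _ b.2)
  have hpow : ∀ a : ↥E₀, a ^ p = 1 := fun a => Subtype.ext (hc.self.pow _ a.2)
  have hWfix : ∀ a : ↥E₀, (a : ↥S) ∈ W → t a = a := fun a ha => Subtype.ext (by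
    rw [htval, (hc.W_central hs hg hxN ha).eq, mul_inv_cancel_right])
  have htz : t zE = zE := hWfix zE hg.hzW
  have hfixW : ∀ a : ↥E₀, t a = a → (a : ↥S) ∈ W := by
    intro a ha
    obtain ⟨i, w, hw, hiw⟩ := hc.exists_mul hs a.2
    have h1 : Commute x (a : ↥S) := by
      have := congrArg Subtype.val ha
      rw [htval, mul_inv_eq_iff_eq_mul] at this
      exact this
    have h2 : e ^ i ∈ Subgroup.centralizer ({x} : Set ↥S) := by
      rw [show e ^ i = (a : ↥S) * w⁻¹ by rw [← hiw, mul_inv_cancel_right]]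
      exact Subgroup.mem_centralizer_singleton_iff.2
        ((h1.mul_right (hc.W_central hs hg hxN hw).inv_right).symm.eq)
    have hne : e ∉ Subgroup.centralizer ({x} : Set ↥S) := fun h => hg.hz1 (by
      rw [hg.hz]
      exact commutatorElement_eq_one_iff_mul_comm.2 (Subgroup.mem_centralizer_singleton_iff.1 h).symm)
    rw [zpow_eq_one_of_mem hs.pow_eq hne h2, one_mul] at hiw
    exact hiw ▸ hw
  have htc : ∀ a : ↥E₀, a⁻¹ * t a ∈ Subgroup.zpowers zE := by
    let f : ↥E₀ →* ↥E₀ := MonoidHom.mk' (fun a => a⁻¹ * t a) fun a b => by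
      rw [mul_inv_rev, map_mul, hcommE b⁻¹ a⁻¹, mul_assoc, ← mul_assoc b⁻¹, hcommE b⁻¹ (t a)]
      group
    have hle : E₀ ≤ ((Subgroup.zpowers zE).comap f).map E₀.subtype := by
      conv_lhs => rw [← hs.gen]
      refine sup_le (Subgroup.zpowers_le.2 ⟨eE, ?_, rfl⟩) fun w hw => ⟨⟨w, hWE hw⟩, ?_, rfl⟩
      · show eE⁻¹ * t eE ∈ Subgroup.zpowers zE
        rw [hcommE, show t eE * eE⁻¹ = zE from Subtype.ext (by
          rw [Subgroup.coe_mul, htval, Subgroup.coe_inv]
          exact (commutatorElement_def x e).symm.trans hg.hz.symm)]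
        exact Subgroup.mem_zpowers zE
      · show (⟨w, hWE hw⟩ : ↥E₀)⁻¹ * t ⟨w, hWE hw⟩ ∈ Subgroup.zpowers zE
        rw [hWfix _ hw, inv_mul_cancel]
        exact one_mem _
    intro a
    obtain ⟨b, hb, hba⟩ := hle a.2
    rw [← show b = a from Subtype.ext hba]
    exact hb
  have ht1 : t ≠ 1 := fun h => hg.hz1 (by
    have h1 : (t eE : ↥S) = e := by rw [h]; rfl
    rw [htval] at h1
    rw [hg.hz, commutatorElement_def]
    exact mul_inv_eq_one.2 h1)
  have htA : t ∈ aut F E₀ := conj_mem_aut F hxN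
  let cg := (MulAut.congr (upEquiv E₀)).toMonoidHom
  have hcg : Function.Injective cg := (MulAut.congr (upEquiv E₀)).injective
  obtain ⟨-, R, hR⟩ := isFullyAutomized_of_fullyNormalized hc.hS hc.hF hc.ess.2.1
  have hfin := finite_mulAut (Ω := Ω) (up_le E₀)
  have hcR : Nat.card (autInducedBy S (up E₀)) = p := by
    have h := card_centralizerIn_mul_card_autInducedBy S (up E₀)
    rw [card_normalizerIn_up, hc.norm, centralizerIn_up, card_up,
      show Subgroup.centralizer (E₀ : Set ↥S) = E₀ from le_antisymm hc.self.self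
        fun a ha => Subgroup.mem_centralizer_iff.2 fun b hb => hc.self.comm b hb a ha,
      hc.self.card, pow_succ p 3] at h
    exact Nat.eq_of_mul_eq_mul_left (pow_pos hp.pos 3) h
  have hsyl : ∀ B : Subgroup (MulAut ↥E₀), B ≤ aut F E₀ → IsPGroup p B → Nat.card B ≤ p := by
    intro B hB hBp
    have hB' : B.map cg ≤ F.autGroup (up E₀) := Subgroup.map_le_iff_le_comap.2 hB
    obtain ⟨T, hT⟩ := ((hBp.map cg).of_equiv
      (Subgroup.subgroupOfEquivOfLe hB').symm).exists_le_sylow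
    have h1 := Subgroup.card_le_of_le hT
    rw [Nat.card_congr (Subgroup.subgroupOfEquivOfLe hB').toEquiv, Subgroup.card_map_of_injective hcg,
      T.card_eq_multiplicity, ← R.card_eq_multiplicity, hR,
      Nat.card_congr (Subgroup.subgroupOfEquivOfLe (autInducedBy_le_autGroup F (up_le E₀))).toEquiv,
      hcR] at h1
    exact h1
  have hnn : ∃ g ∈ aut F E₀, g * t * g⁻¹ ∉ Subgroup.zpowers t := by
    by_contra hcon
    push Not at hcon
    have hab : IsMulCommutative ↥(up E₀) := ⟨⟨fun a b => Subtype.ext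
      (congrArg Subtype.val (hc.self.comm _ (mk_mem a.2) _ (mk_mem b.2)) :)⟩⟩
    have htp : (cg t) ^ p = 1 := by
      refine MulEquiv.ext fun a => ?_
      have hft : ∀ b : ↥E₀, (t ^ p) b = b := fun b => by
        obtain ⟨i, hi⟩ := Subgroup.mem_zpowers_iff.1 (htc b)
        rw [SmallEss.aut_iter_fix (c := b⁻¹ * t b) (by rw [← hi, map_zpow, htz])
          (mul_inv_cancel_left b (t b)).symm p, hpow, mul_one]
      rw [← map_pow, show t ^ p = 1 from MulEquiv.ext hft, map_one]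
    have hle := SmallEss.pGroup_le_inn hc.ess (N := Subgroup.zpowers (cg t))
      (Subgroup.zpowers_le.2 htA) (by
        intro a ha b hb
        obtain ⟨i, rfl⟩ := Subgroup.mem_zpowers_iff.1 ha
        have hb' : (MulAut.congr (upEquiv E₀)).symm b ∈ aut F E₀ := mem_aut_symm hb
        obtain ⟨k, hk⟩ := Subgroup.mem_zpowers_iff.1 (hcon _ hb')
        refine Subgroup.mem_zpowers_iff.2 ⟨k * i, ?_⟩
        have hk' := congrArg cg hk
        rw [map_zpow, map_mul, map_mul, map_inv,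
          show cg ((MulAut.congr (upEquiv E₀)).symm b) = b from MulEquiv.apply_symm_apply _ b] at hk'
        rw [zpow_mul, hk', conj_zpow])
      (IsPGroup.of_card (n := 1) (by
        rw [pow_one, Nat.card_zpowers, orderOf_eq_prime htp fun h => ht1 (hcg (h.trans (map_one cg).symm))]))
    rw [SmallEss.inn_eq_bot hab] at hle
    exact ht1 (hcg ((Subgroup.mem_bot.1 (hle (Subgroup.mem_zpowers _))).trans (map_one cg).symm))
  have hE0p : IsPGroup p ↥E₀ := IsPGroup.of_card hc.self.card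
  obtain ⟨D, C, hDC, hDC', hDcard, -, hzD, -, hCfix, -, s, hs_mem, hst, hsD, hsC⟩ :=
    transvection_structure hcommE hE0p (aut F E₀) htA (hpow zE) htz htc ht1 hsyl hnn
  have hDn : D.Normal := ⟨fun a ha g => by rwa [hcommE g a, mul_inv_cancel_right]⟩
  have hdec : ∀ a : ↥E₀, ∃ d ∈ D, ∃ c ∈ C, d * c = a := fun a =>
    Subgroup.mem_sup_of_normal_left.1 (hDC'.ge (Subgroup.mem_top a))
  have hs2 : s ^ 2 = 1 := by
    refine MulEquiv.ext fun a => ?_
    obtain ⟨d, hd, c, hcC, rfl⟩ := hdec a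
    rw [pow_two, MulAut.mul_apply, map_mul, hsD d hd, hsC c hcC, map_mul, map_inv, hsD d hd,
      hsC c hcC, inv_inv, MulAut.one_apply]
  have hsW : ∀ a : ↥E₀, (a : ↥S) ∈ W → (s a : ↥S) ∈ W := fun a ha => by
    refine hfixW _ ?_
    have h1 : (s * t) a = (t * s) a := by
      rw [mul_inv_eq_iff_eq_mul.1 hst]
    rw [MulAut.mul_apply, MulAut.mul_apply, hWfix a ha] at h1
    exact h1.symm
  -- extend to the normalizer
  let f : ℕ → Subgroup ↥S := fun i => match i with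
    | 0 => ⊥
    | 1 => Subgroup.zpowers z
    | 2 => W
    | _ => E₀
  have hzcard : Nat.card (Subgroup.zpowers z) = p := by
    rw [Nat.card_zpowers, orderOf_eq_prime (hc.self.pow z (hWE hg.hzW)) hg.hz1]
  obtain ⟨β, hβ, hagree, hm⟩ := Internal.exists_extension hc.hS hc.hF hc.ess.2.1 hs_mem hs2
    (fun h => absurd (Nat.le_of_dvd two_pos h) (by have := hc.hp5; omega)) f 3 rfl rfl
    (by
      intro i hi
      interval_cases i
      exacts [bot_le, Subgroup.zpowers_le.2 hg.hzW, hWE])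
    (by
      intro i hi
      interval_cases i
      · show Nat.card (Subgroup.zpowers z) ≤ p * Nat.card (⊥ : Subgroup ↥S)
        rw [hzcard, Subgroup.card_bot, mul_one]
      · show Nat.card W ≤ p * Nat.card (Subgroup.zpowers z)
        rw [hzcard, hs.card_inf, sq]
      · show Nat.card E₀ ≤ p * Nat.card W
        rw [hs.card_inf, hc.self.card, ← pow_succ'])
    (by
      intro i hi a ha
      interval_cases i
      · rw [show a = 1 from Subtype.ext (Subgroup.mem_bot.1 ha), map_one]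
        exact (f 0).one_mem
      · obtain ⟨k, hk⟩ := Subgroup.mem_zpowers_iff.1 ha
        rw [show a = zE ^ k from Subtype.ext (by rw [Subgroup.coe_zpow]; exact hk.symm), map_zpow, hsD zE hzD]
        exact Subgroup.mem_zpowers_iff.2 ⟨-k, by simp [zE]⟩
      · exact hsW a ha
      · exact (s a).2)
    (by
      intro g hgN i hi a ha
      interval_cases i
      · rw [Subgroup.mem_bot.1 ha, mul_one, mul_inv_cancel]; exact (f 0).one_mem
      · obtain ⟨k, rfl⟩ := Subgroup.mem_zpowers_iff.1 ha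
        rw [((hc.W_central hs hg hgN hg.hzW).zpow_right k).eq, mul_inv_cancel_right]
        exact zpow_mem (Subgroup.mem_zpowers z) k
      · rw [(hc.W_central hs hg hgN ha).eq, mul_inv_cancel_right]; exact ha
      · exact (Subgroup.mem_normalizer_iff.1 hgN a).1 ha)
    hN
  have hev : ∀ a : ↥E₀, ev β a = (s a : ↥S) := fun a => by
    rw [ev_apply β (Subgroup.mem_sup_left a.2)]
    exact hagree a _
  have hEK : E₀ ≤ E₀ ⊔ γ (n - 4) := le_sup_left
  have hγK : γ (n - 4) ≤ E₀ ⊔ γ (n - 4) := le_sup_right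
  have hW' : ∀ w ∈ W, ev β w ∈ W := fun w hw => by
    rw [show w = ((⟨w, hWE hw⟩ : ↥E₀) : ↥S) from rfl, hev]
    exact hsW _ hw
  have hzinv : ev β z = z⁻¹ := by
    rw [show z = (zE : ↥S) from rfl, hev, hsD zE hzD]
    rfl
  have hCW : ∀ c ∈ C, (c : ↥S) ∈ W := fun c hcC => hfixW c (hCfix c hcC)
  have heinv : ev β e * e ∈ W := by
    obtain ⟨d, hd, c, hcC, hdc⟩ := hdec eE
    have h1 : s eE * eE = c * c := by
      rw [← hdc, map_mul, hsD d hd, hsC c hcC, hcommE d c, mul_assoc, ← mul_assoc c c,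
        hcommE (c * c), inv_mul_cancel_left]
    rw [show e = (eE : ↥S) from rfl, hev, ← Subgroup.coe_mul, h1, Subgroup.coe_mul]
    exact mul_mem (hCW c hcC) (hCW c hcC)
  have hfix : ∃ c ∈ W, c ≠ 1 ∧ ev β c = c := by
    obtain ⟨c, hcC, hc1⟩ : ∃ c ∈ C, c ≠ 1 := by
      refine (Subgroup.bot_or_exists_ne_one _).resolve_left fun h => ?_
      rw [h, sup_bot_eq] at hDC'
      rw [hDC', Subgroup.card_top, hc.self.card] at hDcard
      exact absurd (Nat.pow_right_injective hp.two_le hDcard) (by omega)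
    exact ⟨c, hCW c hcC, fun h => hc1 (Subtype.ext h), by rw [hev, hsC c hcC]⟩
  -- `γ (n - 4)` is not moved: its image would be conjugate to `E`
  have hx3 : ∀ a ∈ γ (n - 4), ev β a ∈ γ (n - 4) := by
    have hWne : E₀ ⊓ γ 1 ≤ γ (n - 4) := hs.inf_le
    suffices h : ev β x ∈ γ (n - 4) by
      have hle : γ (n - 4) ≤ (((γ (n - 4)).subgroupOf (E₀ ⊔ γ (n - 4))).comap β.toMonoidHom).map
          (E₀ ⊔ γ (n - 4)).subtype := by
        conv_lhs => rw [← hg.span]
        refine sup_le (fun w hw => ⟨⟨w, hEK (hWE hw)⟩, ?_, rfl⟩)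
          (Subgroup.zpowers_le.2 ⟨⟨x, hγK hg.hx⟩, ?_, rfl⟩)
        · show (β _ : ↥S) ∈ γ (n - 4)
          rw [← ev_apply β (hEK (hWE hw))]
          exact hWne (hW' w hw)
        · show (β _ : ↥S) ∈ γ (n - 4)
          rw [← ev_apply β (hγK hg.hx)]
          exact h
      intro a ha
      obtain ⟨b, hb, hba⟩ := hle ha
      rw [← hba]
      show ev β (b : ↥S) ∈ γ (n - 4)
      rw [ev_apply β b.2]
      exact hb
    by_contra hy
    set y := ev β x with hy'
    obtain ⟨a, ha, h, hh, hah⟩ :=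
      Subgroup.mem_sup_of_normal_right.1 ((hs.sup_eq le_rfl).le (ev_mem β (hγK hg.hx)))
    obtain ⟨i, rfl⟩ := Subgroup.mem_zpowers_iff.1 ha
    rw [← hy'] at hah
    have hi : ¬ (p : ℤ) ∣ i := by
      rintro ⟨k, rfl⟩
      rw [zpow_mul, zpow_natCast, hs.pow_eq, one_zpow, one_mul] at hah
      exact hy (hah ▸ hh)
    obtain ⟨u, v, huv⟩ := ((Nat.prime_iff_prime_int.mp hp).coprime_iff_not_dvd).2 hi
    set Q : Subgroup ↥S := ((γ (n - 4)).subgroupOf (E₀ ⊔ γ (n - 4))).map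
      ((E₀ ⊔ γ (n - 4)).subtype.comp β.toMonoidHom) with hQ
    have hQmem : ∀ {a : ↥S}, a ∈ γ (n - 4) → ev β a ∈ Q := fun {a} ha =>
      ⟨⟨a, hγK ha⟩, ha, (ev_apply β (hγK ha)).symm⟩
    have hQcard : Nat.card Q = p ^ 3 := by
      rw [hQ, Subgroup.card_map_of_injective
          (show Function.Injective ((E₀ ⊔ γ (n - 4)).subtype.comp β.toMonoidHom) from
            (Subgroup.subtype_injective _).comp β.injective),
        Nat.card_congr (Subgroup.subgroupOfEquivOfLe hγK).toEquiv,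
        Pearl.card_lcs hc.three_le hc.card hc.cls (by omega), show n - 1 - (n - 4) = 3 by omega]
    have hWQ : W ≤ Q := fun w hw => by
      obtain ⟨w', hw', rfl⟩ := exists_ev_eq β (hWE.trans hEK) hW' hw
      exact hQmem (hWne hw')
    -- a power of `y` is `e` times an element of `γ (n - 4)`
    obtain ⟨h', hh', hyv⟩ : ∃ h' ∈ γ (n - 4), y ^ v = e * h' := by
      refine ⟨e⁻¹ * y ^ v, (QuotientGroup.eq_one_iff _).1 ?_, (mul_inv_cancel_left _ _).symm⟩
      show QuotientGroup.mk' (γ (n - 4)) (e⁻¹ * y ^ v) = 1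
      have hπh : QuotientGroup.mk' (γ (n - 4)) h = 1 := mk'_eq_one hh
      rw [map_mul, map_inv, map_zpow, ← hah, map_mul, hπh, mul_one, map_zpow, ← zpow_mul,
        inv_mul_eq_one, ← map_zpow]
      congr 1
      conv_lhs => rw [← zpow_one e, ← huv, zpow_add, mul_comm u, zpow_mul, zpow_natCast, hs.pow_eq,
        one_zpow, one_mul, mul_comm]
    -- `x0 = ⁅g, e⁆` with `g` normalising `N_S(E)` but not `E`
    obtain ⟨g, hg5, hgE⟩ : ∃ g ∈ γ (n - 5), g ∉ Subgroup.normalizer (E₀ : Set ↥S) := by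
      refine SetLike.not_le_iff_exists.1 fun h => ?_
      have h1 := Subgroup.card_le_of_le (sup_le (Subgroup.le_normalizer (H := E₀)) h)
      rw [hc.norm] at h1
      rcases Nat.eq_zero_or_pos (n - 5) with h0 | h0
      · rw [h0, Subgroup.lowerCentralSeries_zero, sup_top_eq, Subgroup.card_top, hc.card] at h1
        have := (Nat.pow_le_pow_iff_right hp.one_lt).1 h1
        omega
      · rw [hs.card_sup hc.card hc.cls hc.h5 h0 (by omega)] at h1
        have := (Nat.pow_le_pow_iff_right hp.one_lt).1 h1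
        omega
    have hgW : ∀ w ∈ W, ⁅g, w⁆ ∈ W := fun w hw => by
      rcases hs.cases with ⟨h, -, -, hWeq⟩ | ⟨rfl, -⟩ | ⟨-, -, -, -, hWeq⟩
      · refine hWeq.ge (lcs_le (show 2 ≤ 2 + 1 by omega) ?_)
        rw [← commutatorElement_inv]
        exact inv_mem (lcs_succ_mem (hWeq.le hw) g)
      · refine ⟨hc.self.center_le (lcs_top_le_center hc.three_le hc.card ?_), lcs_le ?_ (lcs_comm_mem hg5 hw.2) ⟩
        · exact lcs_le (show 6 - 2 ≤ (6 - 5) + (6 - 4) + 1 by norm_num) (lcs_comm_mem hg5 (hs.inf_le hw))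
        · omega
      · refine hWeq.ge ?_
        rw [← commutatorElement_inv]
        exact inv_mem (lcs_le (Nat.le_succ _) (lcs_succ_mem (hWeq.le hw) g))
    set x0 := ⁅g, e⁆ with hx0
    have hx0m : x0 ∈ γ (n - 4) := lcs_le (by omega) (lcs_succ_mem hg5 e)
    have hx0W : x0 ∉ W := by
      intro h0
      refine hgE (mem_normalizer_of_closure (s := insert e (W : Set ↥S))
        (by rw [← closure_insert_eq, hs.gen]) ?_)
      rintro b (rfl | hb)
      · exact hWE h0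
      · exact hWE (hgW b hb)
    have hWcomm : ∀ {a w : ↥S}, a ∈ E₀ ⊔ γ (n - 4) → w ∈ W → Commute a w := fun ha hw =>
      hc.W_central hs hg (hN.ge ha) hw
    have hgx : ⁅g, x0⁆ ∈ W := by
      rcases hs.cases with ⟨h, -, -, hWeq⟩ | ⟨rfl, -⟩ | ⟨-, -, -, -, hWeq⟩
      · refine hWeq.ge (lcs_le (by omega : 2 ≤ n - 4 + 1) ?_)
        rw [← commutatorElement_inv]
        exact inv_mem (lcs_succ_mem hx0m g)
      · refine ⟨hc.self.center_le (lcs_top_le_center hc.three_le hc.card ?_), ?_⟩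
        · exact lcs_le (show 6 - 2 ≤ (6 - 5) + (6 - 4) + 1 by norm_num) (lcs_comm_mem hg5 hx0m)
        · exact lcs_le (by omega) (lcs_comm_mem hg5 hx0m)
      · refine hWeq.ge ?_
        rw [← commutatorElement_inv]
        exact inv_mem (lcs_le (by omega) (lcs_succ_mem hx0m g))
    have hconj : ∀ k : ℕ, ∃ w ∈ W, g ^ k * e * (g ^ k)⁻¹ = x0 ^ k * e * w := by
      intro k
      induction k with
      | zero => exact ⟨1, one_mem _, by simp⟩
      | succ k ih =>
        obtain ⟨w, hw, hk⟩ := ih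
        have hg1 : g * w * g⁻¹ ∈ W := conj_mem_of_comm (hgW w hw) hw
        refine ⟨⁅g, x0⁆ ^ k * (g * w * g⁻¹), mul_mem (pow_mem hgx k) hg1, ?_⟩
        have hcx : Commute ⁅g, x0⁆ x0 := (hWcomm (hγK hx0m) hgx).symm
        have hce : Commute (x0 ^ k * (x0 * e)) (⁅g, x0⁆ ^ k) := by
          refine (hWcomm ?_ hgx).pow_right k
          exact mul_mem (pow_mem (hγK hx0m) k) (mul_mem (hγK hx0m) (hEK hs.mem))
        have h1 : g * (x0 ^ k) * g⁻¹ = ⁅g, x0⁆ ^ k * x0 ^ k := by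
          rw [← conj_pow, ← hcx.mul_pow]
          congr 1
          simp only [commutatorElement_def]; group
        have h2 : g * e * g⁻¹ = x0 * e := by
          rw [hx0]; simp only [commutatorElement_def]; group
        calc g ^ (k + 1) * e * (g ^ (k + 1))⁻¹ = g * (g ^ k * e * (g ^ k)⁻¹) * g⁻¹ := by group
          _ = (g * x0 ^ k * g⁻¹) * (g * e * g⁻¹) * (g * w * g⁻¹) := by rw [hk]; group
          _ = (⁅g, x0⁆ ^ k * (x0 ^ k * (x0 * e))) * (g * w * g⁻¹) := by rw [h1, h2]; group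
          _ = (x0 ^ k * (x0 * e) * ⁅g, x0⁆ ^ k) * (g * w * g⁻¹) := by rw [hce.eq]
          _ = _ := by rw [pow_succ]; group
    have hspan0 : W ⊔ Subgroup.zpowers x0 = γ (n - 4) := by
      refine Subgroup.eq_of_le_of_card_ge (sup_le hWne (Subgroup.zpowers_le.2 hx0m)) ?_
      have := PGroup.mul_card_le_card (IsPGroup.of_card hc.card) (H := W)
        (K := W ⊔ Subgroup.zpowers x0) (left_lt_sup.2 fun h => hx0W (h (Subgroup.mem_zpowers x0)))
      rwa [hs.card_inf, ← pow_succ', show p ^ (2 + 1) = Nat.card (γ (n - 4)) by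
        rw [Pearl.card_lcs hc.three_le hc.card hc.cls (by omega), show n - 1 - (n - 4) = 3 by omega]] at this
    -- write `h'` as `w * x0 ^ k`
    obtain ⟨w, hw, k, hwk⟩ : ∃ w ∈ W, ∃ k : ℕ, w * x0 ^ k = h' := by
      have hle : W ⊔ Subgroup.zpowers x0 ≤ Subgroup.normalizer (W : Set ↥S) := by
        refine sup_le Subgroup.le_normalizer (Subgroup.zpowers_le.2 ?_)
        refine mem_normalizer_of_closure (Subgroup.closure_eq W).symm fun b hb => ?_
        rw [commutatorElement_eq_one_iff_mul_comm.2 (hWcomm (hγK hx0m) hb).eq]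
        exact one_mem _
      have hmem : h' ∈ W ⊔ Subgroup.zpowers x0 := hspan0 ▸ hh'
      rw [← SetLike.mem_coe, Subgroup.coe_mul_of_right_le_normalizer_left W (Subgroup.zpowers x0)
        (le_sup_right.trans hle)] at hmem
      obtain ⟨w, hw, c, hc', rfl⟩ := hmem
      obtain ⟨k, rfl⟩ := (mem_powers_iff_mem_zpowers (x := x0)).2 hc'
      exact ⟨w, hw, k, rfl⟩
    obtain ⟨w', hw', hk⟩ := hconj k
    have hgk : g ^ k * e * (g ^ k)⁻¹ ∈ Q := by
      have hyQ : y ^ v ∈ Q := zpow_mem (hQmem hg.hx) v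
      have hxk : ⁅x0 ^ k, e⁆ ∈ W := by
        refine ⟨comm_mem_of_normalizer (hN.ge (hγK (pow_mem hx0m k))) hs.mem, ?_⟩
        exact lcs_le (by omega) (lcs_succ_mem (pow_mem hx0m k) e)
      have heq : x0 ^ k * e = ⁅x0 ^ k, e⁆ * (w⁻¹ * (y ^ v)) := by
        rw [hyv, ← hwk, ← mul_assoc e, (hWcomm (hEK hs.mem) hw).eq, mul_assoc w, inv_mul_cancel_left]
        simp only [commutatorElement_def]; group
      rw [hk, heq]
      exact mul_mem (mul_mem (hWQ hxk) (mul_mem (inv_mem (hWQ hw)) hyQ)) (hWQ hw')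
    have hE'Q : E₀.map (MulAut.conj (g ^ k)).toMonoidHom = Q := by
      refine Subgroup.eq_of_le_of_card_ge ?_ (by
        rw [hQcard, Subgroup.card_map_of_injective (MulAut.conj (g ^ k)).injective, hc.self.card])
      conv_lhs => rw [← hs.gen, Subgroup.map_sup]
      refine sup_le ?_ ?_
      · rw [MonoidHom.map_zpowers, Subgroup.zpowers_le]
        exact hgk
      · rintro _ ⟨b, hb, rfl⟩
        refine hWQ ?_
        have hgn : g ∈ Subgroup.normalizer (W : Set ↥S) :=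
          mem_normalizer_of_closure (Subgroup.closure_eq W).symm fun c hc' => hgW c hc'
        exact (Subgroup.mem_normalizer_iff.1 (pow_mem hgn k) b).1 hb
    have hbad := hc.ess.2.1.2 _ (isConj_trans (isConj_conj F hE'Q)
      (isConj_symm (exists_hom hβ hγK rfl)))
    rw [card_normalizerIn_up, card_normalizerIn_up, hc.norm,
      Subgroup.normalizer_eq_top_iff.2 inferInstance, Subgroup.card_top, hc.card] at hbad
    have := (Nat.pow_le_pow_iff_right hp.one_lt).1 hbad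
    omega
  refine ⟨β, hβ, hm, heinv, hzinv, hW', fun a ha => ⟨hx3 a ha, ?_⟩, hfix⟩
  -- `x` is fixed modulo `W`
  have hxx : ev β x * x⁻¹ ∈ W := by
    have hmem : ev β x ∈ W ⊔ Subgroup.zpowers x := hg.span.symm ▸ hx3 x hg.hx
    have hle : Subgroup.zpowers x ≤ Subgroup.normalizer (W : Set ↥S) :=
      Subgroup.zpowers_le.2 (mem_normalizer_of_closure (Subgroup.closure_eq W).symm fun b hb => by
        rw [commutatorElement_eq_one_iff_mul_comm.2 (hc.W_central hs hg hxN hb).eq]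
        exact one_mem _)
    rw [← SetLike.mem_coe, Subgroup.coe_mul_of_right_le_normalizer_left W (Subgroup.zpowers x) hle]
      at hmem
    obtain ⟨w, hw, c, hc', hwc⟩ := hmem
    obtain ⟨b, rfl⟩ := Subgroup.mem_zpowers_iff.1 hc'
    have heN : e ∈ Subgroup.normalizer (E₀ : Set ↥S) := Subgroup.le_normalizer hs.mem
    have hzc : ∀ q ∈ Subgroup.normalizer (E₀ : Set ↥S), Commute ⁅x, e⁆ q := fun q hq =>
      hg.hz ▸ (hc.W_central hs hg hq hg.hzW).symm
    have hkey : z⁻¹ = z ^ (b * (-1)) := by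
      have hσ := ev_comm β (hγK hg.hx) (hEK hs.mem)
      rw [← hg.hz, hzinv] at hσ
      rw [hσ, show ev β x = x ^ b * w from by
          rw [← hwc]; exact ((hc.W_central hs hg hxN hw).zpow_left b).symm.eq,
        show ev β e = e ^ (-1 : ℤ) * (e * ev β e) by rw [zpow_neg_one, inv_mul_cancel_left]]
      have hev' : e * ev β e ∈ W := by
        have h1 := hc.W_central hs hg heN heinv
        rwa [show e * ev β e = e * (ev β e * e) * e⁻¹ by group, h1.eq, mul_inv_cancel_right]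
      rw [comm_congr (hzc x hxN) (hzc e heN) (hc.W_central hs hg heN hw).symm
        (hc.W_central hs hg hxN hev').symm (hc.W_central hs hg (Subgroup.le_normalizer (hWE hw)) hev'),
        ← hg.hz]
    have hzp : z ^ p = 1 := hc.self.pow z (hWE hg.hzW)
    have hdvd : (p : ℤ) ∣ b - 1 := by
      have := dvd_sub_of_eq hzp hg.hz1 (a := (-1 : ℤ)) (b := b * (-1)) (by rw [zpow_neg_one]; exact hkey)
      rwa [show (-1 : ℤ) - b * (-1) = b - 1 by ring] at this
    have hxp : x ^ p ∈ W := by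
      refine ⟨hc.self.mem_of_commute fun a ha => ?_, pow_mem (lcs_le (by omega) hg.hx) p⟩
      obtain ⟨i, v, hv, rfl⟩ := hc.exists_mul hs ha
      refine Commute.mul_left (Commute.zpow_left ?_ i) ((hc.W_central hs hg hxN hv).symm.pow_right p)
      refine (commutatorElement_eq_one_iff_mul_comm.1 ?_).symm
      have := comm_zpow (hzc x hxN) (hzc e heN) (p : ℤ) 1
      rwa [zpow_natCast, zpow_one, ← hg.hz, mul_one, zpow_natCast, hzp] at this
    obtain ⟨k, hk⟩ := hdvd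
    rw [← hwc]
    beta_reduce
    rw [show b = 1 + (p : ℤ) * k by omega, zpow_add, zpow_one, zpow_mul, zpow_natCast,
      ((hc.W_central hs hg hxN hxp).zpow_right k).eq, ← mul_assoc, mul_inv_cancel_right]
    exact mul_mem hw (zpow_mem hxp k)
  have hle : γ (n - 4) ≤ Subgroup.normalizer (E₀ : Set ↥S) := hN.ge.trans' hγK
  obtain ⟨w, hw, c, hc', rfl⟩ : ∃ w ∈ W, ∃ c ∈ Subgroup.zpowers x, w * c = a := by
    have hle' : Subgroup.zpowers x ≤ Subgroup.normalizer (W : Set ↥S) :=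
      Subgroup.zpowers_le.2 (mem_normalizer_of_closure (Subgroup.closure_eq W).symm fun b hb => by
        rw [commutatorElement_eq_one_iff_mul_comm.2 (hc.W_central hs hg hxN hb).eq]
        exact one_mem _)
    have hmem : a ∈ W ⊔ Subgroup.zpowers x := hg.span.symm ▸ ha
    rw [← SetLike.mem_coe, Subgroup.coe_mul_of_right_le_normalizer_left W (Subgroup.zpowers x) hle']
      at hmem
    obtain ⟨w, hw, c, hc', rfl⟩ := hmem
    exact ⟨w, hw, c, hc', rfl⟩
  obtain ⟨i, rfl⟩ := Subgroup.mem_zpowers_iff.1 hc'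
  rw [ev_mul β (hEK (hWE hw)) (zpow_mem (hγK hg.hx) i), ev_zpow β (hγK hg.hx)]
  have hcomm1 : Commute (ev β x) x⁻¹ :=
    (show Commute (ev β x) x from hg.comm _ (hx3 x hg.hx) x hg.hx).inv_right
  rw [show ev β w * ev β x ^ i * (w * x ^ i)⁻¹ = ev β w * (ev β x ^ i * (x⁻¹) ^ i) * w⁻¹ by group,
    ← hcomm1.mul_zpow]
  exact mul_mem (mul_mem (hW' w hw) (zpow_mem hxx i)) (inv_mem hw)

end Ctx

end Cfsg.Agent.Fusion.MaxClassRankThree
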