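import Cfsg.Agent.Lib.Fusion.MaxClassRankThree

/-!
The three configurations of an elementary abelian essential subgroup of order `p³` in a group of
maximal class are impossible.
-/

set_option autoImplicit false
set_option linter.unusedSectionVars false

namespace Cfsg.Agent.Fusion.MaxClassRankThree

open Cfsg Cfsg.FusionSystem Cfsg.Agent.Fusion Cfsg.Agent.Fusion.Internal Cfsg.Agent.MaxClass
open Cfsg.Agent.Pearl (lcs_succ_mem lcs_comm_mem)
open scoped commutatorElement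

theorem mem_sup_comm {G : Type*} [Group G] {A B : Subgroup G} (h : ∀ a ∈ A, ∀ b ∈ B, Commute a b)
    {g : G} (hg : g ∈ A ⊔ B) : ∃ a ∈ A, ∃ b ∈ B, a * b = g := by
  have hle : B ≤ Subgroup.normalizer (A : Set G) := fun b hb =>
    Subgroup.mem_normalizer_iff.2 fun a => ⟨fun ha => by
      rw [← (h a ha b hb).eq, mul_inv_cancel_right]; exact ha, fun ha => by
      have h1 : b * a * b⁻¹ = a := by
        have h2 := (h _ ha b hb).eq
        rw [inv_mul_cancel_right] at h2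
        exact (mul_left_cancel h2).symm
      exact h1 ▸ ha⟩
  rw [← SetLike.mem_coe, Subgroup.coe_mul_of_right_le_normalizer_left A B hle] at hg
  obtain ⟨a, ha, b, hb, rfl⟩ := hg
  exact ⟨a, ha, b, hb, rfl⟩

variable {Ω : Type*} [Group Ω] {S : Subgroup Ω}

set_option quotPrecheck false
local notation "γ" => Subgroup.lowerCentralSeries (⊤ : Subgroup ↥S)

variable [Finite S] {p n : ℕ} [Fact p.Prime] {F : FusionSystem S} {E₀ : Subgroup ↥S} {e x z : ↥S}

namespace Ctx

theorem eq_of_normal_zpowers (hc : Ctx p n F E₀) (hs : Shape p n E₀ e) (hg : Gen p n E₀ e x z)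
    (hz : z ∈ γ (n - 2)) : Subgroup.zpowers z = γ (n - 2) := by
  refine Subgroup.eq_of_le_of_card_ge (Subgroup.zpowers_le.2 hz) ?_
  have := hc.h5
  rw [Pearl.card_lcs hc.three_le hc.card hc.cls (by omega), show n - 1 - (n - 2) = 1 by omega, pow_one,
    Nat.card_zpowers, orderOf_eq_prime (hc.self.pow z hg.hzW.1) hg.hz1]

/-- On `W = E ∩ γ 1` the automorphism is trivial modulo `⟨z⟩`. -/
theorem W_fix (hc : Ctx p n F E₀) (hs : Shape p n E₀ e) (hg : Gen p n E₀ e x z) {K : Subgroup ↥S}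
    {β : MulAut ↥K} (hWK : E₀ ⊓ γ 1 ≤ K) (hsg : Signs p n E₀ e z (ev β)) {w : ↥S}
    (hw : w ∈ E₀ ⊓ γ 1) : ev β w * w⁻¹ ∈ Subgroup.zpowers z := by
  obtain ⟨c, hcW, hc1, hcs⟩ := hsg.hfix
  have hp := (Fact.out : p.Prime)
  have hzp := hc.self.pow z hg.hzW.1
  have hcp := hc.self.pow c hcW.1
  have hzc : z ∉ Subgroup.zpowers c := by
    intro h
    obtain ⟨k, hk⟩ := Subgroup.mem_zpowers_iff.1 h
    have h1 : ev β z = z := by rw [← hk, ev_zpow β (hWK hcW), hcs]
    exact hg.hz1 (zpow_eq_of_odd_order hc.p_ne_two hzp (h1.symm.trans hsg.hz))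
  have heq : Subgroup.zpowers z ⊔ Subgroup.zpowers c = E₀ ⊓ γ 1 := by
    refine Subgroup.eq_of_le_of_card_ge
      (sup_le (Subgroup.zpowers_le.2 hg.hzW) (Subgroup.zpowers_le.2 hcW)) ?_
    have := PGroup.mul_card_le_card (IsPGroup.of_card hc.card) (H := Subgroup.zpowers c)
      (K := Subgroup.zpowers z ⊔ Subgroup.zpowers c)
      (right_lt_sup.2 fun h => hzc (h (Subgroup.mem_zpowers z)))
    rwa [Nat.card_zpowers, orderOf_eq_prime hcp hc1, ← sq, ← hs.card_inf] at this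
  have hcomm : Commute z c := hc.self.comm z hg.hzW.1 c hcW.1
  obtain ⟨a, ha, b, hb, rfl⟩ := mem_sup_comm (fun a ha b hb => by
    obtain ⟨i, rfl⟩ := Subgroup.mem_zpowers_iff.1 ha
    obtain ⟨k, rfl⟩ := Subgroup.mem_zpowers_iff.1 hb
    exact hcomm.zpow_zpow i k) (heq.ge hw)
  obtain ⟨i, rfl⟩ := Subgroup.mem_zpowers_iff.1 ha
  obtain ⟨k, rfl⟩ := Subgroup.mem_zpowers_iff.1 hb
  rw [ev_mul β (zpow_mem (hWK hg.hzW) i) (zpow_mem (hWK hcW) k), ev_zpow β (hWK hg.hzW), hsg.hz,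
    ev_zpow β (hWK hcW), hcs, mul_inv_rev, mul_assoc, mul_inv_cancel_left]
  exact mul_mem (zpow_mem (inv_mem (Subgroup.mem_zpowers z)) i) (inv_mem (zpow_mem (Subgroup.mem_zpowers z) i))

/-- The element `u` completing `e` to a generating system. -/
theorem exists_u (hc : Ctx p n F E₀) (hs : Shape p n E₀ e) :
    ∃ u : ↥S, u ∉ E₀ ⊔ γ 1 ∧ ⁅u, e⁆ ∈ γ 1 ∧ ⁅u, e⁆ ∉ γ 2 ∧
      ∀ g : ↥S, ∃ η : ℤ, ∃ m ∈ E₀ ⊔ γ 1, g = u ^ η * m := by
  have h5 := hc.h5
  have hp := (Fact.out : p.Prime)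
  have hn0 : Subgroup.normalizer ((E₀ ⊔ γ 1 : Subgroup ↥S) : Set ↥S) = ⊤ := by
    have := hs.normalizer_sup hc.card hc.cls hc.h5 (j := 0) (by omega)
    rwa [Subgroup.lowerCentralSeries_zero, sup_top_eq] at this
  have hnor : (E₀ ⊔ γ 1).Normal := Subgroup.normalizer_eq_top_iff.1 hn0
  obtain ⟨u, -, hu⟩ : ∃ u ∈ (⊤ : Subgroup ↥S), u ∉ E₀ ⊔ γ 1 := by
    refine SetLike.not_le_iff_exists.1 fun h => ?_
    have h1 := Subgroup.card_le_of_le h
    rw [Subgroup.card_top, hc.card, hs.card_sup hc.card hc.cls hc.h5 le_rfl (by omega)] at h1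
    have := (Nat.pow_le_pow_iff_right hp.one_lt).1 h1
    omega
  have htop : Subgroup.closure ({e, u} : Set ↥S) = ⊤ :=
    closure_pair_eq_top hc.three_le hc.card hc.cls hs.nmem
      (fun h => hu ((hs.sup_eq (by omega : 1 ≤ n - 4)).ge h))
  refine ⟨u, hu, ?_, ?_, fun g => ?_⟩
  · rw [Subgroup.top_lowerCentralSeries_one, _root_.commutator_def]
    exact Subgroup.commutator_mem_commutator (Subgroup.mem_top _) (Subgroup.mem_top _)
  · intro h2
    refine (lcs_succ_lt hc.three_le hc.card hc.cls (i := 1) (by omega)).not_ge ?_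
    conv_lhs => rw [Subgroup.top_lowerCentralSeries_one, _root_.commutator_def, ← htop]
    refine Pearl.commutator_closure_le _ _ _ ?_
    rintro a (rfl | rfl) b (rfl | rfl)
    · rw [commutatorElement_self]; exact one_mem _
    · rw [← commutatorElement_inv]; exact inv_mem h2
    · exact h2
    · rw [commutatorElement_self]; exact one_mem _
  · have hle : (⊤ : Subgroup ↥S) ≤ Subgroup.zpowers u ⊔ (E₀ ⊔ γ 1) := by
      rw [← htop, Subgroup.closure_le]
      rintro a (rfl | rfl)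
      · exact Subgroup.mem_sup_right (Subgroup.mem_sup_left hs.mem)
      · exact Subgroup.mem_sup_left (Subgroup.mem_zpowers _)
    obtain ⟨a, ha, b, hb, rfl⟩ := Subgroup.mem_sup_of_normal_right.1 (hle (Subgroup.mem_top g))
    obtain ⟨η, rfl⟩ := Subgroup.mem_zpowers_iff.1 ha
    exact ⟨η, b, hb, rfl⟩

theorem sup_le_layerCent (hc : Ctx p n F E₀) (hs : Shape p n E₀ e) {k : ℕ} (he : e ∈ layerCent ↥S k) :
    E₀ ⊔ γ 1 ≤ layerCent ↥S k := by
  have := hc.h5
  rw [hs.sup_eq (by omega : 1 ≤ n - 4)]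
  exact sup_le (Subgroup.zpowers_le.2 he) (lcs_one_le_layerCent k)

theorem not_mem_layerCent (hc : Ctx p n F E₀) (hs : Shape p n E₀ e) {k : ℕ} (hk : 1 ≤ k)
    (hkn : k + 1 ≤ n - 2) (he : e ∈ layerCent ↥S k) {u : ↥S} (hu : u ∉ E₀ ⊔ γ 1) :
    u ∉ layerCent ↥S k := by
  have := hc.h5
  intro h
  refine hu (Subgroup.eq_of_le_of_card_ge (hc.sup_le_layerCent hs he) ?_ ▸ h)
  have h1 := (layerCent ↥S k).card_mul_index
  rw [index_layerCent hc.three_le hc.card hc.cls hk hkn, hc.card,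
    show p ^ n = p ^ (n - 1) * p by rw [← pow_succ]; congr 1; omega] at h1
  rw [Nat.eq_of_mul_eq_mul_right (Fact.out : p.Prime).pos h1,
    hs.card_sup hc.card hc.cls hc.h5 le_rfl (by omega)]

/-- The action on `γ 1 / γ 2`. -/
theorem first_sign (hc : Ctx p n F E₀) (hs : Shape p n E₀ e) {K : Subgroup ↥S}
    (hK : ∀ g, g ∈ K) {β : MulAut ↥K} (hsg : Signs p n E₀ e z (ev β)) {u : ↥S}
    (h1 : ⁅u, e⁆ ∈ γ 1) {η : ℤ} {m : ↥S} (hm : m ∈ E₀ ⊔ γ 1) (hu : ev β u = u ^ η * m) :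
    QuotientGroup.mk' (γ 2) (ev β ⁅u, e⁆) = QuotientGroup.mk' (γ 2) ⁅u, e⁆ ^ (η * (-1)) := by
  have := hc.h5
  let π := QuotientGroup.mk' (γ 2)
  have he' : e * ev β e ∈ γ 1 := by
    have := (inferInstance : (γ 1).Normal).conj_mem _ hsg.he.2 e
    rwa [show e * (ev β e * e) * e⁻¹ = e * ev β e by group] at this
  rw [ev_comm β (hK u) (hK e), hu,
    show ev β e = e ^ (-1 : ℤ) * (e * ev β e) by rw [zpow_neg_one, inv_mul_cancel_left],
    map_commutatorElement, map_mul, map_mul, map_zpow, map_zpow, map_commutatorElement]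
  refine comm_congr ?_ ?_ ?_ ?_ ?_
  · rw [← map_commutatorElement]; exact commute_mk' (lcs_succ_mem h1 u)
  · rw [← map_commutatorElement]; exact commute_mk' (lcs_succ_mem h1 e)
  · rw [hs.sup_eq (by omega : 1 ≤ n - 4)] at hm
    obtain ⟨a, ha, b, hb, rfl⟩ := Subgroup.mem_sup_of_normal_right.1 hm
    obtain ⟨i, rfl⟩ := Subgroup.mem_zpowers_iff.1 ha
    rw [map_mul, map_zpow]
    exact ((Commute.refl _).zpow_left i).mul_left (commute_mk' (lcs_succ_mem hb e))
  · exact commute_mk' (lcs_succ_mem he' u)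
  · exact (commute_mk' (lcs_succ_mem he' m)).symm

/-- A congruence on a layer forces the exponent. -/
theorem dvd_layer (hc : Ctx p n F E₀) {i : ℕ} (hi : 1 ≤ i) {w : ↥S} (hw : w ∈ γ i)
    (hw' : w ∉ γ (i + 1)) {a b : ℤ}
    (h : QuotientGroup.mk' (γ (i + 1)) w ^ a = QuotientGroup.mk' (γ (i + 1)) w ^ b) : (p : ℤ) ∣ a - b :=
  dvd_sub_of_eq (show QuotientGroup.mk' _ w ^ p = 1 by rw [← map_pow]; exact mk'_eq_one (hc.pow_lcs hi hw))
    (fun h1 => hw' ((QuotientGroup.eq_one_iff _).1 h1)) h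

theorem mk'_eq_of_mul_inv_mem {N : Subgroup ↥S} [N.Normal] {a b : ↥S} (h : a * b⁻¹ ∈ N) :
    QuotientGroup.mk' N a = QuotientGroup.mk' N b := by
  have := mk'_eq_one h
  rwa [map_mul, map_inv, mul_inv_eq_one] at this

theorem false_five (hc : Ctx p n F E₀) (hs : Shape p n E₀ e) (hn : n = 5) (he1 : e ∈ layerCent ↥S 1)
    (hW : E₀ ⊓ γ 1 = γ 2) : False := by
  have hp := (Fact.out : p.Prime)
  subst hn
  obtain ⟨x, z, hg⟩ := hc.exists_gen hs
  obtain ⟨β, hβ, ⟨m₀, hm₀, hβm⟩, hsg⟩ := hc.exists_base hs hg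
  have hz3 : z ∈ γ 3 := hg.hz ▸ mem_layerCent.1 he1 x hg.hx
  have hzγ : Subgroup.zpowers z = γ 3 := hc.eq_of_normal_zpowers hs hg hz3
  have hzW : z ∈ γ 2 := hW ▸ hg.hzW
  have hcard : ∀ i, 1 ≤ i → Nat.card (γ i) = p ^ (5 - 1 - i) := fun i hi =>
    Pearl.card_lcs hc.three_le hc.card hc.cls hi
  obtain ⟨β', hβ', -, hag⟩ := hc.extend_tower hs (j := 1) le_rfl le_rfl hβ hβm hm₀
    (fun i => match i with | 0 => ⊥ | 1 => Subgroup.zpowers z | 2 => γ 2 | 3 => γ 1 | _ => E₀ ⊔ γ 1)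
    4 rfl rfl
    (by
      intro i hi
      interval_cases i
      exacts [bot_le, Subgroup.zpowers_le.2 hzW, lcs_le one_le_two, le_sup_right])
    (by
      intro i hi
      interval_cases i
      · show Nat.card (Subgroup.zpowers z) ≤ p * Nat.card (⊥ : Subgroup ↥S)
        rw [hzγ, hcard 3 (by omega), Subgroup.card_bot, mul_one]
        norm_num
      · show Nat.card (γ 2) ≤ p * Nat.card (Subgroup.zpowers z)
        rw [hzγ, hcard 3 (by omega), hcard 2 (by omega), ← pow_succ']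
      · show Nat.card (γ 1) ≤ p * Nat.card (γ 2)
        rw [hcard 1 le_rfl, hcard 2 (by omega), ← pow_succ']
      · show Nat.card ↥(E₀ ⊔ γ 1) ≤ p * Nat.card (γ 1)
        rw [hcard 1 le_rfl, hs.card_sup hc.card hc.cls hc.h5 le_rfl le_rfl, ← pow_succ'])
    (by
      intro i hi a ha
      interval_cases i
      · rw [Subgroup.mem_bot.1 ha, ev_apply β (one_mem _),
          show (⟨1, one_mem _⟩ : ↥(E₀ ⊔ γ 1)) = 1 from rfl, map_one]
        exact Subgroup.mem_bot.2 rfl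
      · obtain ⟨k, rfl⟩ := Subgroup.mem_zpowers_iff.1 ha
        rw [ev_zpow β (Subgroup.mem_sup_left hg.hzW.1), hsg.hz, inv_zpow]
        exact inv_mem (zpow_mem (Subgroup.mem_zpowers z) k)
      · exact hW.le (hsg.hW a (hW.ge ha))
      · exact (hsg.hx a ha).1)
    (by
      intro g _ i hi a ha
      interval_cases i
      · rw [Subgroup.mem_bot.1 ha, mul_one, mul_inv_cancel]; exact Subgroup.mem_bot.2 rfl
      · exact hzγ.ge ((inferInstance : (γ 3).Normal).conj_mem a (hzγ.le ha) g)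
      · exact (inferInstance : (γ 2).Normal).conj_mem a ha g
      · exact (inferInstance : (γ 1).Normal).conj_mem a ha g)
  have hsg' : Signs p 5 E₀ e z (ev β') := hsg.congr
    (fun a ha => hag a (Subgroup.mem_sup_left ha.1)) (hag e (Subgroup.mem_sup_left hs.mem))
    (hag z (Subgroup.mem_sup_left hg.hzW.1)) (fun a ha => hag a (Subgroup.mem_sup_right ha))
  have hK : ∀ g : ↥S, g ∈ E₀ ⊔ γ (1 - 1) := fun g =>
    Subgroup.mem_sup_right (by rw [Nat.sub_self, Subgroup.lowerCentralSeries_zero]; exact Subgroup.mem_top g)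
  obtain ⟨u, hu, hu1, hu2, hdec⟩ := hc.exists_u hs
  obtain ⟨η, m, hm, hum⟩ := hdec (ev β' u)
  have hu_lc := hc.not_mem_layerCent hs le_rfl (by norm_num) he1 hu
  set a1 := ⁅u, e⁆ with ha1
  have ha1W : ev β' a1 * a1⁻¹ ∈ γ 2 := hW.le (hsg'.hx a1 hu1).2
  -- `η = -1`
  have h1 : (p : ℤ) ∣ η * (-1) - 1 := by
    refine hc.dvd_layer le_rfl hu1 hu2 ?_
    rw [zpow_one, ← hc.first_sign hs hK hsg' hu1 hm hum]
    exact mk'_eq_of_mul_inv_mem ha1W
  -- `η = 1`
  set a2 := ⁅a1, u⁆ with ha2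
  have ha2m : a2 ∈ γ 2 := lcs_succ_mem hu1 u
  have ha2n : a2 ∉ γ 3 := fun h =>
    hu_lc ((mem_layerCent_iff_gen hc.three_le hc.card hc.cls le_rfl hu1 hu2).2 h)
  have h2 : (p : ℤ) ∣ 1 * η - 1 := by
    refine hc.dvd_layer one_le_two ha2m ha2n ?_
    have hh : a1⁻¹ * ev β' a1 ∈ γ 2 := by
      have := (inferInstance : (γ 2).Normal).conj_mem _ ha1W a1⁻¹
      rwa [show a1⁻¹ * (ev β' a1 * a1⁻¹) * a1⁻¹⁻¹ = a1⁻¹ * ev β' a1 by group] at this
    have hfix : ev β' a2 * a2⁻¹ ∈ γ 3 :=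
      hzγ.le (hc.W_fix hs hg (fun a _ => hK a) hsg' (hW.ge ha2m))
    conv_rhs => rw [zpow_one, ← mk'_eq_of_mul_inv_mem hfix, ha2, ev_comm β' (hK a1) (hK u), hum,
      show ev β' a1 = a1 ^ (1 : ℤ) * (a1⁻¹ * ev β' a1) by rw [zpow_one, mul_inv_cancel_left]]
    rw [ha2]
    simp only [map_commutatorElement, map_mul, map_zpow]
    refine Eq.symm (comm_congr ?_ ?_ ?_ ?_ ?_)
    · rw [← map_commutatorElement]; exact commute_mk' (lcs_succ_mem ha2m a1)
    · rw [← map_commutatorElement]; exact commute_mk' (lcs_succ_mem ha2m u)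
    · rw [← map_mul]; exact commute_mk' (lcs_succ_mem hh u)
    · exact (commute_mk' (mem_layerCent.1 (hc.sup_le_layerCent hs he1 hm) a1 hu1)).symm
    · rw [← map_mul]; exact commute_mk' (lcs_succ_mem hh m)
  refine not_dvd_two hc.hp5 ?_
  rw [show (2 : ℤ) = -((η * (-1) - 1) + (1 * η - 1)) by ring, dvd_neg]
  exact dvd_add h1 h2

set_option maxHeartbeats 1600000 in
theorem false_six (hc : Ctx p n F E₀) (hs : Shape p n E₀ e) (hn : n = 6) (he1 : e ∈ layerCent ↥S 1)
    (he2 : e ∈ layerCent ↥S 2) (he3 : e ∉ layerCent ↥S 3) : False := by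
  have hp := (Fact.out : p.Prime)
  subst hn
  obtain ⟨x, z, hg⟩ := hc.exists_gen hs
  obtain ⟨β, hβ, ⟨m₀, hm₀, hβm⟩, hsg⟩ := hc.exists_base hs hg
  have hz4 : z ∈ γ 4 := hg.hz ▸ mem_layerCent.1 he2 x hg.hx
  have hzγ : Subgroup.zpowers z = γ 4 := hc.eq_of_normal_zpowers hs hg hz4
  have hcard : ∀ i, 1 ≤ i → Nat.card (γ i) = p ^ (6 - 1 - i) := fun i hi =>
    Pearl.card_lcs hc.three_le hc.card hc.cls hi
  have hW2 : E₀ ⊓ γ 1 ≤ γ 2 := hs.inf_le
  have h4W : γ 4 ≤ E₀ ⊓ γ 1 := hzγ ▸ Subgroup.zpowers_le.2 hg.hzW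
  have hzpow : ∀ {K : Subgroup ↥S} (δ : MulAut ↥K), z ∈ K → ev δ z = z⁻¹ →
      ∀ a ∈ Subgroup.zpowers z, ev δ a ∈ Subgroup.zpowers z := by
    intro K δ hzK hz a ha
    obtain ⟨k, rfl⟩ := Subgroup.mem_zpowers_iff.1 ha
    rw [ev_zpow δ hzK, hz, inv_zpow]
    exact inv_mem (zpow_mem (Subgroup.mem_zpowers z) k)
  have hbot : ∀ {K : Subgroup ↥S} (δ : MulAut ↥K), ∀ a ∈ (⊥ : Subgroup ↥S), ev δ a ∈ (⊥ : Subgroup ↥S) := by
    intro K δ a ha
    rw [Subgroup.mem_bot.1 ha, ev_apply δ (one_mem _), show (⟨1, one_mem _⟩ : ↥K) = 1 from rfl, map_one]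
    exact Subgroup.mem_bot.2 rfl
  have hMnor : ∀ g ∈ E₀ ⊔ γ (2 - 1), ∀ a ∈ E₀ ⊓ γ 1, g * a * g⁻¹ ∈ E₀ ⊓ γ 1 := by
    intro g hg' a ha
    have hle : E₀ ⊔ γ 1 ≤ Subgroup.normalizer ((E₀ ⊓ γ 1 : Subgroup ↥S) : Set ↥S) := by
      refine sup_le (fun b hb => mem_normalizer_of_closure (Subgroup.closure_eq _).symm fun w hw => ?_)
        fun b hb => mem_normalizer_of_closure (Subgroup.closure_eq _).symm fun w hw => ?_
      · rw [commutatorElement_eq_one_iff_mul_comm.2 (hc.self.comm b hb w hw.1)]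
        exact one_mem _
      · exact h4W (lcs_comm_mem (i := 1) (j := 2) hb (hW2 hw))
    exact (Subgroup.mem_normalizer_iff.1 (hle hg') a).1 ha
  -- first step
  obtain ⟨β₁, hβ₁, ⟨m₁, hm₁, hβm₁⟩, hag₁⟩ := hc.extend_tower hs (j := 2) one_le_two le_rfl hβ hβm hm₀
    (fun i => match i with
      | 0 => ⊥ | 1 => Subgroup.zpowers z | 2 => E₀ ⊓ γ 1 | 3 => γ 2 | _ => E₀ ⊔ γ 2)
    4 rfl rfl
    (by
      intro i hi
      interval_cases i
      exacts [bot_le, Subgroup.zpowers_le.2 hg.hzW, hW2, le_sup_right])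
    (by
      intro i hi
      interval_cases i
      · show Nat.card (Subgroup.zpowers z) ≤ p * Nat.card (⊥ : Subgroup ↥S)
        rw [hzγ, hcard 4 (by omega), Subgroup.card_bot, mul_one]
        norm_num
      · show Nat.card ↥(E₀ ⊓ γ 1) ≤ p * Nat.card (Subgroup.zpowers z)
        rw [hzγ, hcard 4 (by omega), hs.card_inf, ← pow_succ']
      · show Nat.card (γ 2) ≤ p * Nat.card ↥(E₀ ⊓ γ 1)
        rw [hcard 2 one_le_two, hs.card_inf, ← pow_succ']
      · show Nat.card ↥(E₀ ⊔ γ 2) ≤ p * Nat.card (γ 2)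
        rw [hcard 2 one_le_two, hs.card_sup hc.card hc.cls hc.h5 one_le_two le_rfl, ← pow_succ']
        norm_num)
    (by
      intro i hi a ha
      interval_cases i
      · exact hbot β a ha
      · exact hzpow β (Subgroup.mem_sup_left hg.hzW.1) hsg.hz a ha
      · exact hsg.hW a ha
      · exact (hsg.hx a ha).1)
    (by
      intro g hgM i hi a ha
      interval_cases i
      · rw [Subgroup.mem_bot.1 ha, mul_one, mul_inv_cancel]; exact Subgroup.mem_bot.2 rfl
      · exact hzγ.ge ((inferInstance : (γ 4).Normal).conj_mem a (hzγ.le ha) g)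
      · show g * a * g⁻¹ ∈ E₀ ⊓ γ 1
        have ha' : a ∈ E₀ ⊓ γ 1 := ha
        exact hMnor g hgM a ha'
      · exact (inferInstance : (γ 2).Normal).conj_mem a ha g)
  have hM : E₀ ⊔ γ (2 - 1) = E₀ ⊔ γ 1 := rfl
  have hsg₁ : Signs p 6 E₀ e z (ev β₁) := hsg.congr
    (fun a ha => hag₁ a (Subgroup.mem_sup_left ha.1)) (hag₁ e (Subgroup.mem_sup_left hs.mem))
    (hag₁ z (Subgroup.mem_sup_left hg.hzW.1)) (fun a ha => hag₁ a (Subgroup.mem_sup_right ha))
  have h1M : γ 1 ≤ E₀ ⊔ γ (2 - 1) := le_sup_right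
  -- commutators of `M` lie in `γ 3`
  have hMM : ∀ a ∈ E₀ ⊔ γ 1, ∀ b ∈ E₀ ⊔ γ 1, ⁅a, b⁆ ∈ γ 3 := by
    intro a ha b hb
    have hle : ⁅E₀ ⊔ γ 1, E₀ ⊔ γ 1⁆ ≤ γ 3 := by
      rw [hs.sup_eq (by norm_num : 1 ≤ 6 - 4), closure_insert_eq]
      refine Pearl.commutator_closure_le _ _ _ ?_
      rintro a (rfl | ha) b (rfl | hb)
      · rw [commutatorElement_self]; exact one_mem _
      · rw [← commutatorElement_inv]; exact inv_mem (mem_layerCent.1 he1 b hb)
      · exact mem_layerCent.1 he1 a ha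
      · exact lcs_comm_mem (i := 1) (j := 1) ha hb
    exact hle (Subgroup.commutator_mem_commutator ha hb)
  have h3 : ∀ a ∈ γ 3, ev β₁ a ∈ γ 3 := by
    obtain ⟨w0, hw0, hw0e⟩ : ∃ w0 ∈ γ 1, ⁅w0, e⁆ ∉ γ 4 := by
      by_contra hcon
      push Not at hcon
      have hle : γ 1 ≤ Subgroup.normalizer (E₀ : Set ↥S) := fun g hg' =>
        mem_normalizer_of_closure (s := insert e ((E₀ ⊓ γ 1 : Subgroup ↥S) : Set ↥S))
          (by rw [← closure_insert_eq, hs.gen]) (by
          rintro b (rfl | hb)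
          · exact (h4W (hcon g hg')).1
          · exact (h4W (lcs_comm_mem (i := 1) (j := 2) hg' (hW2 hb))).1)
      have h := Subgroup.card_le_of_le (sup_le (Subgroup.le_normalizer (H := E₀)) hle)
      rw [hc.norm, hs.card_sup hc.card hc.cls hc.h5 le_rfl (by norm_num)] at h
      have := (Nat.pow_le_pow_iff_right hp.one_lt).1 h
      omega
    have hw1 : ⁅w0, e⁆ ∈ γ 3 := mem_layerCent.1 he1 w0 hw0
    intro a ha
    obtain ⟨b, hb, c, hc', rfl⟩ := Subgroup.mem_sup_of_normal_right.1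
      ((zpowers_sup_eq hc.three_le hc.card hc.cls (by norm_num : 1 ≤ 3) hw1 hw0e).ge ha)
    obtain ⟨k, rfl⟩ := Subgroup.mem_zpowers_iff.1 hb
    have hw0M : w0 ∈ E₀ ⊔ γ (2 - 1) := h1M hw0
    have heM : e ∈ E₀ ⊔ γ (2 - 1) := Subgroup.mem_sup_left hs.mem
    have hwM : ⁅w0, e⁆ ∈ E₀ ⊔ γ (2 - 1) := h1M (lcs_le (by norm_num) hw1)
    rw [ev_mul β₁ (zpow_mem hwM k) (h1M (lcs_le (by norm_num) hc')), ev_zpow β₁ hwM,
      ev_comm β₁ hw0M heM]
    refine mul_mem (zpow_mem (hMM _ (ev_mem β₁ hw0M) _ (ev_mem β₁ heM)) k) (lcs_le (by norm_num : 3 ≤ 4) ?_)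
    exact hzγ.le (hzpow β₁ (Subgroup.mem_sup_left hg.hzW.1) hsg₁.hz c (hzγ.ge hc'))
  have h1 : ∀ a ∈ γ 1, ev β₁ a ∈ γ 1 := by
    intro a ha
    have hmem : ev β₁ a ∈ Subgroup.zpowers e ⊔ γ 1 :=
      (hs.sup_eq (by norm_num : 1 ≤ 6 - 4)).le (ev_mem β₁ (h1M ha))
    obtain ⟨b, hb, c, hc', hbc⟩ := Subgroup.mem_sup_of_normal_right.1 hmem
    obtain ⟨i, rfl⟩ := Subgroup.mem_zpowers_iff.1 hb
    have hlc : e ^ i ∈ layerCent ↥S 3 := by
      have h : ev β₁ a ∈ layerCent ↥S 3 := by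
        refine mem_layerCent.2 fun w hw => ?_
        obtain ⟨w', hw', rfl⟩ := exists_ev_eq β₁ ((lcs_le (by norm_num)).trans h1M) h3 hw
        rw [← ev_comm β₁ (h1M (lcs_le (by norm_num) hw')) (h1M ha),
          commutatorElement_eq_one_iff_mul_comm.2
            (commute_of_lcs hc.three_le hc.card (by norm_num) hw' ha).eq,
          ev_apply β₁ (one_mem _), show (⟨1, one_mem _⟩ : ↥(E₀ ⊔ γ (2 - 1))) = 1 from rfl, map_one]
        exact Subgroup.one_mem _
      rw [← hbc] at h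
      simpa using mul_mem h (inv_mem (lcs_one_le_layerCent 3 hc'))
    rw [zpow_eq_one_of_mem hs.pow_eq he3 hlc, one_mul] at hbc
    exact hbc ▸ hc'
  -- second step
  obtain ⟨β₂, hβ₂, -, hag₂⟩ := hc.extend_tower hs (j := 1) le_rfl (by norm_num) hβ₁ hβm₁ hm₁
    (fun i => match i with
      | 0 => ⊥ | 1 => Subgroup.zpowers z | 2 => γ 3 | 3 => γ 2 | 4 => γ 1 | _ => E₀ ⊔ γ 1)
    5 rfl rfl
    (by
      intro i hi
      interval_cases i
      exacts [bot_le, hzγ.le.trans (lcs_le (by norm_num)), lcs_le (by norm_num), lcs_le one_le_two,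
        le_sup_right])
    (by
      intro i hi
      interval_cases i
      · show Nat.card (Subgroup.zpowers z) ≤ p * Nat.card (⊥ : Subgroup ↥S)
        rw [hzγ, hcard 4 (by omega), Subgroup.card_bot, mul_one]
        norm_num
      · show Nat.card (γ 3) ≤ p * Nat.card (Subgroup.zpowers z)
        rw [hzγ, hcard 4 (by omega), hcard 3 (by omega), ← pow_succ']
      · show Nat.card (γ 2) ≤ p * Nat.card (γ 3)
        rw [hcard 3 (by omega), hcard 2 (by omega), ← pow_succ']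
      · show Nat.card (γ 1) ≤ p * Nat.card (γ 2)
        rw [hcard 1 le_rfl, hcard 2 (by omega), ← pow_succ']
      · show Nat.card ↥(E₀ ⊔ γ 1) ≤ p * Nat.card (γ 1)
        rw [hcard 1 le_rfl, hs.card_sup hc.card hc.cls hc.h5 le_rfl (by norm_num), ← pow_succ'])
    (by
      intro i hi a ha
      interval_cases i
      · exact hbot β₁ a ha
      · exact hzpow β₁ (Subgroup.mem_sup_left hg.hzW.1) hsg₁.hz a ha
      · exact h3 a ha
      · exact (hsg₁.hx a ha).1
      · exact h1 a ha)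
    (by
      intro g _ i hi a ha
      interval_cases i
      · rw [Subgroup.mem_bot.1 ha, mul_one, mul_inv_cancel]; exact Subgroup.mem_bot.2 rfl
      · exact hzγ.ge ((inferInstance : (γ 4).Normal).conj_mem a (hzγ.le ha) g)
      · exact (inferInstance : (γ 3).Normal).conj_mem a ha g
      · exact (inferInstance : (γ 2).Normal).conj_mem a ha g
      · exact (inferInstance : (γ 1).Normal).conj_mem a ha g)
  have hsg₂ : Signs p 6 E₀ e z (ev β₂) := hsg₁.congr
    (fun a ha => hag₂ a (Subgroup.mem_sup_left ha.1)) (hag₂ e (Subgroup.mem_sup_left hs.mem))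
    (hag₂ z (Subgroup.mem_sup_left hg.hzW.1))
    (fun a ha => hag₂ a (Subgroup.mem_sup_right (lcs_le one_le_two ha)))
  have hK : ∀ g : ↥S, g ∈ E₀ ⊔ γ (1 - 1) := fun g =>
    Subgroup.mem_sup_right (by rw [Nat.sub_self, Subgroup.lowerCentralSeries_zero]; exact Subgroup.mem_top g)
  -- everything in `γ 2` is fixed modulo `γ 4`
  have hnW : ¬ E₀ ⊓ γ 1 ≤ γ 3 := by
    intro hle
    refine he3 (mem_layerCent.2 fun w hw => ?_)
    have hwW := (Subgroup.eq_of_le_of_card_ge hle (by rw [hs.card_inf, hcard 3 (by omega)])).ge hw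
    rw [commutatorElement_eq_one_iff_mul_comm.2 (hc.self.comm w hwW.1 e hs.mem)]
    exact one_mem _
  have h2eq : (E₀ ⊓ γ 1) ⊔ γ 3 = γ 2 := by
    refine Subgroup.eq_of_le_of_card_ge (sup_le hW2 (lcs_le (by norm_num))) ?_
    have := PGroup.mul_card_le_card (IsPGroup.of_card hc.card) (H := γ 3)
      (K := (E₀ ⊓ γ 1) ⊔ γ 3) (right_lt_sup.2 hnW)
    rw [hcard 3 (by omega), ← pow_succ'] at this
    rwa [hcard 2 (by omega)]
  have hfix2 : ∀ y ∈ γ 2, ev β₂ y * y⁻¹ ∈ γ 4 := by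
    intro y hy
    obtain ⟨w, hw, v, hv, rfl⟩ := Subgroup.mem_sup_of_normal_right.1 (h2eq.ge hy)
    have hv3 : ev β₂ v ∈ γ 3 := by
      rw [hag₂ v (Subgroup.mem_sup_right (lcs_le (by norm_num) hv))]
      exact h3 v hv
    have hv4 : ev β₂ v * v⁻¹ ∈ γ 4 := by
      by_contra hn4
      have h3' : γ 3 ≤ E₀ ⊓ γ 1 := by
        rw [← zpowers_sup_eq hc.three_le hc.card hc.cls (by norm_num : 1 ≤ 3)
          (mul_mem hv3 (inv_mem hv)) hn4]
        exact sup_le (Subgroup.zpowers_le.2 (hsg₂.hx v (lcs_le (by norm_num) hv)).2) h4W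
      exact hnW (Subgroup.eq_of_le_of_card_ge h3' (by rw [hs.card_inf, hcard 3 (by omega)])).ge
    rw [ev_mul β₂ (hK w) (hK v), show ev β₂ w * ev β₂ v * (w * v)⁻¹ =
      ev β₂ w * (ev β₂ v * v⁻¹) * w⁻¹ by group,
      show ev β₂ w * (ev β₂ v * v⁻¹) * w⁻¹ = ev β₂ w * (ev β₂ v * v⁻¹) * (ev β₂ w)⁻¹ * (ev β₂ w * w⁻¹) by group]
    exact mul_mem ((inferInstance : (γ 4).Normal).conj_mem _ hv4 _)
      (hzγ.le (hc.W_fix hs hg (fun a _ => hK a) hsg₂ hw))
  obtain ⟨u, hu, hu1, hu2, hdec⟩ := hc.exists_u hs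
  obtain ⟨η, m, hm, hum⟩ := hdec (ev β₂ u)
  set a1 := ⁅u, e⁆ with ha1
  set a2 := ⁅a1, u⁆ with ha2
  set a3 := ⁅a2, u⁆ with ha3
  have ha2m : a2 ∈ γ 2 := lcs_succ_mem hu1 u
  have ha2n : a2 ∉ γ 3 := fun h => hc.not_mem_layerCent hs le_rfl (by norm_num) he1 hu
    ((mem_layerCent_iff_gen hc.three_le hc.card hc.cls le_rfl hu1 hu2).2 h)
  have ha3m : a3 ∈ γ 3 := lcs_succ_mem ha2m u
  have ha3n : a3 ∉ γ 4 := fun h => hc.not_mem_layerCent hs one_le_two (by norm_num) he2 hu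
    ((mem_layerCent_iff_gen hc.three_le hc.card hc.cls one_le_two ha2m ha2n).2 h)
  have h2 : (p : ℤ) ∣ η * (-1) * η - 1 := by
    refine hc.dvd_layer one_le_two ha2m ha2n ?_
    have hh : (a1 ^ (η * (-1)))⁻¹ * ev β₂ a1 ∈ γ 2 := by
      refine (QuotientGroup.eq_one_iff _).1 ?_
      show QuotientGroup.mk' (γ 2) _ = 1
      rw [map_mul, map_inv, map_zpow, inv_mul_eq_one, hc.first_sign hs hK hsg₂ hu1 hm hum]
    conv_rhs => rw [zpow_one, ← mk'_eq_of_mul_inv_mem (lcs_le (by norm_num : 3 ≤ 4) (hfix2 a2 ha2m)), ha2,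
      ev_comm β₂ (hK a1) (hK u), hum,
      show ev β₂ a1 = a1 ^ (η * (-1)) * ((a1 ^ (η * (-1)))⁻¹ * ev β₂ a1) by rw [mul_inv_cancel_left]]
    rw [ha2]
    simp only [map_commutatorElement, map_mul, map_zpow, map_inv]
    refine Eq.symm (comm_congr ?_ ?_ ?_ ?_ ?_)
    · rw [← map_commutatorElement]; exact commute_mk' (lcs_succ_mem ha2m a1)
    · rw [← map_commutatorElement]; exact commute_mk' (lcs_succ_mem ha2m u)
    · rw [← map_zpow, ← map_inv, ← map_mul]; exact commute_mk' (lcs_succ_mem hh u)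
    · exact (commute_mk' (mem_layerCent.1 (hc.sup_le_layerCent hs he1 hm) a1 hu1)).symm
    · rw [← map_zpow, ← map_inv, ← map_mul]; exact commute_mk' (lcs_succ_mem hh m)
  have h3 : (p : ℤ) ∣ 1 * η - 1 := by
    refine hc.dvd_layer (by norm_num) ha3m ha3n ?_
    have hh : a2⁻¹ * ev β₂ a2 ∈ γ 4 := by
      have := (inferInstance : (γ 4).Normal).conj_mem _ (hfix2 a2 ha2m) a2⁻¹
      rwa [show a2⁻¹ * (ev β₂ a2 * a2⁻¹) * a2⁻¹⁻¹ = a2⁻¹ * ev β₂ a2 by group] at this
    conv_rhs => rw [zpow_one, ← mk'_eq_of_mul_inv_mem (hfix2 a3 (lcs_le (by norm_num) ha3m)), ha3,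
      ev_comm β₂ (hK a2) (hK u), hum,
      show ev β₂ a2 = a2 ^ (1 : ℤ) * (a2⁻¹ * ev β₂ a2) by rw [zpow_one, mul_inv_cancel_left]]
    rw [ha3]
    simp only [map_commutatorElement, map_mul, map_zpow, map_inv]
    refine Eq.symm (comm_congr ?_ ?_ ?_ ?_ ?_)
    · rw [← map_commutatorElement]; exact commute_mk' (lcs_succ_mem ha3m a2)
    · rw [← map_commutatorElement]; exact commute_mk' (lcs_succ_mem ha3m u)
    · rw [← map_inv, ← map_mul]
      exact commute_mk' (lcs_succ_mem (lcs_le (by norm_num : 3 ≤ 4) hh) u)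
    · exact (commute_mk' (mem_layerCent.1 (hc.sup_le_layerCent hs he2 hm) a2 ha2m)).symm
    · rw [← map_inv, ← map_mul]
      exact commute_mk' (lcs_succ_mem (lcs_le (by norm_num : 3 ≤ 4) hh) m)
  refine not_dvd_two hc.hp5 ?_
  rw [show (2 : ℤ) = -((η * (-1) * η - 1) + (1 * η - 1) * (η + 1)) by ring, dvd_neg]
  exact dvd_add h2 (dvd_mul_of_dvd_left h3 _)

/-- The tower in the third configuration. -/
theorem exists_tower (hc : Ctx p n F E₀) (hs : Shape p n E₀ e) (hg : Gen p n E₀ e x z) (h6 : 6 ≤ n)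
    (hlast : e ∈ layerCent ↥S (n - 3)) (hno : ∀ i, 1 ≤ i → i + 4 ≤ n → e ∉ layerCent ↥S i)
    (hW : E₀ ⊓ γ 1 = γ (n - 3)) : ∀ d, d + 5 ≤ n →
    ∃ β ∈ aut F (E₀ ⊔ γ (n - 4 - d)), (∃ m, ¬ p ∣ m ∧ β ^ m = 1) ∧ Signs p n E₀ e z (ev β) ∧
      ∀ i, n - 4 - d ≤ i → i ≤ n - 3 → ∀ a ∈ γ i, ev β a ∈ γ i := by
  have hp := (Fact.out : p.Prime)
  have hn := hc.three_le
  intro d
  induction d with
  | zero =>
    intro _
    obtain ⟨β, hβ, hm, hsg⟩ := hc.exists_base hs hg
    refine ⟨β, hβ, hm, hsg, fun i hi hi' a ha => ?_⟩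
    rcases Nat.lt_or_eq_of_le hi' with h | rfl
    · obtain rfl : i = n - 4 := by omega
      exact (hsg.hx a ha).1
    · exact hW.le (hsg.hW a (hW.ge ha))
  | succ d ih =>
    intro hd
    have ih' := ih (by omega)
    clear ih
    rw [show n - 4 - (d + 1) = n - 4 - d - 1 by omega]
    obtain ⟨j, hjdef⟩ : ∃ j, n - 4 - d = j := ⟨_, rfl⟩
    rw [hjdef] at ih' ⊢
    obtain ⟨β, hβ, ⟨m, hm, hβm⟩, hsg, hinv⟩ := ih'
    have hj2 : 2 ≤ j := by omega
    have hjn : j ≤ n - 4 := by omega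
    have hzK : z ∈ E₀ ⊔ γ j := Subgroup.mem_sup_left hg.hzW.1
    have hzW' : Subgroup.zpowers z ≤ γ (n - 3) := Subgroup.zpowers_le.2 (hW.le hg.hzW)
    have hzcard : Nat.card (Subgroup.zpowers z) = p := by
      rw [Nat.card_zpowers, orderOf_eq_prime (hc.self.pow z hg.hzW.1) hg.hz1]
    have hcen : ∀ g ∈ E₀ ⊔ γ (j - 1), ∀ a ∈ γ (n - 3), g * a * g⁻¹ = a := by
      intro g hg' a ha
      have hle : E₀ ⊔ γ (j - 1) ≤ Subgroup.centralizer ({a} : Set ↥S) :=
        sup_le (fun b hb => Subgroup.mem_centralizer_singleton_iff.2 (hc.self.comm b hb a (hW.ge ha).1))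
          fun b hb => Subgroup.mem_centralizer_singleton_iff.2
            (commute_of_lcs hn hc.card (by omega) (lcs_le (by omega : 1 ≤ j - 1) hb) ha).eq
      rw [Subgroup.mem_centralizer_singleton_iff.1 (hle hg'), mul_inv_cancel_right]
    obtain ⟨f, hf⟩ : ∃ f : ℕ → Subgroup ↥S, f = fun i => if i = 0 then ⊥ else
        if i = 1 then Subgroup.zpowers z else if i < n - j then γ (n - 1 - i) else E₀ ⊔ γ j := ⟨_, rfl⟩
    have f0 : f 0 = ⊥ := by simp [hf]
    have f1 : f 1 = Subgroup.zpowers z := by simp [hf]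
    have fi : ∀ i, 2 ≤ i → i < n - j → f i = γ (n - 1 - i) := fun i h1 h2 => by
      simp only [hf]
      rw [if_neg (by omega : ¬ i = 0), if_neg (by omega : ¬ i = 1), if_pos h2]
    have fN : f (n - j) = E₀ ⊔ γ j := by
      simp only [hf]
      rw [if_neg (by omega : ¬ n - j = 0), if_neg (by omega : ¬ n - j = 1), if_neg (lt_irrefl _)]
    have htrich : ∀ i, i < n - j → i = 0 ∨ i = 1 ∨
        (2 ≤ i ∧ (i + 1 < n - j ∨ i + 1 = n - j)) := fun i _ => by omega
    obtain ⟨β', hβ', ⟨m', hm', hβm'⟩, hag⟩ := hc.extend_tower hs (j := j) (by omega) hjn hβ hβm hm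
      f (n - j) f0 fN
      (by
        intro i hi
        rcases htrich i hi with rfl | rfl | ⟨h2, h | h⟩
        · rw [f0]; exact bot_le
        · rw [f1, fi (1 + 1) le_rfl (by omega), show n - 1 - (1 + 1) = n - 3 by omega]
          exact hzW'
        · rw [fi i h2 hi, fi (i + 1) (by omega) h]
          exact lcs_le (by omega)
        · rw [fi i h2 hi, h, fN, show n - 1 - i = j by omega]
          exact le_sup_right)
      (by
        intro i hi
        rcases htrich i hi with rfl | rfl | ⟨h2, h | h⟩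
        · rw [show 0 + 1 = 1 from rfl, f1, f0, hzcard, Subgroup.card_bot, mul_one]
        · rw [f1, fi (1 + 1) le_rfl (by omega), hzcard, Pearl.card_lcs hn hc.card hc.cls (by omega),
            show n - 1 - (n - 1 - (1 + 1)) = 2 by omega, sq]
        · rw [fi i h2 hi, fi (i + 1) (by omega) h, Pearl.card_lcs hn hc.card hc.cls (by omega),
            Pearl.card_lcs hn hc.card hc.cls (by omega), ← pow_succ']
          exact Nat.pow_le_pow_right hp.pos (by omega)
        · rw [fi i h2 hi, h, fN, hs.card_sup hc.card hc.cls hc.h5 (by omega) hjn,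
            Pearl.card_lcs hn hc.card hc.cls (by omega), ← pow_succ']
          exact Nat.pow_le_pow_right hp.pos (by omega))
      (by
        intro i hi a ha
        rcases htrich i hi with rfl | rfl | ⟨h2, -⟩
        · rw [f0] at ha ⊢
          rw [Subgroup.mem_bot.1 ha, ev_apply β (one_mem _), show (⟨1, one_mem _⟩ : ↥(E₀ ⊔ γ j)) = 1 from rfl,
            map_one]
          exact Subgroup.mem_bot.2 rfl
        · rw [f1] at ha ⊢
          obtain ⟨k, rfl⟩ := Subgroup.mem_zpowers_iff.1 ha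
          rw [ev_zpow β hzK, hsg.hz, inv_zpow]
          exact inv_mem (zpow_mem (Subgroup.mem_zpowers z) k)
        · rw [fi i h2 hi] at ha ⊢
          exact hinv _ (by omega) (by omega) a ha)
      (by
        intro g hg' i hi a ha
        rcases htrich i hi with rfl | rfl | ⟨h2, -⟩
        · rw [f0] at ha ⊢
          rw [Subgroup.mem_bot.1 ha, mul_one, mul_inv_cancel]; exact Subgroup.mem_bot.2 rfl
        · rw [f1] at ha ⊢
          rw [hcen g hg' a (hzW' ha)]; exact ha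
        · rw [fi i h2 hi] at ha ⊢
          exact (inferInstance : (γ (n - 1 - i)).Normal).conj_mem a ha g)
    have hsg' : Signs p n E₀ e z (ev β') := hsg.congr
      (fun a ha => hag a (Subgroup.mem_sup_left ha.1)) (hag e (Subgroup.mem_sup_left hs.mem))
      (hag z hzK) (fun a ha => hag a (Subgroup.mem_sup_right (lcs_le hjn ha)))
    have hinv' : ∀ i, j ≤ i → i ≤ n - 3 → ∀ a ∈ γ i, ev β' a ∈ γ i := fun i hi hi' a ha => by
      rw [hag a (Subgroup.mem_sup_right (lcs_le hi ha))]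
      exact hinv i hi hi' a ha
    refine ⟨β', hβ', ⟨m', hm', hβm'⟩, hsg', fun i hi hi' a ha => ?_⟩
    rcases Nat.lt_or_ge i j with hij | hij
    swap
    · exact hinv' i hij hi' a ha
    obtain rfl : i = j - 1 := by omega
    have heK : e ∈ E₀ ⊔ γ (j - 1) := Subgroup.mem_sup_left hs.mem
    have hγK : ∀ {b}, b ∈ γ (j - 1) → b ∈ E₀ ⊔ γ (j - 1) := fun h => Subgroup.mem_sup_right h
    have hdec : ∀ {b}, b ∈ γ (j - 1) → ∃ c : ℤ, ∃ h ∈ γ (j - 1), e ^ c * h = ev β' b := by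
      intro b hb
      obtain ⟨a', ha', h, hh, hah⟩ := Subgroup.mem_sup_of_normal_right.1
        ((hs.sup_eq (by omega : j - 1 ≤ n - 4)).le (ev_mem β' (hγK hb)))
      obtain ⟨c, rfl⟩ := Subgroup.mem_zpowers_iff.1 ha'
      exact ⟨c, h, hh, hah⟩
    by_cases hj5 : j + 5 ≤ n
    · -- the new term is the centraliser of a layer
      obtain ⟨c, h, hh, hah⟩ := hdec ha
      have hmem : ev β' a ∈ layerCent ↥S j := by
        refine mem_layerCent.2 fun w hw => ?_
        obtain ⟨w', hw', rfl⟩ := exists_ev_eq β' (fun b hb => hγK (lcs_le (Nat.sub_le j 1) hb))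
          (hinv' j le_rfl (by omega)) hw
        rw [← ev_comm β' (hγK (lcs_le (Nat.sub_le j 1) hw')) (hγK ha)]
        exact hinv' (j + 2) (by omega) (by omega) _
          (lcs_le (by omega) (lcs_comm_mem hw' ha))
      rw [← hah] at hmem
      have hlc : e ^ c ∈ layerCent ↥S j := by
        simpa using mul_mem hmem (inv_mem (lcs_one_le_layerCent j (lcs_le (by omega : 1 ≤ j - 1) hh)))
      rw [zpow_eq_one_of_mem hs.pow_eq (hno j (by omega) (by omega)) hlc, one_mul] at hah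
      exact hah ▸ hh
    · -- the first new term
      have hjq : j = n - 4 := by omega
      have hq2 : j + 1 = n - 3 := by omega
      obtain ⟨w, hw, hw'⟩ := exists_layer_gen hn hc.card hc.cls (by omega : j - 1 ≤ n - 2)
      rw [show j - 1 + 1 = j by omega] at hw'
      have hspan : Subgroup.zpowers w ⊔ γ j = γ (j - 1) := by
        have := zpowers_sup_eq hn hc.card hc.cls (i := j - 1) (by omega) hw (by
          rw [show j - 1 + 1 = j by omega]; exact hw')
        rwa [show j - 1 + 1 = j by omega] at this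
      suffices hσw : ev β' w ∈ γ (j - 1) by
        obtain ⟨b, hb, v, hv, rfl⟩ := Subgroup.mem_sup_of_normal_right.1 (hspan.ge ha)
        obtain ⟨k, rfl⟩ := Subgroup.mem_zpowers_iff.1 hb
        rw [ev_mul β' (hγK (zpow_mem hw k)) (hγK (lcs_le (Nat.sub_le j 1) hv)), ev_zpow β' (hγK hw)]
        exact mul_mem (zpow_mem hσw k) (lcs_le (Nat.sub_le j 1) (hinv' j le_rfl (by omega) v hv))
      obtain ⟨c, h, hh, hah⟩ := hdec hw
      obtain ⟨b', hb', h', hh', rfl⟩ := Subgroup.mem_sup_of_normal_right.1 (hspan.ge hh)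
      obtain ⟨b, rfl⟩ := Subgroup.mem_zpowers_iff.1 hb'
      -- modulo `γ (j + 1)`
      let π1 := QuotientGroup.mk' (γ (j + 1))
      set x1 := ⁅w, e⁆ with hx1
      have hx1m : x1 ∈ γ j := by
        have := lcs_succ_mem hw e
        rwa [show j - 1 + 1 = j by omega] at this
      have hx1n : x1 ∉ γ (j + 1) := fun h1 => hno (j - 1) (by omega) (by omega)
        ((mem_layerCent_iff_gen hn hc.card hc.cls (by omega) hw (by
          rw [show j - 1 + 1 = j by omega]; exact hw')).2 (by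
          rwa [show j - 1 + 2 = j + 1 by omega]))
      have hee : π1 (ev β' e) = π1 e ^ (-1 : ℤ) := by
        rw [zpow_neg_one, ← map_inv]
        exact mk'_eq_of_mul_inv_mem (by rw [inv_inv, hq2]; exact hW.le hsg'.he)
      have hb : (p : ℤ) ∣ b * (-1) - 1 := by
        refine hc.dvd_layer (by omega) hx1m hx1n ?_
        have hx1f : ev β' x1 * x1⁻¹ ∈ γ (j + 1) := by
          rw [hq2]; exact hW.le (hsg'.hx x1 (hjq ▸ hx1m)).2
        conv_rhs => rw [zpow_one, ← mk'_eq_of_mul_inv_mem hx1f, hx1, ev_comm β' (hγK hw) heK, ← hah]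
        rw [hx1]
        simp only [map_commutatorElement, map_mul, map_zpow]
        rw [show QuotientGroup.mk' (γ (j + 1)) (ev β' e) = π1 e ^ (-1 : ℤ) from hee]
        have hcen1 : ∀ {q}, q ∈ γ j → ∀ g, Commute (π1 q) (π1 g) := fun hq g =>
          commute_mk' (lcs_succ_mem hq g)
        have key : ⁅π1 w ^ b * π1 h', π1 e ^ (-1 : ℤ) * 1⁆ = ⁅π1 w, π1 e⁆ ^ (b * (-1)) :=
          comm_congr (by rw [← map_commutatorElement]; exact hcen1 hx1m w)
            (by rw [← map_commutatorElement]; exact hcen1 hx1m e) (hcen1 hh' e) (Commute.one_left _)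
            (Commute.one_right _)
        rw [mul_one] at key
        have hkc : Commute (π1 e ^ c) ⁅π1 w ^ b * π1 h', π1 e ^ (-1 : ℤ)⁆ := by
          rw [key, ← map_commutatorElement]
          exact ((hcen1 hx1m e).zpow_zpow (b * (-1)) c).symm
        have hsplit : ⁅π1 e ^ c * (π1 w ^ b * π1 h'), π1 e ^ (-1 : ℤ)⁆ =
            π1 e ^ c * ⁅π1 w ^ b * π1 h', π1 e ^ (-1 : ℤ)⁆ * (π1 e ^ c)⁻¹ *
              ⁅π1 e ^ c, π1 e ^ (-1 : ℤ)⁆ := by
          simp only [commutatorElement_def]; group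
        rw [hsplit, hkc.eq, mul_inv_cancel_right,
          commutatorElement_eq_one_iff_mul_comm.2 ((Commute.refl (π1 e)).zpow_zpow c (-1)).eq, mul_one, key]
      -- modulo `γ j`
      let π := QuotientGroup.mk' (γ j)
      have hwe : Commute (π w) (π e) := commute_mk' hx1m
      have hπee : π (ev β' e) = π e ^ (-1 : ℤ) := by
        rw [zpow_neg_one, ← map_inv]
        exact mk'_eq_of_mul_inv_mem (by
          rw [inv_inv]; exact lcs_le (by omega) (hW.le hsg'.he))
      have hwp : π w ^ p = 1 := by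
        rw [← map_pow]
        refine mk'_eq_one ?_
        have := hc.pow_lcs (by omega : 1 ≤ j - 1) hw
        rwa [show j - 1 + 1 = j by omega] at this
      have hσw : π (ev β' w) = π e ^ c * π w ^ (-1 : ℤ) := by
        rw [← hah, map_mul, map_mul, map_zpow, map_zpow, mk'_eq_one hh', mul_one]
        congr 1
        refine zpow_eq_zpow_of_dvd hwp ?_
        rw [show b - (-1) = -(b * (-1) - 1) by ring, dvd_neg]
        exact hb
      have hstep : ∀ k : ℤ, ∀ y ∈ E₀ ⊔ γ (j - 1), π y = π w * π e ^ k →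
          π (ev β' y) = π w ^ (-1 : ℤ) * π e ^ (c - k) := by
        intro k y hy hyk
        have hq : (w * e ^ k)⁻¹ * y ∈ γ j := by
          refine (QuotientGroup.eq_one_iff _).1 ?_
          show π _ = 1
          rw [map_mul, map_inv, map_mul, map_zpow, hyk, inv_mul_cancel]
        conv_lhs => rw [show y = w * e ^ k * ((w * e ^ k)⁻¹ * y) by group]
        rw [ev_mul β' (mul_mem (hγK hw) (zpow_mem heK k)) (hγK (lcs_le (Nat.sub_le j 1) hq)),
          ev_mul β' (hγK hw) (zpow_mem heK k), ev_zpow β' heK, map_mul, map_mul, map_zpow, hσw, hπee,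
          mk'_eq_one (hinv' j le_rfl (by omega) _ hq), mul_one, ← zpow_mul, mul_assoc,
          (hwe.zpow_zpow (-1) (-1 * k)).eq, ← mul_assoc, ← zpow_add,
          (hwe.zpow_zpow (-1) (c + -1 * k)).eq.symm]
        congr 2
        ring
      have hiter : ∀ i : ℕ, π ((ev β')^[2 * i] w) = π w * π e ^ (-2 * c * i) := by
        intro i
        induction i with
        | zero => simp
        | succ i ih =>
          have hyK : (ev β')^[2 * i] w ∈ E₀ ⊔ γ (j - 1) := by
            rw [← ev_pow β' (hγK hw)]; exact ev_mem _ (hγK hw)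
          have h1 := hstep _ _ hyK ih
          rw [show 2 * (i + 1) = 2 * i + 1 + 1 by ring, Function.iterate_succ_apply',
            Function.iterate_succ_apply']
          set y1 := ev β' ((ev β')^[2 * i] w) with hy1
          have hy1K : y1 ∈ E₀ ⊔ γ (j - 1) := ev_mem β' hyK
          have h2 := hstep (-(c - -2 * c * i)) y1⁻¹ (inv_mem hy1K) (by
            rw [map_inv, h1, mul_inv_rev, ← zpow_neg, ← zpow_neg, neg_neg, zpow_one,
              (hwe.zpow_right _).eq.symm])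
          rw [ev_inv β' hy1K, map_inv, inv_eq_iff_eq_inv] at h2
          rw [h2, mul_inv_rev, ← zpow_neg, ← zpow_neg, neg_neg, zpow_one, ← (hwe.zpow_right _).eq]
          congr 2
          push_cast
          ring
      have h2m := hiter m'
      rw [← ev_pow β' (hγK hw), mul_comm 2 m', pow_mul, hβm', one_pow, ev_apply _ (hγK hw)] at h2m
      have h0 : π e ^ (-2 * c * (m' : ℤ)) = 1 := mul_left_cancel ((h2m.symm).trans (mul_one (π w)).symm)
      rw [← map_zpow] at h0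
      have he0 := zpow_eq_one_of_mem hs.pow_eq (hs.not_mem_lcs (by omega : 1 ≤ j))
        ((QuotientGroup.eq_one_iff _).1 h0)
      rw [← orderOf_dvd_iff_zpow_eq_one,
        orderOf_eq_prime hs.pow_eq (fun h1 => hs.nmem (h1 ▸ one_mem _))] at he0
      have hcdvd : (p : ℤ) ∣ c := by
        have hP := Nat.prime_iff_prime_int.mp hp
        rcases hP.dvd_or_dvd he0 with h1 | h1
        · rcases hP.dvd_or_dvd h1 with h2 | h2
          · exact absurd (dvd_neg.1 h2) (not_dvd_two hc.hp5)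
          · exact h2
        · exact absurd (Int.natCast_dvd_natCast.1 h1) hm'
      rw [← hah, zpow_eq_zpow_of_dvd hs.pow_eq (b := 0) (by rwa [sub_zero]), zpow_zero, one_mul]
      exact hh

theorem false_tower (hc : Ctx p n F E₀) (hs : Shape p n E₀ e) (h6 : 6 ≤ n) (heven : Even n)
    (hlast : e ∈ layerCent ↥S (n - 3)) (hno : ∀ i, 1 ≤ i → i + 4 ≤ n → e ∉ layerCent ↥S i)
    (hW : E₀ ⊓ γ 1 = γ (n - 3)) : False := by
  have hp := (Fact.out : p.Prime)
  have hn := hc.three_le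
  obtain ⟨x, z, hg⟩ := hc.exists_gen hs
  obtain ⟨β, hβ, -, hsg, hinv⟩ := hc.exists_tower hs hg h6 hlast hno hW (n - 5) (by omega)
  have hK : ∀ {a}, a ∈ γ 1 → a ∈ E₀ ⊔ γ (n - 4 - (n - 5)) := fun ha =>
    Subgroup.mem_sup_right (lcs_le (by omega) ha)
  have heK : e ∈ E₀ ⊔ γ (n - 4 - (n - 5)) := Subgroup.mem_sup_left hs.mem
  -- signs alternate
  have hsign : ∀ d i, i + d = n - 4 → 1 ≤ i → ∀ y ∈ γ i,
      ev β y * (y ^ ((-1 : ℤ) ^ i))⁻¹ ∈ γ (i + 1) := by
    intro d
    induction d with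
    | zero =>
      intro i hi _ y hy
      obtain rfl : i = n - 4 := by omega
      have he : Even (n - 4) := (Nat.even_sub (by omega : 4 ≤ n)).2 (by simp [heven, Nat.even_iff])
      rw [he.neg_one_pow, zpow_one, show n - 4 + 1 = n - 3 by omega]
      exact hW.le (hsg.hx y hy).2
    | succ d ih =>
      intro i hid hi y hy
      have hσy : ev β y ∈ γ i := hinv i (by omega) (by omega) y hy
      by_cases hy' : y ∈ γ (i + 1)
      · exact mul_mem (hinv (i + 1) (by omega) (by omega) y hy') (inv_mem (zpow_mem hy' _))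
      obtain ⟨b', hb', h', hh', hbh⟩ := Subgroup.mem_sup_of_normal_right.1
        ((zpowers_sup_eq hn hc.card hc.cls hi hy hy').ge hσy)
      obtain ⟨b, rfl⟩ := Subgroup.mem_zpowers_iff.1 hb'
      have hx1m : ⁅y, e⁆ ∈ γ (i + 1) := lcs_succ_mem hy e
      have hx1n : ⁅y, e⁆ ∉ γ (i + 1 + 1) := fun h =>
        hno i hi (by omega) ((mem_layerCent_iff_gen hn hc.card hc.cls hi hy hy').2 h)
      let π := QuotientGroup.mk' (γ (i + 1 + 1))
      have hee : π (ev β e) = π e ^ (-1 : ℤ) := by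
        rw [zpow_neg_one, ← map_inv]
        exact mk'_eq_of_mul_inv_mem (by
          rw [inv_inv]; exact lcs_le (by omega) (hW.le hsg.he))
      have hd : (p : ℤ) ∣ b * (-1) - (-1 : ℤ) ^ (i + 1) := by
        refine hc.dvd_layer (by omega) hx1m hx1n ?_
        rw [← map_zpow _ _ ((-1 : ℤ) ^ (i + 1)),
          ← mk'_eq_of_mul_inv_mem (ih (i + 1) (by omega) (by omega) _ hx1m),
          ev_comm β (hK (lcs_le hi hy)) heK, ← hbh]
        simp only [map_commutatorElement, map_mul, map_zpow]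
        rw [show QuotientGroup.mk' (γ (i + 1 + 1)) (ev β e) = π e ^ (-1 : ℤ) * 1 by rw [hee, mul_one]]
        refine Eq.symm (comm_congr ?_ ?_ ?_ (Commute.one_left _) (Commute.one_right _))
        · rw [← map_commutatorElement]; exact commute_mk' (lcs_succ_mem hx1m y)
        · rw [← map_commutatorElement]; exact commute_mk' (lcs_succ_mem hx1m e)
        · exact commute_mk' (lcs_succ_mem hh' e)
      have hyp : QuotientGroup.mk' (γ (i + 1)) y ^ p = 1 := by
        rw [← map_pow]; exact mk'_eq_one (hc.pow_lcs hi hy)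
      refine (QuotientGroup.eq_one_iff _).1 ?_
      show QuotientGroup.mk' (γ (i + 1)) _ = 1
      rw [map_mul, map_inv, ← hbh, map_mul, mk'_eq_one hh', mul_one, map_zpow, map_zpow, mul_inv_eq_one]
      refine zpow_eq_zpow_of_dvd hyp ?_
      rw [show b - (-1 : ℤ) ^ i = -(b * (-1) - (-1) ^ (i + 1)) by rw [pow_succ]; ring, dvd_neg]
      exact hd
  -- a nontrivial pairing into the centre
  obtain ⟨y₁, hy₁, y₂, hy₂, hc0⟩ : ∃ y₁ ∈ γ 1, ∃ y₂ ∈ γ (n - 4), ⁅y₁, y₂⁆ ≠ 1 := by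
    by_contra hcon
    push Not at hcon
    have hbot : ⁅γ 1, γ (n - 4)⁆ ≤ ⊥ := Subgroup.commutator_le.2 fun a ha b hb =>
      Subgroup.mem_bot.2 (hcon a ha b hb)
    have hΓ : layerCent ↥S 1 ≤ layerCent ↥S (n - 3) := by
      have hkey : ⁅γ (n - 4 + 1), layerCent ↥S 1⁆ ≤ ⊥ := by
        rw [Subgroup.lowerCentralSeries_succ]
        refine tsl ?_ ?_
        · refine (Subgroup.commutator_mono ?_ le_rfl).trans hbot
          rw [Subgroup.top_lowerCentralSeries_one, _root_.commutator_def]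
          exact Subgroup.commutator_mono le_rfl le_top
        · have hΓq : ⁅layerCent ↥S 1, γ (n - 4)⁆ ≤ γ (n - 2) := by
            rw [← layerCent_eq hn hc.card hc.cls (k := n - 4) (by omega) (by omega), Subgroup.commutator_comm]
            refine Subgroup.commutator_le.2 fun w hw g hg' => ?_
            rw [show n - 2 = n - 4 + 2 by omega]
            exact mem_layerCent.1 hg' w hw
          refine (Subgroup.commutator_mono hΓq le_rfl).trans ?_
          rw [← Subgroup.lowerCentralSeries_succ, Pearl.lcs_high hn hc.card (by omega)]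
      intro g hg'
      refine mem_layerCent.2 fun w hw => ?_
      rw [show n - 4 + 1 = n - 3 by omega] at hkey
      rw [Subgroup.mem_bot.1 (hkey (Subgroup.commutator_mem_commutator hw hg'))]
      exact one_mem _
    exact hno 1 le_rfl (by omega)
      ((layerCent_eq_of_le hn hc.card hc.cls (by omega) (by omega) hΓ) ▸ hlast)
  have hc0m : ⁅y₁, y₂⁆ ∈ γ (n - 2) := by
    have := lcs_comm_mem hy₁ hy₂
    rwa [show 1 + (n - 4) + 1 = n - 2 by omega] at this
  have hcomm := Subgroup.mem_center_iff.1 (lcs_top_le_center hn hc.card hc0m)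
  have hy₂1 : y₂ ∈ γ 1 := lcs_le (by omega) hy₂
  have hinvc : ev β ⁅y₁, y₂⁆ = ⁅y₁, y₂⁆⁻¹ := by
    have hh1 : y₁ * ev β y₁ ∈ γ 2 := by
      have h := hsign (n - 5) 1 (by omega) le_rfl y₁ hy₁
      rw [pow_one, zpow_neg_one, inv_inv] at h
      have := (inferInstance : (γ 2).Normal).conj_mem _ h y₁
      rwa [show y₁ * (ev β y₁ * y₁) * y₁⁻¹ = y₁ * ev β y₁ by group] at this
    have hh2 : y₂⁻¹ * ev β y₂ ∈ γ (n - 3) := by
      have := (inferInstance : (γ (n - 3)).Normal).conj_mem _ (hW.le (hsg.hx y₂ hy₂).2) y₂⁻¹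
      rwa [show y₂⁻¹ * (ev β y₂ * y₂⁻¹) * y₂⁻¹⁻¹ = y₂⁻¹ * ev β y₂ by group] at this
    rw [ev_comm β (hK hy₁) (hK hy₂1),
      show ev β y₁ = y₁ ^ (-1 : ℤ) * (y₁ * ev β y₁) by rw [zpow_neg_one, inv_mul_cancel_left],
      show ev β y₂ = y₂ ^ (1 : ℤ) * (y₂⁻¹ * ev β y₂) by rw [zpow_one, mul_inv_cancel_left],
      comm_congr (hcomm y₁).symm (hcomm y₂).symm
        (commute_of_lcs hn hc.card (by omega) hh1 hy₂)
        (commute_of_lcs hn hc.card (by omega) hh2 hy₁)
        (commute_of_lcs hn hc.card (by omega) hh1 hh2),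
      mul_one, zpow_neg_one]
  set c0 := ⁅y₁, y₂⁆ with hc0def
  have hzp := hc.self.pow z hg.hzW.1
  have hc0W : c0 ∈ E₀ ⊓ γ 1 := hW.ge (lcs_le (by omega) hc0m)
  have hzn : z ∉ γ (n - 2) := by
    intro h
    have hx' : x ∉ γ (n - 4 + 1) := fun h' => hg.hxE (hW.ge (by
      rwa [show n - 4 + 1 = n - 3 by omega] at h')).1
    refine hno (n - 4) (by omega) (by omega)
      ((mem_layerCent_iff_gen hn hc.card hc.cls (by omega) hg.hx hx').2 ?_)
    rw [← hg.hz, show n - 4 + 2 = n - 2 by omega]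
    exact h
  -- `W` would be inverted
  obtain ⟨c, hcW, hc1, hcs⟩ := hsg.hfix
  have heq : Subgroup.zpowers z ⊔ γ (n - 2) = γ (n - 3) := by
    have h := zpowers_sup_eq hn hc.card hc.cls (i := n - 3) (by omega) (hW.le hg.hzW)
      (by rw [show n - 3 + 1 = n - 2 by omega]; exact hzn)
    rwa [show n - 3 + 1 = n - 2 by omega] at h
  obtain ⟨a, ha, q, hq, rfl⟩ := Subgroup.mem_sup_of_normal_right.1 (heq.ge (hW.le hcW))
  obtain ⟨k, rfl⟩ := Subgroup.mem_zpowers_iff.1 ha
  have hspan0 : Subgroup.zpowers c0 = γ (n - 2) := by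
    refine Subgroup.eq_of_le_of_card_ge (Subgroup.zpowers_le.2 hc0m) ?_
    rw [Pearl.card_lcs hn hc.card hc.cls (by omega), show n - 1 - (n - 2) = 1 by omega, pow_one,
      Nat.card_zpowers, orderOf_eq_prime (hc.self.pow c0 hc0W.1) hc0]
  obtain ⟨l, rfl⟩ := Subgroup.mem_zpowers_iff.1 (hspan0.ge hq)
  have hzK : z ∈ E₀ ⊔ γ (n - 4 - (n - 5)) := Subgroup.mem_sup_left hg.hzW.1
  have hc0K : c0 ∈ E₀ ⊔ γ (n - 4 - (n - 5)) := Subgroup.mem_sup_left hc0W.1
  rw [ev_mul β (zpow_mem hzK k) (zpow_mem hc0K l), ev_zpow β hzK, ev_zpow β hc0K, hsg.hz, hinvc,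
    inv_zpow, inv_zpow, ((show Commute z c0 from hcomm z).zpow_zpow k l).inv_inv.eq, ← mul_inv_rev] at hcs
  exact hc1 (zpow_eq_of_odd_order hc.p_ne_two (hc.self.pow _ hcW.1) hcs.symm)

end Ctx

/-- No elementary abelian essential subgroup of order `p³`. -/
theorem Ctx.false' (hc : Ctx p n F E₀) : False := by
  obtain ⟨e, hs⟩ := SelfCent.exists_shape hc.card hc.cls hc.h5 hc.self hc.norm
  rcases hs.cases with ⟨hn, h1, -, hW⟩ | ⟨hn, h1, h2, h3⟩ | ⟨h6, hev, hlast, hno, hW⟩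
  · exact hc.false_five hs hn h1 hW
  · exact hc.false_six hs hn h1 h2 h3
  · exact hc.false_tower hs h6 hev hlast hno hW

/-- An elementary abelian essential subgroup of order `p³` gives a context. -/
theorem false_of_elementary (hS : IsPGroup p S) (hF : F.IsSaturated p) (hp5 : 5 ≤ p) (h5 : 5 ≤ n)
    (hcard : Nat.card ↥S = p ^ n) (hcls : (⊤ : Subgroup ↥S).lowerCentralSeries (n - 2) ≠ ⊥)
    {E : Subgroup Ω} (hE : F.IsEssential p E) (hEc : Nat.card E = p ^ 3)
    (hEe : IsElementaryAbelian p E) : False := by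
  classical
  have hp := (Fact.out : p.Prime)
  have hES : E ≤ S := hE.2.1.1
  obtain ⟨E₀, rfl⟩ : ∃ E₀ : Subgroup ↥S, up E₀ = E :=
    ⟨E.subgroupOf S, Subgroup.map_subgroupOf_eq_of_le hES⟩
  obtain ⟨hab, hexp⟩ := hEe
  have hself : SelfCent p E₀ := by
    refine ⟨by rw [← card_up, hEc], fun a ha b hb => Subtype.ext ?_,
      fun a ha => Subtype.ext ?_, fun g hg => ?_⟩
    · show (a : Ω) * b = b * a
      exact congrArg Subtype.val
        (hab.is_comm.comm (⟨(a : Ω), coe_mem_up.2 ha⟩ : up E₀) ⟨(b : Ω), coe_mem_up.2 hb⟩)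
    · exact hexp _ (coe_mem_up.2 ha)
    · refine coe_mem_up.1 (isCentric_centralizerIn_le hE.1 ?_)
      rw [centralizerIn_up]
      exact coe_mem_up.2 hg
  have hn3 : 3 ≤ n := by omega
  obtain ⟨W, hWE, hWc, hWn, z, hzW, hz1, hzfix⟩ := hself.exists_plane hn3 hcard hcls h5
  suffices hN : Nat.card (Subgroup.normalizer (E₀ : Set ↥S)) = p ^ 4 from
    Ctx.false' ⟨hS, hF, hp5, h5, hcard, hcls, hE, hself, hN⟩
  have hcent : Subgroup.centralizer (E₀ : Set ↥S) = E₀ := le_antisymm hself.self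
    fun a ha => Subgroup.mem_centralizer_iff.2 fun b hb => hself.comm b hb a ha
  have hcount : p ^ 3 * Nat.card (autInducedBy S (up E₀)) =
      Nat.card (Subgroup.normalizer (E₀ : Set ↥S)) := by
    have h := card_centralizerIn_mul_card_autInducedBy S (up E₀)
    rwa [card_normalizerIn_up, centralizerIn_up, hcent, card_up, hself.card] at h
  -- at most `p`
  have hfin := finite_of_le (Ω := Ω) hES
  have hfinA := finite_mulAut (Ω := Ω) hES
  obtain ⟨-, hfn, hI, Y, -, hYne, P, hY⟩ := hE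
  have hIbot : Inn ↥(up E₀) = ⊥ := SmallEss.inn_eq_bot hab
  let ι : (F.autGroup (up E₀) ⧸ (Inn ↥(up E₀)).subgroupOf (F.autGroup (up E₀))) →* MulAut ↥(up E₀) :=
    QuotientGroup.lift _ (F.autGroup (up E₀)).subtype fun a ha => by
      rw [MonoidHom.mem_ker]
      rw [Subgroup.mem_subgroupOf, hIbot, Subgroup.mem_bot] at ha
      exact ha
  have hι : Function.Injective ι := by
    intro a b
    refine QuotientGroup.induction_on a fun a => ?_
    refine QuotientGroup.induction_on b fun b hab' => ?_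
    exact congrArg _ (Subtype.ext hab')
  obtain ⟨-, R, hR⟩ := isFullyAutomized_of_fullyNormalized hS hF hfn
  let π := QuotientGroup.mk' ((Inn ↥(up E₀)).subgroupOf (F.autGroup (up E₀)))
  have hπ : Function.Surjective π := QuotientGroup.mk'_surjective _
  obtain ⟨y, hy⟩ := MulAction.exists_smul_eq
    (↥(F.autGroup (up E₀)) ⧸ (Inn ↥(up E₀)).subgroupOf (F.autGroup (up E₀))) (R.mapSurjective hπ) P
  have hconj : ∀ q ∈ (P : Subgroup _), ∃ r ∈ autInducedBy S (up E₀), ι q = ι y * r * (ι y)⁻¹ := by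
    intro q hq
    rw [← hy, Sylow.coe_subgroup_smul] at hq
    obtain ⟨q', hq', rfl⟩ := Subgroup.mem_smul_pointwise_iff_exists _ _ _ |>.1 hq
    rw [Sylow.coe_mapSurjective] at hq'
    obtain ⟨r, hr, rfl⟩ := hq'
    rw [SetLike.mem_coe, hR, Subgroup.mem_subgroupOf] at hr
    exact ⟨_, hr, by rw [MulAut.smul_def, MulAut.conj_apply, map_mul, map_mul, map_inv]; rfl⟩
  have hz' : (z : Ω) ∈ up E₀ := coe_mem_up.2 (hWE hzW)
  let zU : ↥(up E₀) := ⟨z, hz'⟩
  let WU : Subgroup ↥(up E₀) := (up W).subgroupOf (up E₀)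
  have hWUc : Nat.card WU = p ^ 2 := by
    rw [Nat.card_congr (Subgroup.subgroupOfEquivOfLe (Subgroup.map_mono hWE)).toEquiv, card_up, hWc]
  have hcardE : Nat.card ↥(up E₀) = p ^ 3 := hEc
  have hrW : ∀ r ∈ autInducedBy S (up E₀), r zU = zU ∧ ∀ a ∈ WU, r a ∈ WU := by
    intro r hr
    obtain ⟨g, hgS, hgx⟩ := mem_autInducedBy_iff.1 hr
    refine ⟨Subtype.ext ((hgx zU).trans ?_), fun a ha => ?_⟩
    · exact congrArg Subtype.val (hzfix ⟨g, hgS⟩)
    · show ((r a : up E₀) : Ω) ∈ up W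
      rw [hgx a]
      have hgN : (⟨g, hgS⟩ : ↥S) ∈ Subgroup.normalizer (E₀ : Set ↥S) := by
        have h : g ∈ normalizerIn S (up E₀) := ⟨hgS, mem_normalizer_of_aut hgx⟩
        rw [normalizerIn_up] at h
        exact mk_mem h
      exact coe_mem_up.2 (hWn ⟨g, hgS⟩ hgN ⟨a, up_le _ a.2⟩ (mk_mem ha))
  have hPcard := TransvectionGroups.card_le_of_stronglyEmbedded ι hι (fun a b => hab.is_comm.comm a b)
    (fun a => Subtype.ext (hexp _ a.2)) hcardE P hY hYne (W := WU.map (ι y).toMonoidHom)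
    (by rw [Subgroup.card_map_of_injective (ι y).injective, hWUc]) (z := ι y zU)
    ⟨zU, coe_mem_up.2 hzW, rfl⟩ (fun h => hz1 (by
      have := (ι y).injective (h.trans (map_one (ι y)).symm)
      refine Subtype.ext ?_
      exact (congrArg Subtype.val this :)))
    (fun q hq => by
      obtain ⟨r, hr, hrq⟩ := hconj q hq
      rw [hrq, MulAut.mul_apply, MulAut.mul_apply, MulAut.inv_apply_self, (hrW r hr).1])
    (fun q hq => by
      rintro _ ⟨a, ha, rfl⟩
      obtain ⟨r, hr, hrq⟩ := hconj q hq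
      refine ⟨r a, (hrW r hr).2 a ha, ?_⟩
      show ι y (r a) = ι q (ι y a)
      rw [hrq, MulAut.mul_apply, MulAut.mul_apply, MulAut.inv_apply_self])
  have hAut : Nat.card (autInducedBy S (up E₀)) ≤ p := by
    have h1 : Nat.card (R : Subgroup (F.autGroup (up E₀))) = Nat.card (autInducedBy S (up E₀)) := by
      rw [hR]
      exact Nat.card_congr (Subgroup.subgroupOfEquivOfLe (autInducedBy_le_autGroup F hES)).toEquiv
    rw [← h1]
    have h2 : Nat.card (R : Subgroup (F.autGroup (up E₀))) =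
        Nat.card (R.mapSurjective hπ).toSubgroup := by
      rw [Sylow.coe_mapSurjective, Subgroup.card_map_of_injective]
      exact fun a b h => Subtype.ext (congrArg ι h)
    rw [h2, (R.mapSurjective hπ).card_eq_multiplicity, ← P.card_eq_multiplicity]
    exact hPcard
  refine le_antisymm ?_ ?_
  · rw [← hcount, pow_succ p 3]
    exact Nat.mul_le_mul_left _ hAut
  · have hlt : E₀ < Subgroup.normalizer (E₀ : Set ↥S) := by
      have : Group.IsNilpotent ↥S := (IsPGroup.of_card hcard).isNilpotent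
      refine Group.normalizerCondition_of_isNilpotent E₀ (lt_top_iff_ne_top.2 fun h => ?_)
      have hc3 := hself.card
      rw [h, Subgroup.card_top, hcard] at hc3
      have := Nat.pow_right_injective hp.two_le hc3
      omega
    have := PGroup.mul_card_le_card (IsPGroup.of_card hcard) hlt
    rwa [hself.card, ← pow_succ'] at this

end Cfsg.Agent.Fusion.MaxClassRankThree
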