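import Mathlib
import Cfsg.Agent.Lib.PGroup.Basic

/-!
The elements of order `p` of a metacyclic `p`-group, `p` odd.
-/

set_option autoImplicit false

namespace Cfsg.Agent.Fusion

/-- In a finite cyclic group an element lies in every cyclic subgroup whose order it divides. -/
theorem mem_zpowers_of_isCyclic {α : Type*} [Group α] [Finite α] [IsCyclic α] {a b : α}
    (h : orderOf a ∣ orderOf b) : a ∈ Subgroup.zpowers b := by
  classical
  have := Fintype.ofFinite α
  have hsub : (Subgroup.zpowers b : Set α).toFinset ⊆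
      Finset.univ.filter (fun x : α => x ^ orderOf b = 1) := by
    intro x hx
    rw [Set.mem_toFinset] at hx
    exact Finset.mem_filter.2 ⟨Finset.mem_univ _,
      orderOf_dvd_iff_pow_eq_one.1 (orderOf_dvd_of_mem_zpowers hx)⟩
  have heq := Finset.eq_of_subset_of_card_le hsub (by
    rw [Set.toFinset_card, ← Nat.card_eq_fintype_card]
    show _ ≤ Nat.card ↥(Subgroup.zpowers b)
    rw [Nat.card_zpowers]
    exact IsCyclic.card_pow_eq_one_le (orderOf_pos b))
  have ha : a ∈ Finset.univ.filter (fun x : α => x ^ orderOf b = 1) :=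
    Finset.mem_filter.2 ⟨Finset.mem_univ _, orderOf_dvd_iff_pow_eq_one.1 h⟩
  rw [← heq, Set.mem_toFinset] at ha
  exact ha

variable {P : Type*} [Group P] [Finite P] {p : ℕ} [hp : Fact p.Prime]

/-- In a metacyclic `p`-group with `p` odd the elements of order `p` commute. -/
theorem commute_of_pow_eq_one (hP : IsPGroup p P) (hp2 : p ≠ 2) {C : Subgroup P} [C.Normal]
    [IsCyclic C] [IsCyclic (P ⧸ C)] {x y : P} (hx : x ^ p = 1) (hy : y ^ p = 1) :
    x * y = y * x := by
  -- elements of order `p` in `C` are central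
  have hcen : ∀ c ∈ C, c ^ p = 1 → c ∈ Subgroup.center P := by
    intro c hc hcp
    by_cases h1 : c = 1
    · exact h1 ▸ Subgroup.one_mem _
    have hN : (Subgroup.zpowers c).Normal := by
      refine ⟨fun n hn g => ?_⟩
      obtain ⟨i, rfl⟩ := Subgroup.mem_zpowers_iff.1 hn
      have hgc : g * c * g⁻¹ ∈ C := Subgroup.Normal.conj_mem inferInstance c hc g
      have hmem : (⟨g * c * g⁻¹, hgc⟩ : C) ∈ Subgroup.zpowers (⟨c, hc⟩ : C) := by
        refine mem_zpowers_of_isCyclic ?_
        rw [Subgroup.orderOf_mk, Subgroup.orderOf_mk]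
        exact orderOf_dvd_of_pow_eq_one (by rw [conj_pow, pow_orderOf_eq_one, mul_one, mul_inv_cancel])
      obtain ⟨j, hj⟩ := Subgroup.mem_zpowers_iff.1 hmem
      refine Subgroup.mem_zpowers_iff.2 ⟨j * i, ?_⟩
      rw [zpow_mul, ← conj_zpow]
      congr 1
      exact congrArg Subtype.val hj
    exact PGroup.le_center_of_card_eq hP (Subgroup.zpowers c)
      (by rw [Nat.card_zpowers, orderOf_eq_prime hcp h1]) (Subgroup.mem_zpowers c)
  by_cases hxC : x ∈ C
  · exact (Subgroup.mem_center_iff.1 (hcen x hxC hx) y).symm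
  -- `y = x ^ i * w` with `w ∈ C`
  have hxo : orderOf (x : P ⧸ C) = p := orderOf_eq_prime
    (by rw [← QuotientGroup.mk_pow, hx, QuotientGroup.mk_one])
    (fun h => hxC ((QuotientGroup.eq_one_iff x).1 h))
  have hmem : (y : P ⧸ C) ∈ Subgroup.zpowers (x : P ⧸ C) := by
    refine mem_zpowers_of_isCyclic ?_
    rw [hxo]
    exact orderOf_dvd_of_pow_eq_one (by rw [← QuotientGroup.mk_pow, hy, QuotientGroup.mk_one])
  obtain ⟨i, hi⟩ := (isOfFinOrder_of_finite _).mem_powers_iff_mem_zpowers.2 hmem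
  simp only at hi
  set z := x ^ i with hz
  have hw : z⁻¹ * y ∈ C := QuotientGroup.eq.1 (by rw [hz, QuotientGroup.mk_pow]; exact hi)
  set w := z⁻¹ * y with hwdef
  have hyzw : y = z * w := (mul_inv_cancel_left z y).symm
  have hzp : z ^ p = 1 := by rw [hz, ← pow_mul, mul_comm, pow_mul, hx, one_pow]
  -- conjugation by `z⁻¹` on `C` is a power map
  have hwc : z⁻¹ * w * z ∈ C := Subgroup.Normal.conj_mem' inferInstance w hw z
  obtain ⟨r, hr⟩ : ∃ r : ℕ, z⁻¹ * w * z = w ^ r := by
    have hm : (⟨z⁻¹ * w * z, hwc⟩ : C) ∈ Subgroup.zpowers (⟨w, hw⟩ : C) := by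
      refine mem_zpowers_of_isCyclic ?_
      rw [Subgroup.orderOf_mk, Subgroup.orderOf_mk]
      refine orderOf_dvd_of_pow_eq_one ?_
      rw [show z⁻¹ * w * z = z⁻¹ * w * z⁻¹⁻¹ by rw [inv_inv], conj_pow, pow_orderOf_eq_one]
      simp
    obtain ⟨j, hj⟩ := (isOfFinOrder_of_finite _).mem_powers_iff_mem_zpowers.2 hm
    exact ⟨j, (congrArg Subtype.val hj).symm⟩
  have hconj : ∀ k : ℕ, (z ^ k)⁻¹ * w * z ^ k = w ^ r ^ k := by
    intro k
    induction k with
    | zero => simp
    | succ k ih =>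
      calc (z ^ (k + 1))⁻¹ * w * z ^ (k + 1) = z⁻¹ * ((z ^ k)⁻¹ * w * z ^ k) * z := by
            rw [pow_succ]; group
        _ = z⁻¹ * w ^ r ^ k * z := by rw [ih]
        _ = (z⁻¹ * w * z) ^ r ^ k := by
            have h := conj_pow (i := r ^ k) (a := z⁻¹) (b := w)
            rw [inv_inv] at h
            exact h.symm
        _ = w ^ r ^ (k + 1) := by rw [hr, ← pow_mul, pow_succ']
  have hprod : ∀ k : ℕ, (z * w) ^ k = z ^ k * w ^ (∑ j ∈ Finset.range k, r ^ j) := by
    intro k
    induction k with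
    | zero => simp
    | succ k ih =>
      have hr' : ∀ a : ℕ, w ^ a * z = z * w ^ (r * a) := fun a => by
        rw [pow_mul, ← hr]
        have h := conj_pow (i := a) (a := z⁻¹) (b := w)
        rw [inv_inv] at h
        rw [h]; group
      calc (z * w) ^ (k + 1) = z ^ k * (w ^ (∑ j ∈ Finset.range k, r ^ j) * z) * w := by
            rw [pow_succ, ih]; group
        _ = z ^ k * z * (w ^ (r * ∑ j ∈ Finset.range k, r ^ j) * w) := by rw [hr']; group
        _ = _ := by
            rw [← pow_succ, ← pow_succ, Finset.sum_range_succ', pow_zero, Finset.mul_sum]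
            simp only [pow_succ']
  obtain ⟨e, he⟩ := hP w
  obtain ⟨e', -, he'⟩ := (Nat.dvd_prime_pow hp.out).1 (orderOf_dvd_of_pow_eq_one he)
  have hw1 : w ^ p = 1 := by
    rcases e' with - | e'
    · have h1 : w = 1 := orderOf_eq_one_iff.1 (by simpa using he')
      rw [h1, one_pow]
    have hrp : (r : ℤ) ^ p ≡ 1 [ZMOD (p : ℤ) ^ (e' + 1)] := by
      have h := hconj p
      rw [hzp, inv_one, one_mul, mul_one] at h
      have h1 : r ^ p ≡ 1 [MOD orderOf w] := by
        rw [← pow_eq_pow_iff_modEq, pow_one]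
        exact h.symm
      rw [he'] at h1
      exact_mod_cast Int.natCast_modEq_iff.2 h1
    have hdiv : (p : ℤ) ∣ (r : ℤ) - 1 := by
      rw [← ZMod.intCast_zmod_eq_zero_iff_dvd]
      have h2 : ((r : ℤ) ^ p : ZMod p) = 1 := by
        have h3 : (r : ℤ) ^ p ≡ 1 [ZMOD (p : ℤ)] := hrp.of_dvd (dvd_pow_self _ e'.succ_ne_zero)
        have := (ZMod.intCast_eq_intCast_iff _ _ p).2 h3
        exact_mod_cast this
      rw [ZMod.pow_card] at h2
      push_cast
      push_cast at h2
      rw [h2, sub_self]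
    have hnd : ¬ (p : ℤ) ∣ (r : ℤ) := fun h => by
      have : (p : ℤ) ∣ 1 := by
        have := dvd_sub h hdiv
        rwa [sub_sub_cancel] at this
      exact hp.out.not_dvd_one (Int.natCast_dvd_natCast.1 (by exact_mod_cast this))
    have hodd : Odd p := hp.out.odd_of_ne_two hp2
    have hm := emultiplicity_geom_sum₂_eq_one (Nat.prime_iff_prime_int.1 hp.out) hodd hdiv hnd
    simp only [one_pow, mul_one] at hm
    have hsum : w ^ (∑ j ∈ Finset.range p, r ^ j) = 1 := by
      have h := hprod p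
      rw [← hyzw, hy, hzp, one_mul] at h
      exact h.symm
    have hdvd : ((p : ℤ) ^ (e' + 1)) ∣ ((∑ j ∈ Finset.range p, r ^ j : ℕ) : ℤ) := by
      have := orderOf_dvd_of_pow_eq_one hsum
      rw [he'] at this
      exact_mod_cast Int.natCast_dvd_natCast.2 this
    have hle := le_emultiplicity_of_pow_dvd hdvd
    push_cast at hle
    rw [hm] at hle
    have he1 : e' + 1 ≤ 1 := by exact_mod_cast hle
    rw [← pow_one p, show (1 : ℕ) = e' + 1 by omega, ← he', pow_orderOf_eq_one]
  have hwcen := hcen w hw hw1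
  rw [hyzw, hz, ← mul_assoc, (Commute.self_pow x i).eq, mul_assoc, mul_assoc,
    Subgroup.mem_center_iff.1 hwcen x]

/-- A subgroup of exponent `p` of a metacyclic group has order at most `p ^ 2`. -/
theorem card_le_sq_of_exponent (H : Subgroup P) (hH : ∀ x ∈ H, x ^ p = 1) {C : Subgroup P}
    [C.Normal] [IsCyclic C] [IsCyclic (P ⧸ C)] : Nat.card H ≤ p ^ 2 := by
  have hbound : ∀ {K : Type _} [Group K] [Finite K] [IsCyclic K],
      (∀ k : K, k ^ p = 1) → Nat.card K ≤ p := by
    intro K _ _ _ hK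
    obtain ⟨g, hg⟩ := IsCyclic.exists_generator (α := K)
    rw [← orderOf_eq_card_of_forall_mem_zpowers hg]
    exact Nat.le_of_dvd hp.out.pos (orderOf_dvd_of_pow_eq_one (hK g))
  let f : H →* P ⧸ C := (QuotientGroup.mk' C).comp H.subtype
  have h1 : Nat.card f.range ≤ p := hbound fun k => by
    obtain ⟨_, x, rfl⟩ := k
    exact Subtype.ext (by rw [SubgroupClass.coe_pow, ← map_pow,
      show x ^ p = 1 from Subtype.ext (hH x x.2), map_one, OneMemClass.coe_one])
  have h2 : Nat.card f.ker ≤ p := by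
    have hin : Nat.card f.ker ≤ Nat.card ↥(H ⊓ C) :=
      Nat.card_le_card_of_injective
        (fun k => (⟨((k : H) : P), (k : H).2, (QuotientGroup.eq_one_iff _).1 k.2⟩ : ↥(H ⊓ C)))
        (fun a b h => Subtype.ext (Subtype.ext (congrArg (fun u : ↥(H ⊓ C) => (u : P)) h)))
    refine hin.trans ?_
    have : IsCyclic ↥(H ⊓ C) :=
      isCyclic_of_injective (Subgroup.inclusion inf_le_right) (Subgroup.inclusion_injective _)
    exact hbound fun k => Subtype.ext (by rw [SubgroupClass.coe_pow]; exact hH _ k.2.1)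
  rw [← Subgroup.card_mul_index f.ker, Subgroup.index_ker, sq]
  exact Nat.mul_le_mul h2 h1

end Cfsg.Agent.Fusion
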