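import Mathlib.GroupTheory.GroupAction.Quotient
import Mathlib.GroupTheory.Index
import Mathlib.GroupTheory.QuotientGroup.Basic
import Mathlib.Algebra.BigOperators.Group.Finset.Basic
import Mathlib.Tactic.Group

/-!
A transfer construction for group extensions with abelian kernel.

Given `π : S →* A` with abelian kernel and, for every coset `c` of `T = π.range`, a partial
endomorphism `ψ c` of `S` lifting conjugation by `c.out`, the group of monomial lifts of elements of
`A` has a natural partial projection `theta` onto `S`.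
-/

set_option autoImplicit false
set_option linter.unusedSectionVars false

namespace Cfsg.Agent.Fusion.ModelTransfer

open scoped IsMulCommutative

/-- Two cocycles of an action agreeing up to conjugation on all stabilisers are cohomologous. -/
theorem exists_cohomologous {W X G : Type*} [Group W] [MulAction W X] [Group G] (K : Subgroup G)
    (C₁ C₂ : W → X → G) (h₁ : ∀ v w c, C₁ (v * w) c = C₁ v (w • c) * C₁ w c)
    (h₂ : ∀ v w c, C₂ (v * w) c = C₂ v (w • c) * C₂ w c)
    (hK : ∀ w c, ∀ z ∈ K, C₂ w c * z * (C₁ w c)⁻¹ ∈ K)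
    (hloop : ∀ c : X, ∃ z ∈ K, ∀ w : W, w • c = c → C₂ w c * z = z * C₁ w c) :
    ∃ e : X → G, (∀ c, e c ∈ K) ∧ ∀ w c, C₂ w c * e c = e (w • c) * C₁ w c := by
  classical
  choose z hz hzl using hloop
  let b : X → X := fun c => (Quotient.mk (MulAction.orbitRel W X) c).out
  have hb : ∀ c, ∃ w : W, w • b c = c := fun c => by
    have h : (MulAction.orbitRel W X) (b c) c :=
      Quotient.exact (Quotient.out_eq (Quotient.mk (MulAction.orbitRel W X) c))
    obtain ⟨w, hw⟩ := h
    exact ⟨w⁻¹, inv_smul_eq_iff.2 hw.symm⟩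
  choose t ht using hb
  refine ⟨fun c => C₂ (t c) (b c) * z (b c) * (C₁ (t c) (b c))⁻¹, fun c => hK _ _ _ (hz _),
    fun w c => ?_⟩
  have hbw : b (w • c) = b c :=
    congrArg Quotient.out (Quotient.sound (s := MulAction.orbitRel W X) ⟨w, rfl⟩)
  show C₂ w c * (C₂ (t c) (b c) * z (b c) * (C₁ (t c) (b c))⁻¹) =
    C₂ (t (w • c)) (b (w • c)) * z (b (w • c)) * (C₁ (t (w • c)) (b (w • c)))⁻¹ * C₁ w c
  rw [hbw]
  have ht' : t (w • c) • b c = w • c := by rw [← hbw]; exact ht _
  set l := (t (w • c))⁻¹ * (w * t c) with hl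
  have hls : l • b c = b c := by
    rw [hl, mul_smul, mul_smul, ht, inv_smul_eq_iff, ht']
  have hsplit : t (w • c) * l = w * t c := by rw [hl, mul_inv_cancel_left]
  have e1 : C₁ (t (w • c)) (b c) * C₁ l (b c) = C₁ w c * C₁ (t c) (b c) := by
    conv_lhs => arg 1; rw [← hls]
    rw [← h₁, hsplit, h₁, ht]
  have e2 : C₂ (t (w • c)) (b c) * C₂ l (b c) = C₂ w c * C₂ (t c) (b c) := by
    conv_lhs => arg 1; rw [← hls]
    rw [← h₂, hsplit, h₂, ht]
  calc C₂ w c * (C₂ (t c) (b c) * z (b c) * (C₁ (t c) (b c))⁻¹)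
      = C₂ w c * C₂ (t c) (b c) * z (b c) * (C₁ (t c) (b c))⁻¹ := by group
    _ = C₂ (t (w • c)) (b c) * (C₂ l (b c) * z (b c)) * (C₁ (t c) (b c))⁻¹ := by rw [← e2]; group
    _ = C₂ (t (w • c)) (b c) * z (b c) * C₁ l (b c) * (C₁ (t c) (b c))⁻¹ := by
        rw [hzl _ l hls]; group
    _ = _ := by
        rw [show C₁ l (b c) = (C₁ (t (w • c)) (b c))⁻¹ * (C₁ w c * C₁ (t c) (b c)) by
          rw [← e1, inv_mul_cancel_left]]
        group

variable {S A : Type*} [Group S] [Group A] (π : S →* A)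

/-- The cosets of the range of `π`. -/
abbrev Cos := A ⧸ π.range

/-- The element of the range of `π` by which `a` moves the chosen representative of `c`. -/
noncomputable def tau (a : A) (c : Cos π) : A := (a • c).out⁻¹ * a * c.out

theorem tau_mem (a : A) (c : Cos π) : tau π a c ∈ π.range := by
  rw [tau, mul_assoc]
  refine QuotientGroup.eq.1 ?_
  rw [QuotientGroup.out_eq']
  conv_lhs => rw [← QuotientGroup.out_eq' c]
  rfl

theorem tau_mul (a b : A) (c : Cos π) : tau π (a * b) c = tau π a (b • c) * tau π b c := by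
  simp only [tau, mul_smul]
  group

theorem tau_one (c : Cos π) : tau π 1 c = 1 := by simp [tau]

/-- Monomial lifts of elements of `A`. -/
structure Hat where
  /-- The element of `A`. -/
  a : A
  /-- Its components in `S`. -/
  s : Cos π → S
  hs : ∀ c, π (s c) = tau π a c

variable {π}

@[ext] theorem Hat.ext' {g h : Hat π} (ha : g.a = h.a) (hs : ∀ c, g.s c = h.s c) : g = h := by
  obtain ⟨a, s, _⟩ := g
  obtain ⟨a', s', _⟩ := h
  obtain rfl : a = a' := ha
  obtain rfl : s = s' := funext hs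
  rfl

noncomputable instance : Group (Hat π) where
  one := ⟨1, fun _ => 1, fun c => by rw [map_one, tau_one]⟩
  mul g h := ⟨g.a * h.a, fun c => g.s (h.a • c) * h.s c, fun c => by
    rw [map_mul, g.hs, h.hs, tau_mul]⟩
  inv g := ⟨g.a⁻¹, fun c => (g.s (g.a⁻¹ • c))⁻¹, fun c => by
    rw [map_inv, g.hs, inv_eq_iff_mul_eq_one, ← tau_mul, mul_inv_cancel, tau_one]⟩
  mul_assoc f g h := by
    refine Hat.ext' (mul_assoc _ _ _) fun c => ?_
    show f.s (g.a • h.a • c) * g.s (h.a • c) * h.s c = f.s ((g.a * h.a) • c) * (g.s _ * h.s c)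
    rw [mul_smul, mul_assoc]
  one_mul g := Hat.ext' (one_mul _) fun c => one_mul _
  mul_one g := Hat.ext' (mul_one _) fun c => by
    show g.s ((1 : A) • c) * 1 = g.s c
    rw [one_smul, mul_one]
  inv_mul_cancel g := by
    refine Hat.ext' (inv_mul_cancel _) fun c => ?_
    show (g.s (g.a⁻¹ • g.a • c))⁻¹ * g.s c = 1
    rw [inv_smul_smul, inv_mul_cancel]

@[simp] theorem Hat.mul_a (g h : Hat π) : (g * h).a = g.a * h.a := rfl
@[simp] theorem Hat.mul_s (g h : Hat π) (c : Cos π) : (g * h).s c = g.s (h.a • c) * h.s c := rfl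
@[simp] theorem Hat.inv_a (g : Hat π) : g⁻¹.a = g.a⁻¹ := rfl
@[simp] theorem Hat.inv_s (g : Hat π) (c : Cos π) : g⁻¹.s c = (g.s (g.a⁻¹ • c))⁻¹ := rfl
@[simp] theorem Hat.one_a : (1 : Hat π).a = 1 := rfl
@[simp] theorem Hat.one_s (c : Cos π) : (1 : Hat π).s c = 1 := rfl

variable (π)

/-- The projection to `A`. -/
noncomputable def aHom : Hat π →* A where
  toFun g := g.a
  map_one' := rfl
  map_mul' _ _ := rfl

theorem aHom_surjective : Function.Surjective (aHom π) := fun a => by
  choose s hs using fun c => tau_mem π a c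
  exact ⟨⟨a, s, hs⟩, rfl⟩

theorem finite_hat [Finite S] [Finite A] : Finite (Hat π) :=
  Finite.of_injective (fun g : Hat π => (g.a, g.s)) fun g h e =>
    Hat.ext' (congrArg Prod.fst e) fun c => congrFun (congrArg Prod.snd e) c

/-- The lifts of elements of the range of `π`. -/
noncomputable def hatT : Subgroup (Hat π) := π.range.comap (aHom π)

theorem mem_hatT {g : Hat π} : g ∈ hatT π ↔ g.a ∈ π.range := Iff.rfl

theorem a_mem {π : S →* A} (w : hatT π) : (w : Hat π).a ∈ π.range := w.2

/-- A section of `π`. -/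
noncomputable def sec (a : A) : S := Function.invFun π a

theorem map_sec {a : A} (ha : a ∈ π.range) : π (sec π a) = a :=
  Function.invFun_eq (f := π) (by obtain ⟨x, hx⟩ := ha; exact ⟨x, hx⟩)

/-- The orbit representatives of the range of `π` on its cosets. -/
noncomputable def base (c : Cos π) : Cos π :=
  (Quotient.mk (MulAction.orbitRel ↥π.range (Cos π)) c).out

theorem base_smul {a : A} (ha : a ∈ π.range) (c : Cos π) : base π (a • c) = base π c :=
  congrArg Quotient.out (Quotient.sound (s := MulAction.orbitRel ↥π.range (Cos π))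
    ⟨⟨a, ha⟩, rfl⟩)

theorem exists_move (c : Cos π) : ∃ t ∈ π.range, t • base π c = c := by
  have h : (MulAction.orbitRel ↥π.range (Cos π)) (base π c) c :=
    Quotient.exact (Quotient.out_eq (Quotient.mk (MulAction.orbitRel ↥π.range (Cos π)) c))
  obtain ⟨t, ht⟩ := h
  exact ⟨(t⁻¹ : π.range), (t⁻¹ : π.range).2, inv_smul_eq_iff.2 ht.symm⟩

/-- An element of the range moving the representative to `c`. -/
noncomputable def move (c : Cos π) : A := Classical.choose (exists_move π c)

theorem move_mem (c : Cos π) : move π c ∈ π.range := (Classical.choose_spec (exists_move π c)).1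

theorem move_smul (c : Cos π) : move π c • base π c = c :=
  (Classical.choose_spec (exists_move π c)).2

/-- A lift of the transported `move`. -/
noncomputable def lam (c : Cos π) : S := sec π (tau π (move π c) (base π c))

theorem map_lam (c : Cos π) : π (lam π c) = c.out⁻¹ * move π c * (base π c).out := by
  rw [lam, map_sec π (tau_mem π _ _), tau, move_smul]

/-- The domain of `ψ c`. -/
noncomputable def dom (c : Cos π) : Subgroup S :=
  π.range.comap ((MulAut.conj c.out).toMonoidHom.comp π)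

theorem mem_dom {c : Cos π} {s : S} : s ∈ dom π c ↔ c.out * π s * c.out⁻¹ ∈ π.range := Iff.rfl

/-- Partial endomorphisms of `S` lifting the conjugations by representatives. -/
structure Local where
  /-- The lifts. -/
  ψ : Cos π → S → S
  mul : ∀ c, ∀ x ∈ dom π c, ∀ y ∈ dom π c, ψ c (x * y) = ψ c x * ψ c y
  proj : ∀ c, ∀ x ∈ dom π c, π (ψ c x) = c.out * π x * c.out⁻¹
  inj : ∀ c, ∀ z ∈ π.ker, ψ c z = 1 → z = 1

variable {π} (L : Local π)

/-- The transported component. -/
noncomputable def phi (a : A) (c : Cos π) (s : S) : S :=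
  sec π (move π (a • c)) * L.ψ (base π c) ((lam π (a • c))⁻¹ * s * lam π c) * (sec π (move π c))⁻¹

theorem phi_arg {a : A} (ha : a ∈ π.range) {c : Cos π} {s : S} (hs : π s = tau π a c) :
    (base π c).out * π ((lam π (a • c))⁻¹ * s * lam π c) * (base π c).out⁻¹ =
      (move π (a • c))⁻¹ * a * move π c := by
  rw [map_mul, map_mul, map_inv, map_lam, map_lam, hs, base_smul π ha, tau]
  group

theorem phi_arg_mem {a : A} (ha : a ∈ π.range) {c : Cos π} {s : S} (hs : π s = tau π a c) :
    (lam π (a • c))⁻¹ * s * lam π c ∈ dom π (base π c) := by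
  rw [mem_dom, phi_arg ha hs]
  exact mul_mem (mul_mem (inv_mem (move_mem π _)) ha) (move_mem π _)

theorem map_phi {a : A} (ha : a ∈ π.range) {c : Cos π} {s : S} (hs : π s = tau π a c) :
    π (phi L a c s) = a := by
  rw [phi, map_mul, map_mul, map_inv, map_sec π (move_mem π _), map_sec π (move_mem π _),
    L.proj _ _ (phi_arg_mem ha hs), phi_arg ha hs]
  group

theorem phi_mul {a b : A} (ha : a ∈ π.range) (hb : b ∈ π.range) {c : Cos π} {s t : S}
    (hs : π s = tau π a (b • c)) (ht : π t = tau π b c) :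
    phi L (a * b) c (s * t) = phi L a (b • c) s * phi L b c t := by
  have h1 := phi_arg_mem ha hs
  have h2 := phi_arg_mem hb ht
  rw [base_smul π hb] at h1
  simp only [phi, mul_smul, base_smul π hb]
  rw [show (lam π (a • b • c))⁻¹ * (s * t) * lam π c =
    ((lam π (a • b • c))⁻¹ * s * lam π (b • c)) * ((lam π (b • c))⁻¹ * t * lam π c) by group,
    L.mul _ _ h1 _ h2]
  group

section Average

variable [IsMulCommutative ↥π.ker] (m : ℕ) {X : Type*} [Finite X]

open Classical in
/-- The element as an element of the kernel, if it is one. -/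
noncomputable def zp (π : S →* A) (x : S) : π.ker := if h : x ∈ π.ker then ⟨x, h⟩ else 1

theorem coe_zp {x : S} (h : x ∈ π.ker) : (zp π x : S) = x := by
  rw [zp, dif_pos h]

theorem zp_coe (z : π.ker) : zp π (z : S) = z := Subtype.ext (coe_zp z.2)

theorem zp_mul {x y : S} (hx : x ∈ π.ker) (hy : y ∈ π.ker) : zp π (x * y) = zp π x * zp π y :=
  Subtype.ext (by rw [Subgroup.coe_mul, coe_zp hx, coe_zp hy, coe_zp (mul_mem hx hy)])

variable (π) in
/-- The averaged lift. -/
noncomputable def avg (C : X → S) (a : S) : S :=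
  letI := Fintype.ofFinite (X)
  (((∏ c : X, zp π (C c * a⁻¹)) ^ m : π.ker) : S) * a

theorem mem_ker_of_eq {x a : S} (h : π x = π a) : x * a⁻¹ ∈ π.ker := by
  rw [MonoidHom.mem_ker, map_mul, map_inv, h, mul_inv_cancel]

theorem map_avg (C : X → S) (a : S) : π (avg π m C a) = π a := by
  rw [avg, map_mul, MonoidHom.mem_ker.1 (SetLike.coe_mem _), one_mul]

theorem avg_mul (e : X ≃ X) {C₁ C₂ : X → S} {a b : S} (h₁ : ∀ c, π (C₁ c) = π a)
    (h₂ : ∀ c, π (C₂ c) = π b) :
    avg π m (fun c => C₁ (e c) * C₂ c) (a * b) = avg π m C₁ a * avg π m C₂ b := by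
  let _ := Fintype.ofFinite (X)
  let κ : π.ker →* π.ker := (MulAut.conjNormal a : MulAut π.ker).toMonoidHom
  have h0 : ∀ c, zp π (C₁ (e c) * C₂ c * (a * b)⁻¹) =
      zp π (C₁ (e c) * a⁻¹) * κ (zp π (C₂ c * b⁻¹)) := by
    intro c
    refine Subtype.ext ?_
    rw [Subgroup.coe_mul, coe_zp, coe_zp (mem_ker_of_eq (h₁ _))]
    · show _ = _ * ((MulAut.conjNormal a (zp π (C₂ c * b⁻¹)) : π.ker) : S)
      rw [MulAut.conjNormal_apply, coe_zp (mem_ker_of_eq (h₂ _))]
      group
    · refine mem_ker_of_eq ?_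
      rw [map_mul, map_mul, h₁, h₂]
  simp only [avg]
  rw [Finset.prod_congr rfl fun c _ => h0 c, Finset.prod_mul_distrib,
    Equiv.prod_comp e (fun c => zp π (C₁ c * a⁻¹)), ← map_prod, mul_pow, ← map_pow,
    Subgroup.coe_mul]
  show _ * ((MulAut.conjNormal a _ : π.ker) : S) * (a * b) = _
  rw [MulAut.conjNormal_apply]
  group

theorem avg_congr {C C' : X → S} (h : ∀ c, C c = C' c) (a : S) : avg π m C a = avg π m C' a := by
  rw [show C = C' from funext h]

theorem avg_reindex (e : X ≃ X) (C : X → S) (a : S) :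
    avg π m (fun c => C (e c)) a = avg π m C a := by
  let _ := Fintype.ofFinite (X)
  simp only [avg]
  rw [Equiv.prod_comp e (fun c => zp π (C c * a⁻¹))]

theorem avg_const (a : S) : avg π m (fun _ : X => a) a = a := by
  let _ := Fintype.ofFinite (X)
  simp only [avg]
  rw [Finset.prod_congr rfl (g := fun _ => (1 : π.ker)) fun c _ =>
    Subtype.ext (by rw [coe_zp (by simp), mul_inv_cancel]; rfl)]
  simp

theorem avg_ker {C : X → S} (h : ∀ c, C c ∈ π.ker) :
    letI := Fintype.ofFinite (X)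
    avg π m C 1 = (((∏ c : X, zp π (C c)) ^ m : π.ker) : S) := by
  simp [avg]

/-- Averaging does not depend on the base point, when `m` inverts the number of cosets. -/
theorem avg_base (hm : ∀ z : π.ker, (z ^ Nat.card (X)) ^ m = z) {C : X → S} {a b : S}
    (h : ∀ c, π (C c) = π a) (hab : π b = π a) : avg π m C b = avg π m C a := by
  let _ := Fintype.ofFinite (X)
  have hz : b * a⁻¹ ∈ π.ker := mem_ker_of_eq hab
  simp only [avg]
  have h2 : ∀ c, zp π (C c * b⁻¹) = zp π (C c * a⁻¹) * (zp π (b * a⁻¹))⁻¹ := fun c => by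
    refine Subtype.ext ?_
    rw [Subgroup.coe_mul, Subgroup.coe_inv, coe_zp (mem_ker_of_eq (h c)), coe_zp hz,
      coe_zp (mem_ker_of_eq ((h c).trans hab.symm))]
    group
  rw [Finset.prod_congr rfl fun c _ => h2 c, Finset.prod_mul_distrib, Finset.prod_const,
    Finset.card_univ, ← Nat.card_eq_fintype_card, inv_pow, mul_pow, inv_pow, hm,
    Subgroup.coe_mul, Subgroup.coe_inv, coe_zp hz]
  group

/-- Averaging commutes with partial endomorphisms preserving the kernel. -/
theorem avg_map (R : Subgroup S) (hR : π.ker ≤ R) {f : S → S}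
    (hf : ∀ x ∈ R, ∀ y ∈ R, f (x * y) = f x * f y) (hfk : ∀ z ∈ π.ker, f z ∈ π.ker)
    {C : X → S} {a : S} (hC : ∀ c, π (C c) = π a) (ha : a ∈ R) :
    avg π m (fun c => f (C c)) (f a) = f (avg π m C a) := by
  let _ := Fintype.ofFinite (X)
  let fk : π.ker →* π.ker := MonoidHom.mk' (fun z => ⟨f z, hfk z z.2⟩) fun x y =>
    Subtype.ext (hf x (hR x.2) y (hR y.2))
  have h0 : ∀ c, zp π (f (C c) * (f a)⁻¹) = fk (zp π (C c * a⁻¹)) := by
    intro c
    refine Subtype.ext ?_
    have hk : C c * a⁻¹ ∈ π.ker := mem_ker_of_eq (hC c)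
    have h1 : f (C c) * (f a)⁻¹ = f (C c * a⁻¹) := by
      rw [mul_inv_eq_iff_eq_mul, ← hf _ (hR hk) _ ha, inv_mul_cancel_right]
    show _ = f (zp π (C c * a⁻¹) : S)
    rw [coe_zp hk, h1, coe_zp (hfk _ hk)]
  simp only [avg]
  rw [Finset.prod_congr rfl fun c _ => h0 c, ← map_prod, ← map_pow]
  exact (hf _ (hR (SetLike.coe_mem _)) _ ha).symm

/-- Conjugating the components conjugates the average. -/
theorem avg_conj {C : X → S} {a : S} (hC : ∀ c, π (C c) = π a) (ρ : X ≃ X)
    (e : X → S) (he : ∀ c, e c ∈ π.ker) :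
    avg π m (fun c => e (ρ c) * C c * (e c)⁻¹) a = avg π m e 1 * avg π m C a * (avg π m e 1)⁻¹ := by
  have hp : ∀ c, π (e (ρ c) * C c) = π (1 * a) := fun c => by
    rw [map_mul, MonoidHom.mem_ker.1 (he _), one_mul, one_mul, hC]
  have h1 := avg_mul (π := π) m ρ (C₁ := e) (C₂ := C) (a := 1) (b := a)
    (fun c => by rw [MonoidHom.mem_ker.1 (he c), map_one]) hC
  have h2 := avg_mul (π := π) m (Equiv.refl _) (C₁ := fun c => e (ρ c) * C c * (e c)⁻¹) (C₂ := e)
    (a := a) (b := 1)
    (fun c => by rw [map_mul, hp, map_inv, MonoidHom.mem_ker.1 (he c), inv_one, mul_one, one_mul])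
    (fun c => by rw [MonoidHom.mem_ker.1 (he c), map_one])
  simp only [Equiv.refl_apply, inv_mul_cancel_right, mul_one] at h2
  rw [one_mul, h2] at h1
  rw [← h1, mul_inv_cancel_right]

variable [Finite A] (hm : ∀ z : π.ker, (z ^ Nat.card (Cos π)) ^ m = z)

/-- The components transported to `S`. -/
noncomputable def comp (w : Hat π) (c : Cos π) : S := phi L w.a c (w.s c)

theorem map_comp (w : hatT π) (c : Cos π) : π (comp L w c) = π (sec π (w : Hat π).a) := by
  rw [comp, map_phi L (a_mem w) ((w : Hat π).hs c), map_sec π (a_mem w)]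

theorem comp_mul (v w : hatT π) (c : Cos π) :
    comp L ((v * w : hatT π) : Hat π) c =
      comp L v ((w : Hat π).a • c) * comp L w c :=
  phi_mul L v.2 w.2 ((v : Hat π).hs _) ((w : Hat π).hs _)

/-- The projection of lifts onto `S`. -/
noncomputable def theta : hatT π →* S :=
  MonoidHom.mk' (fun w => avg π m (comp L w) (sec π (w : Hat π).a)) fun v w => by
    rw [avg_congr m (comp_mul L v w)]
    have h := avg_mul m (MulAction.toPerm (w : Hat π).a) (map_comp L v) (map_comp L w)
    rw [← h]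
    refine avg_base m hm (fun c => ?_) ?_
    · rw [map_mul, map_mul, map_comp L w]
      exact congrArg (· * _) (map_comp L v _)
    · rw [map_mul, map_sec π (a_mem (v * w)),
        map_sec π (a_mem v), map_sec π (a_mem w)]
      rfl

theorem map_theta (w : hatT π) : π (theta L m hm w) = (w : Hat π).a := by
  show π (avg π m _ _) = _
  rw [map_avg, map_sec π (a_mem w)]

theorem theta_surjective [Finite S] : Function.Surjective (theta L m hm) := by
  classical
  intro x
  let _ := Fintype.ofFinite (Cos π)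
  obtain ⟨v, hv⟩ := aHom_surjective π (π x)
  have hvT : v ∈ hatT π := by
    rw [mem_hatT]
    exact ⟨x, hv.symm⟩
  set y := x * (theta L m hm ⟨v, hvT⟩)⁻¹
  have hy : y ∈ π.ker := mem_ker_of_eq (by rw [map_theta]; exact hv.symm)
  let c₀ : Cos π := QuotientGroup.mk 1
  -- the map of the kernel through the component at `c₀`
  have hmem : ∀ z : π.ker, π (z : S) = tau π 1 c₀ := fun z => by
    rw [MonoidHom.mem_ker.1 z.2, tau_one]
  have hker : ∀ z : π.ker, phi L 1 c₀ z ∈ π.ker := fun z => by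
    rw [MonoidHom.mem_ker, map_phi L (one_mem _) (hmem z)]
  let f : π.ker → π.ker := fun z => ⟨phi L 1 c₀ z, hker z⟩
  have hsurj : Function.Surjective f := by
    refine Finite.injective_iff_surjective.1 fun z₁ z₂ he => ?_
    have he' : phi L 1 c₀ z₁ = phi L 1 c₀ z₂ := congrArg Subtype.val he
    simp only [phi, one_smul, mul_right_inj, mul_left_inj] at he'
    have hn : (π.ker).Normal := inferInstance
    have k1 : (lam π c₀)⁻¹ * (z₁ : S) * lam π c₀ ∈ π.ker := hn.conj_mem' _ z₁.2 _
    have k2 : (lam π c₀)⁻¹ * (z₂ : S) * lam π c₀ ∈ π.ker := hn.conj_mem' _ z₂.2 _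
    have kd : ∀ z ∈ π.ker, z ∈ dom π (base π c₀) := fun z hz => by
      rw [mem_dom, MonoidHom.mem_ker.1 hz, mul_one, mul_inv_cancel]
      exact one_mem _
    have h3 := L.mul (base π c₀) _ (kd _ (mul_mem k1 (inv_mem k2))) _ (kd _ k2)
    rw [inv_mul_cancel_right, he'] at h3
    have h4 := mul_inv_eq_one.1 (L.inj _ _ (mul_mem k1 (inv_mem k2)) (right_eq_mul.1 h3))
    exact Subtype.ext (mul_left_cancel (mul_right_cancel h4))
  obtain ⟨z, hz⟩ := hsurj (⟨y, hy⟩ ^ Nat.card (Cos π))
  let u : Hat π := ⟨1, Function.update (fun _ => 1) c₀ z, fun c => by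
    rw [tau_one]
    by_cases hc : c = c₀
    · subst hc
      rw [Function.update_self]
      exact z.2
    · rw [Function.update_of_ne hc, map_one]⟩
  have huT : u ∈ hatT π := one_mem π.range
  refine ⟨⟨u, huT⟩ * ⟨v, hvT⟩, ?_⟩
  rw [map_mul]
  have hu : theta L m hm ⟨u, huT⟩ = y := by
    show avg π m (comp L u) (sec π 1) = y
    rw [avg_base m hm (a := 1) (fun c => by rw [map_one]; exact (map_phi L (one_mem _) (u.hs c)))
      (by rw [map_one, map_sec π (one_mem _)])]
    rw [avg_ker m (fun c => by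
      rw [MonoidHom.mem_ker]; exact map_phi L (one_mem _) (u.hs c))]
    have hone : ∀ c, c ≠ c₀ → zp π (comp L u c) = 1 := fun c hc => by
      have h1 : u.s c = 1 := by
        show Function.update (fun _ => (1 : S)) c₀ (z : S) c = 1
        rw [Function.update_of_ne hc]
      have h2 : phi L 1 c 1 * phi L 1 c 1 = phi L 1 c 1 := by
        have := phi_mul L (c := c) (s := 1) (t := 1) (one_mem π.range) (one_mem π.range)
          (by rw [map_one, tau_one]) (by rw [map_one, tau_one])
        rw [mul_one, mul_one, one_smul] at this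
        exact this.symm
      show zp π (phi L 1 c (u.s c)) = 1
      rw [h1, mul_eq_left.1 h2]
      exact Subtype.ext (coe_zp (one_mem _))
    rw [Finset.prod_eq_single c₀ (fun c _ hc => hone c hc) (fun h => absurd (Finset.mem_univ _) h)]
    show ((zp π (phi L 1 c₀ (Function.update (fun _ => (1 : S)) c₀ (z : S) c₀)) ^ m : π.ker) : S) = y
    rw [Function.update_self, show phi L 1 c₀ z = ((⟨y, hy⟩ ^ Nat.card (Cos π) : π.ker) : S) from
      congrArg Subtype.val hz, zp_coe, hm]
  rw [hu, inv_mul_cancel_right]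

/-- Comparison of conjugation in the lifts with a partial endomorphism of `S`. -/
theorem exists_conj_theta (R : Subgroup S) (hR : π.ker ≤ R) {f : S → S}
    (hf : ∀ x ∈ R, ∀ y ∈ R, f (x * y) = f x * f y) (g : Hat π)
    (hfp : ∀ x ∈ R, π (f x) = g.a * π x * g.a⁻¹)
    (hloop : ∀ c : Cos π, ∃ z ∈ π.ker, ∀ (a : A) (s : S), a ∈ R.map π → a • c = c →
      π s = tau π a c →
      phi L (g.a * a * g.a⁻¹) (g.a • c) (g.s c * s * (g.s c)⁻¹) * z = z * f (phi L a c s)) :
    ∃ E ∈ π.ker, ∀ w w' : hatT π, theta L m hm w ∈ R → (w' : Hat π) = g * w * g⁻¹ →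
      theta L m hm w' = E * f (theta L m hm w) * E⁻¹ := by
  let W : Subgroup (hatT π) := R.comap (theta L m hm)
  let _ : MulAction W (Cos π) :=
    MulAction.compHom _ ((aHom π).comp ((hatT π).subtype.comp W.subtype))
  have hWa : ∀ w : W, ((w : hatT π) : Hat π).a ∈ R.map π := fun w =>
    ⟨_, w.2, map_theta L m hm _⟩
  have hWR : ∀ (w : W) c, comp L ((w : hatT π) : Hat π) c ∈ R := fun w c => by
    obtain ⟨x, hx, hxa⟩ := hWa w
    have h1 : comp L ((w : hatT π) : Hat π) c * x⁻¹ ∈ π.ker :=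
      mem_ker_of_eq (by rw [hxa]; exact map_phi L (w : hatT π).2 (((w : hatT π) : Hat π).hs c))
    have h2 := mul_mem (hR h1) hx
    rwa [inv_mul_cancel_right] at h2
  have hW' : ∀ w : W, g * ((w : hatT π) : Hat π) * g⁻¹ ∈ hatT π := fun w => by
    obtain ⟨x, hx, hxa⟩ := hWa w
    rw [mem_hatT]
    refine ⟨f x, ?_⟩
    rw [hfp x hx, hxa]
    rfl
  let C₁ : W → Cos π → S := fun w c => f (comp L ((w : hatT π) : Hat π) c)
  let C₂ : W → Cos π → S := fun w c =>
    comp L (g * ((w : hatT π) : Hat π) * g⁻¹) (g.a • c)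
  have hC : ∀ w c, π (C₂ w c) = π (C₁ w c) := fun w c => by
    rw [show π (C₁ w c) = _ from hfp _ (hWR w c)]
    rw [show π (comp L ((w : hatT π) : Hat π) c) = _ from
      map_phi L (w : hatT π).2 (((w : hatT π) : Hat π).hs c)]
    exact map_phi L (hW' w) ((g * ((w : hatT π) : Hat π) * g⁻¹).hs _)
  obtain ⟨e, he, hec⟩ := exists_cohomologous π.ker C₁ C₂
    (fun v w c => by
      show f (comp L (((v * w : W) : hatT π) : Hat π) c) = _
      rw [Subgroup.coe_mul, comp_mul, hf _ (hWR v _) _ (hWR w _)]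
      rfl)
    (fun v w c => by
      show comp L (g * (((v * w : W) : hatT π) : Hat π) * g⁻¹) (g.a • c) = _
      have hvw : (g * (((v * w : W) : hatT π) : Hat π) * g⁻¹) =
          ((⟨_, hW' v⟩ * ⟨_, hW' w⟩ : hatT π) : Hat π) := by
        simp only [Subgroup.coe_mul]
        group
      rw [hvw, comp_mul]
      refine congrArg (fun d => comp L (g * ((v : hatT π) : Hat π) * g⁻¹) d * _) ?_
      show (g.a * ((w : hatT π) : Hat π).a * g.a⁻¹) • (g.a • c) = g.a • (((w : hatT π) : Hat π).a • c)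
      rw [← mul_smul, ← mul_smul, inv_mul_cancel_right])
    (fun w c z hz => by
      rw [MonoidHom.mem_ker, map_mul, map_mul, map_inv, hC, MonoidHom.mem_ker.1 hz, mul_one,
        mul_inv_cancel])
    (fun c => by
      obtain ⟨z, hz, hzl⟩ := hloop c
      refine ⟨z, hz, fun w hw => ?_⟩
      have hwc : ((w : hatT π) : Hat π).a • c = c := hw
      have hs : (g * ((w : hatT π) : Hat π) * g⁻¹).s (g.a • c) =
          g.s c * ((w : hatT π) : Hat π).s c * (g.s c)⁻¹ := by
        simp only [Hat.mul_s, Hat.mul_a, Hat.inv_s, Hat.inv_a, mul_smul, inv_smul_smul, hwc]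
      show comp L _ _ * z = z * f (comp L _ _)
      simp only [comp, hs]
      exact hzl _ _ (hWa w) hwc (((w : hatT π) : Hat π).hs c))
  refine ⟨avg π m e 1, ?_, fun w w' hw hw' => ?_⟩
  · rw [MonoidHom.mem_ker, map_avg, map_one]
  obtain ⟨w', hw'T⟩ := w'
  change w' = _ at hw'
  subst hw'
  let ww : W := ⟨w, hw⟩
  have hfk : ∀ z ∈ π.ker, f z ∈ π.ker := fun z hz => by
    rw [MonoidHom.mem_ker, hfp z (hR hz), MonoidHom.mem_ker.1 hz, mul_one, mul_inv_cancel]
  have ha : sec π (w : Hat π).a ∈ R := by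
    obtain ⟨x, hx, hxa⟩ := hWa ww
    have h1 : sec π (w : Hat π).a * x⁻¹ ∈ π.ker :=
      mem_ker_of_eq (by rw [map_sec π (a_mem w)]; exact hxa.symm)
    have h2 := mul_mem (hR h1) hx
    rwa [inv_mul_cancel_right] at h2
  have hπ : π (f (sec π (w : Hat π).a)) = π (sec π (g * (w : Hat π) * g⁻¹).a) := by
    rw [hfp _ ha, map_sec π (a_mem w), map_sec π (a_mem (⟨_, hw'T⟩ : hatT π))]
    rfl
  show avg π m (comp L (g * (w : Hat π) * g⁻¹)) _ = _ * f (avg π m (comp L w) _) * _
  rw [← avg_reindex m (MulAction.toPerm g.a),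
    ← avg_map m R hR hf hfk (map_comp L w) ha,
    ← avg_conj m (a := f (sec π (w : Hat π).a)) (fun c => by
      rw [hfp _ (hWR ww c), hfp _ ha, map_comp L w]) (MulAction.toPerm (w : Hat π).a) e he]
  have hρ : ∀ c, comp L (g * (w : Hat π) * g⁻¹) (g.a • c) =
      e ((w : Hat π).a • c) * f (comp L (w : Hat π) c) * (e c)⁻¹ := fun c =>
    eq_mul_inv_of_mul_eq (hec ww c)
  refine Eq.trans (avg_congr m (fun c => hρ c) _) ?_
  refine avg_base m hm (fun c => ?_) hπ.symm
  rw [map_mul, map_mul, map_inv, MonoidHom.mem_ker.1 (he _), MonoidHom.mem_ker.1 (he _),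
    one_mul, inv_one, mul_one, hfp _ (hWR ww c), hfp _ ha, map_comp L w]

end Average

end Cfsg.Agent.Fusion.ModelTransfer
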