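import Cfsg.Agent.Lib.Fusion.InnerType
import Cfsg.Agent.Lib.Fusion.Model
import Cfsg.Agent.Lib.Fusion.ModelFacts
import Cfsg.Agent.Lib.PComplement.GlaubermanThompson
import Cfsg.Agent.Lib.PComplement.ThompsonTwo

/-!
In a model of a constrained system not of inner type, Thompson's normal `p`-complement theorems
give automorphisms of order prime to `p` normalizing `J(S)` or fixing `Z(S)`, and normalizing
`Z(J(S))` for odd `p`.
-/

set_option autoImplicit false

universe u

namespace Cfsg.Agent.Fusion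

open Cfsg Cfsg.FusionSystem

variable {Ω : Type u} [Group Ω] {S : Subgroup Ω} [Finite S] {F : FusionSystem S} {p : ℕ}
  [Fact p.Prime] {G : Type u} [Group G] {ι : S →* G}

/-- A `p'`-element of a model normalizing the image of `W` gives an automorphism moving inside the
normalizer of `W`. -/
theorem exists_aut_of_model (hS : IsPGroup p S) (h : F.IsModel p G ι) {W : Subgroup Ω}
    (hW : W ≤ S) {k : G} (hk : (orderOf k).Coprime p) (hk1 : k ≠ 1)
    (hkW : ∀ y ∈ pushSub ι W, k * y * k⁻¹ ∈ pushSub ι W) :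
    ∃ P : Subgroup Ω, ∃ hP : P ≤ S, W ≤ P ∧ ∃ a ∈ F.autGroup P, (orderOf a).Coprime p ∧ a ≠ 1 ∧
      ∀ x : P, ι ⟨(a x : P), hP (a x).2⟩ = k * ι ⟨x, hP x.2⟩ * k⁻¹ := by
  have hr := Model.pCore_le_range h
  obtain ⟨hfin, hι, -, hC⟩ := h
  set O := pullSub ι (pCore p G) with hO
  have hOp : pushSub ι O = pCore p G := pushSub_pullSub ι hr
  set P := W ⊔ O with hPdef
  have hP : P ≤ S := sup_le hW (pullSub_le ι _)
  set U := pushSub ι W ⊔ pCore p G with hU
  have hUP : ∀ x : S, (x : Ω) ∈ P ↔ ι x ∈ U := by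
    intro x
    rw [← apply_mem_pushSub hι.1, hU, ← hOp, pushSub, pushSub, pushSub, ← Subgroup.map_sup,
      hPdef, Subgroup.subgroupOf_sup hW (pullSub_le ι _)]
  have hkU : ∀ y ∈ U, k * y * k⁻¹ ∈ U := by
    have hle : U ≤ U.comap (MulAut.conj k).toMonoidHom := by
      refine sup_le (fun y hy => ?_) fun y hy => ?_
      · exact Subgroup.mem_sup_left (hkW y hy)
      · exact Subgroup.mem_sup_right ((inferInstance : (pCore p G).Normal).conj_mem y hy k)
    exact fun y hy => hle hy
  have hmem : ∀ x : P, k * ι ⟨x, hP x.2⟩ * k⁻¹ ∈ ι.range := fun x => by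
    have h1 : U ≤ ι.range := sup_le (pushSub_le ι W) hr
    exact h1 (hkU _ ((hUP ⟨x, hP x.2⟩).1 x.2))
  have hφ := pullHom_mem hι hP k hmem
  have hin : ∀ x : P, pullHom hι.1 hP k hmem x ∈ P := fun x => by
    refine (hUP ⟨_, apply_mem hφ x⟩).2 ?_
    rw [apply_pullHom]
    exact hkU _ ((hUP ⟨x, hP x.2⟩).1 x.2)
  have hrange := range_eq_of_le hφ hP hin le_rfl
  set a := toAut hφ hrange with ha
  have hax : ∀ x : P, ι ⟨(a x : P), hP (a x).2⟩ = k * ι ⟨x, hP x.2⟩ * k⁻¹ := fun x => by
    rw [show (⟨((a x : P) : Ω), hP (a x).2⟩ : S) = ⟨_, apply_mem hφ x⟩ from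
      Subtype.ext (coe_toAut hφ hrange x), apply_pullHom]
  refine ⟨P, hP, le_sup_left, a, toAut_mem hφ hrange, ?_, ?_, hax⟩
  · have hpow : ∀ (n : ℕ) (x : P),
        ι ⟨((a ^ n) x : P), hP ((a ^ n) x).2⟩ = k ^ n * ι ⟨x, hP x.2⟩ * (k ^ n)⁻¹ := by
      intro n
      induction n with
      | zero => intro x; simp
      | succ n ih =>
        intro x
        rw [show (⟨(((a ^ (n + 1)) x : P) : Ω), hP ((a ^ (n + 1)) x).2⟩ : S) =
          ⟨((a ((a ^ n) x) : P) : Ω), hP (a ((a ^ n) x)).2⟩ from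
            Subtype.ext (by rw [pow_succ' a]; rfl), hax, ih, pow_succ' k]
        group
    have h1 : a ^ orderOf k = 1 := MulEquiv.ext fun x => Subtype.ext (congrArg Subtype.val
      (hι.1 (by rw [hpow, pow_orderOf_eq_one]; simp) :
        (⟨((a ^ orderOf k) x : P), hP ((a ^ orderOf k) x).2⟩ : S) = ⟨x, hP x.2⟩) :)
    exact Nat.Coprime.coprime_dvd_left (orderOf_dvd_of_pow_eq_one h1) hk
  · intro ha1
    refine hk1 ?_
    have hkO : k ∈ pCore p G := by
      refine hC (Subgroup.mem_centralizer_iff.2 fun o ho => ?_)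
      obtain ⟨s, rfl⟩ := hr ho
      have hsP : (s : Ω) ∈ P := (hUP s).2 (Subgroup.mem_sup_right ho)
      have h2 := hax ⟨s, hsP⟩
      rw [ha1] at h2
      exact (eq_mul_inv_iff_mul_eq.1 h2)
    obtain ⟨s, hs⟩ := hr hkO
    obtain ⟨j, hj⟩ := hS s
    have h3 : k ^ p ^ j = 1 := by rw [← hs, ← map_pow, hj, map_one]
    exact orderOf_eq_one_iff.1 (Nat.eq_one_of_dvd_coprimes (Nat.Coprime.pow_right j hk) dvd_rfl
      (orderOf_dvd_of_pow_eq_one h3))

omit [Finite S] in
/-- A subgroup without normal `p`-complement has a nontrivial element of order prime to `p`. -/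
theorem exists_coprime_of_not_complement [Finite G] {H : Subgroup G}
    (h : ¬ HasNormalPComplement p H) : ∃ k ∈ H, (orderOf k).Coprime p ∧ k ≠ 1 := by
  by_contra hne
  push Not at hne
  refine h (Transfer.hasNormalPComplement_of_isPGroup
    (isPGroup_of_coprime_orderOf_eq_one fun x hx => Subtype.ext ?_))
  exact hne x x.2 (by rwa [Subgroup.orderOf_coe])

/-- A model of a system not of inner type has no normal `p`-complement. -/
theorem not_complement_of_model (hS : IsPGroup p S) (hF : F.IsSaturated p) (h : F.IsModel p G ι)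
    (hne : ¬ IsInnerType F p) : ¬ HasNormalPComplement p G := by
  intro hc
  have hr := Model.pCore_le_range h
  obtain ⟨hfin, hι, ⟨T, hT⟩, hC⟩ := h
  have hnd := Transfer.hasNormalPComplement_iff.1 hc
  set K := pResidual p G
  have hKn : K.Normal := Transfer.pResidual_normal p
  have hKC : K ≤ Subgroup.centralizer (pCore p G : Set G) := by
    intro x hx
    refine Subgroup.mem_centralizer_iff.2 fun o ho => ?_
    have hdis : Disjoint K (pCore p G) := by
      rw [disjoint_iff, Subgroup.eq_bot_iff_forall]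
      intro y hy
      obtain ⟨j, hj⟩ := (PCore.isPGroup_pCore (G := G) (p := p)) ⟨y, (Subgroup.mem_inf.1 hy).2⟩
      refine orderOf_eq_one_iff.1 (Nat.eq_one_of_dvd_coprimes
        (Nat.Coprime.pow_left j ((Fact.out : p.Prime).coprime_iff_not_dvd.2 hnd))
        (orderOf_dvd_of_pow_eq_one (congrArg Subtype.val hj :)) ?_)
      have := orderOf_dvd_natCard (⟨y, (Subgroup.mem_inf.1 hy).1⟩ : K)
      rwa [← Subgroup.orderOf_coe] at this
    exact ((Subgroup.commute_of_normal_of_disjoint _ _ hKn inferInstance hdis x o hx ho).eq).symm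
  have hKT : K ≤ ι.range := hKC.trans (hC.trans hr)
  have htop : ι.range = ⊤ := by
    rw [← hT, eq_top_iff, ← Transfer.sylow_sup_pResidual_eq_top T]
    exact sup_le le_rfl (hT ▸ hKT)
  refine hne ((isInnerType_iff hS hF).2 fun P => Set.ext fun φ => ⟨fun hφ => ?_, fun hφ => ?_⟩)
  · obtain ⟨hP, hφS, g, hg⟩ := (realized_hom_iff hι).1 hφ
    obtain ⟨s, rfl⟩ : g ∈ ι.range := htop ▸ Subgroup.mem_top g
    refine ⟨hP, s, s.2, fun x => ?_⟩
    have h1 := hg x
    rw [← map_inv, ← map_mul, ← map_mul] at h1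
    exact congrArg Subtype.val (hι.1 h1)
  · obtain ⟨hP, g, hg, hx⟩ := hφ
    exact mem_of_conj hP hg hx

theorem perm_three_central : ∀ x : Equiv.Perm (Fin 3), x * x = 1 →
    (∀ g, g * x * g⁻¹ = x) → x = 1 := by decide

omit [Finite S] in
/-- A model of a tame system does not involve the symmetric group of degree 4, for `p = 2`. -/
theorem not_involves_of_model (_hS : IsPGroup p S) (h : F.IsModel p G ι) (hp : p = 2)
    (ht : IsTame F p) : ¬ Involves (Equiv.Perm (Fin 4)) G := by
  intro hinv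
  have hr := Model.pCore_le_range h
  obtain ⟨hfin, hι, -, hC⟩ := h
  set O := pullSub ι (pCore p G) with hO
  have hOS : O ≤ S := pullSub_le ι _
  have h3 : Involves (Equiv.Perm (Fin 3)) (Equiv.Perm (Fin 4)) :=
    involves_of_injective (Equiv.Perm.viaEmbeddingHom (Fin.castSuccEmb : Fin 3 ↪ Fin 4))
      (Equiv.Perm.viaEmbeddingHom_injective _)
      (PComplement.involves_iff.2 ⟨⊤, (⊤ : Subgroup (Equiv.Perm (Fin 3))).subtype,
        fun x => ⟨⟨x, trivial⟩, rfl⟩⟩)
  obtain ⟨K, φ, hφ⟩ := PComplement.involves_iff.1 hinv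
  obtain ⟨L, χ, hχ⟩ := PComplement.involves_iff.1 h3
  set K' := (L.comap φ).map K.subtype with hK'
  let f : L.comap φ →* Equiv.Perm (Fin 3) := χ.comp (φ.subgroupComap L)
  have hf : Function.Surjective f :=
    hχ.comp (φ.subgroupComap_surjective_of_surjective L hφ)
  let e := (L.comap φ).equivMapOfInjective K.subtype K.subtype_injective
  let g : K' →* Equiv.Perm (Fin 3) := f.comp e.symm.toMonoidHom
  have hg : Function.Surjective g := hf.comp e.symm.surjective
  set C := Subgroup.centralizer (pCore p G : Set G) with hCdef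
  have hCp : IsPGroup 2 C := hp ▸ (PCore.isPGroup_pCore.to_le hC)
  have hCn : C.Normal := inferInstance
  set M := (C.subgroupOf K').map g with hMdef
  have hMn : M.Normal := Subgroup.Normal.map inferInstance g hg
  have hMp : IsPGroup 2 M :=
    ((hCp.comap_of_injective K'.subtype K'.subtype_injective).map g)
  have hM : ∀ x ∈ M, x = 1 := by
    intro x hx
    obtain ⟨n, hn⟩ := IsPGroup.iff_card.1 hMp
    have hd : Nat.card M ∣ Nat.card (Equiv.Perm (Fin 3)) := Subgroup.card_subgroup_dvd_card M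
    rw [Nat.card_perm, Nat.card_fin, hn] at hd
    have hn2 : n ≤ 1 := by
      by_contra hlt
      have h4 : 2 ^ 2 ∣ 6 := (pow_dvd_pow 2 (show 2 ≤ n by omega)).trans hd
      norm_num at h4
    have hsq : ∀ y ∈ M, y * y = 1 := fun y hy => by
      have h4 : (⟨y, hy⟩ : M) ^ Nat.card M = 1 := pow_card_eq_one'
      have h5 : y ^ Nat.card M = 1 := congrArg Subtype.val h4
      rcases Nat.le_one_iff_eq_zero_or_eq_one.1 hn2 with h0 | h0
      · rw [hn, h0, pow_zero, pow_one] at h5
        rw [h5, one_mul]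
      · rw [hn, h0, pow_one, pow_two] at h5
        exact h5
    refine perm_three_central x (hsq x hx) fun c => ?_
    by_contra hne
    have hy := hMn.conj_mem x hx c
    have hx1 : x ≠ 1 := fun h1 => hne (by rw [h1]; simp)
    have hy1 : c * x * c⁻¹ ≠ 1 := fun h1 => hx1 (conj_eq_one_iff.1 h1)
    have : 2 < Nat.card M := by
      have : Finite M := inferInstance
      let : Fintype M := Fintype.ofFinite _
      rw [Nat.card_eq_fintype_card]
      refine Fintype.two_lt_card_iff.2 ⟨⟨_, hy⟩, ⟨x, hx⟩, ⟨1, M.one_mem⟩,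
        fun h1 => hne (congrArg Subtype.val h1), fun h1 => hy1 (congrArg Subtype.val h1),
        fun h1 => hx1 (congrArg Subtype.val h1)⟩
    rw [hn] at this
    have := pow_le_pow_right₀ (show 1 ≤ 2 by norm_num) hn2
    omega
  -- so the quotient by the centralizer of `O_p(G)` still involves `Sym(3)`
  let ψ : G →* MulAut (pCore p G) := MulAut.conjNormal
  have hψ : ∀ x, ψ x = 1 → x ∈ C := fun x hx => Subgroup.mem_centralizer_iff.2 fun o ho => by
    have h1 := congrArg Subtype.val (MulEquiv.congr_fun hx ⟨o, ho⟩)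
    exact (mul_inv_eq_iff_eq_mul.1 h1).symm
  have hker : (ψ.comp K'.subtype).rangeRestrict.ker ≤ g.ker := fun x hx => by
    refine hM _ ⟨x, hψ x ?_, rfl⟩
    rw [MonoidHom.ker_rangeRestrict] at hx
    exact hx
  let q : (ψ.comp K'.subtype).range →* Equiv.Perm (Fin 3) :=
    (ψ.comp K'.subtype).rangeRestrict.liftOfSurjective
      (ψ.comp K'.subtype).rangeRestrict_surjective ⟨g, hker⟩
  have hq : Function.Surjective q := fun y => by
    obtain ⟨x, rfl⟩ := hg y
    exact ⟨_, MonoidHom.liftOfRightInverse_comp_apply _ _ _ ⟨g, hker⟩ x⟩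
  -- transport to the automorphism group of `O`
  have hOp : pushSub ι O = pCore p G := pushSub_pullSub ι hr
  let eO : O ≃* pCore p G := (pushEquiv hι.1 hOS).trans (MulEquiv.subgroupCongr hOp)
  let θ : MulAut (pCore p G) ≃* MulAut O := MulAut.congr eO.symm
  have hθ : (ψ.comp K'.subtype).range.map θ.toMonoidHom ≤ F.autGroup O := by
    rintro _ ⟨_, ⟨x, rfl⟩, rfl⟩
    refine (mem_autGroup_iff hOS).2 ((realized_hom_iff hι).2
      ⟨hOS, fun y => hOS (θ (ψ x) y).2, x, fun y => ?_⟩)
    show ι ⟨(eO.symm (ψ x (eO.symm.symm y)) : O), _⟩ = _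
    have h1 : ((eO (eO.symm (ψ x (eO.symm.symm y))) : pCore p G) : G) =
        (x : G) * (eO y : pCore p G) * (x : G)⁻¹ := by rw [MulEquiv.apply_symm_apply]; rfl
    exact h1
  refine (ht.resolve_left (not_not.2 hp)) O hOS ?_
  refine involves_of_injective (Subgroup.inclusion hθ) (Subgroup.inclusion_injective _) ?_
  refine involves_of_surjective (q.comp ((ψ.comp K'.subtype).range.equivMapOfInjective θ.toMonoidHom
    θ.injective).symm.toMonoidHom) (hq.comp (MulEquiv.surjective _))
    (PComplement.involves_iff.2 ⟨⊤, (⊤ : Subgroup (Equiv.Perm (Fin 3))).subtype,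
      fun x => ⟨⟨x, trivial⟩, rfl⟩⟩)

omit [Finite S] [Fact p.Prime] in
theorem pushSub_center (hι : Function.Injective ι) :
    pushSub ι (S ⊓ Subgroup.centralizer (S : Set Ω)) = PComplement.zOf ι.range := by
  ext y
  constructor
  · rintro ⟨x, hx, rfl⟩
    refine ⟨⟨x, rfl⟩, Subgroup.mem_centralizer_iff.2 ?_⟩
    rintro _ ⟨z, rfl⟩
    rw [← map_mul, ← map_mul]
    exact congrArg ι (Subtype.ext (Subgroup.mem_centralizer_iff.1 hx.2 z z.2))
  · rintro ⟨⟨x, rfl⟩, hc⟩
    refine ⟨x, ⟨x.2, Subgroup.mem_centralizer_iff.2 fun z hz => ?_⟩, rfl⟩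
    have h1 := Subgroup.mem_centralizer_iff.1 hc (ι ⟨z, hz⟩) ⟨_, rfl⟩
    rw [← map_mul, ← map_mul] at h1
    exact congrArg Subtype.val (hι h1)

omit [Finite S] [Fact p.Prime] in
theorem pushSub_thompsonA (hι : Function.Injective ι) :
    pushSub ι (thompsonSubgroupAOf S) = thompsonSubgroupAOf ι.range := by
  rw [thompsonSubgroupAOf, thompsonSubgroupAOf, pushSub, Subgroup.subgroupOf,
    Subgroup.comap_map_eq_self_of_injective S.subtype_injective,
    ← PComplement.map_thompsonSubgroupA (MonoidHom.ofInjective hι), Subgroup.map_map]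
  rfl

omit [Finite S] [Fact p.Prime] in
theorem pushSub_centerThompsonA (hι : Function.Injective ι) :
    pushSub ι (centerThompsonAOf S) = centerThompsonAOf ι.range := by
  rw [centerThompsonAOf, centerThompsonAOf, ← pushSub_thompsonA hι]
  have hJS : thompsonSubgroupAOf S ≤ S := Subgroup.map_subtype_le _
  ext y
  constructor
  · rintro ⟨x, ⟨hx, hxc⟩, rfl⟩
    refine ⟨⟨x, hx, rfl⟩, Subgroup.mem_centralizer_iff.2 ?_⟩
    rintro _ ⟨z, hz, rfl⟩
    rw [← map_mul, ← map_mul]
    exact congrArg ι (Subtype.ext (Subgroup.mem_centralizer_iff.1 hxc z hz))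
  · rintro ⟨⟨x, hx, rfl⟩, hc⟩
    refine ⟨x, ⟨hx, Subgroup.mem_centralizer_iff.2 fun z hz => ?_⟩, rfl⟩
    have h1 := Subgroup.mem_centralizer_iff.1 hc (ι ⟨z, hJS hz⟩) ⟨_, hz, rfl⟩
    rw [← map_mul, ← map_mul] at h1
    exact congrArg Subtype.val (hι h1)

theorem moves_of_not_complement (hS : IsPGroup p S) (h : F.IsModel p G ι) {W : Subgroup Ω}
    (hW : W ≤ S) (hN : ¬ HasNormalPComplement p
      ↥(Subgroup.normalizer (pushSub ι W : Set G))) : Moves F p W := by
  have := h.1
  obtain ⟨k, hk, hco, hne⟩ := exists_coprime_of_not_complement hN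
  obtain ⟨P, hP, hWP, a, ha, hco', hne', hax⟩ := exists_aut_of_model hS h hW hco hne
    fun y hy => (Subgroup.mem_normalizer_iff.1 hk y).1 hy
  refine ⟨P, hP, hWP, a, ha, hco', hne', fun x hx => ?_⟩
  refine (apply_mem_pushSub h.2.1.1 (x := ⟨(a x : P), hP (a x).2⟩)).1 ?_
  rw [hax]
  exact (Subgroup.mem_normalizer_iff.1 hk _).1 ⟨⟨x, hP x.2⟩, hx, rfl⟩

theorem movesFixing_of_not_complement (hS : IsPGroup p S) (h : F.IsModel p G ι) {W : Subgroup Ω}
    (hW : W ≤ S) (hN : ¬ HasNormalPComplement p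
      ↥(Subgroup.centralizer (pushSub ι W : Set G))) : MovesFixing F p W := by
  have := h.1
  obtain ⟨k, hk, hco, hne⟩ := exists_coprime_of_not_complement hN
  have hc : ∀ y ∈ pushSub ι W, k * y * k⁻¹ = y := fun y hy =>
    mul_inv_eq_iff_eq_mul.2 (Subgroup.mem_centralizer_iff.1 hk y hy).symm
  obtain ⟨P, hP, hWP, a, ha, hco', hne', hax⟩ := exists_aut_of_model hS h hW hco hne
    fun y hy => (hc y hy).symm ▸ hy
  refine ⟨P, hP, hWP, a, ha, hco', hne', fun x hx => ?_⟩
  have h2 := h.2.1.1 ((hax x).trans (hc _ ⟨⟨x, hP x.2⟩, hx, rfl⟩))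
  simpa only [Subtype.mk.injEq] using h2

/-- A constrained tame system not of inner type moves inside `N(J(S))` or inside `C(Z(S))`. -/
theorem moves_of_isConstrained (hS : IsPGroup p S) (hF : F.IsConstrained p) (ht : IsTame F p)
    (hne : ¬ IsInnerType F p) :
    Moves F p (thompsonSubgroupAOf S) ∨ MovesFixing F p (S ⊓ Subgroup.centralizer (S : Set Ω)) := by
  obtain ⟨hs, Q, hn, hc⟩ := hF
  obtain ⟨G, _, ι, hM⟩ := Model.exists_model hS hs hn hc
  have hG := not_complement_of_model hS hs hM hne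
  have hW : thompsonSubgroupAOf S ≤ S := Subgroup.map_subtype_le _
  by_contra hboth
  push Not at hboth
  have hfin := hM.1
  obtain ⟨T, hT⟩ := hM.2.2.1
  have hN : HasNormalPComplement p
      ↥(Subgroup.normalizer (thompsonSubgroupAOf (T : Subgroup G) : Set G)) := by
    by_contra hN
    rw [hT, ← pushSub_thompsonA hM.2.1.1] at hN
    exact hboth.1 (moves_of_not_complement hS hM hW hN)
  have hZ : HasNormalPComplement p
      ↥(Subgroup.centralizer (PComplement.zOf (T : Subgroup G) : Set G)) := by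
    by_contra hZ
    rw [hT, ← pushSub_center hM.2.1.1] at hZ
    exact hboth.2 (movesFixing_of_not_complement hS hM inf_le_left hZ)
  refine hG ?_
  by_cases hp : p = 2
  · exact PComplement.thompsonATwoComplement hp (not_involves_of_model hS hM hp ht) T hN hZ
  · exact PComplement.thompsonAComplement hp T hN hZ

/-- For odd `p` a constrained system not of inner type moves inside `N(Z(J(S)))`. -/
theorem moves_centerThompsonA_of_isConstrained (hS : IsPGroup p S) (hp : p ≠ 2)
    (hF : F.IsConstrained p) (hne : ¬ IsInnerType F p) : Moves F p (centerThompsonAOf S) := by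
  obtain ⟨hs, Q, hn, hc⟩ := hF
  obtain ⟨G, _, ι, hM⟩ := Model.exists_model hS hs hn hc
  have hG := not_complement_of_model hS hs hM hne
  have hW : centerThompsonAOf S ≤ S := inf_le_left.trans (Subgroup.map_subtype_le _)
  by_contra hno
  have hfin := hM.1
  obtain ⟨T, hT⟩ := hM.2.2.1
  refine hG (PComplement.zjAComplement hp T ?_)
  by_contra hN
  rw [hT, ← pushSub_centerThompsonA hM.2.1.1] at hN
  exact hno (moves_of_not_complement hS hM hW hN)

end Cfsg.Agent.Fusion
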