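import Cfsg.Agent.Lib.Fusion.Nilpotence
import Cfsg.Agent.Lib.PComplement.GlaubermanThompson

/-!
Functors on `p`-groups as input of `Nilpotence`; the instance `Z(J(S))`.
-/

set_option autoImplicit false

namespace Cfsg.Agent.Fusion.Nilpotence

open Cfsg

universe u

variable {p : ℕ}

/-- A functor on `p`-groups, as a functor on subgroups. -/
def ofCharPFunctor (W : ∀ (Q : Type u) [Group Q], Subgroup Q) (hW : IsCharPFunctor.{u} p W) :
    Functorial.{u} p where
  W S := inducedFunctor W S
  le S := Subgroup.map_subtype_le _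
  ne_bot S _ hS hne h := by
    haveI : Nontrivial S := (Subgroup.nontrivial_iff_ne_bot S).2 hne
    exact hW.1 ↥S hS this ((Subgroup.map_eq_bot_iff_of_injective _ Subtype.coe_injective).1 h)
  map S _ hS f hf := by
    have h := hW.2 ↥S ↥f.range hS (MonoidHom.ofInjective hf)
    show (W ↥f.range).map f.range.subtype = (((W ↥S).map S.subtype).subgroupOf S).map f
    rw [← h, Subgroup.map_map,
      show ((W ↥S).map S.subtype).subgroupOf S = W ↥S from
        Subgroup.comap_map_eq_self_of_injective Subtype.coe_injective _]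
    rfl

theorem ofCharPFunctor_W (W : ∀ (Q : Type u) [Group Q], Subgroup Q) (hW : IsCharPFunctor.{u} p W)
    {Ω : Type u} [Group Ω] (S : Subgroup Ω) :
    (ofCharPFunctor W hW).W S = PComplement.wOf W S := rfl

variable [Fact p.Prime]

/-- `Z(J(S))`. -/
def zjA : Functorial.{u} p := ofCharPFunctor _ PComplement.isCharPFunctor_zjA

theorem zjA_W {Ω : Type u} [Group Ω] (S : Subgroup Ω) :
    (zjA (p := p)).W S = centerThompsonAOf S := PComplement.wOf_zjA S

theorem complements_zjA (hp : p ≠ 2) : Complements (zjA.{u} (p := p)) := by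
  intro G _ _ P h
  rw [zjA_W] at h
  exact PComplement.zjAComplement hp P h

end Cfsg.Agent.Fusion.Nilpotence
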