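import Cfsg.Agent.Lib.Fusion.GroupSimple

/-!
A normal subgroup of a Sylow subgroup containing its centraliser there is centric in the fusion
system of the group.
-/

set_option autoImplicit false
set_option maxHeartbeats 400000

namespace Cfsg.Agent.Fusion.NormalCentric

open Cfsg Cfsg.FusionSystem Cfsg.Agent.Fusion.GroupSimple

variable {G : Type*} [Group G] [Finite G] {p : ℕ} [Fact p.Prime] (P : Sylow p G)

/-- A normal subgroup of `P` containing its centraliser in `P` is centric. -/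
theorem isCentric_of_normal {R : Subgroup G} (hR : R ≤ (P : Subgroup G))
    (hPR : (P : Subgroup G) ≤ Subgroup.normalizer (R : Set G))
    (hC : ∀ x ∈ (P : Subgroup G), x ∈ Subgroup.centralizer (R : Set G) → x ∈ R) :
    (groupFusionSystem (P : Subgroup G)).IsCentric R := by
  refine ⟨hR, ?_⟩
  rintro Q ⟨φ, ⟨-, -, g, hg⟩, rfl⟩ y ⟨hyP, hy⟩
  set u := g⁻¹ * y * g with hu
  have huC : u ∈ Subgroup.centralizer (R : Set G) := by
    refine Subgroup.mem_centralizer_iff.mpr fun r hr => ?_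
    have h1 : φ ⟨r, hr⟩ * y = y * φ ⟨r, hr⟩ := Subgroup.mem_centralizer_iff.mp hy _ ⟨_, rfl⟩
    rw [hg] at h1
    calc r * (g⁻¹ * y * g) = g⁻¹ * (g * r * g⁻¹ * y) * g := by group
      _ = _ := by rw [h1, hu]; group
  set N := Subgroup.normalizer (R : Set G) with hN
  have huN : u ∈ N := Subgroup.centralizer_le_normalizer _ huC
  have hup : IsPGroup p (Subgroup.zpowers (⟨u, huN⟩ : N)) := by
    obtain ⟨k, hk⟩ := P.2 ⟨y, hyP⟩
    have hyk : y ^ p ^ k = 1 := congrArg Subtype.val hk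
    have h1 : (⟨u, huN⟩ : N) ^ p ^ k = 1 := Subtype.ext (by
      show u ^ p ^ k = 1
      have := map_pow (MulAut.conj g⁻¹) y (p ^ k)
      rw [hyk, map_one, MulAut.conj_apply, inv_inv] at this
      exact this.symm)
    obtain ⟨j, -, hj⟩ := (Nat.dvd_prime_pow Fact.out).mp (orderOf_dvd_of_pow_eq_one h1)
    exact IsPGroup.of_card (n := j) (by rw [Nat.card_zpowers, hj])
  obtain ⟨T, hT⟩ := hup.exists_le_sylow
  obtain ⟨n, hn⟩ := MulAction.exists_smul_eq N (P.subtype hPR) T
  have h2 : n⁻¹ * ⟨u, huN⟩ * n ∈ (P : Subgroup G).subgroupOf N := by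
    have h3 := hT (Subgroup.mem_zpowers _)
    rw [← hn, Sylow.coe_subgroup_smul, Subgroup.mem_pointwise_smul_iff_inv_smul_mem] at h3
    simpa [MulAut.conj_inv_apply] using h3
  have h3 : (n : G)⁻¹ * u * n ∈ (P : Subgroup G) := h2
  have h4 : (n : G)⁻¹ * u * n ∈ R := by
    refine hC _ h3 (Subgroup.mem_centralizer_iff.mpr fun r hr => ?_)
    have hr' : (n : G) * r * (n : G)⁻¹ ∈ R := (conj_mem_iff_of_mem_normalizer n.2).mpr hr
    have := Subgroup.mem_centralizer_iff.mp huC _ hr'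
    calc r * ((n : G)⁻¹ * u * n) = (n : G)⁻¹ * ((n : G) * r * (n : G)⁻¹ * u) * n := by group
      _ = _ := by rw [this]; group
  have h5 : u ∈ R := by
    have := (conj_mem_iff_of_mem_normalizer (R := R) n.2).mpr h4
    simpa [mul_assoc] using this
  exact ⟨⟨u, h5⟩, by rw [hg]; simp [hu, mul_assoc]⟩

end Cfsg.Agent.Fusion.NormalCentric
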