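import Cfsg.Agent.Lib.Fusion.ModelEmbed
import Cfsg.Agent.Lib.Fusion.NormalCriteria
import Cfsg.Agent.Lib.Fusion.Iso
import Cfsg.Agent.Lib.Fusion.Alperin

/-!
Section-freeness of saturated systems: it is enough to look at the radical centric subgroups, and
normalizer systems inherit it.
-/

set_option autoImplicit false
set_option linter.unusedSectionVars false

namespace Cfsg.Agent.Fusion.SectionFree

open Cfsg Cfsg.FusionSystem Cfsg.Agent.Fusion Cfsg.Agent.Fusion.ModelEmbed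

universe u z

variable {Ω : Type u} [Group Ω] {S : Subgroup Ω} {p : ℕ} {F : FusionSystem S}
variable [Finite S] [Fact p.Prime] {H : Type z} [Group H]

/-- If the image of `Q` is `O_p` of the model at `Q`, then `Q` is radical. -/
theorem isRadical_of_model (hS : IsPGroup p S) {Q : Subgroup Ω} (hQ : Q ≤ S)
    {N : FusionSystem (normalizerIn S Q)} (hN : F.IsNormalizerSystem Q N) (hsat : N.IsSaturated p)
    (hn : N.IsNormal Q) (hc : N.IsCentric Q) {L : Type u} [Group L]
    {ι : ↥(normalizerIn S Q) →* L} (hL : N.IsModel p L ι)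
    (hO : pCore p L ≤ pushSub ι Q) : F.IsRadical p Q := by
  have hfin := hL.1
  have := finite_mulAut (Ω := Ω) hQ
  have hfinT := finite_of_le (normalizerIn_le S Q)
  have hTp : IsPGroup p ↥(normalizerIn S Q) := hS.to_le (normalizerIn_le S Q)
  refine ⟨hQ, le_antisymm ?_ (inn_le_map_pCore hS hQ)⟩
  obtain ⟨π, hv, hk, hA⟩ := Model.exists_act hTp hsat hL hn hc
  have hAeq : ∀ α, α ∈ F.autGroup Q ↔ ∃ g, π g = α := fun α => by
    rw [← hA, mem_autGroup_iff hQ, mem_autGroup_iff (le_normalizerIn hQ), hN Q]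
    refine ⟨fun h => ⟨h, le_normalizerIn hQ, fun x => le_normalizerIn hQ (α x).2,
      (Q.subtype.comp α.toMonoidHom).comp (Subgroup.inclusion (sup_le le_rfl le_rfl)),
      restrict_mem h _, fun x => rfl, ?_⟩, fun h => h.1⟩
    rw [map_subgroupOf_eq_iff (restrict_mem h _) le_sup_right]
    exact fun x hx => (α ⟨x, hx⟩).2
  let π' : L →* F.autGroup Q := π.codRestrict _ fun g => (hAeq _).2 ⟨g, rfl⟩
  rintro _ ⟨β, hβ, rfl⟩
  obtain ⟨g, hg⟩ := (hAeq _).1 β.2
  have hkerp : IsPGroup p π'.ker := by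
    refine ((hTp.to_subgroup (Q.subgroupOf (normalizerIn S Q))).map ι).to_le fun x hx => hk x ?_
    exact congrArg Subtype.val (MonoidHom.mem_ker.1 hx)
  have hK : (pCore p (F.autGroup Q)).comap π' ≤ pCore p L :=
    PCore.le_pCore ((PCore.isPGroup_pCore).comap_of_ker_isPGroup π' hkerp)
  obtain ⟨s, hs, rfl⟩ := hO (hK (show π' g ∈ pCore p (F.autGroup Q) by
    rw [show π' g = β from Subtype.ext hg]
    exact hβ))
  refine ⟨⟨(s : Ω), hs⟩, ?_⟩
  refine MulEquiv.ext fun x => Subtype.ext ?_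
  have h1 := hv (ι s) x
  rw [hg, ← map_inv, ← map_mul, ← map_mul] at h1
  rw [Subgroup.coe_subtype, congrArg Subtype.val (hL.2.1.1 h1)]
  rfl

/-- It is enough that the models at the radical centric subgroups be `H`-free. -/
theorem isSectionFree_of_radical (hS : IsPGroup p S) (hF : F.IsSaturated p)
    (h : ∀ Q : Subgroup Ω, F.IsFullyNormalized Q → F.IsCentric Q → F.IsRadical p Q →
      FreeAt F p H Q) : F.IsSectionFree p H := by
  suffices key : ∀ n, ∀ Q : Subgroup Ω, Nat.card S - Nat.card Q = n → F.IsFullyNormalized Q →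
      F.IsCentric Q → FreeAt F p H Q from fun Q hQn hQc => key _ Q rfl hQn hQc
  intro n
  induction n using Nat.strong_induction_on with
  | _ n ih =>
    intro Q hn hQn hQc N hN L _ ι hL
    obtain ⟨hsat, hnQ, hcQ, -⟩ := exists_model_normalizer hS hF hQc hQn hN
    have hfin := hL.1
    have hTS := normalizerIn_le S Q
    have hfinT := finite_of_le hTS
    have hTp : IsPGroup p ↥(normalizerIn S Q) := hS.to_le hTS
    obtain ⟨T₀, hT₀⟩ := hL.2.2.1
    have hi := isIsoAlong_of_realized hL.2.1 hT₀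
    have hOr : pCore p L ≤ (T₀ : Subgroup L) := hT₀ ▸ Model.pCore_le_range hL
    obtain ⟨O, hOT, hO⟩ := hi.exists_preimage hOr
    have hOn : N.IsNormal O := hi.isNormal hOT
      (hO ▸ group_isNormal_of_normal T₀ PCore.pCore_normal PCore.isPGroup_pCore)
    have hQO : Q ≤ O := hi.le_of_img_le (le_normalizerIn hQc.1)
      (hO ▸ Model.pushSub_le_pCore hTp hL hnQ)
    by_cases hOQ : O = Q
    · subst hOQ
      exact h O hQn hQc (isRadical_of_model hS hQc.1 hN hsat hnQ hcQ hL hO.ge) N hN L ι hL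
    have hlt : Nat.card Q < Nat.card O := by
      have := finite_of_le (hOT.trans hTS)
      by_contra hle
      exact hOQ (Subgroup.eq_of_le_of_card_ge hQO (Nat.le_of_not_lt hle)).symm
    have hOc : F.IsCentric O := isCentric_of_le hQc hQO (hOT.trans hTS)
    obtain ⟨O', hconj, hO'⟩ := exists_fullyNormalized F (hOT.trans hTS)
    have hO'c := isCentric_of_isConj hOc hconj
    have hlt' : Nat.card S - Nat.card O' < n := by
      have h1 := isConj_card hconj
      have h2 : Nat.card O' ≤ Nat.card S := Subgroup.card_le_of_le hO'.1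
      omega
    refine not_involves (Y := Q) hS hF hOc hO' hconj hTS hOT hQO hOn
      (fun P φ hφ => ?_) (fun P φ hφ x hx => ?_) (fun P φ hφ hP hPT hφT hφO hφQ => ?_)
      (fun ψ hψ A hA hAY => ?_) (ih _ hlt' O' rfl hO' hO'c) hL
    · rw [hN P] at hφ
      exact hφ.1
    · exact (stronglyClosed_of_isNormal hnQ).2 (P ⊓ Q) inf_le_right _
        (restrict_mem hφ inf_le_left) ⟨(x : Ω), x.2, hx⟩
    · rw [hN P]
      have hle : P ⊔ Q ≤ P := sup_le le_rfl (hQO.trans hP)
      refine ⟨hφ, hPT, hφT, φ.comp (Subgroup.inclusion hle), restrict_mem hφ hle, fun x => rfl, ?_⟩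
      rw [map_subgroupOf_eq_iff (restrict_mem hφ hle) le_sup_right]
      exact fun x hx => hφQ _ hx
    · have hconj' : F.IsConj Q ((Q.subgroupOf O).map ψ) := by
        refine ⟨ψ.comp (Subgroup.inclusion hQO), restrict_mem hψ hQO, ?_⟩
        rw [MonoidHom.range_comp, Subgroup.inclusion_range]
      refine le_trans ?_ (hQn.2 _ hconj')
      have := finite_of_le (normalizerIn_le S ((Q.subgroupOf O).map ψ))
      exact Subgroup.card_le_of_le (le_inf (hA.trans (normalizerIn_le S _)) hAY)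

/-- The normalizer system of a fully normalized subgroup inherits `H`-freeness. -/
theorem normalizer_isSectionFree (hS : IsPGroup p S) (hF : F.IsSaturated p)
    (hfree : F.IsSectionFree p H) {Q : Subgroup Ω} (hQ : F.IsFullyNormalized Q)
    {N : FusionSystem (normalizerIn S Q)} (hN : F.IsNormalizerSystem Q N) :
    N.IsSectionFree p H := by
  have hTS := normalizerIn_le S Q
  have hfinT := finite_of_le hTS
  have hTp : IsPGroup p ↥(normalizerIn S Q) := hS.to_le hTS
  have hsat := normalizerSystem_saturated hS hF hQ hN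
  have hnQ := isNormal_of_isNormalizerSystem hN hQ.1
  have hQclosed : ∀ (P : Subgroup Ω) (φ : P →* Ω), φ ∈ N.Hom P →
      ∀ x : P, (x : Ω) ∈ Q → φ x ∈ Q := fun P φ hφ x hx =>
    (stronglyClosed_of_isNormal hnQ).2 (P ⊓ Q) inf_le_right _
      (restrict_mem hφ inf_le_left) ⟨(x : Ω), x.2, hx⟩
  refine isSectionFree_of_radical hTp hsat fun R hRn hRc hRr E hE L _ ι hL => ?_
  have hQR : Q ≤ R := le_of_isNormal hTp hnQ hRc hRr
  have hRS : R ≤ S := hRc.1.trans hTS
  have hmemN : ∀ (P : Subgroup Ω) (φ : P →* Ω), φ ∈ F.Hom P → Q ≤ P → P ≤ normalizerIn S Q →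
      (∀ x, φ x ∈ normalizerIn S Q) → (∀ x : P, (x : Ω) ∈ Q → φ x ∈ Q) → φ ∈ N.Hom P := by
    intro P φ hφ hP hPT hφT hφQ
    rw [hN P]
    have hle : P ⊔ Q ≤ P := sup_le le_rfl hP
    refine ⟨hφ, hPT, hφT, φ.comp (Subgroup.inclusion hle), restrict_mem hφ hle, fun x => rfl, ?_⟩
    rw [map_subgroupOf_eq_iff (restrict_mem hφ hle) le_sup_right]
    exact fun x hx => hφQ _ hx
  -- a map of `F` on `R` is corrected into `N`
  have hcorr : ∀ ψ ∈ F.Hom R, ∃ ρ ∈ F.Hom (normalizerIn S ((Q.subgroupOf R).map ψ)),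
      ∃ hψN : ∀ x : R, ψ x ∈ normalizerIn S ((Q.subgroupOf R).map ψ),
        (∀ g, ρ g ∈ normalizerIn S Q) ∧ ρ.comp (ψ.codRestrict _ hψN) ∈ N.Hom R := by
    intro ψ hψ
    have hconj' : F.IsConj Q ((Q.subgroupOf R).map ψ) := by
      refine ⟨ψ.comp (Subgroup.inclusion hQR), restrict_mem hψ hQR, ?_⟩
      rw [MonoidHom.range_comp, Subgroup.inclusion_range]
    obtain ⟨ρ, hρ, hρN, hρQ⟩ := exists_hom_fullyNormalized hS hF hQ (isConj_symm hconj')
    have := finite_of_le (isConj_le hconj').2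
    have hψN : ∀ x : R, ψ x ∈ normalizerIn S ((Q.subgroupOf R).map ψ) := fun x => by
      refine ⟨apply_mem hψ x, mem_normalizer_of_finite ?_⟩
      rintro _ ⟨y, hy, rfl⟩
      refine ⟨x * y * x⁻¹, ?_, by rw [map_mul, map_mul, map_inv]⟩
      exact (Subgroup.mem_normalizer_iff.1 (hRc.1 x.2).2 _).1 hy
    refine ⟨ρ, hρ, hψN, hρN, hmemN R _ (F.comp_mem hψ hρ hψN) hQR hRc.1
      (fun x => hρN _) fun x hx => hρQ.le ⟨⟨ψ x, hψN x⟩, ⟨x, hx, rfl⟩, rfl⟩⟩
  have hRFc : F.IsCentric R := by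
    refine ⟨hRS, fun X hX => ?_⟩
    obtain ⟨ψ, hψ, rfl⟩ := hX
    intro d hd
    obtain ⟨ρ, hρ, hψN, hρN, hθ⟩ := hcorr ψ hψ
    have hdN : d ∈ normalizerIn S ((Q.subgroupOf R).map ψ) := by
      refine ⟨hd.1, Subgroup.centralizer_le_normalizer _ ?_⟩
      exact Subgroup.centralizer_le (Subgroup.map_le_range ψ _) hd.2
    have h1 : ρ ⟨d, hdN⟩ ∈ centralizerIn (normalizerIn S Q) (ρ.comp (ψ.codRestrict _ hψN)).range := by
      refine ⟨hρN _, ?_⟩
      rintro _ ⟨x, rfl⟩
      have h2 : (⟨ψ x, hψN x⟩ : ↥(normalizerIn S ((Q.subgroupOf R).map ψ))) * ⟨d, hdN⟩ =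
          ⟨d, hdN⟩ * ⟨ψ x, hψN x⟩ := Subtype.ext (hd.2 _ ⟨x, rfl⟩)
      show ρ _ * ρ _ = ρ _ * ρ _
      exact ((map_mul ρ _ _).symm.trans (congrArg ρ h2)).trans (map_mul ρ _ _)
    obtain ⟨x, hx⟩ := hRc.2 _ ⟨_, hθ, rfl⟩ h1
    exact ⟨x, congrArg Subtype.val (F.injective_of_mem hρ hx)⟩
  obtain ⟨R', hconj, hR'⟩ := exists_fullyNormalized F hRS
  refine not_involves (Y := Q) hS hF hRFc hR' hconj ((normalizerIn_le _ R).trans hTS)
    (le_normalizerIn hRc.1) hQR (isNormal_of_isNormalizerSystem hE hRc.1)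
    (fun P φ hφ => ?_) (fun P φ hφ x hx => ?_) (fun P φ hφ hP hPT hφT hφR hφQ => ?_)
    (fun ψ hψ A hA hAY => ?_) (hfree R' hR' (isCentric_of_isConj hRFc hconj)) hL
  · rw [hE P] at hφ
    have := hφ.1
    rw [hN P] at this
    exact this.1
  · rw [hE P] at hφ
    exact hQclosed P φ hφ.1 x hx
  · have hφN : φ ∈ N.Hom P := hmemN P φ hφ (hQR.trans hP) (hPT.trans (normalizerIn_le _ R))
      (fun x => normalizerIn_le _ R (hφT x)) hφQ
    rw [hE P]
    have hle : P ⊔ R ≤ P := sup_le le_rfl hP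
    refine ⟨hφN, hPT, hφT, φ.comp (Subgroup.inclusion hle), restrict_mem hφN hle, fun x => rfl, ?_⟩
    rw [map_subgroupOf_eq_iff (restrict_mem hφN hle) le_sup_right]
    exact fun x hx => hφR _ hx
  · obtain ⟨ρ, hρ, hψN, hρN, hθ⟩ := hcorr ψ hψ
    refine le_trans ?_ (hRn.2 _ ⟨_, hθ, rfl⟩)
    have hAN : A ≤ normalizerIn S ((Q.subgroupOf R).map ψ) :=
      le_inf (hA.trans (normalizerIn_le S _)) hAY
    set A' := (A.subgroupOf (normalizerIn S ((Q.subgroupOf R).map ψ))).map ρ with hA'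
    have hcard : Nat.card A = Nat.card A' := by
      rw [hA', Subgroup.card_map_of_injective (F.injective_of_mem hρ),
        Nat.card_congr (Subgroup.subgroupOfEquivOfLe hAN).toEquiv]
    rw [hcard]
    have := finite_of_le
      ((normalizerIn_le (normalizerIn S Q) (ρ.comp (ψ.codRestrict _ hψN)).range).trans hTS)
    have := finite_of_le (range_le hθ)
    refine Subgroup.card_le_of_le ?_
    rintro _ ⟨a, ha, rfl⟩
    refine ⟨hρN a, mem_normalizer_of_finite ?_⟩
    rintro _ ⟨x, rfl⟩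
    obtain ⟨x', hx'⟩ : (a : Ω) * ψ x * (a : Ω)⁻¹ ∈ ψ.range :=
      (Subgroup.mem_normalizer_iff.1 (hA ha).2 _).1 ⟨x, rfl⟩
    refine ⟨x', ?_⟩
    show ρ _ = ρ a * ρ _ * (ρ a)⁻¹
    rw [← map_inv, ← map_mul, ← map_mul]
    exact congrArg ρ (Subtype.ext hx')

end Cfsg.Agent.Fusion.SectionFree
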