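import Cfsg.Agent.Lib.Fusion.FactorModel
import Cfsg.Agent.Lib.Fusion.SectionFree
import Cfsg.Agent.Lib.Fusion.NormalCriteria
import Cfsg.Agent.Lib.Fusion.Constrained
import Cfsg.Agent.Lib.Fusion.StrongInduction

/-!
A functor whose value is normal in every `H`-free group with `C(O_p) ≤ O_p` gives a subgroup normal
in every `H`-free saturated fusion system.
-/

set_option autoImplicit false
set_option linter.unusedSectionVars false

namespace Cfsg.Agent.Fusion.NormalW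

open scoped commutatorElement
open Cfsg Cfsg.FusionSystem Cfsg.Agent.Fusion Cfsg.Agent.Fusion.ModelEmbed
  Cfsg.Agent.Fusion.Nilpotence

universe u z

variable {p : ℕ} {H : Type z} [Group H]

/-- `Φ.W` is normal in `H`-free groups with `C(O_p) ≤ O_p`. -/
def NormalIn (Φ : Functorial.{u} p) (H : Type z) [Group H] : Prop :=
  ∀ (G : Type u) (_ : Group G) (_ : Finite G), ¬ Involves H G →
    Subgroup.centralizer ((pCore p G : Subgroup G) : Set G) ≤ pCore p G →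
    ∀ P : Sylow p G, (Φ.W (P : Subgroup G)).Normal

/-- `Φ.W S` meets every nontrivial normal subgroup of `S`. -/
def Meets (Φ : Functorial.{u} p) : Prop :=
  ∀ (Ω : Type u) (_ : Group Ω) (S : Subgroup Ω) (_ : Finite S), IsPGroup p S →
    ∀ N : Subgroup Ω, N ≤ S → N ≠ ⊥ → S ≤ Subgroup.normalizer (N : Set Ω) →
      Φ.W S ⊓ N ≠ ⊥

variable {Ω : Type u} [Group Ω] {S : Subgroup Ω} {F : FusionSystem S}
variable [Finite S] [Fact p.Prime]

/-- The constrained case. -/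
theorem normal_of_centric (Φ : Functorial.{u} p) (hG : NormalIn Φ H) (hS : IsPGroup p S)
    (hF : F.IsSaturated p) (hfree : F.IsSectionFree p H) {Q : Subgroup Ω} (hQ : F.IsNormal Q)
    (hc : F.IsCentric Q) : F.IsNormal (Φ.W S) := by
  have hQn : F.IsFullyNormalized Q := ⟨hQ.1, fun R _ => by
    rw [normalizerIn_eq_of_le (le_normalizer_of_isNormal hQ)]
    exact Subgroup.card_le_of_le inf_le_left⟩
  have hN := normalizerSystem_spec F Q hQ.1
  obtain ⟨hNsat, -, -, L, hgL, ι, hL⟩ := exists_model_normalizer hS hF hc hQn hN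
  have hT : normalizerIn S Q = S := normalizerIn_eq_of_le (le_normalizer_of_isNormal hQ)
  have hTS := normalizerIn_le S Q
  have hfinT := finite_of_le hTS
  have hTp : IsPGroup p ↥(normalizerIn S Q) := hS.to_le hTS
  have hfinL := hL.1
  obtain ⟨T₀, hT₀⟩ := hL.2.2.1
  have hn := hG L hgL inferInstance (hfree Q hQn hc _ hN L ι hL) hL.2.2.2 T₀
  have himg : Φ.W (T₀ : Subgroup L) = imageAlong ι (Φ.W (normalizerIn S Q)) := by
    rw [hT₀]
    exact Φ.map _ hfinT hTp ι hL.2.1.1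
  have hnor : (normalizerSystem F Q hQ.1).IsNormal (Φ.W (normalizerIn S Q)) := by
    refine (isIsoAlong_of_realized hL.2.1 hT₀).isNormal (Φ.le _) ?_
    rw [← himg]
    exact group_isNormal_of_normal T₀ hn (T₀.2.to_le (Φ.le _))
  have hW : Φ.W (normalizerIn S Q) = Φ.W S := by rw [hT]
  rw [hW] at hnor
  refine ⟨Φ.le S, fun P φ hφ => ?_⟩
  have hφN : φ ∈ (normalizerSystem F Q hQ.1).Hom P := by
    rw [hN P]
    exact ⟨hφ, (dom_le hφ).trans hT.ge, fun x => hT.ge (apply_mem hφ x), hQ.2 P φ hφ⟩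
  obtain ⟨ψ, hψ, h⟩ := hnor.2 P φ hφN
  rw [hN _] at hψ
  exact ⟨ψ, hψ.1, h⟩

/-- If `O_p(F) ≠ 1` then it is centric, given the statement for smaller systems. -/
theorem isCentric_core_of_ne_bot (Φ : Functorial.{u} p) (hcap : Meets Φ) (hS : IsPGroup p S)
    (hF : F.IsSaturated p) (hfree : F.IsSectionFree p H) (hcore : F.core ≠ ⊥)
    (hrec : ∀ (Ω' : Type u) (_ : Group Ω') (S' : Subgroup Ω') (_ : Finite S')
      (E : FusionSystem S'), Nat.card S' < Nat.card S → IsPGroup p S' → E.IsSaturated p →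
        E.IsSectionFree p H → E.IsNormal (Φ.W S')) : F.IsCentric F.core := by
  have hQn := isNormal_core F
  set Q := F.core with hQdef
  have hQS := hQn.1
  have hQc := stronglyClosed_of_isNormal hQn
  refine ⟨hQS, fun X hX => ?_⟩
  obtain ⟨χ, hχ, rfl⟩ := hX
  rw [range_eq_of_le hχ hQS (fun x => hQc.2 Q le_rfl χ hχ x) le_rfl]
  by_contra hcon
  have hnQ : (Q.subgroupOf S).Normal :=
    ⟨fun x hx g => (Subgroup.mem_normalizer_iff.1 (le_normalizer_of_isNormal hQn g.2) x).1 hx⟩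
  let θ : S →* S ⧸ Q.subgroupOf S := QuotientGroup.mk' (Q.subgroupOf S)
  have hker : ∀ s : S, θ s = 1 ↔ (s : Ω) ∈ Q := fun s => QuotientGroup.eq_one_iff s
  have hr : θ.range = ⊤ := MonoidHom.range_eq_top.2 (QuotientGroup.mk'_surjective _)
  set S' := (⊤ : Subgroup (S ⧸ Q.subgroupOf S)) with hS'def
  obtain ⟨E, hE⟩ : ∃ E : FusionSystem S',
      F.IsFactorSystem Q θ E :=
    ⟨factorSystem F hQc θ hker hr, hQS, hker, hr, fun _ _ => Iff.rfl⟩
  have hS' : IsPGroup p S' := (hS.to_quotient _).to_subgroup _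
  have hlt : Nat.card S' < Nat.card S := by
    rw [Subgroup.card_top, Subgroup.card_eq_card_quotient_mul_card_subgroup (Q.subgroupOf S)]
    refine lt_mul_right Nat.card_pos (Finite.one_lt_card_iff_nontrivial.2 ?_)
    rw [Subgroup.nontrivial_iff_ne_bot, Ne, Subgroup.subgroupOf_eq_bot]
    exact fun hd => hcore ((disjoint_self.1 (hd.mono_right hQS)))
  have hEfree : E.IsSectionFree p H := FactorModel.factor_isSectionFree hS hF hQc hfree hE
  have hEsat := isSaturated_factorSystem hS hF hQc hE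
  have hW := hrec _ inferInstance S' inferInstance E hlt hS' hEsat hEfree
  -- `Q C_S(Q)` is strongly closed
  set C := centralizerIn S Q with hC
  have hCN : C ≤ Subgroup.normalizer (Q : Set Ω) := fun c hc =>
    Subgroup.centralizer_le_normalizer _ hc.2
  have hQC : F.StronglyClosed (Q ⊔ C) := by
    refine ⟨sup_le hQS (centralizerIn_le S Q), fun R hR φ hφ x => ?_⟩
    have hx : (x : Ω) ∈ ((Q ⊔ C : Subgroup Ω) : Set Ω) := hR x.2
    rw [Subgroup.coe_mul_of_right_le_normalizer_left Q C hCN] at hx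
    obtain ⟨q, hq, c, hc, hqc⟩ := hx
    obtain ⟨ψ, hψ, hψe, hψQ⟩ := hQn.2 R φ hφ
    have hcm : c ∈ R ⊔ Q := by
      rw [show c = q⁻¹ * (x : Ω) from eq_inv_mul_of_mul_eq hqc]
      exact mul_mem (inv_mem (Subgroup.mem_sup_right hq)) (Subgroup.mem_sup_left x.2)
    rw [← hψe x, show Subgroup.inclusion le_sup_left x =
      (⟨q, Subgroup.mem_sup_right hq⟩ * ⟨c, hcm⟩ : ↥(R ⊔ Q)) from Subtype.ext hqc.symm, map_mul]
    refine Subgroup.mul_mem_sup (hψQ.le ⟨_, hq, rfl⟩) ⟨apply_mem hψ _, ?_⟩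
    intro y hy
    obtain ⟨w, hw, rfl⟩ := hψQ.ge hy
    rw [← map_mul, ← map_mul]
    exact congrArg ψ (Subtype.ext (hc.2 w hw))
  -- preimages of normal subgroups of `E`
  have hpre : ∀ A : Subgroup (S ⧸ Q.subgroupOf S), E.StronglyClosed A →
      F.StronglyClosed (preimageAlong θ A) := by
    intro A hA
    refine ⟨preimageAlong_le θ A, fun R hR φ hφ x => ?_⟩
    obtain ⟨φ', hφ', hP, hφS, hP2, he⟩ := exists_induced hS hF hQc hE hφ
    refine mem_preimageAlong.2 ⟨hφS x, (he x) ▸ hA.2 _ ?_ _ hφ' ⟨_, hP2 x⟩⟩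
    intro y hy
    obtain ⟨s, hs, rfl⟩ := mem_imageAlong_iff.1 hy
    exact (mem_preimageAlong.1 (hR hs)).2
  set R₀ := preimageAlong θ (Φ.W S') with hR₀
  set D := R₀ ⊓ (Q ⊔ C) with hD
  obtain ⟨n, T, hT0, hTn, hTm, hTN, hTc⟩ := exists_chain_of_isNormal hS hQn
  obtain ⟨m, U, hU0, hUm, hUmono, hUN, hUc⟩ := exists_chain_of_isNormal hS' hW
  have hQR₀ : ∀ A : Subgroup (S ⧸ Q.subgroupOf S), Q ≤ preimageAlong θ A ⊓ (Q ⊔ C) := fun A =>
    le_inf (ker_le_preimage hker hQS A) le_sup_left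
  have hDS : D ≤ S := inf_le_left.trans (preimageAlong_le θ _)
  have hDcl : F.StronglyClosed D :=
    stronglyClosed_inf (hpre _ (stronglyClosed_of_isNormal hW)) hQC
  let V : ℕ → Subgroup Ω := fun i =>
    if i ≤ n then T i else preimageAlong θ (U (i - n)) ⊓ (Q ⊔ C)
  have hU0Q : preimageAlong θ (U 0) ⊓ (Q ⊔ C) = Q := by
    refine le_antisymm (fun y hy => ?_) (hQR₀ _)
    obtain ⟨hyS, h1⟩ := mem_preimageAlong.1 hy.1
    rw [hU0, Subgroup.mem_bot] at h1
    exact (hker _).1 h1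
  have hVge : ∀ i, n ≤ i → V i = preimageAlong θ (U (i - n)) ⊓ (Q ⊔ C) := by
    intro i hi
    rcases eq_or_lt_of_le hi with rfl | hi
    · simp only [V, if_pos le_rfl, Nat.sub_self, hU0Q, hTn]
    · simp only [V, if_neg (Nat.not_le.2 hi)]
  have hVlast : V (n + m) = D := by
    rw [hVge _ (Nat.le_add_right n m), Nat.add_sub_cancel_left, hUm]
  have hDn : F.IsNormal D := by
    refine isNormal_of_chain hS hF (n := n + m) (T := V) (by simp only [V, if_pos (Nat.zero_le n), hT0])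
      hVlast (fun i hi => ?_) fun i hi => ?_
    · by_cases hin : i ≤ n
      · simp only [V, if_pos hin]
        exact stronglyClosed_of_isNormal (hTN i)
      · rw [hVge i (le_of_not_ge hin)]
        exact stronglyClosed_inf (hpre _ (stronglyClosed_of_isNormal (hUN _))) hQC
    by_cases hin : i + 1 ≤ n
    · simp only [V, if_pos hin, if_pos (by omega : i ≤ n)]
      refine Subgroup.commutator_le.2 fun d hd t ht => ?_
      have hd' : d ∈ ((Q ⊔ C : Subgroup Ω) : Set Ω) := hd.2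
      rw [Subgroup.coe_mul_of_right_le_normalizer_left Q C hCN] at hd'
      obtain ⟨q, hq, c, hc, rfl⟩ := hd'
      have htQ : t ∈ Q := hTn ▸ hTm hin ht
      have hct : c * t * c⁻¹ = t := by
        rw [← hc.2 t htQ, mul_inv_cancel_right]
      rw [commutatorElement_def, show q * c * t * (q * c)⁻¹ * t⁻¹ = q * (c * t * c⁻¹) * q⁻¹ * t⁻¹ by group,
        hct, ← commutatorElement_def]
      exact hTc i (by omega) (Subgroup.commutator_mem_commutator hq ht)
    · have hni : n ≤ i := by omega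
      rw [hVge i hni, hVge (i + 1) (by omega), show i + 1 - n = (i - n) + 1 by omega]
      refine Subgroup.commutator_le.2 fun d hd t ht => ?_
      obtain ⟨hdS, hd1⟩ := mem_preimageAlong.1 hd.1
      obtain ⟨htS, ht1⟩ := mem_preimageAlong.1 ht.1
      refine ⟨mem_preimageAlong.2 ⟨?_, ?_⟩, ?_⟩
      · exact S.mul_mem (S.mul_mem (S.mul_mem hdS htS) (S.inv_mem hdS)) (S.inv_mem htS)
      · refine hUc (i - n) (by omega) ?_
        rw [show θ ⟨⁅d, t⁆, _⟩ = ⁅θ ⟨d, hdS⟩, θ ⟨t, htS⟩⁆ from map_commutatorElement θ ⟨d, hdS⟩ ⟨t, htS⟩]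
        exact Subgroup.commutator_mem_commutator hd1 ht1
      · exact (Q ⊔ C).mul_mem ((Q ⊔ C).mul_mem ((Q ⊔ C).mul_mem hd.2 ht.2)
          ((Q ⊔ C).inv_mem hd.2)) ((Q ⊔ C).inv_mem ht.2)
  have hDQ : D ≤ Q := le_core hDn
  -- but `W` meets the image of `Q C_S(Q)`
  set N' := ((Q ⊔ C).subgroupOf S).map θ
  have hN'ne : N' ≠ ⊥ := by
    intro h0
    refine hcon fun c hc => (hker ⟨c, hc.1⟩).1 ?_
    exact Subgroup.mem_bot.1 (h0.le ⟨⟨c, hc.1⟩, Subgroup.mem_sup_right hc, rfl⟩)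
  have hN'n : S' ≤ Subgroup.normalizer (N' : Set (S ⧸ Q.subgroupOf S)) := by
    intro y _
    obtain ⟨s, rfl⟩ := QuotientGroup.mk'_surjective _ y
    have : N'.Normal := by
      refine (Subgroup.Normal.mk fun a ha g => ?_).map θ (QuotientGroup.mk'_surjective _)
      exact (Subgroup.mem_normalizer_iff.1 (le_normalizer_of_stronglyClosed hQC g.2) _).1 ha
    rw [Subgroup.normalizer_eq_top]
    exact Subgroup.mem_top _
  obtain ⟨y, ⟨hyW, s, hs, hsy⟩, hy1⟩ := (Subgroup.bot_or_exists_ne_one _).resolve_left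
    (hcap _ inferInstance S' inferInstance hS' N' le_top hN'ne hN'n)
  refine hy1 (hsy ▸ (hker s).2 (hDQ ⟨mem_preimageAlong.2 ⟨s.2, ?_⟩, hs⟩))
  rwa [show θ ⟨(s : Ω), s.2⟩ = y from hsy]

/-- A subgroup `W` normal in `S` to which every automorphism of a centric radical `R` extends lies
in `R`. -/
theorem le_of_extends (hS : IsPGroup p S) {R W : Subgroup Ω} (hWS : W ≤ S)
    (hWn : S ≤ Subgroup.normalizer (W : Set Ω)) (hRc : F.IsCentric R) (hRr : F.IsRadical p R)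
    (hext : ∀ α ∈ F.autGroup R, ExtendsTo F W R (R.subtype.comp α.toMonoidHom)) : W ≤ R := by
  have hRS := hRc.1
  set K := (autInducedBy W R).subgroupOf (F.autGroup R) with hKdef
  have : K.Normal := by
    refine ⟨fun k hk a => ?_⟩
    obtain ⟨g, hg, hgx⟩ := mem_autInducedBy_iff.1 (Subgroup.mem_subgroupOf.1 hk)
    obtain ⟨ψ, hψ, hψP, hψQ⟩ := hext _ a.2
    refine Subgroup.mem_subgroupOf.2 (mem_autInducedBy_iff.2
      ⟨ψ (Subgroup.inclusion le_sup_right ⟨g, hg⟩), hψQ.le ⟨_, hg, rfl⟩, fun y => ?_⟩)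
    obtain ⟨x, rfl⟩ := (a : MulAut R).surjective y
    show (((a : MulAut R) ((k : MulAut R) ((a : MulAut R)⁻¹ ((a : MulAut R) x))) : R) : Ω) = _
    rw [MulAut.inv_apply_self]
    have e1 := hψP ((k : MulAut R) x)
    have e2 := hψP x
    simp only [MonoidHom.comp_apply, MulEquiv.coe_toMonoidHom, Subgroup.coe_subtype] at e1 e2
    rw [← e1, ← e2, ← map_inv, ← map_mul, ← map_mul]
    exact congrArg ψ (Subtype.ext (hgx x))
  refine le_of_autInducedBy_le hS hWS hWn hRc hRr K ?_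
    fun g hg hgN hm => Subgroup.mem_subgroupOf.2 (conjAut_mem_autInducedBy hg hgN)
  exact ((isPGroup_autInducedBy hS R).to_le (autInducedBy_mono hWS)).comap_of_injective _
    (Subgroup.subtype_injective _)

/-- The state of the search: a fully normalized `X`, and a map defined on more than `R` carrying
the automorphisms of `R` into the normalizer system of `X`. -/
def Reach (F : FusionSystem S) (R X : Subgroup Ω) : Prop :=
  X ≠ ⊥ ∧ F.IsFullyNormalized X ∧ ∃ (P : Subgroup Ω) (hRP : R ≤ P), ∃ ψ ∈ F.Hom P,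
    Nat.card R < Nat.card P ∧ (∀ x : P, ψ x ∈ normalizerIn S X) ∧
      ∀ α ∈ F.autGroup R, ∃ χ ∈ F.Hom (((R.subgroupOf P).map ψ) ⊔ X),
        (∀ (x : R) (hm : ψ ⟨x, hRP x.2⟩ ∈ ((R.subgroupOf P).map ψ) ⊔ X),
          χ ⟨ψ ⟨x, hRP x.2⟩, hm⟩ = ψ ⟨(α x : R), hRP (α x).2⟩) ∧
        ∀ (x : Ω) (hx : x ∈ X), χ ⟨x, Subgroup.mem_sup_right hx⟩ ∈ X

theorem reach_self (hS : IsPGroup p S) {R : Subgroup Ω} (hne : R ≠ ⊥) (hlt : R < S)
    (hn : F.IsFullyNormalized R) : Reach F R R := by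
  have hfin := finite_of_le (normalizerIn_le S R)
  refine ⟨hne, hn, normalizerIn S R, le_normalizerIn hn.1, _,
    subtype_mem F (normalizerIn_le S R), ?_, fun x => x.2, fun α hα => ?_⟩
  · by_contra hle
    exact (lt_normalizerIn hS hlt).ne
      (Subgroup.eq_of_le_of_card_ge (le_normalizerIn hn.1) (Nat.le_of_not_lt hle))
  have hle : ((R.subgroupOf (normalizerIn S R)).map (normalizerIn S R).subtype) ⊔ R ≤ R := by
    rw [Subgroup.map_subgroupOf_eq_of_le (le_normalizerIn hn.1), sup_idem]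
  exact ⟨_, restrict_mem ((mem_autGroup_iff hn.1).1 hα) hle, fun x hm => rfl,
    fun x hx => (α ⟨x, hx⟩).2⟩

/-- Going up: from `X` with `N_S(X) < S` to a subgroup with larger normalizer. -/
theorem reach_step (Φ : Functorial.{u} p) (hS : IsPGroup p S) (hF : F.IsSaturated p)
    (hfree : F.IsSectionFree p H)
    (hrec : ∀ (Ω' : Type u) (_ : Group Ω') (S' : Subgroup Ω') (_ : Finite S')
      (E : FusionSystem S'), Nat.card S' < Nat.card S → IsPGroup p S' → E.IsSaturated p →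
        E.IsSectionFree p H → E.IsNormal (Φ.W S'))
    {R X : Subgroup Ω} (h : Reach F R X) (hX : normalizerIn S X < S) :
    ∃ X', Reach F R X' ∧ Nat.card (normalizerIn S X) < Nat.card (normalizerIn S X') := by
  obtain ⟨hX1, hXn, P, hRP, ψ, hψ, hcard, hψT, hα⟩ := h
  set T := normalizerIn S X with hT
  have hTS : T ≤ S := normalizerIn_le S X
  have hfinT := finite_of_le hTS
  have hTp : IsPGroup p T := hS.to_le hTS
  have hXT : X ≤ T := le_normalizerIn hXn.1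
  have hTcard : Nat.card T < Nat.card S := by
    by_contra hle
    exact hX.ne (Subgroup.eq_of_le_of_card_ge hTS (Nat.le_of_not_lt hle))
  have hN := normalizerSystem_spec F X hXn.1
  have hWn := hrec _ inferInstance T inferInstance _ hTcard hTp
    (normalizerSystem_saturated hS hF hXn hN)
    (SectionFree.normalizer_isSectionFree hS hF hfree hXn hN)
  set W₁ := Φ.W T with hW₁
  have hW₁T : W₁ ≤ T := Φ.le T
  have hW₁ne : W₁ ≠ ⊥ := Φ.ne_bot T hfinT hTp fun h0 => hX1 (le_bot_iff.1 (h0 ▸ hXT))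
  obtain ⟨X', hconj, hX'n⟩ := exists_fullyNormalized F (hW₁T.trans hTS)
  obtain ⟨χ, hχ, hχN, hχW⟩ := exists_hom_fullyNormalized hS hF hX'n hconj
  have hTW : T ≤ normalizerIn S W₁ :=
    le_inf hTS (Subgroup.le_normalizer.trans (Φ.le_normalizer hTp))
  refine ⟨X', ⟨?_, hX'n, P, hRP, χ.comp (ψ.codRestrict _ fun x => hTW (hψT x)),
    F.comp_mem hψ hχ fun x => hTW (hψT x), hcard, fun x => hχN _, fun α hαm => ?_⟩, ?_⟩
  · intro h0
    refine hW₁ne (Subgroup.card_eq_one.1 ?_)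
    rw [← isConj_card hconj, h0, Subgroup.card_bot]
  · set R₁ := (R.subgroupOf P).map ψ with hR₁
    obtain ⟨θ, hθ, hθv, hθX⟩ := hα α hαm
    have hR₁T : R₁ ≤ T := by
      rintro _ ⟨x, -, rfl⟩
      exact hψT x
    have hθR₁ : θ.comp (Subgroup.inclusion le_sup_left) ∈ (normalizerSystem F X hXn.1).Hom R₁ := by
      rw [hN R₁]
      refine ⟨restrict_mem hθ le_sup_left, hR₁T, ?_, θ, hθ, fun x => rfl,
        (map_subgroupOf_eq_iff hθ le_sup_right).2 hθX⟩
      rintro ⟨_, x, hx, rfl⟩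
      show θ ⟨ψ x, _⟩ ∈ T
      have h1 := hθv ⟨x, hx⟩ (Subgroup.mem_sup_left ⟨x, hx, rfl⟩)
      exact (congrArg (· ∈ T) h1).mpr (hψT _)
    obtain ⟨θ₁, hθ₁, hθ₁v, hθ₁W⟩ := hWn.2 R₁ _ hθR₁
    have hθ₁F : θ₁ ∈ F.Hom (R₁ ⊔ W₁) := by
      rw [hN _] at hθ₁
      exact hθ₁.1
    have hP3 : R₁ ⊔ W₁ ≤ normalizerIn S W₁ := sup_le (hR₁T.trans hTW) (hW₁T.trans hTW)
    let c : ↥(R₁ ⊔ W₁) →* Ω := χ.comp (Subgroup.inclusion hP3)
    have hc : c ∈ F.Hom (R₁ ⊔ W₁) := restrict_mem hχ hP3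
    have hθ₁T : ∀ x, θ₁ x ∈ normalizerIn S W₁ := fun x => hTW (apply_mem hθ₁ x)
    let d : ↥(R₁ ⊔ W₁) →* Ω := χ.comp (θ₁.codRestrict _ hθ₁T)
    have hd : d ∈ F.Hom (R₁ ⊔ W₁) := F.comp_mem hθ₁F hχ hθ₁T
    set R₂ := (R.subgroupOf P).map (χ.comp (ψ.codRestrict _ fun x => hTW (hψT x)))
    have hrange : c.range = R₂ ⊔ X' := by
      have e : c.range = ((R₁ ⊔ W₁).subgroupOf (normalizerIn S W₁)).map χ := by
        rw [MonoidHom.range_comp, Subgroup.inclusion_range]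
      rw [e, Subgroup.subgroupOf_sup (hR₁T.trans hTW) (hW₁T.trans hTW), Subgroup.map_sup]
      congr 1
      ext y
      constructor
      · rintro ⟨⟨_, _⟩, ⟨x, hx, rfl⟩, rfl⟩
        exact ⟨x, hx, rfl⟩
      · rintro ⟨x, hx, rfl⟩
        exact ⟨⟨ψ x, hTW (hψT x)⟩, ⟨x, hx, rfl⟩, rfl⟩
    obtain ⟨ci, hci, -, hcl, -⟩ := exists_inverse hc hrange
    have hcimem : ∀ y, ci y ∈ R₁ ⊔ W₁ := fun y => by
      obtain ⟨w, hw⟩ := hrange.ge y.2
      rw [show y = ⟨c w, hrange.le ⟨w, rfl⟩⟩ from Subtype.ext hw.symm, hcl]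
      exact w.2
    refine ⟨d.comp (ci.codRestrict _ hcimem), F.comp_mem hci hd hcimem, fun x hm => ?_, fun y hy => ?_⟩
    · have hw : ψ ⟨x, hRP x.2⟩ ∈ R₁ := ⟨⟨x, hRP x.2⟩, x.2, rfl⟩
      have h1 : ci ⟨c ⟨_, Subgroup.mem_sup_left hw⟩, hm⟩ = ψ ⟨x, hRP x.2⟩ :=
        hcl ⟨_, Subgroup.mem_sup_left hw⟩ hm
      show χ ⟨θ₁ ⟨ci _, _⟩, _⟩ = χ _
      refine congrArg χ (Subtype.ext ?_)
      refine Eq.trans (congrArg θ₁ (Subtype.ext (a2 := ⟨ψ ⟨x, hRP x.2⟩, Subgroup.mem_sup_left hw⟩) h1)) ?_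
      exact (hθ₁v ⟨_, hw⟩).trans (hθv x (Subgroup.mem_sup_left hw))
    · obtain ⟨w, hw, rfl⟩ := hχW.ge hy
      have h1 : ci ⟨c ⟨w, Subgroup.mem_sup_right hw⟩, hrange.le ⟨_, rfl⟩⟩ = (w : Ω) :=
        hcl ⟨w, Subgroup.mem_sup_right hw⟩ _
      refine hχW.le ⟨⟨θ₁ ⟨w, Subgroup.mem_sup_right hw⟩, hθ₁T _⟩, ?_, ?_⟩
      · exact hθ₁W.le ⟨⟨w, Subgroup.mem_sup_right hw⟩, hw, rfl⟩
      · show χ _ = χ _
        exact congrArg χ (Subtype.ext (congrArg θ₁ (Subtype.ext h1.symm)))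
  · have h1 : T < normalizerIn S T := lt_normalizerIn hS hX
    have h2 : normalizerIn S T ≤ normalizerIn S W₁ :=
      inf_le_inf_left _ (Φ.le_normalizer hTp)
    have := finite_of_le (normalizerIn_le S W₁)
    have h3 : Nat.card T < Nat.card (normalizerIn S W₁) := by
      by_contra hle
      exact (h1.trans_le h2).ne
        (Subgroup.eq_of_le_of_card_ge (h1.le.trans h2) (Nat.le_of_not_lt hle))
    refine h3.trans_le ?_
    have := finite_of_le (normalizerIn_le S X')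
    exact hX'n.2 W₁ (isConj_symm hconj)

/-- The main theorem. -/
theorem isNormal_W (Φ : Functorial.{u} p) (hG : NormalIn Φ H) (hcap : Meets Φ) :
    ∀ (n : ℕ) (Ω : Type u) (_ : Group Ω) (S : Subgroup Ω) (_ : Finite S) (F : FusionSystem S),
      Nat.card S = n → IsPGroup p S → F.IsSaturated p → F.IsSectionFree p H →
        F.IsNormal (Φ.W S) := by
  intro n
  induction n using Nat.strong_induction_on with
  | _ n ih =>
    intro Ω _ S _ F hn hS hF hfree
    have hrec : ∀ (Ω' : Type u) (_ : Group Ω') (S' : Subgroup Ω') (_ : Finite S')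
        (E : FusionSystem S'), Nat.card S' < Nat.card S → IsPGroup p S' → E.IsSaturated p →
          E.IsSectionFree p H → E.IsNormal (Φ.W S') :=
      fun Ω' i S' i' E hlt => ih _ (hn ▸ hlt) Ω' i S' i' E rfl
    by_cases hS1 : S = ⊥
    · have h0 : Φ.W S = ⊥ := le_bot_iff.1 ((Φ.le S).trans hS1.le)
      rw [h0]
      exact isNormal_bot
    -- systems with a normal subgroup
    have hA : ∀ F' : FusionSystem S, F'.IsSaturated p → F'.IsSectionFree p H → F'.core ≠ ⊥ →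
        F'.IsNormal (Φ.W S) := fun F' hF' hfree' hc =>
      normal_of_centric Φ hG hS hF' hfree' (isNormal_core F')
        (isCentric_core_of_ne_bot Φ hcap hS hF' hfree' hc hrec)
    have hWn : ∀ g ∈ S, g ∈ Subgroup.normalizer ((Φ.W S : Subgroup Ω) : Set Ω) :=
      fun g hg => Φ.le_normalizer hS (Subgroup.le_normalizer hg)
    refine isNormal_of_step hS hF (Φ.le S) hWn fun R hRn hRc hRr hbig => ?_
    rcases eq_or_lt_of_le hRc.1 with hRS | hRS
    · subst hRS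
      exact ⟨Φ.le R, fun α _ x hx => Φ.aut_mem hS α hx⟩
    have hR1 : R ≠ ⊥ := by
      rintro rfl
      refine hS1 (le_bot_iff.1 fun x hx => hRc.2 ⊥ (isConj_refl F hRc.1) ⟨hx, fun y hy => ?_⟩)
      rw [Subgroup.mem_bot.1 hy, one_mul, mul_one]
    -- go up as far as possible
    obtain ⟨X, hX, hmax⟩ := ((finite_le_set S).subset fun X (hX : Reach F R X) => hX.2.1.1)
      |>.exists_maximalFor (fun X => Nat.card (normalizerIn S X)) _ ⟨R, reach_self hS hR1 hRS hRn⟩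
    have hXS : normalizerIn S X = S := by
      refine (normalizerIn_le S X).eq_or_lt.resolve_right fun hlt => ?_
      obtain ⟨X', hX', hlt'⟩ := reach_step Φ hS hF hfree hrec hX hlt
      exact absurd (hmax hX' hlt'.le) (Nat.not_le.2 hlt')
    obtain ⟨hX1, hXn, P, hRP, ψ, hψ, hcard, hψT, hα⟩ := hX
    have hN := normalizerSystem_spec F X hXn.1
    have hNW : ∀ (A : Subgroup Ω) (φ : A →* Ω), φ ∈ F.normalizerHom X A →
        ExtendsTo F (Φ.W S) A φ := by
      intro A φ hφ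
      have key : ∀ (T : Subgroup Ω) (N : FusionSystem T), T = S → N.IsSaturated p →
          N.IsSectionFree p H → N.IsNormal X → φ ∈ N.Hom A →
          (∀ B θ, θ ∈ N.Hom B → θ ∈ F.Hom B) → ExtendsTo F (Φ.W S) A φ := by
        rintro T N rfl hsat hNfree hNX hφN hsub
        have hc : N.core ≠ ⊥ := fun h0 => hX1 (le_bot_iff.1 (h0 ▸ le_core hNX))
        obtain ⟨θ, hθ, h⟩ := (hA N hsat hNfree hc).2 A φ hφN
        exact ⟨θ, hsub _ _ hθ, h⟩
      refine key _ (normalizerSystem F X hXn.1) hXS (normalizerSystem_saturated hS hF hXn hN)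
        (SectionFree.normalizer_isSectionFree hS hF hfree hXn hN)
        (isNormal_of_isNormalizerSystem hN hXn.1) (by rw [hN A]; exact hφ) fun B θ hθ => ?_
      rw [hN B] at hθ
      exact hθ.1
    obtain ⟨ψ₁, hψ₁, hψ₁v, hψ₁W⟩ := hbig P hcard ψ hψ
    have hext : ∀ α ∈ F.autGroup R, ExtendsTo F (Φ.W S) R (R.subtype.comp α.toMonoidHom) := by
      intro α hαm
      set R₁ := (R.subgroupOf P).map ψ with hR₁
      obtain ⟨θ, hθ, hθv, hθX⟩ := hα α hαm
      have hR₁T : R₁ ≤ normalizerIn S X := by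
        rintro _ ⟨x, -, rfl⟩
        exact hψT x
      have hθT : ∀ y : R₁, θ (Subgroup.inclusion le_sup_left y) ∈ normalizerIn S X := by
        rintro ⟨_, x, hx, rfl⟩
        have h1 := hθv ⟨x, hx⟩ (Subgroup.mem_sup_left ⟨x, hx, rfl⟩)
        exact (congrArg (· ∈ normalizerIn S X) h1).mpr (hψT _)
      obtain ⟨θ₁, hθ₁, hθ₁v, hθ₁W⟩ := hNW R₁ (θ.comp (Subgroup.inclusion le_sup_left))
        ⟨restrict_mem hθ le_sup_left, hR₁T, hθT, θ, hθ, fun x => rfl,
          (map_subgroupOf_eq_iff hθ le_sup_right).2 hθX⟩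
      have hle : R ⊔ Φ.W S ≤ P ⊔ Φ.W S := sup_le_sup_right hRP _
      set ψ₂ := ψ₁.comp (Subgroup.inclusion hle) with hψ₂def
      have hψ₂ : ψ₂ ∈ F.Hom (R ⊔ Φ.W S) := restrict_mem hψ₁ hle
      have hrange : ψ₂.range = R₁ ⊔ Φ.W S := by
        rw [hψ₂def, MonoidHom.range_comp, Subgroup.inclusion_range,
          Subgroup.subgroupOf_sup (hRP.trans le_sup_left) le_sup_right, Subgroup.map_sup, hψ₁W]
        congr 1
        ext y
        constructor
        · rintro ⟨⟨x, _⟩, hx, rfl⟩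
          exact ⟨⟨x, hRP hx⟩, hx, (hψ₁v ⟨x, hRP hx⟩).symm⟩
        · rintro ⟨x, hx, rfl⟩
          exact ⟨Subgroup.inclusion le_sup_left x, hx, hψ₁v x⟩
      obtain ⟨χ, hχ, -, hχl, -⟩ := exists_inverse hψ₂ hrange
      have h2 : ∀ y, ψ₂ y ∈ R₁ ⊔ Φ.W S := fun y => hrange.le ⟨y, rfl⟩
      have h3 : ∀ y : ↥(R₁ ⊔ Φ.W S), θ₁ y ∈ R₁ ⊔ Φ.W S := by
        intro y
        refine ModelEmbed.sup_le_of_mem (T := S) (hR₁T.trans (normalizerIn_le S X)) (Φ.le S)
          (((R₁ ⊔ Φ.W S).comap θ₁).map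
            (Subgroup.inclusion (sup_le (hR₁T.trans (normalizerIn_le S X)) (Φ.le S))))
          (fun a => ?_) (fun a => ?_) y |> fun ⟨w, hw, he⟩ => ?_
        · refine ⟨Subgroup.inclusion le_sup_left a, ?_, rfl⟩
          obtain ⟨_, x, hx, rfl⟩ := a
          show θ₁ _ ∈ R₁ ⊔ Φ.W S
          rw [hθ₁v]
          refine Subgroup.mem_sup_left ?_
          show θ _ ∈ R₁
          refine (congrArg (· ∈ R₁) (hθv ⟨x, hx⟩ (Subgroup.mem_sup_left ⟨x, hx, rfl⟩))).mpr ?_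
          exact ⟨⟨_, hRP (α ⟨x, hx⟩).2⟩, (α ⟨x, hx⟩).2, rfl⟩
        · exact ⟨Subgroup.inclusion le_sup_right a,
            Subgroup.mem_sup_right (hθ₁W.le ⟨_, a.2, rfl⟩), rfl⟩
        · rwa [show w = y from Subtype.ext (congrArg (fun s : S => (s : Ω)) he)] at hw
      have hA1 := F.comp_mem hψ₂ hθ₁ h2
      have h4 : ∀ y, (θ₁.comp (ψ₂.codRestrict _ h2)) y ∈ R₁ ⊔ Φ.W S := fun y => h3 _
      refine ⟨_, F.comp_mem hA1 hχ h4, fun x => ?_, ?_⟩
      · show χ ⟨θ₁ ⟨ψ₂ (Subgroup.inclusion le_sup_left x), _⟩, _⟩ = ((α x : R) : Ω)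
        have hxR₁ : ψ ⟨x, hRP x.2⟩ ∈ R₁ := ⟨⟨x, hRP x.2⟩, x.2, rfl⟩
        have e1 : ψ₂ (Subgroup.inclusion le_sup_left x) = ψ ⟨x, hRP x.2⟩ := hψ₁v ⟨x, hRP x.2⟩
        have e2 : θ₁ ⟨ψ₂ (Subgroup.inclusion le_sup_left x), h2 _⟩ = ψ ⟨(α x : R), hRP (α x).2⟩ :=
          (congrArg θ₁ (Subtype.ext e1)).trans
            ((hθ₁v ⟨_, hxR₁⟩).trans (hθv x (Subgroup.mem_sup_left hxR₁)))
        refine Eq.trans (congrArg χ (Subtype.ext (a2 := ⟨ψ₂ (Subgroup.inclusion le_sup_left (α x)), h2 _⟩)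
          (e2.trans (hψ₁v ⟨(α x : R), hRP (α x).2⟩).symm))) ?_
        exact hχl (Subgroup.inclusion le_sup_left (α x)) (h2 _)
      · rw [map_subgroupOf_eq_iff (F.comp_mem hA1 hχ h4) le_sup_right]
        intro y hy
        have e1 : ψ₂ ⟨y, Subgroup.mem_sup_right hy⟩ ∈ Φ.W S :=
          hψ₁W.le ⟨⟨y, Subgroup.mem_sup_right hy⟩, hy, rfl⟩
        have e2 : θ₁ ⟨_, h2 ⟨y, Subgroup.mem_sup_right hy⟩⟩ ∈ Φ.W S := hθ₁W.le ⟨⟨_, h2 _⟩, e1, rfl⟩
        obtain ⟨w, hw, hwe⟩ := hψ₁W.ge e2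
        show χ ⟨θ₁ ⟨ψ₂ _, _⟩, _⟩ ∈ Φ.W S
        refine (congrArg (· ∈ Φ.W S) ((congrArg χ (Subtype.ext (hwe.symm.trans ?_))).trans
          (hχl ⟨(w : Ω), Subgroup.mem_sup_right hw⟩ (h2 _)))).mpr hw
        rfl
    refine ⟨le_of_extends hS (Φ.le S) hWn hRc hRr hext, fun α hαm x hx => ?_⟩
    exact ExtendsTo.apply_mem (hext α hαm) x hx

end Cfsg.Agent.Fusion.NormalW
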