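import Cfsg.Agent.Lib.Fusion.NormalCriteria
import Cfsg.Agent.Lib.Fusion.PairInversion
import Cfsg.Agent.Lib.PGroup.Basic

/-!
`p`-automorphisms of `C_p × C_p`: the transvections with a given line, and the torus element in a group
generated by two transvections with different lines.
-/

set_option autoImplicit false
set_option maxHeartbeats 400000

namespace Cfsg.Agent.Fusion.RankTwoTorus

open Subgroup

variable {U : Type*} [Group U] [Finite U] {p : ℕ} [hp : Fact p.Prime]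
  (hcomm : ∀ a b : U, a * b = b * a) (hcard : Nat.card U = p ^ 2) (hexp : ∀ x : U, x ^ p = 1)

include hexp in
omit [Finite U] in
theorem card_zpowers_eq {v : U} (hv : v ≠ 1) : Nat.card (zpowers v) = p := by
  rw [Nat.card_zpowers, orderOf_eq_prime (hexp v) hv]

include hexp in
theorem zpowers_eq_of_mem {v w : U} (hw : w ∈ zpowers v) (hw1 : w ≠ 1) : zpowers w = zpowers v := by
  have hv : v ≠ 1 := fun h => hw1 (by simpa [h] using hw)
  exact eq_of_le_of_card_ge (zpowers_le.2 hw) (by rw [card_zpowers_eq hexp hv, card_zpowers_eq hexp hw1])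

include hcomm hcard hexp in
theorem eqOn_of_gen {v w : U} (hv : v ≠ 1) (hw : w ∉ zpowers v) {f g : MulAut U} (h1 : f v = g v)
    (h2 : f w = g w) : f = g := by
  have hn : (zpowers v).Normal := ⟨fun y hy x => by rw [hcomm x y, mul_inv_cancel_right]; exact hy⟩
  have htop : zpowers v ⊔ zpowers w = ⊤ := eq_top_of_card_eq _ (by
    rw [PGroup.card_sup_zpowers (p := p) _ hw (by rw [hexp w]; exact one_mem _), card_zpowers_eq hexp hv,
      hcard, sq])
  have hle : zpowers v ⊔ zpowers w ≤ MonoidHom.eqLocus f.toMonoidHom g.toMonoidHom :=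
    sup_le (zpowers_le.2 h1) (zpowers_le.2 h2)
  exact MulEquiv.ext fun x => hle (htop ▸ mem_top x)

include hcomm hcard hexp in
/-- The proper subgroup containing all `x⁻¹ σ x` is the fixed line, and each `p`-automorphism with the
same property is a power of `σ`. -/
theorem line {σ : MulAut U} (hσ : ∃ k, σ ^ p ^ k = 1) (hσ1 : σ ≠ 1) {K : Subgroup U} (hK : K ≠ ⊤)
    (hσK : ∀ x, x⁻¹ * σ x ∈ K) :
    (∀ x ∈ K, σ x = x) ∧
      ∀ ρ : MulAut U, (∃ k, ρ ^ p ^ k = 1) → (∀ x, x⁻¹ * ρ x ∈ K) → ρ ∈ zpowers σ := by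
  obtain ⟨u, hu1, huf, huk, hur⟩ := exists_fixed_line hcomm hcard hσ hσ1
  obtain ⟨b, hb⟩ : ∃ b, σ b ≠ b := by
    by_contra h
    push Not at h
    exact hσ1 (MulEquiv.ext h)
  set c := b⁻¹ * σ b with hc
  have hc1 : c ≠ 1 := fun h => hb (inv_mul_eq_one.1 h).symm
  have hcu : zpowers c = zpowers u := zpowers_eq_of_mem hexp (hur b) hc1
  have hbu : b ∉ zpowers u := fun h => hb (by
    obtain ⟨i, rfl⟩ := mem_zpowers_iff.1 h
    rw [map_zpow, huf])
  have hKu : K = zpowers u := by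
    refine (eq_of_le_of_card_ge (hcu ▸ zpowers_le.2 (hσK b)) ?_).symm
    obtain ⟨i, hi, hi'⟩ := (Nat.dvd_prime_pow hp.out).1 (hcard ▸ card_subgroup_dvd_card K)
    rw [card_zpowers_eq hexp hu1, hi']
    have : i ≠ 2 := fun h => hK (eq_top_of_card_eq _ (by rw [hi', h, hcard]))
    calc p ^ i ≤ p ^ 1 := Nat.pow_le_pow_right hp.out.pos (by omega)
      _ = p := pow_one p
  refine ⟨fun x hx => ?_, fun ρ hρ hρK => ?_⟩
  · rw [hKu] at hx
    obtain ⟨i, rfl⟩ := mem_zpowers_iff.1 hx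
    rw [map_zpow, huf]
  by_cases hρ1 : ρ = 1
  · exact hρ1 ▸ one_mem _
  obtain ⟨u', hu'1, hu'f, hu'k, hu'r⟩ := exists_fixed_line hcomm hcard hρ hρ1
  obtain ⟨x, hx⟩ : ∃ x, ρ x ≠ x := by
    by_contra h
    push Not at h
    exact hρ1 (MulEquiv.ext h)
  have hd1 : x⁻¹ * ρ x ≠ 1 := fun h => hx (inv_mul_eq_one.1 h).symm
  have hlines : zpowers u' = zpowers u := by
    rw [← zpowers_eq_of_mem hexp (hu'r x) hd1, zpowers_eq_of_mem hexp (hKu ▸ hρK x) hd1]
  have hρu : ρ u = u := by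
    obtain ⟨i, hi⟩ := mem_zpowers_iff.1 (hlines.ge (mem_zpowers u))
    rw [← hi, map_zpow, hu'f]
  have hmem : b⁻¹ * ρ b ∈ zpowers c := by rw [hcu, ← hKu]; exact hρK b
  obtain ⟨l, hl⟩ := (isOfFinOrder_of_finite _).mem_powers_iff_mem_zpowers.2 hmem
  refine mem_zpowers_iff.2 ⟨(l : ℤ), ?_⟩
  rw [zpow_natCast]
  refine eqOn_of_gen hcomm hcard hexp hu1 hbu ?_ ?_
  · rw [aut_pow_apply_of_fixed σ (z := 1) (by rw [huf, mul_one]) (map_one σ), one_pow, mul_one, hρu]
  · have hcf : σ c = c := by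
      obtain ⟨i, hi⟩ := mem_zpowers_iff.1 (hur b)
      rw [hc, ← hi, map_zpow, huf]
    rw [aut_pow_apply_of_fixed σ (mul_inv_cancel_left b (σ b)).symm hcf, show c ^ l = b⁻¹ * ρ b from hl,
      mul_inv_cancel_left]

include hcomm hcard hexp in
/-- A group containing two transvections with different lines contains a torus element `h` with
`h σ h⁻¹ = σ ^ 4`, acting on the quotient by the line of `σ` as `x ↦ x ^ (-j)`, `2 j = 1`. -/
theorem exists_torus {σ τ : MulAut U} (hσ : ∃ k, σ ^ p ^ k = 1) (hτ : ∃ k, τ ^ p ^ k = 1) (hσ1 : σ ≠ 1)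
    (hτσ : τ ∉ zpowers σ) {j q : ℕ} (hj : 2 * j = 1 + p * q) {K : Subgroup U} (hK : K ≠ ⊤)
    (hσK : ∀ x, x⁻¹ * σ x ∈ K) :
    ∃ h ∈ closure ({σ, τ} : Set (MulAut U)), h * σ * h⁻¹ = σ ^ 4 ∧ ∀ x, h x * x ^ j ∈ K := by
  letI : CommGroup U := { (inferInstance : Group U) with mul_comm := hcomm }
  have hτ1 : τ ≠ 1 := fun h => hτσ (h ▸ one_mem _)
  obtain ⟨u, hu1, huf, huk, hur⟩ := exists_fixed_line hcomm hcard hσ hσ1
  obtain ⟨v, hv1, hvf, hvk, hvr⟩ := exists_fixed_line hcomm hcard hτ hτ1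
  obtain ⟨hKfix, hline⟩ := line hcomm hcard hexp hσ hσ1 hK hσK
  obtain ⟨b₀, hb₀⟩ : ∃ b, σ b ≠ b := by
    by_contra h
    push Not at h
    exact hσ1 (MulEquiv.ext h)
  have huK : u ∈ K := by
    have h1 : b₀⁻¹ * σ b₀ ≠ 1 := fun h => hb₀ (inv_mul_eq_one.1 h).symm
    have h2 := zpowers_eq_of_mem hexp (hur b₀) h1
    exact zpowers_le.2 (hσK b₀) (h2.ge (mem_zpowers u))
  -- the lines differ
  have hvu : v ∉ zpowers u := fun hm => hτσ (hline τ hτ fun x => by
    have h1 := hvr x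
    rw [zpowers_eq_of_mem hexp hm hv1] at h1
    exact zpowers_le.2 huK h1)
  have huv : u ∉ zpowers v := fun hm => hvu ((zpowers_eq_of_mem hexp hm hu1).ge (mem_zpowers v))
  -- normalised transvections
  obtain ⟨l, hl⟩ : ∃ l : ℕ, (v⁻¹ * σ v) ^ l = u := by
    have h1 : v⁻¹ * σ v ≠ 1 := fun h => hvu (huk v (inv_mul_eq_one.1 h).symm)
    exact (isOfFinOrder_of_finite _).mem_powers_iff_mem_zpowers.2
      ((zpowers_eq_of_mem hexp (hur v) h1).ge (mem_zpowers u))
  obtain ⟨l', hl'⟩ : ∃ l : ℕ, (u⁻¹ * τ u) ^ l = v⁻¹ := by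
    have h1 : u⁻¹ * τ u ≠ 1 := fun h => huv (hvk u (inv_mul_eq_one.1 h).symm)
    exact (isOfFinOrder_of_finite _).mem_powers_iff_mem_zpowers.2
      ((zpowers_eq_of_mem hexp (hvr u) h1).ge (inv_mem (mem_zpowers v)))
  set s := σ ^ l with hs
  set t := τ ^ l' with ht
  have hsu : ∀ i, (s ^ i) u = u := fun i => by
    rw [hs, ← pow_mul, aut_pow_apply_of_fixed σ (z := 1) (by rw [huf, mul_one]) (map_one σ), one_pow, mul_one]
  have htv : ∀ i, (t ^ i) v = v := fun i => by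
    rw [ht, ← pow_mul, aut_pow_apply_of_fixed τ (z := 1) (by rw [hvf, mul_one]) (map_one τ), one_pow, mul_one]
  have hsv : ∀ i, (s ^ i) v = v * u ^ i := fun i => by
    have hcf : σ (v⁻¹ * σ v) = v⁻¹ * σ v := by
      obtain ⟨k, hk⟩ := mem_zpowers_iff.1 (hur v)
      rw [← hk, map_zpow, huf]
    rw [hs, ← pow_mul, aut_pow_apply_of_fixed σ (mul_inv_cancel_left v (σ v)).symm hcf, pow_mul, hl]
  have htu : ∀ i, (t ^ i) u = u * (v ^ i)⁻¹ := fun i => by
    have hcf : τ (u⁻¹ * τ u) = u⁻¹ * τ u := by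
      obtain ⟨k, hk⟩ := mem_zpowers_iff.1 (hvr u)
      rw [← hk, map_zpow, hvf]
    rw [ht, ← pow_mul, aut_pow_apply_of_fixed τ (mul_inv_cancel_left u (τ u)).symm hcf, pow_mul, hl', inv_pow]
  -- the Weyl elements
  have hw : ∀ i k r : ℕ, i * k = 1 + p * r →
      (s ^ i * t ^ k * s ^ i) u = (v ^ k)⁻¹ ∧ (s ^ i * t ^ k * s ^ i) v = u ^ i := by
    intro i k r hik
    have hu' : (u ^ i) ^ k = u := by
      rw [← pow_mul, hik, pow_add, pow_one, pow_mul, hexp, one_pow, mul_one]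
    have hv' : (v ^ k) ^ i = v := by
      rw [← pow_mul, mul_comm, hik, pow_add, pow_one, pow_mul, hexp, one_pow, mul_one]
    constructor
    · rw [MulAut.mul_apply, MulAut.mul_apply, hsu, htu, map_mul, map_inv, map_pow, hsu, hsv, mul_pow, hu',
        mul_inv, mul_comm ((v ^ k)⁻¹), mul_inv_cancel_left]
    · rw [MulAut.mul_apply, MulAut.mul_apply, hsv, map_mul, map_pow, htv, htu, mul_pow, inv_pow, hv',
        mul_comm (u ^ i), mul_inv_cancel_left, map_pow, hsu]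
  obtain ⟨h2u, h2v⟩ := hw 2 j q hj
  obtain ⟨h1u, h1v⟩ := hw 1 1 0 (by simp)
  set h := (s ^ 2 * t ^ j * s ^ 2) * (s ^ 1 * t ^ 1 * s ^ 1) with hh
  have hhu : h u = (u ^ 2)⁻¹ := by rw [hh, MulAut.mul_apply, h1u, map_inv, map_pow, h2v, pow_one]
  have hhv : h v = (v ^ j)⁻¹ := by rw [hh, MulAut.mul_apply, h1v, map_pow, h2u, pow_one]
  have hsC : s ∈ closure ({σ, τ} : Set (MulAut U)) := by
    rw [hs]
    exact Subgroup.pow_mem _ (subset_closure (by simp)) l
  have htC : t ∈ closure ({σ, τ} : Set (MulAut U)) := by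
    rw [ht]
    exact Subgroup.pow_mem _ (subset_closure (by simp)) l'
  have hhC : h ∈ closure ({σ, τ} : Set (MulAut U)) := by
    rw [hh]
    exact mul_mem (mul_mem (mul_mem (pow_mem hsC 2) (pow_mem htC j)) (pow_mem hsC 2))
      (mul_mem (mul_mem (pow_mem hsC 1) (pow_mem htC 1)) (pow_mem hsC 1))
  clear_value h
  refine ⟨h, hhC, ?_, fun x => ?_⟩
  · suffices hsuf : h * σ = σ ^ 4 * h by rw [hsuf, mul_inv_cancel_right]
    refine eqOn_of_gen hcomm hcard hexp hu1 hvu ?_ ?_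
    · rw [MulAut.mul_apply, MulAut.mul_apply, huf, hhu, map_inv, map_pow,
        aut_pow_apply_of_fixed σ (z := 1) (by rw [huf, mul_one]) (map_one σ), one_pow, mul_one]
    · obtain ⟨c, hc⟩ : ∃ c : ℕ, u ^ c = v⁻¹ * σ v :=
        (isOfFinOrder_of_finite _).mem_powers_iff_mem_zpowers.2 (hur v)
      have hσv : σ v = v * u ^ c := by rw [hc, mul_inv_cancel_left]
      rw [MulAut.mul_apply, MulAut.mul_apply, hσv, map_mul, map_pow, hhv, hhu, map_inv, map_pow,
        aut_pow_apply_of_fixed σ hσv (by rw [map_pow, huf]), mul_pow, mul_inv, inv_pow]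
      congr 2
      rw [← pow_mul, ← pow_mul, ← pow_mul, show c * (4 * j) = 2 * c * (2 * j) by ring, hj, Nat.mul_add, mul_one,
        pow_add, mul_comm (2 * c), mul_assoc p, pow_mul u p, hexp, one_pow, mul_one]
  · have hn : (zpowers u).Normal := inferInstance
    have htop : zpowers u ⊔ zpowers v = ⊤ := eq_top_of_card_eq _ (by
      rw [PGroup.card_sup_zpowers (p := p) _ hvu (by rw [hexp v]; exact one_mem _), card_zpowers_eq hexp hu1,
        hcard, sq])
    let f : U →* U := h.toMonoidHom * powMonoidHom j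
    have hle : zpowers u ⊔ zpowers v ≤ K.comap f := by
      refine sup_le (zpowers_le.2 ?_) (zpowers_le.2 ?_)
      · show h u * u ^ j ∈ K
        rw [hhu]
        exact mul_mem (inv_mem (pow_mem huK 2)) (pow_mem huK j)
      · show h v * v ^ j ∈ K
        rw [hhv, inv_mul_cancel]
        exact one_mem _
    exact hle (htop ▸ mem_top x)

end Cfsg.Agent.Fusion.RankTwoTorus
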