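import Cfsg.Agent.Lib.Fusion.Tate
import Cfsg.Agent.Lib.Fusion.KNormalizer
import Cfsg.Agent.Lib.Fusion.NormalSubsystem
import Cfsg.Agent.Lib.PGroup.Frattini
import Mathlib.GroupTheory.RegularWreathProduct
import Mathlib.Algebra.MonoidAlgebra.Basic

/-!
Yoshida's theorem for fusion systems: if no homomorphic image of `S` is `C_p ≀ C_p`, the normalizer
system of `S` controls transfer.
-/

set_option autoImplicit false

universe u

namespace Cfsg.Agent.Fusion.Yoshida

open Cfsg Cfsg.FusionSystem MulAction

variable (p : ℕ) [Fact p.Prime]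

/-- The cyclic group of order `p`. -/
abbrev C : Type := Multiplicative (ZMod p)

omit [Fact p.Prime] in
theorem card_C : Nat.card (C p) = p := by
  rw [Nat.card_congr Multiplicative.toAdd, Nat.card_zmod]

/-- The Sylow `p`-subgroups of the symmetric group of degree `p²` are `C_p ≀ C_p`. -/
theorem exists_sylow_mulEquiv :
    ∃ W : Sylow p (Equiv.Perm (Fin (p ^ 2))),
      Nonempty ((C p ≀ᵣ C p) ≃* (W : Subgroup (Equiv.Perm (Fin (p ^ 2))))) := by
  let e1 : IteratedWreathProduct (C p) 1 ≃* C p :=
    { toFun := fun w => w.right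
      invFun := fun c => ⟨fun _ => PUnit.unit, c⟩
      left_inv := fun w => by
        cases w
        rfl
      right_inv := fun c => rfl
      map_mul' := fun _ _ => rfl }
  exact ⟨default, ⟨((Sylow.mulEquivIteratedWreathProduct p 2 (Fin (p ^ 2)) (Nat.card_fin _) (C p)
    (card_C p) default).trans (RegularWreathProduct.congr e1 (MulEquiv.refl _))).symm⟩⟩

variable {p}

/-- A map onto the top of `C_p ≀ C_p` whose image contains a base element with nonzero product is
surjective. -/
theorem surjective_of_base {H : Type*} [Group H] (f : H →* C p ≀ᵣ C p)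
    (hr : ∀ g : C p, ∃ h, (f h).right = g) (m : H) (hm : (f m).right = 1)
    (hs : ∏ x, (f m).left x ≠ 1) : Function.Surjective f := by
  classical
  let toBase : MonoidAlgebra (ZMod p) (C p) → C p ≀ᵣ C p := fun r =>
    ⟨fun x => Multiplicative.ofAdd (r.coeff x), 1⟩
  have hadd : ∀ r s, toBase (r + s) = toBase r * toBase s := fun r s => by
    ext x <;> simp [toBase]
  have hzero : toBase 0 = 1 := by ext x <;> simp [toBase]
  let J : AddSubgroup (MonoidAlgebra (ZMod p) (C p)) :=
    { carrier := {r : MonoidAlgebra (ZMod p) (C p) | toBase r ∈ f.range}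
      add_mem' := fun {r s} hr hs => by
        change toBase (r + s) ∈ f.range
        rw [hadd]
        exact f.range.mul_mem hr hs
      zero_mem' := by
        change toBase 0 ∈ f.range
        rw [hzero]
        exact one_mem _
      neg_mem' := fun {r} hr => by
        change toBase (-r) ∈ f.range
        have h := f.range.inv_mem (hr : toBase r ∈ f.range)
        convert h using 1
        ext x <;> simp [toBase] }
  have hmul : ∀ g r, r ∈ J → MonoidAlgebra.single g 1 * r ∈ J := by
    intro g r hJ
    obtain ⟨h, hh⟩ := hr g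
    show toBase _ ∈ f.range
    have h2 := f.range.mul_mem (f.range.mul_mem (⟨h, rfl⟩ : f h ∈ f.range)
      (hJ : toBase r ∈ f.range)) (f.range.inv_mem (⟨h, rfl⟩ : f h ∈ f.range))
    convert h2 using 1
    ext x
    · simp only [RegularWreathProduct.mul_left, RegularWreathProduct.mul_right,
        RegularWreathProduct.inv_left, Pi.mul_apply, Pi.inv_apply, toBase, hh, mul_one]
      simp [mul_comm]
    · simp [toBase, hh]
  have hideal : ∀ s r, r ∈ J → s * r ∈ J := by
    intro s r hJ
    induction s using MonoidAlgebra.induction_on with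
    | of g => exact hmul g r hJ
    | add a b ha hb => rw [add_mul]; exact J.add_mem ha hb
    | smul c a ha =>
      rw [smul_mul_assoc, ← ZMod.natCast_zmod_val c, Nat.cast_smul_eq_nsmul]
      exact J.nsmul_mem ha _
  set v : MonoidAlgebra (ZMod p) (C p) :=
    ∑ g, MonoidAlgebra.single g (Multiplicative.toAdd ((f m).left g)) with hv
  have hvJ : v ∈ J := by
    refine ⟨m, ?_⟩
    ext x
    · show (f m).left x = Multiplicative.ofAdd (v.coeff x)
      rw [hv, MonoidAlgebra.coeff_sum, Finsupp.finsetSum_apply, Finset.sum_eq_single x] <;>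
        simp +contextual
    · exact hm
  set c : ZMod p := ∑ g, Multiplicative.toAdd ((f m).left g) with hc
  have hvp : v ^ p = MonoidAlgebra.single 1 c := by
    have : CharP (MonoidAlgebra (ZMod p) (C p)) p := charP_of_injective_algebraMap
      (algebraMap (ZMod p) (MonoidAlgebra (ZMod p) (C p))).injective p
    rw [hv, sum_pow_char, hc]
    have h1 : ∀ g : C p, MonoidAlgebra.single g (Multiplicative.toAdd ((f m).left g)) ^ p =
        MonoidAlgebra.single 1 (Multiplicative.toAdd ((f m).left g)) := by
      intro g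
      rw [MonoidAlgebra.single_pow, ZMod.pow_card,
        show g ^ p = 1 from by simpa [card_C p] using pow_card_eq_one' (x := g)]
    rw [Finset.sum_congr rfl fun g _ => h1 g]
    exact (map_sum (MonoidAlgebra.singleAddHom (1 : C p)) _ _).symm
  have hc0 : c ≠ 0 := fun h => hs (by
    rw [← ofAdd_toAdd (∏ x, (f m).left x), toAdd_prod, ← hc, h, ofAdd_zero])
  have hone : ∀ r, r ∈ J := by
    intro r
    have h : r = (r * MonoidAlgebra.single 1 c⁻¹ * v ^ (p - 1)) * v := by
      rw [mul_assoc, ← pow_succ, Nat.sub_add_cancel (Fact.out : p.Prime).one_lt.le, hvp, mul_assoc,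
        MonoidAlgebra.single_mul_single, one_mul, inv_mul_cancel₀ hc0, ← MonoidAlgebra.one_def,
        mul_one]
    rw [h]
    exact hideal _ _ hvJ
  intro w
  obtain ⟨h, hh⟩ := hr w.right
  obtain ⟨m', hm'⟩ : toBase (MonoidAlgebra.ofCoeff <| Finsupp.equivFunOnFinite.symm
      fun x => Multiplicative.toAdd ((w * (f h)⁻¹).left x)) ∈ f.range := hone _
  refine ⟨m' * h, ?_⟩
  rw [map_mul, hm', show toBase _ = w * (f h)⁻¹ from ?_, inv_mul_cancel_right]
  ext x
  · simp [toBase]
  · simp [toBase, hh]

/-- The image of a coatom in `C_p`. -/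
theorem exists_hom_ker_eq {H : Type*} [Group H] [Finite H] (hH : IsPGroup p H) {M : Subgroup H}
    (hM : IsCoatom M) : ∃ π : H →* C p, Function.Surjective π ∧ π.ker = M := by
  have : M.Normal := PGroup.normal_of_isCoatom hH hM
  have hq : Nat.card (H ⧸ M) = p := PGroup.index_of_isCoatom hH hM
  let e : H ⧸ M ≃* C p := mulEquivOfPrimeCardEq hq (card_C p)
  refine ⟨e.toMonoidHom.comp (QuotientGroup.mk' M), e.surjective.comp (QuotientGroup.mk'_surjective M),
    ?_⟩
  ext x
  simp

variable {Ω : Type u} [Group Ω] {S : Subgroup Ω} [Finite S] {F : FusionSystem S}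

/-- Without the image `C_p ≀ C_p`, a homomorphism `S → C_p` invariant under `Aut_F(S)` is invariant
under every map of the system. -/
theorem stable_of_aut (hS : IsPGroup p S) (hF : F.IsSaturated p)
    (hW : ¬ ∃ f : S →* C p ≀ᵣ C p, Function.Surjective f) (θ : S →* C p)
    (haut : ∀ α ∈ F.autGroup S, ∀ x : S, θ (α x) = θ x)
    {P : Subgroup Ω} {φ : P →* Ω} (hφ : φ ∈ F.Hom P) (x : P) :
    θ ⟨φ x, apply_mem hφ x⟩ = θ ⟨x, dom_le hφ x.2⟩ := by
  classical
  obtain ⟨T⟩ := exists_transferData hS hF θ
  suffices H : ∀ (n : ℕ) (P : Subgroup Ω) (φ : P →* Ω) (hφ : φ ∈ F.Hom P) (x : P),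
      orderOf (x : Ω) = n → θ ⟨φ x, apply_mem hφ x⟩ = θ ⟨x, dom_le hφ x.2⟩ from
    H _ P φ hφ x rfl
  intro n
  induction n using Nat.strong_induction_on with
  | _ n ih =>
    intro P φ hφ x hn
    let : MulAction S T.Y := MulAction.compHom T.Y T.perm
    have hsm : ∀ (a : S) (y : T.Y), a • y = T.perm a y := fun a y => rfl
    let Or : Type u := Quotient (MulAction.orbitRel S T.Y)
    let cl : T.Y → Or := fun y => Quotient.mk _ y
    have hcl : ∀ (a : S) (y : T.Y), cl (a • y) = cl y := fun a y => Quotient.sound ⟨a, rfl⟩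
    have key : ∀ a : S, orderOf (a : Ω) = n → T.tr a = θ a ^ Fintype.card T.Y := by
      intro a ha
      rw [T.tr_eq, ← Finset.card_univ, ← Finset.prod_const]
      refine Eq.trans (Finset.prod_fiberwise Finset.univ cl _).symm ?_
      refine Eq.trans ?_ (Finset.prod_fiberwise Finset.univ cl _)
      refine Finset.prod_congr rfl fun q _ => ?_
      induction q using Quotient.inductionOn with
      | h y₀ =>
        by_cases hfix : ∀ b : S, b • y₀ = y₀
        · have hfib : (Finset.univ.filter fun y => cl y = cl y₀) = {y₀} := by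
            ext y
            simp only [Finset.mem_filter, Finset.mem_univ, true_and, Finset.mem_singleton]
            constructor
            · intro h
              obtain ⟨b, hb⟩ := Quotient.exact h
              exact hb.symm.trans (hfix b)
            · exact fun h => by rw [h]
          show ∏ y ∈ Finset.univ.filter (fun y => cl y = cl y₀), _ =
            ∏ y ∈ Finset.univ.filter (fun y => cl y = cl y₀), _
          rw [hfib, Finset.prod_singleton, Finset.prod_singleton]
          obtain ⟨R, ψ, hψ, hR⟩ := T.fixed y₀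
          have hSR : R = S := le_antisymm (dom_le hψ) fun s hs => (hR ⟨s, hs⟩).1.1 (hfix _)
          subst hSR
          rw [(hR a).2 a.2]
          have hr : ψ.range = R := range_eq_of_le hψ le_rfl (apply_mem hψ) le_rfl
          exact haut _ (toAut_mem hψ hr) a
        · let P0 := MulAction.stabilizer S y₀
          obtain ⟨M, hM, hPM⟩ := (eq_top_or_exists_le_coatom P0).resolve_left fun h => hfix
            fun b => (MulAction.mem_stabilizer_iff.1 (h ▸ Subgroup.mem_top b : b ∈ P0))
          obtain ⟨π, hπs, hπ⟩ := exists_hom_ker_eq hS hM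
          let O := Finset.univ.filter fun y => cl y = cl y₀
          have hO : ∀ (b : S) (y : T.Y), b • y ∈ O ↔ y ∈ O := fun b y => by
            simp only [O, Finset.mem_filter, Finset.mem_univ, true_and, hcl]
          have hmem : ∀ y ∈ O, ∃ s : S, s • y₀ = y := fun y hy => by
            obtain ⟨b, hb⟩ := Quotient.exact ((Finset.mem_filter.1 hy).2)
            exact ⟨b, hb⟩
          let bl : T.Y → C p := fun y => if h : ∃ s : S, s • y₀ = y then π h.choose else 1
          have hbl : ∀ s : S, bl (s • y₀) = π s := by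
            intro s
            have h : ∃ t : S, t • y₀ = s • y₀ := ⟨s, rfl⟩
            show dite _ _ _ = _
            rw [dif_pos h, ← inv_mul_eq_one, ← map_inv, ← map_mul, ← MonoidHom.mem_ker, hπ]
            refine hPM (MulAction.mem_stabilizer_iff.2 ?_)
            rw [mul_smul, inv_smul_eq_iff, h.choose_spec]
          have hbl2 : ∀ (b : S) y, y ∈ O → bl (b • y) = π b * bl y := by
            intro b y hy
            obtain ⟨s, rfl⟩ := hmem y hy
            rw [← mul_smul, hbl, hbl, map_mul]
          have hstab : ∀ b : S, ∀ y ∈ O, b • y = y → b ∈ M := by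
            intro b y hy h
            have := hbl2 b y hy
            rw [h] at this
            rw [← hπ, MonoidHom.mem_ker]
            exact mul_eq_right.1 this.symm
          let v : S → C p → C p := fun b z => ∏ y ∈ O.filter (fun y => bl (b • y) = z), T.disc b y
          let f : S →* C p ≀ᵣ C p := MonoidHom.mk' (fun b => ⟨v b, π b⟩) fun b c => by
            refine RegularWreathProduct.ext (funext fun z => ?_) (map_mul π b c)
            show v (b * c) z = v b z * v c ((π b)⁻¹ * z)
            show ∏ y ∈ O.filter (fun y => bl ((b * c) • y) = z), T.disc (b * c) y = _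
            rw [Finset.prod_congr rfl fun y _ => T.disc_mul b c y, Finset.prod_mul_distrib,
              mul_comm]
            refine congrArg₂ (· * ·) ?_ ?_
            · refine Finset.prod_bij (fun y _ => c • y) (fun y hy => ?_)
                (fun y _ y' _ h => smul_left_cancel c h) (fun y hy => ?_) (fun y _ => rfl)
              · simp only [Finset.mem_filter] at hy ⊢
                exact ⟨(hO c y).2 hy.1, by rw [← mul_smul]; exact hy.2⟩
              · simp only [Finset.mem_filter] at hy
                refine ⟨c⁻¹ • y, ?_, smul_inv_smul c y⟩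
                simp only [Finset.mem_filter]
                exact ⟨(hO c⁻¹ y).2 hy.1, by rw [mul_smul, smul_inv_smul]; exact hy.2⟩
            · refine Finset.prod_congr (Finset.filter_congr fun y hy => ?_) fun _ _ => rfl
              rw [mul_smul, hbl2 b _ ((hO c y).2 hy), ← eq_inv_mul_iff_mul_eq]
          have hsum : ∀ b : S, ∏ z, (f b).left z = ∏ y ∈ O, T.disc b y := fun b =>
            Finset.prod_fiberwise O (fun y => bl (b • y)) _
          have hM1 : ∀ b ∈ M, ∏ y ∈ O, T.disc b y = 1 := by
            intro b hb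
            by_contra hne
            rw [← hsum] at hne
            exact hW ⟨f, surjective_of_base f hπs b (MonoidHom.mem_ker.1 (hπ.symm ▸ hb)) hne⟩
          have hdvd : p ∣ O.card := by
            have h1 : O = (MulAction.orbit S y₀).toFinset := by
              ext y
              simp only [O, Finset.mem_filter, Finset.mem_univ, true_and, Set.mem_toFinset]
              exact ⟨fun h => Quotient.exact h, fun h => Quotient.sound h⟩
            rw [h1, Set.toFinset_card, ← Nat.card_eq_fintype_card,
              Nat.card_congr (MulAction.orbitEquivQuotientStabilizer S y₀)]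
            exact (PGroup.index_of_isCoatom hS hM).symm.dvd.trans (Subgroup.index_dvd_of_le hPM)
          have hexp : ∀ c : C p, c ^ p = 1 := fun c => by
            simpa [card_C p] using pow_card_eq_one' (x := c)
          have hR : ∏ y ∈ O, θ a = 1 := by
            obtain ⟨d, hd⟩ := hdvd
            rw [Finset.prod_const, hd, pow_mul, hexp, one_pow]
          show ∏ y ∈ O, T.disc a y = ∏ y ∈ O, θ a
          rw [hR]
          by_cases haM : a ∈ M
          · exact hM1 a haM
          rw [← Finset.prod_coe_sort O]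
          let σ : Equiv.Perm {y // y ∈ O} :=
            (T.perm a).subtypePerm fun y => hO a y
          refine Marks.prod_eq_one_of_cycles σ _ fun y => ?_
          set r := Function.minimalPeriod σ y with hr
          have hit : ∀ i : ℕ, ((σ ^ i) y).1 = (T.perm a ^ i) y.1 := fun i => by
            rw [Equiv.Perm.subtypePerm_pow]
            rfl
          simp only [hit, T.disc_pow]
          have hfx : T.perm (a ^ r) y.1 = y.1 := by
            rw [map_pow, ← hit, hr, Equiv.Perm.coe_pow, Function.iterate_minimalPeriod]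
          have hrp : p ∣ r := by
            by_contra hnd
            have h1 := hstab (a ^ r) y.1 y.2 hfx
            obtain ⟨j, hj⟩ := hS a
            have hcop : Nat.Coprime r (p ^ j) :=
              Nat.Coprime.pow_right j ((Fact.out : p.Prime).coprime_iff_not_dvd.2 hnd).symm
            obtain ⟨k, hk⟩ := Nat.exists_mul_mod_eq_one_of_coprime hcop (by
              rcases Nat.eq_zero_or_pos j with h0 | h0
              · exfalso
                rw [h0, pow_zero, pow_one] at hj
                exact haM (hj ▸ M.one_mem)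
              · exact Nat.one_lt_pow h0.ne' (Fact.out : p.Prime).one_lt)
            refine haM ?_
            have h2 : a = (a ^ r) ^ k := by
              rw [← pow_mul, ← Nat.div_add_mod (r * k) (p ^ j), hk.2, pow_succ, pow_mul, hj,
                one_pow, one_mul]
            rw [h2]
            exact M.pow_mem h1 k
          obtain ⟨R, ψ, hψ, hR'⟩ := T.fixed y.1
          have hmemR := (hR' (a ^ r)).1.1 hfx
          rw [(hR' (a ^ r)).2 hmemR]
          have hlt : orderOf ((a ^ r : S) : Ω) < n := by
            rw [← ha, Subgroup.orderOf_coe, Subgroup.orderOf_coe]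
            have hne : orderOf a ≠ 1 := fun h => haM (orderOf_eq_one_iff.1 h ▸ M.one_mem)
            obtain ⟨j, hj⟩ := (IsPGroup.iff_orderOf.1 hS) a
            rcases j with _ | j
            · exact absurd hj hne
            obtain ⟨d, hd⟩ := hrp
            have h3 : orderOf (a ^ r) ∣ p ^ j := orderOf_dvd_of_pow_eq_one (by
              rw [← pow_mul, hd, show p * d * p ^ j = p ^ (j + 1) * d by ring, pow_mul, ← hj,
                pow_orderOf_eq_one, one_pow])
            exact lt_of_le_of_lt (Nat.le_of_dvd (pow_pos (Fact.out : p.Prime).pos j) h3)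
              (hj ▸ Nat.pow_lt_pow_right (Fact.out : p.Prime).one_lt (Nat.lt_succ_self j))
          rw [ih _ hlt R ψ hψ ⟨_, hmemR⟩ rfl]
          obtain ⟨d, hd⟩ := hrp
          show θ (a ^ r) = 1
          rw [map_pow, hd, pow_mul, hexp, one_pow]
    have hinj : orderOf (φ x) = n := by
      rw [orderOf_injective φ (F.injective_of_mem hφ) x, ← Subgroup.orderOf_coe, hn]
    have h1 := key ⟨x, dom_le hφ x.2⟩ hn
    have h2 := key ⟨φ x, apply_mem hφ x⟩ hinj
    rw [T.stable P φ hφ x, h1] at h2
    have hcop : (Nat.card (C p)).Coprime (Fintype.card T.Y) := by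
      rw [card_C]
      exact (Fact.out : p.Prime).coprime_iff_not_dvd.2 T.not_dvd_card
    exact ((powCoprime hcop).injective h2).symm

/-- Yoshida's theorem: if the normalizer system of `S` does not control transfer, `S` maps onto
`C_p ≀ C_p`. -/
theorem exists_surjective (hS : IsPGroup p S) (hF : F.IsSaturated p)
    {N : FusionSystem (normalizerIn S S)} (hN : F.IsNormalizerSystem S N)
    (hne : N.focalSubgroup ≠ F.focalSubgroup) :
    ∃ f : S →* C p ≀ᵣ C p, Function.Surjective f := by
  classical
  by_contra hW
  have heq : normalizerIn S S = S :=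
    le_antisymm (normalizerIn_le S S) (le_normalizerIn le_rfl)
  have hfin : Finite (normalizerIn S S) := finite_of_le (normalizerIn_le S S)
  have hSN : IsPGroup p (normalizerIn S S) := hS.to_le (normalizerIn_le S S)
  have hNs := normalizerSystem_saturated hS hF (isFullyNormalized_self F) hN
  have hsub : N.IsSubsystemOf F := fun P φ hφ => by
    rw [hN P] at hφ
    exact hφ.1
  have hmono : N.hyperfocalSubgroup p ≤ F.hyperfocalSubgroup p := by
    refine (Subgroup.closure_le _).2 ?_
    rintro _ ⟨P, α, x, hP, hα, rfl⟩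
    have hm := Transfer.map_residual_le
      (Subgroup.inclusion (autGroup_le_of_subsystem hsub hP)) p ⟨α, hα, rfl⟩
    exact inv_mul_apply_mem_hyperfocal (hP.trans (normalizerIn_le S S)) hm x
  have hfle : N.focalSubgroup ≤ F.focalSubgroup := by
    refine (Subgroup.closure_le _).2 ?_
    rintro _ ⟨P, φ, x, hφ, rfl⟩
    exact inv_mul_apply_mem_focal (hsub P hφ) x
  have hfN : N.focalSubgroup = N.hyperfocalSubgroup p ⊔ ⁅S, S⁆ := by
    rw [focal_eq hSN hNs, congrArg (fun T : Subgroup Ω => ⁅T, T⁆) heq]
  set Φ := (frattini S).map S.subtype with hΦ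
  have hnot : ¬ F.focalSubgroup ≤ Φ ⊔ N.focalSubgroup := by
    intro hle
    refine hne (le_antisymm hfle ?_)
    have h1 : F.hyperfocalSubgroup p ≤ N.hyperfocalSubgroup p := by
      refine hyperfocal_le_of_le hS hF hmono (heq.ge.trans (le_normalizer_hyperfocal N p)) ?_
      refine ((hyperfocal_le_focal F p).trans hle).trans ?_
      rw [hfN, hΦ, sup_assoc]
    rw [focal_eq hS hF, hfN]
    exact sup_le_sup_right h1 _
  have hNS : N.focalSubgroup ≤ S := (focalSubgroup_le N).trans (normalizerIn_le S S)
  set L := frattini S ⊔ N.focalSubgroup.subgroupOf S with hL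
  obtain ⟨z, hz, hzL⟩ : ∃ z : S, (z : Ω) ∈ F.focalSubgroup ∧ z ∉ L := by
    by_contra hall
    push Not at hall
    refine hnot fun y hy => ?_
    have h1 := hall ⟨y, focalSubgroup_le F hy⟩ hy
    have h2 : y ∈ L.map S.subtype := ⟨_, h1, rfl⟩
    rwa [hL, Subgroup.map_sup, Subgroup.map_subgroupOf_eq_of_le hNS] at h2
  obtain ⟨M, ⟨hLM, hzM⟩, hmax⟩ := Set.Finite.exists_maximal
    (Set.toFinite {M : Subgroup S | L ≤ M ∧ z ∉ M}) ⟨L, le_rfl, hzL⟩
  have hfM : frattini S ≤ M := le_sup_left.trans hLM
  have hMn : M.Normal := ⟨fun x hx g => by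
    have h := M.mul_mem (hfM (PGroup.commutator_le_frattini hS
      (Subgroup.commutator_mem_commutator (Subgroup.mem_top g) (Subgroup.mem_top x)))) hx
    simpa [commutatorElement_def, mul_assoc] using h⟩
  have hzK : ∀ K, M < K → z ∈ K := fun K hK => by
    by_contra hzK
    exact hK.not_ge (hmax ⟨hLM.trans hK.le, hzK⟩ hK.le)
  have hcover : ∀ y : S, y ∈ M ⊔ Subgroup.zpowers z := by
    intro y
    by_cases hy : y ∈ M
    · exact Subgroup.mem_sup_left hy
    have hlt : M < M ⊔ Subgroup.zpowers y := lt_of_le_of_ne le_sup_left fun h =>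
      hy (h ▸ Subgroup.mem_sup_right (Subgroup.mem_zpowers y))
    have hzy := hzK _ hlt
    rw [← SetLike.mem_coe, Subgroup.normal_mul] at hzy
    obtain ⟨m, hm, _, ⟨i, rfl⟩, hzy⟩ := Set.mem_mul.1 hzy
    have hyp' : y ^ (p : ℤ) ∈ M := by
      rw [zpow_natCast]
      exact hfM (PGroup.pow_mem_frattini hS y)
    have hi : ¬ (p : ℤ) ∣ i := by
      rintro ⟨d, rfl⟩
      refine hzM (hzy ▸ M.mul_mem hm ?_)
      show y ^ ((p : ℤ) * d) ∈ M
      rw [zpow_mul]
      exact M.zpow_mem hyp' d
    obtain ⟨a, b, hab⟩ : IsCoprime i (p : ℤ) :=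
      ((Nat.prime_iff_prime_int.1 (Fact.out : p.Prime)).coprime_iff_not_dvd.2 hi).symm
    have h1 : y ^ i ∈ M ⊔ Subgroup.zpowers z := by
      have h := Subgroup.mul_mem _ (Subgroup.mem_sup_left (M.inv_mem hm))
        (Subgroup.mem_sup_right (Subgroup.mem_zpowers z) : z ∈ M ⊔ Subgroup.zpowers z)
      rwa [← hzy, inv_mul_cancel_left, hzy] at h
    have h2 := Subgroup.mul_mem _ (Subgroup.zpow_mem _ h1 a)
      (Subgroup.zpow_mem _ (Subgroup.mem_sup_left hyp' :
        y ^ (p : ℤ) ∈ M ⊔ Subgroup.zpowers z) b)
    rw [← zpow_mul, ← zpow_mul, ← zpow_add, mul_comm i a, mul_comm (p : ℤ) b, hab, zpow_one] at h2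
    exact h2
  have hMc : IsCoatom M := ⟨fun h => hzM (h ▸ Subgroup.mem_top z), fun K hK => eq_top_iff.2
    fun y _ => (sup_le hK.le (Subgroup.zpowers_le.2 (hzK K hK))) (hcover y)⟩
  obtain ⟨θ, -, hθ⟩ := exists_hom_ker_eq hS hMc
  have haut : ∀ α ∈ F.autGroup S, ∀ x : S, θ (α x) = θ x := by
    intro α hα x
    have hm := (mem_autGroup_iff le_rfl).1 hα
    have hmem : S.subtype.comp α.toMonoidHom ∈ N.Hom S := by
      rw [hN]
      refine ⟨hm, le_normalizerIn le_rfl, fun y => le_normalizerIn le_rfl (α y).2, ?_⟩
      have hh := restrict_mem hm (sup_le le_rfl le_rfl : S ⊔ S ≤ S)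
      exact ⟨_, hh, fun y => rfl, (map_subgroupOf_eq_iff hh le_sup_right).2
        fun y hy => (α ⟨y, hy⟩).2⟩
    have h1 : (x⁻¹ * α x) ∈ M := by
      refine hLM (Subgroup.mem_sup_right ?_)
      exact inv_mul_apply_mem_focal (F := N) hmem x
    rw [← hθ, MonoidHom.mem_ker, map_mul, map_inv, inv_mul_eq_one] at h1
    exact h1.symm
  refine hzM ?_
  have hker : F.focalSubgroup ≤ θ.ker.map S.subtype := by
    refine (Subgroup.closure_le _).2 ?_
    rintro _ ⟨P, φ, x, hφ, rfl⟩
    refine ⟨⟨x, dom_le hφ x.2⟩⁻¹ * ⟨φ x, apply_mem hφ x⟩, ?_, rfl⟩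
    show θ _ = 1
    rw [map_mul, map_inv, stable_of_aut hS hF hW θ haut hφ x, inv_mul_cancel]
  obtain ⟨w, hw, hwz⟩ := hker hz
  rw [← hθ, show z = w from Subtype.ext hwz.symm]
  exact hw

end Cfsg.Agent.Fusion.Yoshida
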