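import Cfsg.Agent.Lib.Fusion.RelFrattini
import Cfsg.Agent.Lib.Fusion.CentricUnique

/-!
The `p'`-residual subsystem `O^{p'}(F)`: existence (it is `Γ₀ M`, `M` the least subsystem large on
centric subgroups, `Γ₀` generated by the automorphisms of `S` lying in `M` on some centric
subgroup), normality and minimality.
-/

set_option autoImplicit false
set_option linter.unusedSectionVars false

namespace Cfsg.Agent.Fusion.PPrimeResidual

open Cfsg Cfsg.FusionSystem Cfsg.Agent.Fusion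

variable {Ω : Type*} [Group Ω] {S : Subgroup Ω} {p : ℕ}

/-- The automorphisms of `S` generated by those agreeing with `M` on a centric subgroup. -/
def gamma (F : FusionSystem S) (p : ℕ) : Subgroup (MulAut S) :=
  Subgroup.closure {α : MulAut S | α ∈ F.autGroup S ∧ ∃ P : Subgroup Ω, F.IsCentric P ∧
    ∃ φ₀ ∈ (minimalPrimeToP F p).Hom P, ∀ (x : P) (hx : (x : Ω) ∈ S),
      φ₀ x = ((α ⟨x, hx⟩ : S) : Ω)}

variable {F : FusionSystem S}

theorem gamma_le : gamma F p ≤ F.autGroup S := (Subgroup.closure_le _).2 fun _ h => h.1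

theorem gamma_conj [Finite S] {d : MulAut S} (hd : d ∈ F.autGroup S) {a : MulAut S}
    (ha : a ∈ gamma F p) : d * a * d⁻¹ ∈ gamma F p := by
  suffices h : gamma F p ≤ (gamma F p).comap (MulAut.conj d).toMonoidHom from h ha
  refine (Subgroup.closure_le _).2 ?_
  rintro b ⟨hb, P, hP, φ₀, hφ₀, hv⟩
  obtain ⟨χ, hχ, hχv⟩ := (transports_minimalPrimeToP : Transports (minimalPrimeToP F p) F)
    P hP.1 φ₀ hφ₀ d hd
  refine Subgroup.subset_closure ⟨mul_mem (mul_mem hd hb) (inv_mem hd), _,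
    isCentric_of_isConj hP ⟨_, restrict_mem ((mem_autGroup_iff le_rfl).1 hd) hP.1,
      imageOfAut hP.1 fun x => rfl⟩, χ, hχ, ?_⟩
  rintro ⟨_, z, hz, rfl⟩ hzS
  refine (hχv ⟨z, hz⟩ (apply_mem hφ₀ _) ⟨z, hz, rfl⟩).trans ?_
  show _ = (((d * b * d⁻¹) (d z) : S) : Ω)
  rw [MulAut.mul_apply, MulAut.mul_apply, MulAut.inv_apply_self]
  exact congrArg (fun s : S => ((d s : S) : Ω)) (Subtype.ext (hv ⟨z, hz⟩ z.2))

theorem inner_mem_gamma [Finite S] (F : FusionSystem S) :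
    ∀ α ∈ autInducedBy S S, α ∈ gamma F p := fun α hα =>
  Subgroup.subset_closure ⟨autInducedBy_le_autGroup F le_rfl hα, S, isCentric_self F, _,
    (mem_autGroup_iff le_rfl).1 (autInducedBy_le_autGroup (minimalPrimeToP F p) le_rfl hα),
    fun x hx => rfl⟩

/-- `O^{p'}(F)`. -/
def residual [Finite S] (F : FusionSystem S) (p : ℕ) : FusionSystem S :=
  kSub F (stronglyClosed_self F) (minimalPrimeToP F p) transports_minimalPrimeToP
    (gamma F p) gamma_le (inner_mem_gamma F)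

section
variable [Finite S]

theorem residual_le : (residual F p).IsSubsystemOf F := fun _ _ hφ => hφ.1

theorem residual_of {P : Subgroup Ω} {φ : P →* Ω}
    (hφ : φ ∈ F.Hom P) {α : MulAut S} (hα : α ∈ gamma F p) {φ₀ : P →* Ω}
    (hφ₀ : φ₀ ∈ (minimalPrimeToP F p).Hom P)
    (he : ∀ (x : P) (hx : φ₀ x ∈ S), φ x = ((α ⟨φ₀ x, hx⟩ : S) : Ω)) :
    φ ∈ (residual F p).Hom P :=
  ⟨hφ, fun Q hQP _ => ⟨α, hα, _, restrict_mem hφ₀ hQP,
    fun x hx => he (Subgroup.inclusion hQP x) hx⟩⟩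

theorem mem_residual {P : Subgroup Ω} {φ : P →* Ω} (hφ : φ ∈ (residual F p).Hom P) :
    φ ∈ F.Hom P ∧ ∃ α ∈ gamma F p, ∃ φ₀ ∈ (minimalPrimeToP F p).Hom P,
      ∀ (x : P) (hx : φ₀ x ∈ S), φ x = ((α ⟨φ₀ x, hx⟩ : S) : Ω) :=
  ⟨hφ.1, hφ.2 P le_rfl (dom_le hφ.1)⟩

theorem minimal_le_residual : minimalPrimeToP F p ≤ residual F p := fun P φ hφ =>
  residual_of (minimalPrimeToP_isSubsystemOf P hφ) (one_mem _) hφ fun _ _ => rfl

theorem isLarge_residual : IsLargeOnCentric (residual F p) F p := fun P hP a ha =>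
  (mem_autGroup_iff hP.1).2 (minimal_le_residual P
    ((mem_autGroup_iff hP.1).1 (isLargeOnCentric_minimalPrimeToP P hP ha)))

theorem mem_gamma_of_rel {P : Subgroup Ω} (hP : F.IsCentric P) {φ₀ φ₁ : P →* Ω}
    (h₀ : φ₀ ∈ (minimalPrimeToP F p).Hom P) (h₁ : φ₁ ∈ (minimalPrimeToP F p).Hom P)
    {α : MulAut S} (hα : α ∈ F.autGroup S)
    (he : ∀ (x : P) (hx : φ₀ x ∈ S), φ₁ x = ((α ⟨φ₀ x, hx⟩ : S) : Ω)) : α ∈ gamma F p := by
  obtain ⟨η, hη, hηr, hηi, -⟩ := exists_inverse h₀ (rfl : φ₀.range = φ₀.range)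
  refine Subgroup.subset_closure ⟨hα, φ₀.range,
    isCentric_of_isConj hP ⟨φ₀, minimalPrimeToP_isSubsystemOf P h₀, rfl⟩, _,
    (minimalPrimeToP F p).comp_mem hη h₁ fun y => hηr.le ⟨y, rfl⟩, ?_⟩
  rintro ⟨_, x, rfl⟩ hx
  exact (congrArg φ₁ (Subtype.ext (hηi x ⟨x, rfl⟩))).trans (he x hx)

theorem mem_autGroup_residual_iff (α : MulAut S) :
    α ∈ (residual F p).autGroup S ↔ α ∈ gamma F p := by
  refine ⟨fun hα => ?_, fun hα => (mem_autGroup_iff le_rfl).2 <|
    residual_of ((mem_autGroup_iff le_rfl).1 (gamma_le hα)) hα (subtype_mem _ le_rfl) fun x hx => rfl⟩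
  obtain ⟨hF', β, hβ, φ₀, hφ₀, he⟩ := mem_residual ((mem_autGroup_iff le_rfl).1 hα)
  have hr : φ₀.range = S := range_eq_of_le hφ₀ le_rfl (apply_mem hφ₀) le_rfl
  have hγ : toAut hφ₀ hr ∈ gamma F p := Subgroup.subset_closure
    ⟨(mem_autGroup_iff le_rfl).2 (minimalPrimeToP_isSubsystemOf S hφ₀), S, isCentric_self F, φ₀,
      hφ₀, fun x hx => rfl⟩
  convert mul_mem hβ hγ using 1
  exact MulEquiv.ext fun x => Subtype.ext (he x (apply_mem hφ₀ x))

theorem transports_residual :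
    Transports (residual F p) F := by
  intro P hPS φ hφ β hβ
  obtain ⟨hφF, α, hα, φ₀, hφ₀, he⟩ := mem_residual hφ
  obtain ⟨χ₀, hχ₀, hv⟩ := (transports_minimalPrimeToP : Transports (minimalPrimeToP F p) F)
    P hPS φ₀ hφ₀ β hβ
  obtain ⟨χ, hχ, hχv⟩ : ∃ χ ∈ F.Hom ((P.subgroupOf S).map (S.subtype.comp β.toMonoidHom)),
      ∀ y, χ y = (((β * α * β⁻¹) ⟨χ₀ y, apply_mem hχ₀ y⟩ : S) : Ω) :=
    ⟨_, F.comp_mem (minimalPrimeToP_isSubsystemOf _ hχ₀)
      ((mem_autGroup_iff le_rfl).1 (mul_mem (mul_mem hβ (gamma_le hα)) (inv_mem hβ))) (apply_mem hχ₀),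
      fun y => rfl⟩
  refine ⟨χ, residual_of hχ (gamma_conj hβ hα) hχ₀ fun y _ => hχv y, fun x hx hy => ?_⟩
  rw [hχv, show (⟨χ₀ ⟨_, hy⟩, apply_mem hχ₀ _⟩ : S) = β ⟨φ₀ x, apply_mem hφ₀ x⟩ from
      Subtype.ext (hv x (apply_mem hφ₀ x) hy), MulAut.mul_apply, MulAut.mul_apply,
    MulAut.inv_apply_self]
  exact congrArg (fun s : S => ((β s : S) : Ω)) (Subtype.ext (he x _).symm)

variable [Fact p.Prime]

theorem isInvariantIn_residual (hS : IsPGroup p S) (hF : F.IsSaturated p) :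
    (residual F p).IsInvariantIn F := by
  refine ⟨residual_le, stronglyClosed_self F, transports_residual, fun P hP φ hφ => ?_⟩
  obtain ⟨α, hα, φ₀, hφ₀, he⟩ := frattini_minimalPrimeToP hS hF hφ P le_rfl hP
  exact ⟨α, hα, φ₀, minimal_le_residual P hφ₀, he⟩

theorem exists_fullyNormalized_conj (hS : IsPGroup p S) (hF : F.IsSaturated p) {P : Subgroup Ω}
    (hP : P ≤ S) : ∃ U, (residual F p).IsConj P U ∧ F.IsFullyNormalized U := by
  obtain ⟨Q, ⟨φ, hφ, rfl⟩, hQn⟩ := exists_fullyNormalized F hP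
  obtain ⟨β, hβ, φ₀, hφ₀, he⟩ := frattini_minimalPrimeToP hS hF hφ P le_rfl hP
  have hU : F.IsConj P φ₀.range := ⟨φ₀, minimalPrimeToP_isSubsystemOf P hφ₀, rfl⟩
  refine ⟨φ₀.range, ⟨φ₀, minimal_le_residual P hφ₀, rfl⟩, range_le hφ₀, fun R hR => ?_⟩
  refine (hQn.2 R (isConj_trans (isConj_trans (isConj_symm ⟨φ, hφ, rfl⟩) hU) hR)).trans ?_
  have := finite_of_le (Ω := Ω) (normalizerIn_le S φ₀.range)
  have hmap : ∀ g ∈ normalizerIn S φ.range, ∀ hg : g ∈ S,
      ((β⁻¹ ⟨g, hg⟩ : S) : Ω) ∈ normalizerIn S φ₀.range := by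
    intro g hg hgS
    refine ⟨Subtype.property _, Subgroup.mem_normalizer_iff.2 fun z => ?_⟩
    have hiff : ∀ z : Ω, z ∈ φ₀.range ↔ ∃ hz : z ∈ S, ((β ⟨z, hz⟩ : S) : Ω) ∈ φ.range := fun z => by
      constructor
      · rintro ⟨x, rfl⟩
        exact ⟨apply_mem hφ₀ x, x, he x _⟩
      · rintro ⟨hz, x, hx⟩
        refine ⟨x, ?_⟩
        have hx' : φ x = ((β ⟨φ₀ x, apply_mem hφ₀ x⟩ : S) : Ω) := he x _
        rw [hx'] at hx
        exact congrArg Subtype.val (β.injective (Subtype.ext hx))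
    set t := β⁻¹ ⟨g, hgS⟩ with ht
    have hbt : β t = ⟨g, hgS⟩ := MulAut.apply_inv_self _ _ _
    rw [hiff, hiff]
    constructor
    · rintro ⟨hz, hm⟩
      refine ⟨S.mul_mem (S.mul_mem t.2 hz) (S.inv_mem t.2), ?_⟩
      rw [show (⟨(t : Ω) * z * (t : Ω)⁻¹, _⟩ : S) = t * ⟨z, hz⟩ * t⁻¹ from rfl, map_mul,
        map_mul, map_inv, hbt]
      exact (Subgroup.mem_normalizer_iff.1 hg.2 _).1 hm
    · rintro ⟨hz', hm⟩
      have hz : z ∈ S := by
        simpa [mul_assoc] using S.mul_mem (S.mul_mem (S.inv_mem t.2) hz') t.2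
      refine ⟨hz, (Subgroup.mem_normalizer_iff.1 hg.2 _).2 ?_⟩
      rw [show (⟨(t : Ω) * z * (t : Ω)⁻¹, hz'⟩ : S) = t * ⟨z, hz⟩ * t⁻¹ from rfl, map_mul,
        map_mul, map_inv, hbt] at hm
      exact hm
  refine Nat.card_le_card_of_injective (fun g : normalizerIn S φ.range =>
    (⟨_, hmap g g.2 g.2.1⟩ : normalizerIn S φ₀.range)) fun a b hab => ?_
  have hab' : ((β⁻¹ ⟨a, a.2.1⟩ : S) : Ω) = ((β⁻¹ ⟨b, b.2.1⟩ : S) : Ω) := by
    simpa using congrArg Subtype.val hab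
  have h1 := (β⁻¹).injective (Subtype.ext hab')
  exact Subtype.ext (Subtype.ext_iff.1 h1 :)

theorem good_residual (hS : IsPGroup p S) (hF : F.IsSaturated p) {P : Subgroup Ω}
    (hP : F.IsCentric P) : Criterion.Good (residual F p) p P := by
  obtain ⟨U, hPU, hUn⟩ := exists_fullyNormalized_conj hS hF hP.1
  have hPU' : F.IsConj P U := by
    obtain ⟨φ, hφ, hr⟩ := hPU
    exact ⟨φ, hφ.1, hr⟩
  have hU := isCentric_of_isConj hP hPU'
  have hUS := hUn.1
  refine ⟨U, hPU, ⟨hUS, ?_⟩, ⟨hUS, fun P' φ hφ hr => ?_⟩⟩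
  · have hle : (residual F p).autGroup U ≤ F.autGroup U :=
      autGroup_le_of_subsystem (show (residual F p).IsSubsystemOf F from fun _ _ hφ => hφ.1) hUS
    have := finite_autGroup (F := F) hUS
    obtain ⟨-, R, hR⟩ := isFullyAutomized_of_fullyNormalized hS hF hUn
    have hRle : (R : Subgroup (F.autGroup U)) ≤
        ((residual F p).autGroup U).subgroupOf (F.autGroup U) := by
      rw [hR]
      exact fun a ha => autInducedBy_le_autGroup _ hUS ha
    refine ⟨(R.subtype hRle).comapOfInjective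
      ((Subgroup.subgroupOfEquivOfLe hle).symm.toMonoidHom)
      (Subgroup.subgroupOfEquivOfLe hle).symm.injective ?_, ?_⟩
    · intro x _
      exact ⟨Subgroup.subgroupOfEquivOfLe hle x, MulEquiv.symm_apply_apply _ x⟩
    · ext a
      show (⟨⟨(a : MulAut U), hle a.2⟩, a.2⟩ :
        ↥(((residual F p).autGroup U).subgroupOf (F.autGroup U))) ∈
          (R : Subgroup (F.autGroup U)).subgroupOf _ ↔ _
      rw [Subgroup.mem_subgroupOf, hR]
      exact Iff.rfl
  · obtain ⟨ψ, hψ, hψe⟩ := (isReceptive_of_centric hS hF hU).2 P' φ hφ.1 hr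
    refine ⟨ψ, ?_, hψe⟩
    have hP'N : P' ≤ extender S P' φ := le_extender (dom_le hφ.1) (apply_mem hφ.1)
    obtain ⟨β, hβ, ψ₀, hψ₀, hev⟩ := frattini_minimalPrimeToP hS hF hψ _ le_rfl (dom_le hψ)
    have hP' := isCentric_of_isConj hU (isConj_symm ⟨φ, hφ.1, hr⟩)
    have hres := restrict_mem hψ₀ hP'N
    have hev' : ∀ (x : P') (hx : ψ₀.comp (Subgroup.inclusion hP'N) x ∈ S),
        φ x = ((β ⟨_, hx⟩ : S) : Ω) := fun x hx =>
      (hψe x x.2 (hP'N x.2)).symm.trans (hev (Subgroup.inclusion hP'N x) hx)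
    obtain ⟨-, γ, hγ, φ₁, hφ₁, heγ⟩ := mem_residual hφ
    have hkey : γ⁻¹ * β ∈ gamma F p := by
      refine mem_gamma_of_rel hP' hres hφ₁ (mul_mem (inv_mem (gamma_le hγ)) hβ) fun x hx => ?_
      have h1 := hev' x hx
      rw [heγ x (apply_mem hφ₁ x)] at h1
      rw [MulAut.mul_apply, show β ⟨_, hx⟩ = γ ⟨φ₁ x, apply_mem hφ₁ x⟩ from Subtype.ext h1.symm,
        MulAut.inv_apply_self]
    exact residual_of hψ (by simpa using mul_mem hγ hkey) hψ₀ hev

theorem isSaturated_residual (hS : IsPGroup p S) (hF : F.IsSaturated p) :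
    (residual F p).IsSaturated p := by
  refine Criterion.isSaturated hS {P | F.IsCentric P} (fun P hP Q hPQ => ?_)
    (fun P hP => good_residual hS hF hP) (fun D hD P φ hφ => ?_)
    fun P hPc hPg => absurd ((isCentric_iff_of_large hS hF residual_le isLarge_residual P).1 hPc) hPg
  · obtain ⟨φ, hφ, hr⟩ := hPQ
    exact isCentric_of_isConj hP ⟨φ, hφ.1, hr⟩
  · obtain ⟨hφF, α, hα, φ₀, hφ₀, he⟩ := mem_residual hφ
    have hlarge : IsLargeOnCentric D F p := fun R hR a ha =>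
      (mem_autGroup_iff hR.1).2 (hD R hR ((mem_autGroup_iff hR.1).1 (isLarge_residual R hR ha)))
    have h1 := hD S (isCentric_self F)
      ((mem_autGroup_iff le_rfl).1 ((mem_autGroup_residual_iff α).2 hα))
    exact comp_mem' (minimalPrimeToP_le hlarge P hφ₀) h1 (apply_mem hφ₀) fun x => he x _

theorem isNormalIn_residual (hS : IsPGroup p S) (hF : F.IsSaturated p) :
    (residual F p).IsNormalIn F p := by
  refine ⟨⟨isSaturated_residual hS hF, hF, isInvariantIn_residual hS hF⟩, fun α hα => ?_⟩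
  have hαF := gamma_le ((mem_autGroup_residual_iff α).1 hα)
  have hSS : S ⊔ centralizerIn S S = S := sup_eq_left.2 (centralizerIn_le S S)
  have hm : S.subtype.comp α.toMonoidHom ∈ F.Hom S := (mem_autGroup_iff le_rfl).1 hαF
  have hφ := restrict_mem hm hSS.le
  have := finite_of_le (Ω := Ω) hSS.le
  have hr := range_eq_of_le hφ hSS.le (fun x => hSS.ge (apply_mem hφ x)) le_rfl
  refine ⟨toAut hφ hr, toAut_mem hφ hr, fun x => rfl, fun c hc => ⟨?_, ?_⟩⟩
  · exact S.mul_mem (S.inv_mem hc.1) (apply_mem hφ c)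
  · refine mul_mem (Subgroup.inv_mem _ hc.2) (Subgroup.mem_centralizer_iff.2 fun y hy => ?_)
    obtain ⟨z, hz⟩ := α.surjective ⟨y, hy⟩
    have h1 : z * ⟨c, hc.1⟩ = ⟨c, hc.1⟩ * z :=
      Subtype.ext (Subgroup.mem_centralizer_iff.1 hc.2 z z.2)
    have h2 := congrArg Subtype.val (congrArg α h1)
    rw [map_mul, map_mul, hz] at h2
    exact h2

/-- An automorphism of `S` lying on a centric subgroup in a saturated subsystem of index prime to
`p` belongs to it. -/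
theorem mem_autGroup_of_restrict (hS : IsPGroup p S) (hF : F.IsSaturated p) {D : FusionSystem S}
    (hD : D.IsSaturated p) (hDF : D.IsSubsystemOf F) (hl : IsLargeOnCentric D F p) :
    ∀ (n : ℕ) (P : Subgroup Ω), Nat.card S ≤ Nat.card P + n → F.IsCentric P →
      ∀ α ∈ F.autGroup S, ∀ φ ∈ D.Hom P, (∀ (x : P) (hx : (x : Ω) ∈ S),
        φ x = ((α ⟨x, hx⟩ : S) : Ω)) → α ∈ D.autGroup S := by
  intro n
  induction n with
  | zero =>
    intro P hn hP α hα φ hφ he
    obtain rfl : P = S := eq_of_le_of_card_le le_rfl hP.1 (by omega)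
    refine (mem_autGroup_iff le_rfl).2 ?_
    convert hφ using 1
    exact MonoidHom.ext fun x => (he x x.2).symm
  | succ n ih =>
    intro P hn hP α hα φ hφ he
    have hPS := hP.1
    by_cases hPe : P = S
    · exact ih P (by rw [hPe]; omega) hP α hα φ hφ he
    set N := normalizerIn S P with hN
    have hlt : P < N := lt_normalizerIn hS (lt_of_le_of_ne hPS hPe)
    have hNS : N ≤ S := normalizerIn_le S P
    have hcard := card_lt_of_lt hNS hlt
    have hr : D.IsReceptive φ.range := isReceptive_of_centric hS hD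
      (isCentric_of_isConj ((isCentric_iff_of_large hS hF hDF hl P).2 hP) ⟨φ, hφ, rfl⟩)
    have hext : N ≤ extender S P φ := fun g hg => by
      refine mem_extender_iff.2 ⟨hg.1, hg.2, (α ⟨g, hg.1⟩ : S), Subtype.property _, fun x hx => ?_⟩
      rw [he _ (hPS hx), he x (hPS x.2), ← Subgroup.coe_inv, ← map_inv, ← Subgroup.coe_mul,
        ← Subgroup.coe_mul, ← map_mul, ← map_mul]
      rfl
    obtain ⟨ψ, hψ, hψe⟩ := exists_extension hr hφ rfl hext
    have hαN := restrict_mem ((mem_autGroup_iff le_rfl).1 hα) hNS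
    obtain ⟨z, hz, -, hzv⟩ := exists_conj_of_agree hS hF hlt.le hP (hDF _ hψ) hαN fun x hx =>
      (hψe x hx x.2).trans (he ⟨x, hx⟩ (hNS x.2))
    refine ih N (by omega) (isCentric_of_le hP hlt.le hNS) α hα _
      (D.comp_mem (D.conj_mem hNS (hNS z.2)) hψ fun x => ?_) fun x hx => ?_
    · exact (z * x * z⁻¹).2
    · exact (hzv x).symm

/-- `O^{p'}(F)` is the least saturated subsystem of index prime to `p`. -/
theorem isPPrimeResidual_residual (hS : IsPGroup p S) (hF : F.IsSaturated p) :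
    F.IsPPrimeResidual p (residual F p) := by
  refine ⟨isSaturated_residual hS hF, hasPrimeToPIndexIn hS hF residual_le isLarge_residual,
    fun D hD hDi P φ hφ => ?_⟩
  have hl : IsLargeOnCentric D F p := fun R hR => hDi.2 R hR.1
  obtain ⟨-, α, hα, φ₀, hφ₀, he⟩ := mem_residual hφ
  have hαD : gamma F p ≤ D.autGroup S := (Subgroup.closure_le _).2 fun b ⟨hb, R, hR, ψ, hψ, hv⟩ =>
    mem_autGroup_of_restrict hS hF hD hDi.1 hl (Nat.card S) R (by omega) hR b hb ψ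
      (minimalPrimeToP_le hl R hψ) hv
  exact comp_mem' (minimalPrimeToP_le hl P hφ₀) ((mem_autGroup_iff le_rfl).1 (hαD hα))
    (apply_mem hφ₀) fun x => he x _

/-- Every `p'`-residual subsystem has the maps of `residual`. -/
theorem hom_eq_residual (hS : IsPGroup p S) (hF : F.IsSaturated p) {R : FusionSystem S}
    (hR : F.IsPPrimeResidual p R) (P : Subgroup Ω) : R.Hom P = (residual F p).Hom P :=
  Set.Subset.antisymm
    (hR.2.2 _ (isSaturated_residual hS hF) (isPPrimeResidual_residual hS hF).2.1 P)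
    ((isPPrimeResidual_residual hS hF).2.2 R hR.1 hR.2.1 P)

end

end Cfsg.Agent.Fusion.PPrimeResidual
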