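import Cfsg.Agent.Lib.Fusion.GroupSimple
import Cfsg.Agent.Lib.Fusion.UniTri
import Cfsg.Agent.Lib.GL.Basic
import Cfsg.Agent.Lib.PGroup.Basic

/-!
The fusion system of `PSL_n(q)`, `n ≥ 3`, in defining characteristic is simple.
-/

set_option autoImplicit false

namespace Cfsg.Agent.Fusion.PSLSimple

open Matrix Cfsg Cfsg.FusionSystem Cfsg.Agent.Fusion.UniTri

variable {n : ℕ} {F : Type*} [Field F] [Fintype F] {G : Type*} [Group G] [Finite G]
  (p : ℕ) [Fact p.Prime] [CharP F p]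
  {π : Matrix.SpecialLinearGroup (Fin n) F →* G}

local notation "SLn" => Matrix.SpecialLinearGroup (Fin n) F

theorem eq_one_of_center_pow {z : SLn} (hz : z ∈ (Subgroup.center SLn)) {k : ℕ} (h : z ^ p ^ k = 1) : z = 1 := by
  obtain ⟨r, -, hr⟩ := Matrix.SpecialLinearGroup.mem_center_iff.mp hz
  have htri : z ∈ tri := fun i j hij => by rw [← hr, scalar_apply]; exact diagonal_apply_ne _ hij.ne'
  have hd := (mem_uni_of_pow p htri h).2
  refine Subtype.ext ?_
  show (z : Matrix (Fin n) (Fin n) F) = 1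
  rw [← hr, scalar_apply, ← diagonal_one]
  congr 1
  funext i
  have := hd i
  rwa [← hr, scalar_apply, diagonal_apply_eq] at this

theorem mem_tri_of_mem_center {z : SLn} (hz : z ∈ (Subgroup.center SLn)) : z ∈ tri := by
  obtain ⟨r, -, hr⟩ := Matrix.SpecialLinearGroup.mem_center_iff.mp hz
  intro i j hij
  rw [← hr, scalar_apply]; exact diagonal_apply_ne _ hij.ne'

theorem exists_uni_pow {u : SLn} (hu : u ∈ uni) : ∃ k, u ^ p ^ k = 1 := by
  obtain ⟨k, hk⟩ := isPGroup_uni (n := n) (F := F) p ⟨u, hu⟩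
  exact ⟨k, congrArg Subtype.val hk⟩

variable (hπ : Function.Surjective π) (hker : π.ker = Subgroup.center (Matrix.SpecialLinearGroup (Fin n) F))
include p hker

/-- Elements of `p`-power order are determined by their image. -/
theorem eq_of_map_eq {x y : SLn} {k : ℕ} (hx : x ^ p ^ k = 1) (hy : y ^ p ^ k = 1) (h : π x = π y) :
    x = y := by
  have hz : x * y⁻¹ ∈ (Subgroup.center SLn) := by
    rw [← hker, MonoidHom.mem_ker, map_mul, map_inv, h, mul_inv_cancel]
  have hcomm : Commute (x * y⁻¹) y := (Subgroup.mem_center_iff.mp hz y).symm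
  have h1 : (x * y⁻¹) ^ p ^ k = 1 := by
    have := hcomm.mul_pow (p ^ k)
    rw [inv_mul_cancel_right, hx, hy, mul_one] at this
    exact this.symm
  exact mul_inv_eq_one.mp (eq_one_of_center_pow p hz h1)

/-- A lift normalises what its image normalises. -/
theorem conj_mem_of_map {W : Subgroup SLn} (hW : W ≤ uni) {x : SLn}
    (hx : ∀ w ∈ W, π (x * w * x⁻¹) ∈ W.map π) : ∀ w ∈ W, x * w * x⁻¹ ∈ W := by
  intro w hw
  obtain ⟨v, hv, hvw⟩ := hx w hw
  obtain ⟨a, ha⟩ := exists_uni_pow p (hW hw)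
  obtain ⟨b, hb⟩ := exists_uni_pow p (hW hv)
  have h1 : (x * w * x⁻¹) ^ p ^ (a + b) = 1 := by
    rw [conj_pow, pow_add, pow_mul, ha, one_pow, mul_one, mul_inv_cancel]
  have h2 : v ^ p ^ (a + b) = 1 := by rw [pow_add, mul_comm, pow_mul, hb, one_pow]
  rwa [← eq_of_map_eq p hker h2 h1 hvw]

theorem mem_tri_of_map_normalizer {x : SLn}
    (hx : π x ∈ Subgroup.normalizer ((uni.map π : Subgroup G) : Set G)) : x ∈ tri := by
  refine mem_tri_of_conj (conj_mem_of_map p hker le_rfl fun w hw => ?_)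
  rw [map_mul, map_mul, map_inv]
  exact (Subgroup.mem_normalizer_iff.mp hx _).mp ⟨w, hw, rfl⟩

include hπ

/-- `U` maps onto a Sylow subgroup. -/
theorem sylow_eq {T : Sylow p G} (hT : uni.map π ≤ (T : Subgroup G)) : (T : Subgroup G) = uni.map π := by
  by_contra hne
  have hlt : uni.map π < (T : Subgroup G) := lt_of_le_of_ne hT (Ne.symm hne)
  have hlt' : (uni.map π).subgroupOf (T : Subgroup G) < ⊤ := by
    rw [lt_top_iff_ne_top, Ne, Subgroup.subgroupOf_eq_top]
    exact not_le_of_gt hlt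
  have := T.2.isNilpotent
  obtain ⟨⟨t, htT⟩, htN, htU⟩ :=
    SetLike.exists_of_lt (Group.normalizerCondition_of_isNilpotent _ hlt')
  have htN' : t ∈ Subgroup.normalizer ((uni.map π : Subgroup G) : Set G) := by
    refine Subgroup.mem_normalizer_iff_map_conj_eq.mpr (Subgroup.eq_of_le_of_card_ge ?_ ?_)
    · rintro _ ⟨y, hy, rfl⟩
      exact (Subgroup.mem_normalizer_iff.mp htN ⟨y, hT hy⟩).mp hy
    · exact (Subgroup.card_map_of_injective (MulAut.conj t).injective).ge
  obtain ⟨x, rfl⟩ := hπ t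
  have hx := mem_tri_of_map_normalizer p hker htN'
  obtain ⟨k, hk⟩ := T.2 ⟨π x, htT⟩
  have hk' : x ^ p ^ k ∈ (Subgroup.center SLn) := by
    rw [← hker, MonoidHom.mem_ker, map_pow]
    exact congrArg Subtype.val hk
  obtain ⟨r, -, hr⟩ := Matrix.SpecialLinearGroup.mem_center_iff.mp hk'
  have hdiag : ∀ i, (x : Matrix (Fin n) (Fin n) F) i i ^ p ^ k = r := fun i => by
    rw [← tri_pow_diag hx, ← hr, scalar_apply, diagonal_apply_eq]
  obtain ⟨z, hz, u, hu, rfl⟩ := const_diag_decomp hx fun i j =>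
    eq_of_pow_eq p (k := k) ((hdiag i).trans (hdiag j).symm)
  refine htU ⟨u, hu, ?_⟩
  show π u = π (z * u)
  have : π z = 1 := by rw [← MonoidHom.mem_ker, hker]; exact hz
  rw [map_mul, this, one_mul]

theorem map_rad_normal {k k' : Fin n} (hk : (k' : ℕ) = (k : ℕ) + 1) {g : SLn}
    (hg : g ∈ Subgroup.normalizer ((rad k k' hk : Subgroup SLn) : Set SLn)) :
    π g ∈ Subgroup.normalizer (((rad k k' hk).map π : Subgroup G) : Set G) :=
  Subgroup.le_normalizer_map π ⟨g, hg, rfl⟩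

theorem rad_fullyNormalized {P : Sylow p G} (hP : (P : Subgroup G) = uni.map π) {k k' : Fin n}
    (hk : (k' : ℕ) = (k : ℕ) + 1) :
    (groupFusionSystem (P : Subgroup G)).IsFullyNormalized ((rad k k' hk).map π) := by
  have hle : (rad k k' hk).map π ≤ (P : Subgroup G) := hP ▸ Subgroup.map_mono rad_le_uni
  refine ⟨hle, fun Q _ => ?_⟩
  refine le_trans (Nat.le_of_dvd Nat.card_pos (Subgroup.card_dvd_of_le
    (inf_le_left : normalizerIn (P : Subgroup G) Q ≤ P))) (le_of_eq ?_)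
  congr 1
  refine congrArg (fun H : Subgroup G => ↥H) (le_antisymm (le_inf le_rfl ?_) inf_le_left)
  intro y hy
  obtain ⟨u, hu, rfl⟩ := hP.le hy
  exact map_rad_normal p hπ hker hk (uni_le_normalizer_rad hu)

theorem rad_centric (hn : 3 ≤ n) {P : Sylow p G} (hP : (P : Subgroup G) = uni.map π) {k k' : Fin n}
    (hk : (k' : ℕ) = (k : ℕ) + 1) :
    (groupFusionSystem (P : Subgroup G)).IsCentric ((rad k k' hk).map π) := by
  set R := (rad k k' hk).map π with hRdef
  have hle : R ≤ (P : Subgroup G) := hP ▸ Subgroup.map_mono rad_le_uni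
  have hC : Subgroup.centralizer (R : Set G) ≤ R := by
    intro c hc
    obtain ⟨x, rfl⟩ := hπ c
    have hcomm : ∀ r ∈ rad k k' hk, x * r = r * x := by
      intro r hr
      obtain ⟨a, ha⟩ := exists_uni_pow p hr.1
      have h1 : π (x * r * x⁻¹) = π r := by
        rw [map_mul, map_mul, map_inv, ← Subgroup.mem_centralizer_iff.mp hc (π r) ⟨r, hr, rfl⟩]
        group
      have h2 : (x * r * x⁻¹) ^ p ^ a = 1 := by rw [conj_pow, ha, mul_one, mul_inv_cancel]
      exact mul_inv_eq_iff_eq_mul.mp (eq_of_map_eq p hker h2 ha h1)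
    obtain ⟨z, hz, u, hu, rfl⟩ := centralizer_rad hn hk hcomm
    have : π z = 1 := by rw [← MonoidHom.mem_ker, hker]; exact hz
    rw [map_mul, this, one_mul]
    exact ⟨u, hu, rfl⟩
  refine ⟨hle, ?_⟩
  rintro Q ⟨φ, ⟨-, -, g, hg⟩, rfl⟩ y ⟨-, hy⟩
  have : g⁻¹ * y * g ∈ Subgroup.centralizer (R : Set G) := by
    refine Subgroup.mem_centralizer_iff.mpr fun r hr => ?_
    have h1 : φ ⟨r, hr⟩ * y = y * φ ⟨r, hr⟩ := Subgroup.mem_centralizer_iff.mp hy _ ⟨_, rfl⟩
    rw [hg] at h1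
    calc r * (g⁻¹ * y * g) = g⁻¹ * (g * r * g⁻¹ * y) * g := by group
      _ = _ := by rw [h1]; group
  refine ⟨⟨g⁻¹ * y * g, hC this⟩, ?_⟩
  rw [hg]
  group

theorem stronglyClosed_trivial (hn : 3 ≤ n) {P : Sylow p G} (hP : (P : Subgroup G) = uni.map π)
    (T : Subgroup G) (hT : (groupFusionSystem (P : Subgroup G)).StronglyClosed T) : T = ⊥ ∨ T = P := by
  by_cases hT0 : T = ⊥
  · exact Or.inl hT0
  refine Or.inr (le_antisymm hT.1 ?_)
  have hfus : ∀ x ∈ T, ∀ g : G, g * x * g⁻¹ ∈ (P : Subgroup G) → g * x * g⁻¹ ∈ T := by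
    intro x hx g hg
    refine hT.2 (Subgroup.zpowers x) (Subgroup.zpowers_le.mpr hx) (conjHom _ g) ⟨?_, ?_, g, fun y => rfl⟩
      ⟨x, Subgroup.mem_zpowers x⟩
    · exact Subgroup.zpowers_le.mpr (hT.1 hx)
    · rintro ⟨y, m, rfl⟩
      show g * x ^ m * g⁻¹ ∈ _
      rw [← conj_zpow]
      exact Subgroup.zpow_mem _ hg m
  have : (T.subgroupOf (P : Subgroup G)).Normal :=
    ⟨fun t ht g => hfus _ ht g (((P : Subgroup G).mul_mem ((P : Subgroup G).mul_mem g.2 t.2))
      ((P : Subgroup G).inv_mem g.2))⟩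
  have hne : T.subgroupOf (P : Subgroup G) ≠ ⊥ := by
    rw [Ne, Subgroup.subgroupOf_eq_bot, disjoint_iff, inf_of_le_left hT.1]
    exact hT0
  obtain ⟨⟨⟨t, htP⟩, ht⟩, ht1'⟩ := Subgroup.ne_bot_iff_exists_ne_one.mp
    (Cfsg.Agent.PGroup.inf_center_ne_bot P.2 _ hne)
  have ht1 : (⟨t, htP⟩ : (P : Subgroup G)) ≠ 1 := fun h => ht1' (Subtype.ext h)
  obtain ⟨htT, htC⟩ := ht
  obtain ⟨u, hu, rfl⟩ := hP.le htP
  have hcomm : ∀ (i j : Fin n) (hij : i < j),
      u * SpecialLinearGroup.transvection hij.ne (1 : F) = SpecialLinearGroup.transvection hij.ne (1 : F) * u := by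
    intro i j hij
    set r : SLn := SpecialLinearGroup.transvection hij.ne (1 : F)
    obtain ⟨a, ha⟩ := exists_uni_pow p (transvection_mem_uni hij (1 : F))
    have hrP : π r ∈ (P : Subgroup G) := hP.ge ⟨r, transvection_mem_uni hij 1, rfl⟩
    have h0 : π r * π u = π u * π r := congrArg Subtype.val (Subgroup.mem_center_iff.mp htC ⟨π r, hrP⟩)
    have h1 : π (u * r * u⁻¹) = π r := by
      rw [map_mul, map_mul, map_inv, ← h0]; group
    have h2 : (u * r * u⁻¹) ^ p ^ a = 1 := by rw [conj_pow, ha, mul_one, mul_inv_cancel]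
    exact mul_inv_eq_iff_eq_mul.mp (eq_of_map_eq p hker h2 ha h1)
  obtain ⟨z, hz, c, hzc⟩ := centralizer_uni hn hcomm
  set τ : SLn := SpecialLinearGroup.transvection (i := (⟨0, by omega⟩ : Fin n)) (j := ⟨n - 1, by omega⟩)
    (by simp [Fin.ext_iff]; omega) c
  have hπz : π z = 1 := by rw [← MonoidHom.mem_ker, hker]; exact hz
  have hut : π u = π τ := by rw [hzc, map_mul, hπz, one_mul]
  have hc : c ≠ 0 := fun h0 => by
    refine ht1 (Subtype.ext ?_)
    show π u = 1
    rw [hut]; simp [τ, h0]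
  refine hP.le.trans ?_
  rw [Subgroup.map_le_iff_le_comap]
  refine uni_le_of_transvection_mem fun i j hij b => ?_
  rw [Subgroup.mem_comap]
  by_cases hb : b = 0
  · simp [hb]
  obtain ⟨g, hg⟩ := exists_conj_transvection hn (x := c) (y := b) (a := (⟨0, by omega⟩ : Fin n))
    (b := ⟨n - 1, by omega⟩) (by simp [Fin.ext_iff]; omega) hij.ne hc hb
  have h1 : π (SpecialLinearGroup.transvection hij.ne b) = π g * π u * (π g)⁻¹ := by
    rw [hut, ← hg, map_mul, map_mul, map_inv]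
  rw [h1]
  refine hfus (π u) htT _ ?_
  rw [← h1, hP]
  exact ⟨_, transvection_mem_uni hij b, rfl⟩

theorem ne_bot (hn : 3 ≤ n) {P : Sylow p G} (hP : (P : Subgroup G) = uni.map π) : (P : Subgroup G) ≠ ⊥ := by
  have h01 : (⟨0, by omega⟩ : Fin n) < ⟨1, by omega⟩ := by simp [Fin.lt_def]
  intro h
  have h1 : π (SpecialLinearGroup.transvection h01.ne (1 : F)) ∈ (P : Subgroup G) :=
    hP.ge ⟨_, transvection_mem_uni h01 1, rfl⟩
  rw [h, Subgroup.mem_bot, ← MonoidHom.mem_ker, hker, SpecialLinearGroup.transvection_mem_center_iff] at h1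
  exact one_ne_zero h1

open Cfsg.Agent.Fusion.GroupSimple in
theorem pElts_mem {k k' : Fin n} (hk : (k' : ℕ) = (k : ℕ) + 1) {x : SLn}
    (hx : x ∈ Subgroup.normalizer ((rad k k' hk : Subgroup SLn) : Set SLn)) {m : ℕ} (hxp : x ^ p ^ m = 1) :
    π x ∈ pElts p ((rad k k' hk).map π) := by
  refine Subgroup.subset_closure ⟨map_rad_normal p hπ hker hk hx, ?_⟩
  obtain ⟨j, -, hj⟩ := (Nat.dvd_prime_pow Fact.out).mp
    (orderOf_dvd_of_pow_eq_one (x := π x) (n := p ^ m) (by rw [← map_pow, hxp, map_one]))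
  exact ⟨j, hj⟩

open Cfsg.Agent.Fusion.GroupSimple in
theorem normalizer_le (hn : 3 ≤ n) {P : Sylow p G} (hP : (P : Subgroup G) = uni.map π) :
    Subgroup.normalizer ((P : Subgroup G) : Set G) ≤
      (⨆ (R : Subgroup G) (_ : (groupFusionSystem (P : Subgroup G)).IsFullyNormalized R ∧
          (groupFusionSystem (P : Subgroup G)).IsCentric R),
        pElts p R ⊓ Subgroup.normalizer ((P : Subgroup G) : Set G)) ⊔
      Subgroup.centralizer ((P : Subgroup G) : Set G) := by
  set N := Subgroup.normalizer ((P : Subgroup G) : Set G) with hN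
  set X := ⨆ (R : Subgroup G) (_ : (groupFusionSystem (P : Subgroup G)).IsFullyNormalized R ∧
      (groupFusionSystem (P : Subgroup G)).IsCentric R), pElts p R ⊓ N
  refine le_trans ?_ le_sup_left
  have htriN : ∀ x ∈ (tri : Subgroup SLn), π x ∈ N := fun x hx => by
    rw [hN, hP]
    exact Subgroup.le_normalizer_map π ⟨x, tri_le_normalizer_uni hx, rfl⟩
  have hmemX : ∀ (k k' : Fin n) (hk : (k' : ℕ) = (k : ℕ) + 1) (y : G),
      y ∈ pElts p ((rad k k' hk).map π) → y ∈ N → y ∈ X := fun k k' hk y h1 h2 =>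
    le_iSup₂_of_le (f := fun R (_ : (groupFusionSystem (P : Subgroup G)).IsFullyNormalized R ∧
      (groupFusionSystem (P : Subgroup G)).IsCentric R) => pElts p R ⊓ N) ((rad k k' hk).map π)
      ⟨rad_fullyNormalized p hπ hker hP hk, rad_centric p hπ hker hn hP hk⟩ le_rfl ⟨h1, h2⟩
  intro y hy
  obtain ⟨x, rfl⟩ := hπ y
  have hx : x ∈ tri := mem_tri_of_map_normalizer p hker (by rw [← hP]; exact hy)
  obtain ⟨d, hd, u, hu, rfl, -⟩ := tri_decomp hx
  rw [map_mul]
  refine X.mul_mem ?_ ?_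
  · refine diag_mem_closure d hd (X.comap π) fun k k' hkk hk t ht => ?_
    refine hmemX k k' hk _ ?_ (htriN _ (diag2n_mem_tri hkk t ht))
    have h1 : ∀ c : F, π (SpecialLinearGroup.transvection hkk c) ∈ pElts p ((rad k k' hk).map π) := by
      intro c
      refine pElts_mem p hπ hker hk (uni_le_normalizer_rad (transvection_mem_uni ?_ c)) (m := 1) ?_
      · rw [Fin.lt_def]; omega
      · rw [pow_one]; exact transvection_pow_char p hkk c
    have h2 : ∀ c : F, π (SpecialLinearGroup.transvection hkk.symm c) ∈ pElts p ((rad k k' hk).map π) := by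
      intro c
      refine pElts_mem p hπ hker hk (lower_mem_normalizer_rad hkk.symm c) (m := 1) ?_
      rw [pow_one]; exact transvection_pow_char p hkk.symm c
    rw [Cfsg.Agent.GL.diag2n_eq_prod_transvection, map_mul, map_mul, map_mul, map_mul, map_mul]
    exact mul_mem (mul_mem (mul_mem (mul_mem (mul_mem (h1 _) (h2 _)) (h1 _)) (h1 _)) (h2 _)) (h1 _)
  · obtain ⟨a, ha⟩ := exists_uni_pow p hu
    refine hmemX ⟨0, by omega⟩ ⟨1, by omega⟩ rfl _ (pElts_mem p hπ hker rfl (uni_le_normalizer_rad hu) ha) ?_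
    exact htriN u hu.1

/-- The fusion system of `PSL_n` on a Sylow `p`-subgroup in characteristic `p` is simple. -/
theorem isSimple (hn : 3 ≤ n) {P : Sylow p G} (hP : (P : Subgroup G) = uni.map π)
    (hF : (groupFusionSystem (P : Subgroup G)).IsSaturated p) :
    (groupFusionSystem (P : Subgroup G)).IsSimple p :=
  Cfsg.Agent.Fusion.GroupSimple.isSimple P hF (ne_bot p hπ hker hn hP)
    (stronglyClosed_trivial p hπ hker hn hP) (normalizer_le p hπ hker hn hP)

omit hπ hker in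
/-- Every Sylow subgroup of the quotient is the image of `U` under some surjection with central kernel. -/
theorem exists_map_eq (π₀ : SLn →* G) (hπ₀ : Function.Surjective π₀) (hker₀ : π₀.ker = (Subgroup.center SLn)) (P : Sylow p G) :
    ∃ π' : SLn →* G, Function.Surjective π' ∧ π'.ker = (Subgroup.center SLn) ∧ (P : Subgroup G) = uni.map π' := by
  obtain ⟨T, hT⟩ := ((isPGroup_uni (n := n) (F := F) p).map π₀).exists_le_sylow
  obtain ⟨g, hg⟩ := MulAction.exists_smul_eq G T P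
  refine ⟨(MulAut.conj g).toMonoidHom.comp π₀, (MulAut.conj g).surjective.comp hπ₀, ?_, ?_⟩
  · rw [← hker₀]
    ext x
    simp [MonoidHom.mem_ker]
  · rw [← Subgroup.map_map, ← sylow_eq p hπ₀ hker₀ hT, ← hg, Sylow.coe_subgroup_smul]
    rfl

end Cfsg.Agent.Fusion.PSLSimple
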