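import Cfsg.Agent.Lib.Fusion.PPowerIndex

/-!
Every fusion system over a finite group is realized inside a finite group: equalize the fixed point
numbers of all graphs level by level, after multiplying the biset by `|S × S|`, and take the
permutations commuting with the right coordinate of the resulting stable biset.
-/

set_option autoImplicit false

universe u

namespace Cfsg.Agent.Fusion.Park

open Cfsg Cfsg.FusionSystem MulAction Biset PPowerIndex

variable {Ω : Type u} [Group Ω] {S : Subgroup Ω} {F : FusionSystem S}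

/-- The diagonal. -/
def diag (S : Subgroup Ω) : Subgroup (↥S × ↥S) := graph S S S.subtype

theorem isFGraph_diag : IsFGraph F (diag S) := ⟨S, _, subtype_mem F le_rfl, rfl⟩

/-- A point with diagonal stabilizer. -/
def HasDiag (X : FSet F) : Prop := ∃ y : X.carrier, stabilizer (↥S × ↥S) y = diag S

variable [Finite S]

theorem hasDiag_addOrbits {X : FSet F} (h : HasDiag X) (m : ℕ) {L : Subgroup (↥S × ↥S)}
    (hL : IsFGraph F L) : HasDiag (X.addOrbits m hL) := by
  obtain ⟨y, hy⟩ := h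
  refine ⟨Sum.inl y, ?_⟩
  rw [← hy]
  ext g
  show g • (Sum.inl y : X.carrier ⊕ (Σ _ : Fin m, (↥S × ↥S) ⧸ L)) = Sum.inl y ↔ g • y = y
  rw [Sum.smul_inl, Sum.inl.injEq]

/-- `k` copies. -/
noncomputable def copies (X : FSet F) (k : ℕ) : FSet F where
  carrier := Σ _ : Fin k, X.carrier
  stab := by
    rintro ⟨i, y⟩
    have h : stabilizer (↥S × ↥S) (⟨i, y⟩ : Σ _ : Fin k, X.carrier) = stabilizer (↥S × ↥S) y := by
      ext g
      rw [mem_stabilizer_iff, mem_stabilizer_iff, Sigma.smul_mk, Sigma.mk.injEq]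
      exact ⟨fun h => eq_of_heq h.2, fun h => ⟨rfl, heq_of_eq h⟩⟩
    rw [h]
    exact X.stab y

theorem fix_copies (X : FSet F) (k : ℕ) (K : Subgroup (↥S × ↥S)) :
    (copies X k).fix K = k * X.fix K := by
  show Nat.card (fixedPoints K (Σ _ : Fin k, X.carrier)) = _
  rw [show k * X.fix K = Nat.card (Fin k × fixedPoints K X.carrier) by
    rw [Nat.card_prod, Nat.card_fin]; rfl]
  refine Nat.card_congr
    { toFun := fun z => (z.1.1, ⟨z.1.2, fun g => eq_of_heq (Sigma.mk.inj (z.2 g)).2⟩)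
      invFun := fun w => ⟨⟨w.1, w.2.1⟩, fun g => congrArg (Sigma.mk w.1) (w.2.2 g)⟩
      left_inv := fun z => rfl
      right_inv := fun w => rfl }

theorem hasDiag_copies {X : FSet F} (h : HasDiag X) {k : ℕ} (hk : 0 < k) :
    HasDiag (copies X k) := by
  obtain ⟨y, hy⟩ := h
  refine ⟨⟨⟨0, hk⟩, y⟩, ?_⟩
  rw [← hy]
  ext g
  show g • (⟨⟨0, hk⟩, y⟩ : Σ _ : Fin k, X.carrier) = ⟨⟨0, hk⟩, y⟩ ↔ g • y = y
  rw [Sigma.smul_mk, Sigma.mk.injEq]
  exact ⟨fun h => eq_of_heq h.2, fun h => ⟨rfl, heq_of_eq h⟩⟩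

/-- The empty biset. -/
def emptySet : FSet F where
  carrier := PEmpty.{u + 1}
  action := { smul := fun _ x => x, one_smul := fun _ => rfl, mul_smul := fun _ _ _ => rfl }
  stab := fun x => PEmpty.elim x

/-- The empty biset with one diagonal orbit added. -/
theorem exists_hasDiag : ∃ X : FSet F, HasDiag X := by
  refine ⟨(emptySet (F := F)).addOrbits 1 (isFGraph_diag (F := F)),
    Sum.inr ⟨0, ((1 : ↥S × ↥S) : (↥S × ↥S) ⧸ diag S)⟩, ?_⟩
  ext g
  show g • (Sum.inr ⟨0, ((1 : ↥S × ↥S) : (↥S × ↥S) ⧸ diag S)⟩ :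
    (emptySet (F := F)).carrier ⊕ (Σ _ : Fin 1, (↥S × ↥S) ⧸ diag S)) = _ ↔ _
  rw [Sum.smul_inr, Sum.inr.injEq, Sigma.smul_mk, Sigma.mk.injEq]
  refine ⟨fun h => ?_, fun h => ⟨rfl, heq_of_eq ?_⟩⟩
  · have h1 := QuotientGroup.eq.1 (eq_of_heq h.2).symm
    simpa using h1
  · refine (QuotientGroup.eq.2 ?_).symm
    simpa using h

/-- Adding orbits makes the fixed point numbers of the graphs of order `n` equal to `T`. -/
theorem equalize {n T : ℕ} : ∀ (d : ℕ) (Y : FSet F), HasDiag Y → Y.Stable (n + 1) →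
    Nat.card {K : Subgroup (↥S × ↥S) // IsFGraph F K ∧ Nat.card K = n ∧ Y.fix K ≠ T} ≤ d →
    (∀ K, IsFGraph F K → Nat.card K = n →
      Y.fix K ≤ T ∧ Nat.card (↥S × ↥S) ∣ T - Y.fix K) →
    ∃ Z : FSet F, HasDiag Z ∧ Z.Stable n := by
  intro d
  induction d using Nat.strong_induction_on with
  | _ d ih =>
  intro Y hY hYs hd hYT
  by_cases hdone : ∀ K, IsFGraph F K → Nat.card K = n → Y.fix K = T
  · refine ⟨Y, hY, fun P φ hφ hP => ?_⟩
    rcases eq_or_lt_of_le hP with hP' | hP'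
    · rw [hdone _ ⟨P, φ, hφ, rfl⟩ (by rw [card_graph hφ, ← hP']),
        hdone _ (isFGraph_range_subtype hφ)
          (by rw [card_graph (subtype_mem F (range_le hφ)), card_range hφ, ← hP'])]
    · exact hYs P φ hφ hP'
  push Not at hdone
  obtain ⟨L, hL, hLc, hLne⟩ := hdone
  obtain ⟨hle, hdvd⟩ := hYT L hL hLc
  obtain ⟨m, hm⟩ := (orbitFix_self_dvd L).trans hdvd
  have hzero : ∀ K : Subgroup (↥S × ↥S), n ≤ Nat.card K →
      (¬ ∃ v : ↥S × ↥S, K = L.map (MulAut.conj v).toMonoidHom) → orbitFix K L = 0 := by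
    intro K hK hne
    by_contra h0
    obtain ⟨v, hv⟩ := exists_conj_le_of_orbitFix h0
    exact hne ⟨v, Subgroup.eq_of_le_of_card_ge hv
      (by rw [Subgroup.card_map_of_injective (MulAut.conj v).injective, hLc]; exact hK)⟩
  have hconjval : ∀ v : ↥S × ↥S,
      (Y.addOrbits m hL).fix (L.map (MulAut.conj v).toMonoidHom) = T := by
    intro v
    rw [fix_addOrbits, orbitFix_conj, show Y.fix (L.map (MulAut.conj v).toMonoidHom) = Y.fix L
      from fix_conj L v, mul_comm m, ← hm]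
    omega
  have hother : ∀ K : Subgroup (↥S × ↥S), n ≤ Nat.card K →
      (¬ ∃ v : ↥S × ↥S, K = L.map (MulAut.conj v).toMonoidHom) →
        (Y.addOrbits m hL).fix K = Y.fix K := by
    intro K hK hne
    rw [fix_addOrbits, hzero K hK hne, mul_zero, add_zero]
  have hbig : ∀ K : Subgroup (↥S × ↥S), n + 1 ≤ Nat.card K →
      (Y.addOrbits m hL).fix K = Y.fix K := by
    intro K hK
    refine hother K (by omega) ?_
    rintro ⟨v, rfl⟩
    rw [Subgroup.card_map_of_injective (MulAut.conj v).injective, hLc] at hK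
    omega
  refine ih (Nat.card {K : Subgroup (↥S × ↥S) //
    IsFGraph F K ∧ Nat.card K = n ∧ (Y.addOrbits m hL).fix K ≠ T}) ?_ _
    (hasDiag_addOrbits hY m hL) ?_ le_rfl ?_
  · refine lt_of_lt_of_le ?_ hd
    refine (Set.Finite.card_lt_card (Set.toFinite _) ?_ :
      Nat.card {K : Subgroup (↥S × ↥S) | IsFGraph F K ∧ Nat.card K = n ∧
          (Y.addOrbits m hL).fix K ≠ T} <
        Nat.card {K : Subgroup (↥S × ↥S) | IsFGraph F K ∧ Nat.card K = n ∧ Y.fix K ≠ T})
    refine ⟨fun K hK => ?_, fun h => ?_⟩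
    · obtain ⟨hK1, hK2, hK3⟩ := hK
      refine ⟨hK1, hK2, ?_⟩
      by_cases hv : ∃ v : ↥S × ↥S, K = L.map (MulAut.conj v).toMonoidHom
      · obtain ⟨v, rfl⟩ := hv
        exact absurd (hconjval v) hK3
      · rwa [hother K hK2.ge hv] at hK3
    · have h2 := (h ⟨hL, hLc, hLne⟩).2.2
      have h3 := hconjval 1
      rw [show L.map (MulAut.conj (1 : ↥S × ↥S)).toMonoidHom = L by
        rw [map_one]; exact Subgroup.map_id L] at h3
      exact h2 h3
  · intro P φ hφ hP
    rw [hbig _ (by rw [card_graph hφ]; exact hP),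
      hbig _ (by rw [card_graph (subtype_mem F (range_le hφ)), card_range hφ]; exact hP)]
    exact hYs P φ hφ hP
  · intro K hK hKc
    by_cases hv : ∃ v : ↥S × ↥S, K = L.map (MulAut.conj v).toMonoidHom
    · obtain ⟨v, rfl⟩ := hv
      rw [hconjval v]
      exact ⟨le_rfl, by simp⟩
    · rw [hother K hKc.ge hv]
      exact hYT K hK hKc

/-- One level down. -/
theorem exists_stable_step {n : ℕ} {X : FSet F} (hX : HasDiag X) (hXs : X.Stable (n + 1)) :
    ∃ Z : FSet F, HasDiag Z ∧ Z.Stable n := by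
  refine equalize (T := Nat.card (↥S × ↥S) * Nat.card X.carrier) _
    (copies X (Nat.card (↥S × ↥S))) (hasDiag_copies hX Nat.card_pos) ?_ le_rfl ?_
  · intro P φ hφ hP
    rw [fix_copies, fix_copies, hXs P φ hφ hP]
  · intro K _ _
    rw [fix_copies, ← Nat.mul_sub]
    exact ⟨Nat.mul_le_mul_left _ (Nat.card_le_card_of_injective _ Subtype.val_injective),
      dvd_mul_right _ _⟩

/-- A stable biset with a diagonal point. -/
theorem exists_stable : ∃ X : FSet F, HasDiag X ∧ X.Stable 0 := by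
  suffices H : ∀ j ≤ Nat.card S + 1, ∃ X : FSet F, HasDiag X ∧ X.Stable (Nat.card S + 1 - j) by
    obtain ⟨X, hX, hs⟩ := H _ le_rfl
    exact ⟨X, hX, Nat.sub_self (Nat.card S + 1) ▸ hs⟩
  intro j
  induction j with
  | zero =>
    intro _
    obtain ⟨X, hX⟩ := exists_hasDiag (F := F)
    refine ⟨X, hX, fun P φ hφ hP => ?_⟩
    have := card_le_of_le (Ω := Ω) (S := S) le_rfl (dom_le hφ)
    omega
  | succ j ih =>
    intro hj
    obtain ⟨X, hX, hs⟩ := ih (by omega)
    exact exists_stable_step hX (n := Nat.card S + 1 - (j + 1))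
      (show X.Stable _ by rwa [show Nat.card S + 1 - (j + 1) + 1 = Nat.card S + 1 - j by omega])

/-- Every fusion system over a finite group is realized inside a finite group. -/
theorem exists_realizing (F : FusionSystem S) :
    ∃ (G : Type u) (_ : Group G) (_ : Finite G) (ι : ↥S →* G), F.IsRealizedBy ι := by
  obtain ⟨X, ⟨y, hy⟩, hs⟩ := exists_stable (F := F)
  have hfix : ∀ s : S, (s, s) • y = y := fun s =>
    mem_stabilizer_iff.1 (hy.symm ▸ (⟨s.2, rfl⟩ : (s, s) ∈ diag S))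
  refine ⟨eqv X, inferInstance, inferInstance, leftMul X, ?_, fun P hP φ hφ => ⟨fun hm => ?_, ?_⟩⟩
  · intro s t hst
    have h1 : (t⁻¹ * s, (1 : S)) • y = y := by
      have h := congrArg (fun e : eqv X => (e : Equiv.Perm X.carrier) y)
        (show leftMul X (t⁻¹ * s) = 1 by rw [map_mul, map_inv, hst, inv_mul_cancel])
      exact h
    obtain ⟨_, h2⟩ : (t⁻¹ * s, (1 : S)) ∈ diag S := hy ▸ mem_stabilizer_iff.2 h1
    exact (inv_mul_eq_one.1 (Subtype.ext h2 : t⁻¹ * s = 1)).symm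
  · obtain ⟨e, he⟩ := exists_twist_equiv hs hm
    refine ⟨⟨e, fun b z => ?_⟩, fun x => ?_⟩
    · have h := he ((1 : P), b) z
      rw [show incl S (dom_le hm) ((1 : P), b) = ((1 : S), b) from
        Prod.ext (Subtype.ext rfl) rfl,
        show twist hm ((1 : P), b) = ((1 : S), b) from Prod.ext (Subtype.ext (map_one φ)) rfl] at h
      exact h
    · rw [eq_mul_inv_iff_mul_eq]
      exact Subtype.ext (Equiv.ext fun z => (he (x, (1 : S)) z).symm)
  · rintro ⟨g, hg⟩
    set z := (g : Equiv.Perm X.carrier) y with hz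
    obtain ⟨P', ψ, hψ, he⟩ := X.stab z
    have hmem : ∀ x : P, ∃ h : φ x ∈ P', ψ ⟨φ x, h⟩ = (x : Ω) := by
      intro x
      set s : S := ⟨x, hP x.2⟩
      set t : S := ⟨φ x, hφ x⟩
      have hgx : (g : Equiv.Perm X.carrier) ((s, (1 : S)) • y) = (t, (1 : S)) • z := by
        have h := congrArg (fun e : eqv X => (e : Equiv.Perm X.carrier) y)
          (eq_mul_inv_iff_mul_eq.1 (hg x))
        exact h.symm
      have hzfix : (t, s) • z = z := by
        calc (t, s) • z = ((1 : S), s) • (t, (1 : S)) • z := by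
              rw [← mul_smul]; simp
          _ = (g : Equiv.Perm X.carrier) (((1 : S), s) • (s, (1 : S)) • y) := by rw [← hgx, g.2]
          _ = z := by rw [← mul_smul, show ((1 : S), s) * (s, (1 : S)) = (s, s) by simp, hfix]
      exact (he ▸ mem_stabilizer_iff.2 hzfix : (t, s) ∈ graph S P' ψ)
    have hle : φ.range ≤ P' := by
      rintro _ ⟨x, rfl⟩
      exact (hmem x).1
    have hres := restrict_mem hψ hle
    obtain ⟨χ, hχ, hχψ⟩ := F.inv_mem hres
    have hrange : P ≤ (ψ.comp (Subgroup.inclusion hle)).range := fun x hx =>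
      ⟨⟨φ ⟨x, hx⟩, ⟨x, hx⟩, rfl⟩, (hmem ⟨x, hx⟩).2⟩
    have heq : φ = χ.comp (Subgroup.inclusion hrange) := by
      ext x
      show φ x = χ ⟨(x : Ω), hrange x.2⟩
      exact (hχψ ⟨φ x, ⟨x, rfl⟩⟩).symm.trans (congrArg χ (Subtype.ext (hmem x).2))
    rw [heq]
    exact restrict_mem hχ hrange

end Cfsg.Agent.Fusion.Park
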