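import Mathlib
import Cfsg.Agent.Lib.SylowCount.Basic
import Cfsg.Prelude.Def_FusionSystem

/-!
If the elements of a Sylow `p`-subgroup `T` of `A` act on an abelian group `V` with
`(x - 1) ^ (n (p - 1) + 1) = 0`, then every `p`-element of `A` fixes `p ^ n • v` for every
`v` fixed by `T`.
-/

set_option autoImplicit false

namespace Cfsg.Agent.Fusion

open scoped Pointwise

open Polynomial in
theorem exists_one_add_pow_prime {p : ℕ} (hp : p.Prime) :
    ∃ s : ℤ[X], (1 + X) ^ p = 1 + X ^ p + (p : ℤ[X]) * X * (1 + X * s) := by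
  obtain ⟨r, hr⟩ := exists_add_pow_prime_eq hp (1 : ℤ[X]) X
  rw [one_pow, mul_one] at hr
  have hr0 : r.coeff 0 = 1 := by
    have h := congrArg (fun q : ℤ[X] => q.coeff 1) hr
    simp only [coeff_add, coeff_one_add_X_pow, coeff_one, coeff_X_pow, Nat.choose_one_right,
      one_ne_zero, if_false, zero_add] at h
    rw [if_neg hp.one_lt.ne, zero_add, show (p : ℤ[X]) * X * r = C (p : ℤ) * (X * r) by simp [mul_assoc],
      coeff_C_mul, show (1 : ℕ) = 0 + 1 from rfl, coeff_X_mul] at h
    have : (p : ℤ) * r.coeff 0 = (p : ℤ) * 1 := by rw [mul_one]; simpa using h.symm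
    exact mul_left_cancel₀ (by exact_mod_cast hp.ne_zero) this
  refine ⟨r.divX, ?_⟩
  rw [hr]
  congr 2
  conv_lhs => rw [← X_mul_divX_add r, hr0, C_1]
  ring

theorem pow_mul_eq_zero_of_comm {R : Type*} [CommRing R] {p : ℕ} (hp : p.Prime) {y : R}
    (h1 : (1 + y) ^ p = 1) {n c : ℕ} (hc : c ≤ n * (p - 1) + 1) (h2 : y ^ c = 0) :
    (p : R) ^ n * y = 0 := by
  obtain ⟨s, hs⟩ := exists_one_add_pow_prime hp
  replace hs := congrArg (Polynomial.aeval (R := ℤ) y) hs
  simp only [map_add, map_mul, map_pow, map_one, Polynomial.aeval_X, map_natCast] at hs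
  rw [h1] at hs
  obtain ⟨u, hu⟩ := IsNilpotent.isUnit_one_add
    (Commute.isNilpotent_mul_right (Commute.all y (Polynomial.aeval y s)) ⟨c, h2⟩)
  rw [← hu] at hs
  have hstep : (p : R) * y = y ^ p * (-↑u⁻¹) :=
    (Units.mul_left_inj u).1 (by rw [mul_assoc (y ^ p), neg_mul, Units.inv_mul]; linear_combination -hs)
  have key : ∀ j, (p : R) ^ j * y = y ^ (j * (p - 1) + 1) * (-↑u⁻¹) ^ j := by
    intro j
    induction j with
    | zero => simp
    | succ j ih =>
      have hexp : (j + 1) * (p - 1) + 1 = j * (p - 1) + p := by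
        have := hp.one_lt; rw [add_mul, one_mul]; omega
      calc (p : R) ^ (j + 1) * y = ((p : R) * y) * (y ^ (j * (p - 1)) * (-↑u⁻¹) ^ j) := by
            rw [pow_succ', mul_assoc, ih, pow_succ]; ring
        _ = _ := by rw [hstep, hexp, pow_add, pow_succ]; ring
  rw [key n, pow_eq_zero_of_le hc h2, zero_mul]

theorem pow_mul_sub_one_eq_zero {R : Type*} [Ring R] {p : ℕ} (hp : p.Prime) {x : R}
    (h1 : x ^ p = 1) {n c : ℕ} (hc : c ≤ n * (p - 1) + 1) (h2 : (x - 1) ^ c = 0) :
    (p : R) ^ n * (x - 1) = 0 := by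
  have hcomm : ∀ a ∈ ({x - 1} : Set R), ∀ b ∈ ({x - 1} : Set R), a * b = b * a := by
    intro a ha b hb
    rw [Set.mem_singleton_iff.1 ha, Set.mem_singleton_iff.1 hb]
  letI : CommRing (Subring.closure ({x - 1} : Set R)) := Subring.closureCommRingOfComm hcomm
  have hy : x - 1 ∈ Subring.closure ({x - 1} : Set R) := Subring.subset_closure rfl
  have := pow_mul_eq_zero_of_comm hp (R := Subring.closure ({x - 1} : Set R))
    (y := ⟨x - 1, hy⟩) (Subtype.ext (by push_cast; rw [add_sub_cancel, h1])) hc
    (Subtype.ext (by push_cast; exact h2))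
  simpa using congrArg Subtype.val this

variable {A V : Type*} [Group A] [AddCommGroup V]

/-- The elements of `A` fixing a given vector. -/
def fixer (ρ : A →* AddMonoid.End V) (v : V) : Subgroup A where
  carrier := {a | ρ a v = v}
  one_mem' := by simp
  mul_mem' := fun {a b} ha hb => by
    show ρ (a * b) v = v
    rw [map_mul]
    show ρ a (ρ b v) = v
    rw [hb, ha]
  inv_mem' := fun {a} ha => by
    show ρ a⁻¹ v = v
    have h := congrArg (fun e : AddMonoid.End V => e v) (show ρ a⁻¹ * ρ a = 1 by rw [← map_mul, inv_mul_cancel, map_one])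
    simp only [AddMonoid.End.coe_mul, Function.comp_apply, AddMonoid.End.coe_one, id_eq] at h
    rw [ha] at h
    exact h

@[simp] theorem mem_fixer {ρ : A →* AddMonoid.End V} {v : V} {a : A} :
    a ∈ fixer ρ v ↔ ρ a v = v := Iff.rfl

variable [Finite A] {p : ℕ} [hp : Fact p.Prime]

/-- The main induction: `D` is a normal `p`-subgroup of `H` below the Sylow subgroup `T`. -/
theorem pElement_fixes_aux (ρ : A →* AddMonoid.End V) {n c : ℕ} (hc : c ≤ n * (p - 1) + 1) :
    ∀ (m : ℕ) (H : Subgroup A) (D : Subgroup H) (T : Sylow p H),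
      D.Normal → D ≤ T → D.index ≤ m →
      (∀ t : H, t ∈ T → (ρ (t : A) - 1) ^ c = 0) →
      ∀ v : V, (∀ t : H, t ∈ T → ρ (t : A) v = v) →
      ∀ h : H, (∃ k, h ^ p ^ k = 1) → ρ (h : A) (p ^ n • v) = p ^ n • v := by
  intro m
  induction m with
  | zero =>
    intro H D T _ _ hm
    exact absurd (Nat.le_zero.1 hm) Subgroup.index_ne_zero_of_finite
  | succ m ih =>
    intro H D T hD hDT hm hdeg v hv h hh
    by_cases hTD : (T : Subgroup H) = D
    · -- `T` is normal, so it contains every `p`-element
      have : (T : Subgroup H).Normal := hTD ▸ hD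
      have hcl : IsPGroup p (Subgroup.zpowers h) := by
        obtain ⟨k, hk⟩ := hh
        obtain ⟨j, -, hj⟩ := (Nat.dvd_prime_pow hp.out).1 (orderOf_dvd_of_pow_eq_one hk)
        exact IsPGroup.of_card (n := j) (by rw [Nat.card_zpowers, hj])
      obtain ⟨Q, hQ⟩ := hcl.exists_le_sylow
      have := Sylow.unique_of_normal T inferInstance
      have hhT : h ∈ T := by
        rw [show T = Q from Subsingleton.elim _ _]
        exact hQ (Subgroup.mem_zpowers h)
      rw [map_nsmul, hv h hhT]
    · -- an element of order `p` modulo `D`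
      obtain ⟨x, hxT, hxD, hxp⟩ : ∃ x : H, x ∈ T ∧ x ∉ D ∧ x ^ p ∈ D := by
        obtain ⟨t, htT, htD⟩ := SetLike.exists_of_lt (lt_of_le_of_ne hDT (Ne.symm hTD))
        obtain ⟨k, hk⟩ := T.2 ⟨t, htT⟩
        have hk' : t ^ p ^ k = 1 := congrArg Subtype.val hk
        classical
        have hex : ∃ j, t ^ p ^ j ∈ D := ⟨k, by rw [hk']; exact D.one_mem⟩
        have hj := Nat.find_spec hex
        have hpos : Nat.find hex ≠ 0 := fun h0 => htD (by rw [h0, pow_zero, pow_one] at hj; exact hj)
        refine ⟨t ^ p ^ (Nat.find hex - 1), pow_mem htT _, Nat.find_min hex (by omega), ?_⟩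
        rw [← pow_mul, ← pow_succ, Nat.sub_add_cancel (Nat.pos_of_ne_zero hpos)]
        exact hj
      -- `K`: fixes `p ^ n • w` for all `w` fixed by `D`
      let W : Set V := {w | ∀ d : H, d ∈ D → ρ (d : A) w = w}
      let K : Subgroup H := ⨅ w ∈ W, (fixer ρ (p ^ n • w)).comap H.subtype
      have memK : ∀ a : H, a ∈ K ↔ ∀ w ∈ W, ρ (a : A) (p ^ n • w) = p ^ n • w := fun a => by
        simp only [K, Subgroup.mem_iInf]
        rfl
      have hW : ∀ (a : H), ∀ w ∈ W, ρ (a : A) w ∈ W := by
        intro a w hw d hd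
        have h1 := hw (a⁻¹ * d * a) (hD.conj_mem' d hd a)
        have hmul : ((a : A) * (a⁻¹ * d * a : H)) = (d : A) * a := by push_cast; group
        calc ρ (d : A) (ρ (a : A) w) = ρ ((d : A) * a) w := by rw [map_mul]; rfl
          _ = ρ ((a : A) * (a⁻¹ * d * a : H)) w := by rw [hmul]
          _ = ρ (a : A) w := by rw [map_mul]; exact congrArg _ h1
      have hKnorm : K.Normal := ⟨fun a ha g => by
        rw [memK]
        intro w hw
        have h1 := (memK a).1 ha _ (hW g⁻¹ w hw)
        rw [show ((g * a * g⁻¹ : H) : A) = (g : A) * a * ((g⁻¹ : H) : A) by push_cast; rfl,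
          map_mul, map_mul]
        show ρ (g : A) (ρ (a : A) (ρ ((g⁻¹ : H) : A) (p ^ n • w))) = _
        rw [map_nsmul (ρ ((g⁻¹ : H) : A)), h1, map_nsmul (ρ (g : A))]
        congr 1
        show (ρ (g : A) * ρ ((g⁻¹ : H) : A)) w = w
        rw [← map_mul]
        simp⟩
      have hxK : x ∈ K := by
        rw [memK]
        intro w hw
        have hmem := hW x
        let W' : AddSubgroup V :=
          { carrier := W
            zero_mem' := fun d _ => map_zero _
            add_mem' := fun {a b} ha hb d hd => by rw [map_add, ha d hd, hb d hd]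
            neg_mem' := fun {a} ha d hd => by rw [map_neg, ha d hd] }
        let f : AddMonoid.End W' :=
          { toFun := fun w => ⟨ρ (x : A) w, hmem _ w.2⟩
            map_zero' := Subtype.ext (map_zero _)
            map_add' := fun a b => Subtype.ext (map_add _ _ _) }
        have hpow : ∀ (j : ℕ) (w : W'), (((f ^ j) w : W') : V) = ρ ((x ^ j : H) : A) w := by
          intro j
          induction j with
          | zero => intro w; simp
          | succ j ihj =>
            intro w
            rw [pow_succ', pow_succ', Subgroup.coe_mul, map_mul]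
            show ρ (x : A) (((f ^ j) w : W') : V) = _
            rw [ihj w]
            rfl
        have hsub : ∀ (j : ℕ) (w : W'),
            ((((f - 1) ^ j) w : W') : V) = ((ρ (x : A) - 1) ^ j) (w : V) := by
          intro j
          induction j with
          | zero => intro w; simp
          | succ j ihj =>
            intro w
            rw [pow_succ', pow_succ']
            show (((f - 1) (((f - 1) ^ j) w) : W') : V) = (ρ (x : A) - 1) (((ρ (x : A) - 1) ^ j) (w : V))
            rw [← ihj w]
            rfl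
        have hzero : (p : AddMonoid.End W') ^ n * (f - 1) = 0 := by
          refine pow_mul_sub_one_eq_zero hp.out ?_ hc ?_
          · exact AddMonoidHom.ext fun w => Subtype.ext ((hpow p w).trans (w.2 (x ^ p) hxp))
          · refine AddMonoidHom.ext fun w => Subtype.ext ?_
            exact (hsub c w).trans (by rw [hdeg x hxT]; rfl)
        have hw' := congrArg (fun e : AddMonoid.End W' => ((e ⟨w, hw⟩ : W') : V)) hzero
        rw [← Nat.cast_pow] at hw'
        simp only [AddMonoid.End.coe_mul, Function.comp_apply, AddMonoid.End.natCast_apply] at hw'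
        have h2 : p ^ n • (ρ (x : A) w - w) = 0 := hw'
        rw [smul_sub, sub_eq_zero] at h2
        rw [map_nsmul]
        exact h2
      have hDK : D ≤ K := fun d hd => (memK d).2 fun w hw => by rw [map_nsmul, hw d hd]
      -- `D' = T ∩ K`
      let D' : Subgroup H := (T : Subgroup H) ⊓ K
      have hlt : D < D' := lt_of_le_of_ne (le_inf hDT hDK) fun he => hxD (he ▸ ⟨hxT, hxK⟩)
      by_cases hD' : D'.Normal
      · refine ih H D' T hD' inf_le_left ?_ hdeg v hv h hh
        have := Subgroup.index_strictAnti hlt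
        omega
      · let N : Subgroup H := Subgroup.normalizer (D' : Set H)
        have hTN : (T : Subgroup H) ≤ N := by
          intro t ht
          refine Subgroup.mem_normalizer_iff.2 fun y => ?_
          constructor
          · rintro ⟨hyT, hyK⟩
            exact ⟨mul_mem (mul_mem ht hyT) ((T : Subgroup H).inv_mem ht), hKnorm.conj_mem y hyK t⟩
          · rintro ⟨hyT, hyK⟩
            have h1 : t⁻¹ * (t * y * t⁻¹) * t = y := by group
            exact ⟨h1 ▸ mul_mem (mul_mem ((T : Subgroup H).inv_mem ht) hyT) ht, h1 ▸ hKnorm.conj_mem' _ hyK t⟩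
        let ι : N →* A := H.subtype.comp N.subtype
        let N' : Subgroup A := N.map H.subtype
        -- the induction hypothesis inside `N`
        have hNfix : ∀ u : H, u ∈ N → (∃ k, u ^ p ^ k = 1) → ρ (u : A) (p ^ n • v) = p ^ n • v := by
          intro u hu huk
          let e : N ≃* N' := N.equivMapOfInjective H.subtype H.subtype_injective
          have hval : ∀ a : N, ((e a : N') : A) = ((a : H) : A) := fun a => rfl
          let TN : Sylow p N := T.subtype hTN
          let T' : Sylow p N' := TN.mapSurjective (f := e.toMonoidHom) e.surjective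
          let DN : Subgroup N := D.subgroupOf N
          have hidx : (DN.map e.toMonoidHom).index < D.index := by
            rw [show DN.map e.toMonoidHom = DN.map (e : N →* N') from rfl, Subgroup.index_map_equiv]
            show D.relIndex N < D.index
            rw [← Subgroup.relIndex_mul_index ((hDT.trans hTN))]
            refine (lt_mul_iff_one_lt_right (Nat.pos_of_ne_zero Subgroup.index_ne_zero_of_finite)).2 ?_
            refine (Subgroup.one_lt_index_of_ne_top ?_)
            intro htop
            exact hD' (Subgroup.normalizer_eq_top_iff.1 htop)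
          have hmem : ∀ t : N', t ∈ T' → ((e.symm t : N) : H) ∈ T := by
            rintro t ⟨a, ha, rfl⟩
            show ((e.symm (e a) : N) : H) ∈ T
            rw [MulEquiv.symm_apply_apply]
            exact ha
          have := ih N' (DN.map e.toMonoidHom) T' ((hD.subgroupOf N).map _ e.surjective)
            (Subgroup.map_mono fun a ha => hDT ha) (by omega)
            (fun t ht => by
              have := hdeg _ (hmem t ht)
              rwa [← hval, MulEquiv.apply_symm_apply] at this)
            v (fun t ht => by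
              have := hv _ (hmem t ht)
              rwa [← hval, MulEquiv.apply_symm_apply] at this)
            (e ⟨u, hu⟩) (by
              obtain ⟨k, hk⟩ := huk
              exact ⟨k, by rw [← map_pow, show (⟨u, hu⟩ : N) ^ p ^ k = 1 from Subtype.ext hk, map_one]⟩)
          exact this
        -- Frattini: `H = K N`
        have hsup : N ⊔ K = ⊤ := by
          have : K.Normal := hKnorm
          obtain ⟨PK, hPK⟩ : ∃ PK : Sylow p K, (PK : Subgroup K).map K.subtype = D' := by
            obtain ⟨PK, hPK⟩ := SylowCount.exists_sylow_inf T K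
            refine ⟨PK, ?_⟩
            rw [hPK, Subgroup.subgroupOf_map_subtype]
          have := Sylow.normalizer_sup_eq_top PK
          rwa [hPK] at this
        have hnorm : (↑(N ⊔ K) : Set H) = (K : Set H) * (N : Set H) := by
          have : K.Normal := hKnorm
          rw [sup_comm]
          exact Subgroup.normal_mul K N
        obtain ⟨k0, hk0⟩ := hh
        obtain ⟨j, -, hj⟩ := (Nat.dvd_prime_pow hp.out).1 (orderOf_dvd_of_pow_eq_one hk0)
        obtain ⟨Q, hQ⟩ := (IsPGroup.of_card (p := p) (n := j)
          (by rw [Nat.card_zpowers, hj]) : IsPGroup p (Subgroup.zpowers h)).exists_le_sylow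
        obtain ⟨g, hg⟩ := MulAction.exists_smul_eq H T Q
        obtain ⟨k, hk, u, hu, hgku⟩ : ∃ k ∈ K, ∃ u ∈ N, k * u = g :=
          Set.mem_mul.1 (by rw [← hnorm, hsup]; trivial)
        have hhQ : h ∈ (Q : Subgroup H) := hQ (Subgroup.mem_zpowers h)
        have hh' : g⁻¹ * h * g ∈ T := by
          rw [← hg] at hhQ
          rw [Sylow.coe_subgroup_smul] at hhQ
          obtain ⟨t, ht, rfl⟩ := hhQ
          simpa [MulAut.conj, mul_assoc] using ht
        have hu' : u * (g⁻¹ * h * g) * u⁻¹ ∈ N := mul_mem (mul_mem hu (hTN hh')) (inv_mem hu)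
        have hpu : ∃ k, (u * (g⁻¹ * h * g) * u⁻¹) ^ p ^ k = 1 := by
          refine ⟨k0, ?_⟩
          rw [conj_pow, show g⁻¹ * h * g = g⁻¹ * h * g⁻¹⁻¹ by rw [inv_inv], conj_pow, hk0]
          simp
        have hfix : u * (g⁻¹ * h * g) * u⁻¹ ∈ (fixer ρ (p ^ n • v)).comap H.subtype :=
          hNfix _ hu' hpu
        have hvW : v ∈ W := fun d hd => hv d (hDT hd)
        have hkfix : k ∈ (fixer ρ (p ^ n • v)).comap H.subtype := (memK k).1 hk v hvW
        have hh2 : k * (u * (g⁻¹ * h * g) * u⁻¹) * k⁻¹ = h := by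
          rw [← hgku]; group
        exact hh2 ▸ mul_mem (mul_mem hkfix hfix) (inv_mem hkfix)

/-- If `(x - 1) ^ c = 0` on `V` for all `x` in the Sylow `p`-subgroup `T` of `A`, where
`c ≤ n (p - 1) + 1`, then every `p`-element of `A` fixes `p ^ n • v` for all `T`-fixed `v`. -/
theorem pElement_fixes (ρ : A →* AddMonoid.End V) {n c : ℕ} (hc : c ≤ n * (p - 1) + 1)
    (T : Sylow p A) (hdeg : ∀ t ∈ T, (ρ t - 1) ^ c = 0) {v : V} (hv : ∀ t ∈ T, ρ t v = v)
    {a : A} (ha : ∃ k, a ^ p ^ k = 1) : ρ a (p ^ n • v) = p ^ n • v := by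
  let e : A ≃* (⊤ : Subgroup A) := Subgroup.topEquiv.symm
  have hmem : ∀ t : (⊤ : Subgroup A), t ∈ T.mapSurjective (f := e.toMonoidHom) e.surjective → (t : A) ∈ T := by
    rintro _ ⟨b, hb, rfl⟩
    exact hb
  exact pElement_fixes_aux ρ hc _ ⊤ ⊥ (T.mapSurjective (f := e.toMonoidHom) e.surjective) inferInstance bot_le le_rfl
    (fun t ht => hdeg _ (hmem t ht)) v (fun t ht => hv _ (hmem t ht)) ⟨a, trivial⟩
    (ha.imp fun k hk => Subtype.ext hk)

end Cfsg.Agent.Fusion
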