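import Cfsg.Agent.Lib.Fusion.Invariant

/-!
Subsystems of index prime to `p`: the smallest one, the factorization `φ = α φ₀`, and centric
subgroups.
-/

set_option autoImplicit false
set_option linter.unusedSectionVars false

namespace Cfsg.Agent.Fusion

open Cfsg Cfsg.FusionSystem
open scoped Pointwise

variable {Ω : Type*} [Group Ω] {S : Subgroup Ω} {F E : FusionSystem S} {p : ℕ}

/-- The subgroup generated by the elements of `p`-power order is normal. -/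
theorem closure_pElements_normal (A : Type*) [Group A] :
    (Subgroup.closure {a : A | ∃ k : ℕ, orderOf a = p ^ k}).Normal := by
  refine ⟨fun x hx g => ?_⟩
  have hle : (Subgroup.closure {a : A | ∃ k : ℕ, orderOf a = p ^ k}).map
      (MulAut.conj g).toMonoidHom ≤ Subgroup.closure {a : A | ∃ k : ℕ, orderOf a = p ^ k} := by
    rw [MonoidHom.map_closure]
    refine Subgroup.closure_mono ?_
    rintro _ ⟨a, ⟨k, hk⟩, rfl⟩
    exact ⟨k, (MulEquiv.orderOf_eq (MulAut.conj g) a).trans hk⟩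
  exact hle ⟨x, hx, rfl⟩

/-- `E` contains `O^{p'}(Aut_F(P))` for every centric `P`. -/
def IsLargeOnCentric (E F : FusionSystem S) (p : ℕ) : Prop :=
  ∀ P : Subgroup Ω, F.IsCentric P → (Subgroup.closure {α : ↥(F.autGroup P) |
    ∃ k : ℕ, orderOf α = p ^ k}).map (F.autGroup P).subtype ≤ E.autGroup P

theorem pElement_mem_autGroup {X : Subgroup Ω} (hE : IsLargeOnCentric E F p) (hX : F.IsCentric X)
    {a : MulAut X} (ha : a ∈ F.autGroup X) {k : ℕ} (hk : orderOf a = p ^ k) :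
    a ∈ E.autGroup X := by
  refine hE X hX ⟨⟨a, ha⟩, Subgroup.subset_closure ⟨k, ?_⟩, rfl⟩
  rw [← Subgroup.orderOf_coe]
  exact hk

theorem imageOfAut {X : Subgroup Ω} {α : MulAut S} {θ : X →* Ω} (hX : X ≤ S)
    (hθ : ∀ x : X, θ x = ((α ⟨x, hX x.2⟩ : S) : Ω)) :
    θ.range = (X.subgroupOf S).map (S.subtype.comp α.toMonoidHom) := by
  ext y
  constructor
  · rintro ⟨x, rfl⟩
    exact ⟨⟨x, hX x.2⟩, x.2, (hθ x).symm⟩
  · rintro ⟨z, hz, rfl⟩
    exact ⟨⟨z, hz⟩, hθ _⟩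

/-- The image of a map under an automorphism of `S`. -/
def TransportsTo (E' : FusionSystem S) (α : MulAut S) (P : Subgroup Ω) (φ : P →* Ω) : Prop :=
  ∃ (hPS : P ≤ S), ∃ χ ∈ E'.Hom ((P.subgroupOf S).map (S.subtype.comp α.toMonoidHom)),
    ∀ (x : P) (hφx : φ x ∈ S)
      (hαx : ((α ⟨x, hPS x.2⟩ : S) : Ω) ∈ (P.subgroupOf S).map (S.subtype.comp α.toMonoidHom)),
      χ ⟨(α ⟨x, hPS x.2⟩ : S), hαx⟩ = ((α ⟨φ x, hφx⟩ : S) : Ω)

/-- The pullback of `E'` along an automorphism of `S`. -/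
def pullSystem (F E' : FusionSystem S) (α : MulAut S) : FusionSystem S :=
  subsystemOf F (TransportsTo E' α)
    (fun Q g hQ hg => by
      refine ⟨hQ, conjHom _ ((α ⟨g, hg⟩ : S) : Ω), E'.conj_mem (map_aut_le Q) (α _).2,
        fun x hx hy => ?_⟩
      show ((α ⟨g, hg⟩ : S) : Ω) * ((α ⟨x, hQ x.2⟩ : S) : Ω) * ((α ⟨g, hg⟩ : S) : Ω)⁻¹ = _
      rw [← Subgroup.coe_inv, ← map_inv, ← Subgroup.coe_mul, ← Subgroup.coe_mul, ← map_mul,
        ← map_mul]
      rfl)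
    (fun Q Q' ψ ψ' hψ hψ' hC hC' h => by
      obtain ⟨hQ, χ, hχ, he⟩ := hC
      obtain ⟨hQ', χ', hχ', he'⟩ := hC'
      have hmem : ∀ y, χ y ∈ (Q'.subgroupOf S).map (S.subtype.comp α.toMonoidHom) := by
        rintro ⟨_, z, hz, rfl⟩
        have h1 := he ⟨z, hz⟩ (apply_mem hψ _) ⟨z, hz, rfl⟩
        exact h1 ▸ ⟨⟨ψ ⟨z, hz⟩, apply_mem hψ _⟩, h _, rfl⟩
      refine ⟨hQ, _, E'.comp_mem hχ hχ' hmem, fun x hx hy => ?_⟩
      show χ' ⟨χ _, _⟩ = _
      refine Eq.trans ?_ (he' ⟨ψ x, h x⟩ hx ⟨⟨ψ x, apply_mem hψ x⟩, h x, rfl⟩)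
      exact congrArg χ' (Subtype.ext (he x (apply_mem hψ x) hy)))
    (fun Q ψ η hψ hC hη hi => by
      obtain ⟨hQ, χ, hχ, he⟩ := hC
      have hr : χ.range = (ψ.range.subgroupOf S).map (S.subtype.comp α.toMonoidHom) := by
        ext y
        constructor
        · rintro ⟨⟨_, z, hz, rfl⟩, rfl⟩
          have h1 := he ⟨z, hz⟩ (apply_mem hψ _) ⟨z, hz, rfl⟩
          exact h1 ▸ ⟨⟨ψ ⟨z, hz⟩, apply_mem hψ _⟩, ⟨_, rfl⟩, rfl⟩
        · rintro ⟨⟨z, hzT⟩, ⟨x, rfl⟩, rfl⟩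
          exact ⟨⟨_, ⟨x, hQ x.2⟩, x.2, rfl⟩, he x hzT ⟨_, x.2, rfl⟩⟩
      obtain ⟨ρ, hρ, -, hρi, -⟩ := exists_inverse hχ hr
      refine ⟨range_le hψ, ρ, hρ, ?_⟩
      rintro ⟨_, x, rfl⟩ hx hy
      have h1 := he x (apply_mem hψ x) ⟨⟨x, hQ x.2⟩, x.2, rfl⟩
      have h2 := hρi ⟨_, ⟨x, hQ x.2⟩, x.2, rfl⟩ (h1 ▸ hy)
      refine Eq.trans (congrArg ρ (Subtype.ext h1.symm)) (h2.trans ?_)
      exact congrArg (fun t : S => ((α t : S) : Ω)) (Subtype.ext (hi x).symm))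

theorem isLargeOnCentric_pullSystem [Finite S] {E' : FusionSystem S}
    (hE' : IsLargeOnCentric E' F p) {α : MulAut S} (hα : α ∈ F.autGroup S) :
    IsLargeOnCentric (pullSystem F E' α) F p := by
  intro R hR
  rw [Subgroup.map_le_iff_le_comap]
  refine (Subgroup.closure_le _).2 fun a ⟨k, hk⟩ => ?_
  show (a : MulAut R) ∈ (pullSystem F E' α).autGroup R
  have hRS := hR.1
  set R' := (R.subgroupOf S).map (S.subtype.comp α.toMonoidHom) with hR'
  obtain ⟨θ, hθ, hθe⟩ : ∃ θ ∈ F.Hom R, ∀ x : R, θ x = ((α ⟨x, hRS x.2⟩ : S) : Ω) :=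
    ⟨_, restrict_mem ((mem_autGroup_iff le_rfl).1 hα) hRS, fun x => rfl⟩
  have hθr : θ.range = R' := imageOfAut hRS hθe
  have hR'c : F.IsCentric R' := isCentric_of_isConj hR ⟨θ, hθ, hθr⟩
  set e := homEquiv hθ hθr with hedef
  have hb : MulAut.congr e (a : MulAut R) ∈ E'.autGroup R' :=
    pElement_mem_autGroup hE' hR'c (congr_mem_autGroup hθ hθr a.2) (k := k) (by
      rw [MulEquiv.orderOf_eq, Subgroup.orderOf_coe]; exact hk)
  refine Subgroup.subset_closure ⟨(mem_autGroup_iff hRS).1 a.2, hRS, _,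
    (mem_autGroup_iff hR'c.1).1 hb, fun x hx hy => ?_⟩
  show ((MulAut.congr e (a : MulAut R) ⟨_, hy⟩ : R') : Ω) = _
  rw [show (⟨((α ⟨x, hRS x.2⟩ : S) : Ω), hy⟩ : R') = e x from Subtype.ext (hθe x).symm,
    congr_apply, coe_homEquiv, hθe]
  rfl

/-- The smallest subsystem of `F` large on centric subgroups. -/
def minimalPrimeToP (F : FusionSystem S) (p : ℕ) : FusionSystem S :=
  subsystemOf F (fun P φ => ∀ E' : FusionSystem S, IsLargeOnCentric E' F p → φ ∈ E'.Hom P)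
    (fun _ _ hP hg E' _ => E'.conj_mem hP hg)
    (fun _ _ _ _ _ _ hφ hψ h E' hE' => E'.comp_mem (hφ E' hE') (hψ E' hE') h)
    (fun _ φ ψ _ hφ _ hi E' hE' => inv_mem' (hφ E' hE') rfl fun x _ => hi x)

theorem minimalPrimeToP_le (hE : IsLargeOnCentric E F p) : minimalPrimeToP F p ≤ E :=
  fun _ _ hφ => hφ.2 E hE

theorem minimalPrimeToP_isSubsystemOf : (minimalPrimeToP F p).IsSubsystemOf F :=
  fun _ _ hφ => hφ.1

theorem isLargeOnCentric_minimalPrimeToP : IsLargeOnCentric (minimalPrimeToP F p) F p := by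
  intro R hR a ha
  have haF : a ∈ F.autGroup R := by
    obtain ⟨b, -, rfl⟩ := ha
    exact b.2
  exact Subgroup.subset_closure ⟨(mem_autGroup_iff hR.1).1 haF,
    fun E' hE' => (mem_autGroup_iff hR.1).1 (hE' R hR ha)⟩

theorem transports_minimalPrimeToP [Finite S] :
    Transports (minimalPrimeToP F p) F := by
  intro P hPS φ hφ α hα
  obtain ⟨hφF, hall⟩ := hφ
  have hαF := (mem_autGroup_iff le_rfl).1 hα
  obtain ⟨θ, hθ, hθe⟩ : ∃ θ ∈ F.Hom P, ∀ x : P, θ x = ((α ⟨x, hPS x.2⟩ : S) : Ω) :=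
    ⟨_, restrict_mem hαF hPS, fun x => rfl⟩
  set P' := (P.subgroupOf S).map (S.subtype.comp α.toMonoidHom) with hP'
  obtain ⟨η, hη, -, hηi, -⟩ := exists_inverse hθ (imageOfAut hPS hθe)
  have hηP : ∀ y : P', η y ∈ P := by
    rintro ⟨_, z, hz, rfl⟩
    have h1 := hηi ⟨z, hz⟩ ⟨z, hz, (hθe ⟨z, hz⟩).symm⟩
    rw [show (⟨(S.subtype.comp α.toMonoidHom) z, ⟨z, hz, rfl⟩⟩ : P') =
      ⟨θ ⟨z, hz⟩, ⟨z, hz, (hθe ⟨z, hz⟩).symm⟩⟩ from Subtype.ext (hθe ⟨z, hz⟩).symm, h1]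
    exact hz
  obtain ⟨χ, hχ, hχe⟩ : ∃ χ ∈ F.Hom P',
      ∀ (y : P'), χ y = ((α ⟨φ ⟨η y, hηP y⟩, apply_mem hφF _⟩ : S) : Ω) :=
    ⟨_, F.comp_mem (F.comp_mem hη hφF hηP) hαF (fun y => apply_mem hφF _), fun y => rfl⟩
  have hval : ∀ (x : P) (hx : φ x ∈ S) (hy : ((α ⟨x, hPS x.2⟩ : S) : Ω) ∈ P'),
      χ ⟨_, hy⟩ = ((α ⟨φ x, hx⟩ : S) : Ω) := by
    intro x hx hy
    rw [hχe]
    refine congrArg (fun t : S => ((α t : S) : Ω)) (Subtype.ext (congrArg φ (Subtype.ext ?_)))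
    exact (congrArg η (Subtype.ext (hθe x).symm)).trans (hηi x (by rw [hθe]; exact hy))
  refine ⟨χ, ⟨hχ, fun E' hE' => ?_⟩, hval⟩
  obtain ⟨-, _, χ', hχ', he'⟩ := hall _ (isLargeOnCentric_pullSystem hE' hα)
  have heq : χ = χ' := MonoidHom.ext fun y => by
    obtain ⟨_, z, hz, rfl⟩ := y
    exact (hval ⟨z, hz⟩ (apply_mem hφF _) ⟨z, hz, rfl⟩).trans
      (he' ⟨z, hz⟩ (apply_mem hφF _) ⟨z, hz, rfl⟩).symm
  exact heq ▸ hχ'

theorem stronglyClosed_self (F : FusionSystem S) : F.StronglyClosed S :=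
  ⟨le_rfl, fun _ _ _ hφ x => apply_mem hφ x⟩

/-- Every map is an automorphism of `S` composed with a map of the minimal system. -/
theorem frattini_minimalPrimeToP [Finite S] [Fact p.Prime] (hS : IsPGroup p S)
    (hF : F.IsSaturated p) {P : Subgroup Ω} {φ : P →* Ω} (hφ : φ ∈ F.Hom P) :
    FrattiniOn (minimalPrimeToP F p) F P φ := by
  set E₀ := minimalPrimeToP F p with hE₀
  have htr : Transports E₀ F := transports_minimalPrimeToP
  refine frattiniOn_of_step hS hF (stronglyClosed_self F) htr ?_ hφ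
  intro R hRn hRc _ hbig α hα Q hQR hQS
  have hRS := hRn.1
  by_cases hSR : S ≤ R
  · obtain rfl : R = S := le_antisymm hRS hSR
    exact ⟨α, hα, Q.subtype, subtype_mem E₀ hQS, fun x hx => rfl⟩
  have := closure_pElements_normal (p := p) (F.autGroup R)
  obtain ⟨m, k, hk, hmk, R', hRR', hlt, χ, hχ, hχe⟩ := exists_frattini_extension hS hF le_rfl
    Subgroup.le_normalizer hRn hSR
    (Subgroup.closure {a : F.autGroup R | ∃ k : ℕ, orderOf a = p ^ k}) (fun g hgS hgN a ha => by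
      have := finite_mulAut (Ω := Ω) hRS
      obtain ⟨n, hn⟩ := (IsPGroup.iff_orderOf).1 (isPGroup_autInducedBy hS R)
        ⟨conjAut hgN, conjAut_mem_autInducedBy hgS hgN⟩
      refine Subgroup.subset_closure ⟨n, ?_⟩
      rw [← Subgroup.orderOf_coe, show (a : MulAut R) = conjAut hgN from
        MulEquiv.ext fun x => Subtype.ext (ha x), ← hn, ← Subgroup.orderOf_coe]) ⟨α, hα⟩
  have hk₀ := (mem_autGroup_iff hRS).1 (isLargeOnCentric_minimalPrimeToP R hRc ⟨k, hk, rfl⟩)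
  have hkQ := restrict_mem hk₀ hQR
  set k₀ := (R.subtype.comp (k : MulAut R).toMonoidHom).comp (Subgroup.inclusion hQR) with hk₀def
  have hk₀R' : k₀.range ≤ R' := by
    rintro _ ⟨x, rfl⟩
    exact hRR' ((k : MulAut R) _).2
  obtain ⟨δ, hδ, φ₀, hφ₀, he⟩ := hbig R' hlt χ hχ k₀.range hk₀R' (range_le hkQ)
  refine ⟨δ, hδ, _, E₀.comp_mem hkQ hφ₀ (fun x => ⟨x, rfl⟩), fun x hx => ?_⟩
  refine Eq.trans ?_ (he ⟨k₀ x, x, rfl⟩ hx)
  have h2 := hχe ⟨k₀ x, ((k : MulAut R) _).2⟩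
  refine Eq.trans ?_ (h2.symm.trans (congrArg χ (Subtype.ext rfl)))
  show ((α (Subgroup.inclusion hQR x) : R) : Ω) = _
  rw [show α = (m : MulAut R) * (k : MulAut R) from congrArg Subtype.val hmk, MulAut.mul_apply]
  rfl

theorem autGroup_minimal_of_conj [Finite S] [Fact p.Prime] (hS : IsPGroup p S)
    (hF : F.IsSaturated p) {P Q : Subgroup Ω} {φ : P →* Ω} (hφ : φ ∈ F.Hom P) (hQ : φ.range = Q)
    {a : MulAut P} (hb : MulAut.congr (homEquiv hφ hQ) a ∈ (minimalPrimeToP F p).autGroup Q) :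
    a ∈ (minimalPrimeToP F p).autGroup P := by
  have hPS := dom_le hφ
  have hQS : Q ≤ S := hQ ▸ range_le hφ
  obtain ⟨β, hβ, φ₀, hφ₀, he⟩ := frattini_minimalPrimeToP hS hF hφ P le_rfl hPS
  set e := homEquiv hφ hQ with hedef
  set b := MulAut.congr e a with hbdef
  have hQv : ∀ x : P, ((e x : Q) : Ω) = ((β ⟨φ₀ x, apply_mem hφ₀ x⟩ : S) : Ω) := fun x =>
    (coe_homEquiv hφ hQ x).trans (he x (apply_mem hφ₀ x))
  obtain ⟨γ, hγ, hγe⟩ := (transports_minimalPrimeToP (F := F) (p := p)).exists_map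
    ((mem_autGroup_iff hQS).1 hb) (inv_mem hβ) (P' := φ₀.range) (by
      rintro _ ⟨x, rfl⟩
      refine ⟨e x, ?_⟩
      rw [show (⟨((e x : Q) : Ω), _⟩ : S) = β ⟨φ₀ x, apply_mem hφ₀ x⟩ from Subtype.ext (hQv x),
        MulAut.inv_apply_self])
  have hval : ∀ x : P, γ ⟨φ₀ x, x, rfl⟩ = φ₀ (a x) := by
    intro x
    have e1 : φ₀ x = ((β⁻¹ ⟨((e x : Q) : Ω), hQS (e x).2⟩ : S) : Ω) := by
      rw [show (⟨((e x : Q) : Ω), hQS (e x).2⟩ : S) = β ⟨φ₀ x, apply_mem hφ₀ x⟩ from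
        Subtype.ext (hQv x), MulAut.inv_apply_self]
    refine Eq.trans (Eq.trans ?_ (hγe (e x) (hQS (b (e x)).2) (e1 ▸ ⟨x, rfl⟩))) ?_
    · exact congrArg γ (Subtype.ext e1)
    · rw [show (⟨(Q.subtype.comp b.toMonoidHom) (e x), hQS (b (e x)).2⟩ : S) =
        β ⟨φ₀ (a x), apply_mem hφ₀ _⟩ from Subtype.ext (by
          show ((b (e x) : Q) : Ω) = _
          rw [hbdef, congr_apply, hQv]), MulAut.inv_apply_self]
  obtain ⟨η, hη, -, hηi, -⟩ := exists_inverse hφ₀ rfl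
  have hmem : ∀ x : φ₀.range, γ x ∈ φ₀.range := by
    rintro ⟨_, x, rfl⟩
    exact ⟨a x, (hval x).symm⟩
  refine Subgroup.subset_closure (comp_mem' (comp_mem' hφ₀ hγ (fun x => ⟨x, rfl⟩) (χ :=
    φ₀.comp a.toMonoidHom) fun x => (hval x).symm) hη (fun x => ⟨a x, rfl⟩) fun x => ?_)
  exact (hηi (a x) ⟨a x, rfl⟩).symm

/-- The minimal system contains every automorphism of `p`-power order. -/
theorem pElement_mem_minimalPrimeToP [Finite S] [Fact p.Prime] (hS : IsPGroup p S)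
    (hF : F.IsSaturated p) {P : Subgroup Ω} (hP : P ≤ S) {a : MulAut P} (ha : a ∈ F.autGroup P)
    {k : ℕ} (hk : orderOf a = p ^ k) : a ∈ (minimalPrimeToP F p).autGroup P := by
  obtain ⟨Q, ⟨φ, hφ, hQ⟩, hQn⟩ := exists_fullyNormalized F hP
  refine autGroup_minimal_of_conj hS hF hφ hQ ?_
  have hQS := hQn.1
  set b : MulAut Q := MulAut.congr (homEquiv hφ hQ) a with hbdef
  have hbF : b ∈ F.autGroup Q := congr_mem_autGroup hφ hQ ha
  have hbk : orderOf b = p ^ k := by rw [hbdef, MulEquiv.orderOf_eq]; exact hk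
  have := finite_mulAut (Ω := Ω) hQS
  obtain ⟨-, Y, hY⟩ := isFullyAutomized_of_fullyNormalized hS hF hQn
  have hbp : IsPGroup p (Subgroup.zpowers (⟨b, hbF⟩ : F.autGroup Q)) :=
    ConstrainedGroup.isPGroup_zpowers_of_pow_eq_one (k := k) (Subtype.ext (by
      show b ^ p ^ k = 1
      rw [← hbk, pow_orderOf_eq_one]))
  obtain ⟨Y', hY'⟩ := hbp.exists_le_sylow
  obtain ⟨d, hd⟩ := MulAction.exists_smul_eq (F.autGroup Q) Y' Y
  have hdb : d * ⟨b, hbF⟩ * d⁻¹ ∈ (Y : Subgroup (F.autGroup Q)) := by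
    rw [← hd, Sylow.coe_subgroup_smul]
    exact Subgroup.smul_mem_pointwise_smul _ (MulAut.conj d) _ (hY' (Subgroup.mem_zpowers _))
  rw [hY] at hdb
  obtain ⟨g, hg, hgx⟩ := mem_autInducedBy_iff.1 (Subgroup.mem_subgroupOf.1 hdb)
  set X := Q ⊔ centralizerIn S Q with hXdef
  have hXS : X ≤ S := sup_le hQS (centralizerIn_le S Q)
  have hQfc := isFullyCentralized_of_fullyNormalized hS hF hQn
  -- `X` is centric
  obtain ⟨hdφ, hdr⟩ := hom_of_mem_autGroup hQS d.2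
  have hXc : F.IsCentric X := by
    refine ⟨hXS, ?_⟩
    rintro X' ⟨θ, hθ, rfl⟩
    have hθQ := restrict_mem hθ (le_sup_left : Q ≤ X)
    set Q' := (θ.comp (Subgroup.inclusion (le_sup_left : Q ≤ X))).range with hQ'
    have hle : centralizerIn S θ.range ≤ centralizerIn S Q' :=
      inf_le_inf_left S (Subgroup.centralizer_le (by rintro _ ⟨x, rfl⟩; exact ⟨_, rfl⟩))
    have himg : ((centralizerIn S Q).subgroupOf X).map θ = centralizerIn S Q' := by
      refine eq_of_le_of_card_le (centralizerIn_le S Q') ?_ ?_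
      · rintro _ ⟨c, hc, rfl⟩
        refine ⟨apply_mem hθ c, Subgroup.mem_centralizer_iff.2 ?_⟩
        rintro _ ⟨x, rfl⟩
        show θ _ * θ c = θ c * θ _
        rw [← map_mul, ← map_mul]
        exact congrArg θ (Subtype.ext (Subgroup.mem_centralizer_iff.1 hc.2 _ x.2))
      · refine (hQfc.2 Q' ⟨_, hθQ, rfl⟩).trans ?_
        rw [Subgroup.card_map_of_injective (F.injective_of_mem hθ),
          Nat.card_congr (Subgroup.subgroupOfEquivOfLe (le_sup_right : centralizerIn S Q ≤ X)).toEquiv]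
    refine hle.trans (himg.symm.le.trans ?_)
    rintro _ ⟨c, -, rfl⟩
    exact ⟨c, rfl⟩
  obtain ⟨ψ, hψ, hψe⟩ := exists_extension (N := X) (isReceptive_of_fullyNormalized hS hF hQn)
    hdφ hdr (sup_le (le_extender hQS fun x => apply_mem hdφ x) (centralizerIn_le_extender _))
  have hψQ : ∀ x : Q, ψ (Subgroup.inclusion le_sup_left x) = (((d : MulAut Q) x : Q) : Ω) :=
    fun x => hψe x x.2 _
  have hψr : ψ.range = X := by
    refine range_eq_of_le hψ hXS (forall_sup_mem ψ (fun x => ?_) fun c => ?_) le_rfl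
    · rw [hψQ]; exact Subgroup.mem_sup_left (Subtype.property _)
    · refine Subgroup.mem_sup_right ⟨apply_mem hψ _, Subgroup.mem_centralizer_iff.2 fun t ht => ?_⟩
      obtain ⟨x, hx⟩ := (d : MulAut Q).surjective ⟨t, ht⟩
      have h1 : t = ψ (Subgroup.inclusion le_sup_left x) := by rw [hψQ, hx]
      rw [h1, ← map_mul, ← map_mul]
      exact congrArg ψ (Subtype.ext (Subgroup.mem_centralizer_iff.1 c.2.2 _ x.2))
  have hgN : g ∈ Subgroup.normalizer (Q : Set Ω) := mem_normalizer_of_aut hgx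
  have hgX : g ∈ Subgroup.normalizer (X : Set Ω) := by
    have key : ∀ h ∈ S, h ∈ Subgroup.normalizer (Q : Set Ω) → ∀ x ∈ X, h * x * h⁻¹ ∈ X := by
      intro h hh hhN x hx
      have h1 : X ≤ X.comap (MulAut.conj h).toMonoidHom := by
        refine sup_le (fun y hy => Subgroup.mem_sup_left ((Subgroup.mem_normalizer_iff.1 hhN y).1 hy))
          fun y hy => Subgroup.mem_sup_right ⟨S.mul_mem (S.mul_mem hh hy.1) (S.inv_mem hh),
            Subgroup.mem_centralizer_iff.2 fun t ht => ?_⟩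
        have h2 := Subgroup.mem_centralizer_iff.1 hy.2 _
          ((Subgroup.mem_normalizer_iff.1 (inv_mem hhN) t).1 ht)
        rw [inv_inv] at h2
        show t * (h * y * h⁻¹) = h * y * h⁻¹ * t
        calc t * (h * y * h⁻¹) = h * (h⁻¹ * t * h * y) * h⁻¹ := by group
          _ = h * (y * (h⁻¹ * t * h)) * h⁻¹ := by rw [h2]
          _ = h * y * h⁻¹ * t := by group
      exact h1 hx
    refine Subgroup.mem_normalizer_iff.2 fun x => ⟨key g hg hgN x, fun hx => ?_⟩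
    simpa [mul_assoc] using key g⁻¹ (S.inv_mem hg) (inv_mem hgN) _ hx
  set d' : MulAut X := toAut hψ hψr with hd'
  have hd'F := toAut_mem hψ hψr
  obtain ⟨n, hn⟩ := (IsPGroup.iff_orderOf).1 (isPGroup_autInducedBy hS X)
    ⟨conjAut hgX, conjAut_mem_autInducedBy hg hgX⟩
  have := finite_mulAut (Ω := Ω) hXS
  have hcX : d'⁻¹ * conjAut hgX * d' ∈ (minimalPrimeToP F p).autGroup X := by
    refine pElement_mem_autGroup isLargeOnCentric_minimalPrimeToP hXc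
      (mul_mem (mul_mem (inv_mem hd'F)
        (autInducedBy_le_autGroup F hXS (conjAut_mem_autInducedBy hg hgX))) hd'F) (k := n) ?_
    rw [show d'⁻¹ * conjAut hgX * d' = MulAut.conj d'⁻¹ (conjAut hgX) by simp,
      MulEquiv.orderOf_eq, ← hn, ← Subgroup.orderOf_coe]
  refine Subgroup.subset_closure (mem_of_le ((mem_autGroup_iff hXS).1 hcX)
    (le_sup_left : Q ≤ X) fun x => ?_)
  show ((b x : Q) : Ω) = (((d'⁻¹ : MulAut X) (conjAut hgX (d' _)) : X) : Ω)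
  have h1 : d' (Subgroup.inclusion le_sup_left x) =
      Subgroup.inclusion le_sup_left ((d : MulAut Q) x) := Subtype.ext (hψQ x)
  have h2 : conjAut hgX (Subgroup.inclusion le_sup_left ((d : MulAut Q) x)) =
      Subgroup.inclusion le_sup_left ((d : MulAut Q) (b x)) := Subtype.ext (by
    show g * ((((d : MulAut Q) x : Q)) : Ω) * g⁻¹ = _
    rw [← hgx]
    show (((d : MulAut Q) (b ((d : MulAut Q)⁻¹ ((d : MulAut Q) x))) : Q) : Ω) = _
    rw [MulAut.inv_apply_self]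
    rfl)
  rw [h1, h2, show Subgroup.inclusion (le_sup_left : Q ≤ X) ((d : MulAut Q) (b x)) =
    d' (Subgroup.inclusion le_sup_left (b x)) from (Subtype.ext (hψQ (b x))).symm,
    MulAut.inv_apply_self]
  rfl

/-- A subsystem large on centric subgroups has index prime to `p`. -/
theorem hasPrimeToPIndexIn [Finite S] [Fact p.Prime] (hS : IsPGroup p S) (hF : F.IsSaturated p)
    (hEF : E.IsSubsystemOf F) (h : IsLargeOnCentric E F p) : E.HasPrimeToPIndexIn F p := by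
  refine ⟨hEF, fun P hP => ?_⟩
  rw [Subgroup.map_le_iff_le_comap]
  refine (Subgroup.closure_le _).2 fun a ⟨k, hk⟩ => ?_
  refine Subgroup.subset_closure (minimalPrimeToP_le h P ((mem_autGroup_iff hP).1 ?_))
  exact pElement_mem_minimalPrimeToP hS hF hP a.2 (k := k)
    (by rw [show (F.autGroup P).subtype a = (a : MulAut P) from rfl, Subgroup.orderOf_coe]; exact hk)

/-- A subgroup is centric in `E` exactly when it is centric in `F`. -/
theorem isCentric_iff_of_large [Finite S] [Fact p.Prime] (hS : IsPGroup p S) (hF : F.IsSaturated p)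
    (hEF : E.IsSubsystemOf F) (h : IsLargeOnCentric E F p) (P : Subgroup Ω) :
    E.IsCentric P ↔ F.IsCentric P := by
  refine ⟨fun hP => ⟨hP.1, ?_⟩, fun hP => ⟨hP.1, ?_⟩⟩
  · rintro Q ⟨φ, hφ, rfl⟩
    obtain ⟨α, hα, φ₀, hφ₀, he⟩ := frattini_minimalPrimeToP hS hF hφ P le_rfl hP.1
    intro c hc
    have hc0 : ((α⁻¹ ⟨c, hc.1⟩ : S) : Ω) ∈ centralizerIn S φ₀.range := by
      refine ⟨Subtype.property _, Subgroup.mem_centralizer_iff.2 ?_⟩
      rintro _ ⟨x, rfl⟩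
      have h1 : (⟨φ₀ x, apply_mem hφ₀ x⟩ : S) * α⁻¹ ⟨c, hc.1⟩ =
          α⁻¹ ⟨c, hc.1⟩ * ⟨φ₀ x, apply_mem hφ₀ x⟩ := α.injective (by
        rw [map_mul, map_mul, MulAut.apply_inv_self]
        refine Subtype.ext ?_
        show ((α _ : S) : Ω) * c = c * ((α _ : S) : Ω)
        rw [← he x]
        exact Subgroup.mem_centralizer_iff.1 hc.2 _ ⟨x, rfl⟩)
      exact congrArg Subtype.val h1
    obtain ⟨x, hx⟩ := hP.2 φ₀.range ⟨φ₀, minimalPrimeToP_le h P hφ₀, rfl⟩ hc0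
    refine ⟨x, (he x (apply_mem hφ₀ x)).trans ?_⟩
    rw [show (⟨φ₀ x, apply_mem hφ₀ x⟩ : S) = α⁻¹ ⟨c, hc.1⟩ from Subtype.ext hx,
      MulAut.apply_inv_self]
  · rintro Q ⟨φ, hφ, hQ⟩
    exact hP.2 Q ⟨φ, hEF P hφ, hQ⟩

end Cfsg.Agent.Fusion
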