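import Cfsg.Agent.Lib.Fusion.PrimeToP
import Cfsg.Agent.Lib.Fusion.NormalSubsystem
import Cfsg.Agent.Lib.Fusion.Criterion

/-!
Subsystems of index prime to `p` cut out by a subgroup `K` of `Aut_F(T)`, `T` carrying a normal
subsystem `E`, with `K` normal, containing `Aut_E(T)` and the elements of `p`-power order.
-/

set_option autoImplicit false
set_option linter.unusedSectionVars false

namespace Cfsg.Agent.Fusion

open Cfsg Cfsg.FusionSystem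
open scoped Pointwise

variable {Ω : Type*} [Group Ω] {S T : Subgroup Ω} {F : FusionSystem S} {E : FusionSystem T} {p : ℕ}

/-- Every restriction to a subgroup of `T` is an element of `K` composed with a map of `E`. -/
def KOn (E : FusionSystem T) (K : Subgroup (MulAut T)) (P : Subgroup Ω) (φ : P →* Ω) : Prop :=
  ∀ (Q : Subgroup Ω) (hQP : Q ≤ P), Q ≤ T →
    ∃ α ∈ K, ∃ φ₀ ∈ E.Hom Q, ∀ (x : Q) (hx : φ₀ x ∈ T),
      φ (Subgroup.inclusion hQP x) = ((α ⟨φ₀ x, hx⟩ : T) : Ω)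

variable {K : Subgroup (MulAut T)}

theorem kOn_comp (hT : F.StronglyClosed T) (htr : Transports E F) (hKF : K ≤ F.autGroup T) {P P' : Subgroup Ω}
    {φ : P →* Ω} {χ : P' →* Ω} (hφ : φ ∈ F.Hom P) (hφC : KOn E K P φ)
    (hχC : KOn E K P' χ) (h : ∀ x : P, φ x ∈ P') :
    KOn E K P (χ.comp (φ.codRestrict P' h)) := by
  intro Q hQP hQT
  obtain ⟨α, hα, φ₀, hφ₀, he⟩ := hφC Q hQP hQT
  set R₀ := (φ.comp (Subgroup.inclusion hQP)).range with hR₀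
  have hR₀T : R₀ ≤ T := by
    rintro _ ⟨x, rfl⟩
    exact hT.2 Q hQT _ (restrict_mem hφ hQP) x
  have hR₀P : R₀ ≤ P' := by
    rintro _ ⟨x, rfl⟩
    exact h _
  obtain ⟨β, hβ, χ₀, hχ₀, he'⟩ := hχC R₀ hR₀P hR₀T
  have hmem : ∀ x : Q, φ₀ x ∈ φ₀.range := fun x => ⟨x, rfl⟩
  obtain ⟨γ, hγ, hγe⟩ := htr.exists_map hχ₀ (inv_mem (hKF hα)) (P' := φ₀.range) (by
    rintro _ ⟨x, rfl⟩
    have hx := apply_mem hφ₀ x
    refine ⟨⟨φ (Subgroup.inclusion hQP x), x, rfl⟩, ?_⟩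
    rw [show (⟨φ (Subgroup.inclusion hQP x), _⟩ : T) = α ⟨φ₀ x, hx⟩ from Subtype.ext (he x hx),
      MulAut.inv_apply_self])
  refine ⟨β * α, mul_mem hβ hα, _, E.comp_mem hφ₀ hγ hmem, fun x hx => ?_⟩
  have hx₀ := apply_mem hφ₀ x
  set z : R₀ := ⟨φ (Subgroup.inclusion hQP x), x, rfl⟩ with hz
  have hzT := apply_mem hχ₀ z
  have e : φ₀ x = ((α⁻¹ ⟨z, dom_le hχ₀ z.2⟩ : T) : Ω) := by
    rw [show (⟨(z : Ω), dom_le hχ₀ z.2⟩ : T) = α ⟨φ₀ x, hx₀⟩ from Subtype.ext (he x hx₀),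
      MulAut.inv_apply_self]
  have h1 : γ ⟨φ₀ x, hmem x⟩ = ((α⁻¹ ⟨χ₀ z, hzT⟩ : T) : Ω) := by
    refine Eq.trans (congrArg γ (Subtype.ext e)) (hγe z hzT ?_)
    rw [← e]
    exact hmem x
  show χ ⟨φ (Subgroup.inclusion hQP x), h _⟩ = ((β (α ⟨_, hx⟩) : T) : Ω)
  rw [show (⟨γ.comp (φ₀.codRestrict _ hmem) x, hx⟩ : T) = α⁻¹ ⟨χ₀ z, hzT⟩ from Subtype.ext h1,
    MulAut.apply_inv_self]
  exact he' z hzT

theorem kOn_inv [Finite S] (hT : F.StronglyClosed T) (htr : Transports E F) (hKF : K ≤ F.autGroup T)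
    {P : Subgroup Ω} {φ : P →* Ω} {χ : φ.range →* Ω} (hφC : KOn E K P φ)
    (hχ : χ ∈ F.Hom φ.range) (hi : ∀ x : P, χ ⟨φ x, ⟨x, rfl⟩⟩ = (x : Ω)) :
    KOn E K φ.range χ := by
  intro Q hQP hQT
  set Q₀ := (χ.comp (Subgroup.inclusion hQP)).range with hQ₀
  have hQ₀T : Q₀ ≤ T := by
    rintro _ ⟨x, rfl⟩
    exact hT.2 Q hQT _ (restrict_mem hχ hQP) x
  have hQ₀P : Q₀ ≤ P := by
    rintro _ ⟨⟨y, hy⟩, rfl⟩
    obtain ⟨x, hx⟩ := hQP hy
    show χ ⟨y, _⟩ ∈ P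
    rw [show (⟨y, hQP hy⟩ : φ.range) = ⟨φ x, x, rfl⟩ from Subtype.ext hx.symm, hi]
    exact x.2
  obtain ⟨α, hα, φ₀, hφ₀, he⟩ := hφC Q₀ hQ₀P hQ₀T
  have hback : ∀ y : Q, φ (Subgroup.inclusion hQ₀P ⟨_, y, rfl⟩) = (y : Ω) := by
    rintro ⟨y, hy⟩
    obtain ⟨x, hx⟩ := hQP hy
    refine Eq.trans (congrArg φ (Subtype.ext ?_)) hx
    show χ ⟨y, _⟩ = x
    rw [show (⟨y, hQP hy⟩ : φ.range) = ⟨φ x, x, rfl⟩ from Subtype.ext hx.symm, hi]
  obtain ⟨η, hη, -, hηi, -⟩ := exists_inverse hφ₀ rfl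
  obtain ⟨γ, hγ, hγe⟩ := htr.exists_map hη (hKF hα) (P' := Q) (by
    intro y hy
    refine ⟨⟨φ₀ ⟨_, ⟨y, hy⟩, rfl⟩, _, rfl⟩, ?_⟩
    rw [← he]
    exact hback ⟨y, hy⟩)
  refine ⟨α⁻¹, inv_mem hα, γ, hγ, fun y hy => ?_⟩
  set z : Q₀ := ⟨_, y, rfl⟩ with hz
  have hzT := apply_mem hφ₀ z
  have h1 : (y : Ω) = ((α ⟨φ₀ z, hzT⟩ : T) : Ω) := (hback y).symm.trans (he z hzT)
  have hzv := hηi z ⟨z, rfl⟩
  have hzv' : η ⟨φ₀ z, z, rfl⟩ ∈ T := by rw [hzv]; exact hQ₀T z.2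
  have h2 : γ y = ((α ⟨η ⟨φ₀ z, z, rfl⟩, hzv'⟩ : T) : Ω) := by
    refine Eq.trans (congrArg γ (Subtype.ext h1)) (hγe ⟨φ₀ z, z, rfl⟩ hzv' ?_)
    rw [← h1]
    exact y.2
  rw [show (⟨γ y, hy⟩ : T) = α ⟨η ⟨φ₀ z, z, rfl⟩, hzv'⟩ from Subtype.ext h2,
    MulAut.inv_apply_self]
  exact hzv.symm


theorem kOn_conj [Finite S] (hT : F.StronglyClosed T)
    (hK : ∀ α ∈ autInducedBy S T, α ∈ K) (P : Subgroup Ω) {g : Ω} (hg : g ∈ S) :
    KOn E K P (conjHom P g) := by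
  intro Q hQP hQT
  exact ⟨conjAut (le_normalizer_of_stronglyClosed hT hg), hK _ (conjAut_mem_autInducedBy hg _),
    Q.subtype, subtype_mem E hQT, fun x hx => rfl⟩

/-- The maps whose restrictions to `T` lie in `K E`. -/
def kSub [Finite S] (F : FusionSystem S) (hT : F.StronglyClosed T) (E : FusionSystem T)
    (htr : Transports E F) (K : Subgroup (MulAut T)) (hKF : K ≤ F.autGroup T)
    (hK : ∀ α ∈ autInducedBy S T, α ∈ K) : FusionSystem S :=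
  subsystemOf F (KOn E K) (fun P _ _ hg => kOn_conj hT hK P hg)
    (fun _ _ _ _ hφ _ hφC hχC h => kOn_comp hT htr hKF hφ hφC hχC h)
    (fun _ _ _ _ hφC hχ hi => kOn_inv hT htr hKF hφC hχ hi)

theorem conjAut_pow_eq_one (hS : IsPGroup p S) {P : Subgroup Ω} {α : MulAut P}
    (hα : α ∈ autInducedBy S P) : ∃ k : ℕ, α ^ p ^ k = 1 := by
  obtain ⟨k, hk⟩ := isPGroup_autInducedBy hS P ⟨α, hα⟩
  exact ⟨k, congrArg Subtype.val hk⟩

/-- An automorphism of `p`-power order is conjugation by an element of `S`, after some map. -/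
theorem exists_conj_of_pElement [Finite S] [Fact p.Prime] (hS : IsPGroup p S)
    (hF : F.IsSaturated p) {P : Subgroup Ω} (hP : P ≤ S) {γ : MulAut P} (hγ : γ ∈ F.autGroup P)
    {k : ℕ} (hk : γ ^ p ^ k = 1) :
    ∃ θ ∈ F.Hom P, ∃ c ∈ S, ∀ x : P, θ (γ x) = c * θ x * c⁻¹ := by
  obtain ⟨Q, ⟨φ, hφ, hQ⟩, hQn⟩ := exists_fullyNormalized F hP
  have hQS := hQn.1
  set b : MulAut Q := MulAut.congr (homEquiv hφ hQ) γ with hb
  have hbF : b ∈ F.autGroup Q := congr_mem_autGroup hφ hQ hγ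
  have := finite_mulAut (Ω := Ω) hQS
  obtain ⟨-, Y, hY⟩ := isFullyAutomized_of_fullyNormalized hS hF hQn
  have hbp : IsPGroup p (Subgroup.zpowers (⟨b, hbF⟩ : F.autGroup Q)) :=
    ConstrainedGroup.isPGroup_zpowers_of_pow_eq_one (k := k) (Subtype.ext (by
      show b ^ p ^ k = 1
      rw [hb, ← map_pow, hk, map_one]))
  obtain ⟨Y', hY'⟩ := hbp.exists_le_sylow
  obtain ⟨d, hd⟩ := MulAction.exists_smul_eq (F.autGroup Q) Y' Y
  have hdb : d * ⟨b, hbF⟩ * d⁻¹ ∈ (Y : Subgroup (F.autGroup Q)) := by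
    rw [← hd, Sylow.coe_subgroup_smul]
    exact Subgroup.smul_mem_pointwise_smul _ (MulAut.conj d) _ (hY' (Subgroup.mem_zpowers _))
  rw [hY] at hdb
  obtain ⟨c, hc, hcx⟩ := mem_autInducedBy_iff.1 (Subgroup.mem_subgroupOf.1 hdb)
  refine ⟨(Q.subtype.comp (d : MulAut Q).toMonoidHom).comp (homEquiv hφ hQ).toMonoidHom,
    comp_mem' hφ ((mem_autGroup_iff hQS).1 d.2) (fun x => hQ.le ⟨x, rfl⟩) fun x => rfl, c, hc,
    fun x => ?_⟩
  refine Eq.trans ?_ (hcx ((d : MulAut Q) (homEquiv hφ hQ x)))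
  show (((d : MulAut Q) (homEquiv hφ hQ (γ x)) : Q) : Ω) =
    (((d : MulAut Q) (b ((d : MulAut Q)⁻¹ ((d : MulAut Q) (homEquiv hφ hQ x)))) : Q) : Ω)
  rw [MulAut.inv_apply_self, hb, congr_apply]

/-- The hypotheses on the subgroup `K` of `Aut_F(T)`. -/
structure RelData (F : FusionSystem S) (E : FusionSystem T) (p : ℕ) (K : Subgroup (MulAut T)) :
    Prop where
  sub : E.IsSubsystemOf F
  closed : F.StronglyClosed T
  transports : Transports E F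
  frattini : ∀ P ≤ T, ∀ φ ∈ F.Hom P, ∃ α ∈ F.autGroup T, ∃ φ₀ ∈ E.Hom P,
    ∀ (x : P) (hx : φ₀ x ∈ T), φ x = ((α ⟨φ₀ x, hx⟩ : T) : Ω)
  satE : E.IsSaturated p
  satF : F.IsSaturated p
  le : K ≤ F.autGroup T
  conj : ∀ d ∈ F.autGroup T, ∀ a ∈ K, d * a * d⁻¹ ∈ K
  pElt : ∀ (a : MulAut T), a ∈ F.autGroup T → ∀ k : ℕ, a ^ p ^ k = 1 → a ∈ K
  aut : E.autGroup T ≤ K

namespace RelData

theorem inner (h : RelData F E p K) (hS : IsPGroup p S) :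
    ∀ α ∈ autInducedBy S T, α ∈ K := fun α hα => by
  obtain ⟨k, hk⟩ := conjAut_pow_eq_one hS hα
  exact h.pElt α (autInducedBy_le_autGroup F h.closed.1 hα) k hk

/-- An automorphism of `p`-power order is `K` composed with a map of `E`. -/
theorem exists_of_pElement [Finite S] [Fact p.Prime] (h : RelData F E p K) (hS : IsPGroup p S)
    {N : Subgroup Ω} (hNT : N ≤ T) {γ : MulAut N} (hγ : γ ∈ F.autGroup N) {k : ℕ}
    (hk : γ ^ p ^ k = 1) :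
    ∃ a ∈ K, ∃ e ∈ E.Hom N, ∀ (x : N) (hx : e x ∈ T),
      ((γ x : N) : Ω) = ((a ⟨e x, hx⟩ : T) : Ω) := by
  obtain ⟨θ, hθ, c, hc, hθc⟩ := exists_conj_of_pElement hS h.satF (hNT.trans h.closed.1) hγ hk
  obtain ⟨α, hα, e, he, hdec⟩ := h.frattini N hNT θ hθ
  have hcN := le_normalizer_of_stronglyClosed h.closed hc
  set cg : MulAut T := conjAut hcN with hcg
  have hcgK : cg ∈ K := h.inner hS _ (conjAut_mem_autInducedBy hc hcN)
  set a := α⁻¹ * cg * α with ha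
  have haK : a ∈ K := by simpa using h.conj _ (inv_mem hα) _ hcgK
  have hrel : ∀ x : N, (⟨e (γ x), apply_mem he _⟩ : T) = a ⟨e x, apply_mem he _⟩ := fun x => by
    apply α.injective
    rw [ha, MulAut.mul_apply, MulAut.mul_apply, MulAut.apply_inv_self]
    refine Subtype.ext ?_
    show _ = c * ((α ⟨e x, apply_mem he _⟩ : T) : Ω) * c⁻¹
    rw [← hdec, ← hdec]
    exact hθc x
  obtain ⟨η, hη, -, hηi, -⟩ := exists_inverse he rfl
  have hback : ∀ y : N, (a⁻¹ ⟨e (γ y), apply_mem he _⟩ : T) = ⟨e y, apply_mem he _⟩ := fun y => by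
    rw [hrel, MulAut.inv_apply_self]
  obtain ⟨χ, hχ, hχv⟩ := h.transports.exists_map hη (inv_mem (h.le haK)) (P' := e.range) (by
    rintro _ ⟨y, rfl⟩
    exact ⟨⟨e (γ y), γ y, rfl⟩, congrArg Subtype.val (hback y)⟩)
  refine ⟨a, haK, _, E.comp_mem he hχ (fun y => ⟨y, rfl⟩), fun x hx => ?_⟩
  have hηx : η ⟨e (γ x), γ x, rfl⟩ = ((γ x : N) : Ω) := hηi (γ x) ⟨γ x, rfl⟩
  have hηT : η ⟨e (γ x), γ x, rfl⟩ ∈ T := by rw [hηx]; exact hNT (γ x).2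
  have h1 := hχv ⟨e (γ x), γ x, rfl⟩ hηT
    (show ((a⁻¹ ⟨e (γ x), apply_mem he _⟩ : T) : Ω) ∈ e.range by rw [hback]; exact ⟨x, rfl⟩)
  have h2 : (⟨χ.comp (e.codRestrict e.range fun y => ⟨y, rfl⟩) x, hx⟩ : T) =
      a⁻¹ ⟨η ⟨e (γ x), γ x, rfl⟩, hηT⟩ :=
    Subtype.ext ((congrArg χ (Subtype.ext (congrArg Subtype.val (hback x)).symm)).trans h1)
  rw [h2, MulAut.apply_inv_self]
  exact hηx.symm

/-- An automorphism of `T` agreeing with a map of `E` on an `E`-centric subgroup is in `K`. -/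
theorem mem_of_agree [Finite S] [Fact p.Prime] (h : RelData F E p K) (hS : IsPGroup p S) :
    ∀ (n : ℕ) (R : Subgroup Ω), Nat.card T ≤ Nat.card R + n → E.IsCentric R →
      ∀ a ∈ F.autGroup T, ∀ e ∈ E.Hom R, (∀ (x : R) (hx : (x : Ω) ∈ T),
        e x = ((a ⟨x, hx⟩ : T) : Ω)) → a ∈ K := by
  have := finite_of_le (Ω := Ω) h.closed.1
  have hpT : IsPGroup p T := hS.to_le h.closed.1
  intro n
  induction n with
  | zero =>
    intro R hn hR a ha e he hae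
    obtain rfl : R = T := eq_of_le_of_card_le le_rfl hR.1 (by omega)
    refine h.aut ((mem_autGroup_iff le_rfl).2 ?_)
    convert he using 1
    exact MonoidHom.ext fun x => (hae x x.2).symm
  | succ n ih =>
    intro R hn hR a ha e he hae
    have hRT := hR.1
    by_cases hRe : R = T
    · exact ih R (by rw [hRe]; omega) hR a ha e he hae
    set N := normalizerIn T R with hN
    have hNT : N ≤ T := normalizerIn_le T R
    have hlt : R < N := lt_normalizerIn hpT (lt_of_le_of_ne hRT hRe)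
    have hRN : R ≤ N := hlt.le
    have hcard := card_lt_of_lt hNT hlt
    have hQ : E.IsCentric e.range := isCentric_of_isConj hR ⟨e, he, rfl⟩
    have hext : N ≤ extender T R e := fun g hg => by
      refine mem_extender_iff.2 ⟨hg.1, hg.2, (a ⟨g, hg.1⟩ : T), Subtype.property _, fun x hx => ?_⟩
      rw [hae _ (hRT hx), hae x (hRT x.2), ← Subgroup.coe_inv, ← map_inv, ← Subgroup.coe_mul,
        ← Subgroup.coe_mul, ← map_mul, ← map_mul]
      rfl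
    obtain ⟨ψ, hψ, hψe⟩ := exists_extension (isReceptive_of_centric hpT h.satE hQ) he rfl hext
    obtain ⟨ρ, hρ, hρr, hρi, hρi'⟩ := exists_inverse hψ (rfl : ψ.range = ψ.range)
    -- `a` maps `N` onto the image of `ψ`
    set aN : N →* Ω := (T.subtype.comp a.toMonoidHom).comp (Subgroup.inclusion hNT) with haN
    have haNF : aN ∈ F.Hom N := restrict_mem ((mem_autGroup_iff h.closed.1).1 ha) hNT
    have hmem : ∀ y, ψ y ∈ aN.range := fun y => by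
      obtain ⟨t, ht⟩ := a.surjective ⟨ψ y, apply_mem hψ y⟩
      refine ⟨⟨t, t.2, Subgroup.mem_normalizer_iff.2 fun z => ?_⟩, congrArg Subtype.val ht⟩
      have hR' : ∀ z : Ω, z ∈ R ↔ ∃ hz : z ∈ T, ((a ⟨z, hz⟩ : T) : Ω) ∈ e.range := fun z =>
        ⟨fun hz => ⟨hRT hz, ⟨z, hz⟩, hae ⟨z, hz⟩ _⟩, fun ⟨hz, x, hx⟩ => by
          rw [hae x (hRT x.2)] at hx
          exact (show (x : Ω) = z from congrArg Subtype.val (a.injective (Subtype.ext hx))) ▸ x.2⟩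
      have hyN : ∀ w, w ∈ e.range ↔ ψ y * w * (ψ y)⁻¹ ∈ e.range := fun w => by
        have hy : ∀ u : N, ∀ w ∈ e.range, ψ u * w * (ψ u)⁻¹ ∈ e.range := by
          rintro u _ ⟨x, rfl⟩
          refine ⟨⟨(u : Ω) * (x : Ω) * (u : Ω)⁻¹, (Subgroup.mem_normalizer_iff.1 u.2.2 x).1 x.2⟩, ?_⟩
          rw [← hψe _ _ (hRN ((Subgroup.mem_normalizer_iff.1 u.2.2 x).1 x.2)),
            ← hψe x x.2 (hRN x.2), ← map_inv, ← map_mul, ← map_mul]
          rfl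
        refine ⟨hy y w, fun hw => ?_⟩
        have h1 := hy y⁻¹ _ hw
        rw [map_inv] at h1
        simpa [mul_assoc] using h1
      rw [hR', hR']
      constructor
      · rintro ⟨hz, hm⟩
        refine ⟨T.mul_mem (T.mul_mem t.2 hz) (T.inv_mem t.2), ?_⟩
        rw [show (⟨(t : Ω) * z * (t : Ω)⁻¹, _⟩ : T) = t * ⟨z, hz⟩ * t⁻¹ from rfl, map_mul,
          map_mul, map_inv, Subgroup.coe_mul, Subgroup.coe_mul, Subgroup.coe_inv, ht]
        exact (hyN _).1 hm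
      · rintro ⟨hz', hm⟩
        have hz : z ∈ T := by
          simpa [mul_assoc] using T.mul_mem (T.mul_mem (T.inv_mem t.2) hz') t.2
        refine ⟨hz, (hyN _).2 ?_⟩
        rw [show (⟨(t : Ω) * z * (t : Ω)⁻¹, hz'⟩ : T) = t * ⟨z, hz⟩ * t⁻¹ from rfl, map_mul,
          map_mul, map_inv, Subgroup.coe_mul, Subgroup.coe_mul, Subgroup.coe_inv, ht] at hm
        exact hm
    have := finite_of_le (Ω := Ω) (hNT.trans h.closed.1)
    have hran : ψ.range = aN.range := by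
      refine eq_of_le_of_card_le (range_le haNF) (fun _ ⟨y, hy⟩ => hy ▸ hmem y) (le_of_eq ?_)
      rw [card_range hψ, card_range haNF]
    set γ0 := ρ.comp (aN.codRestrict ψ.range fun y => hran.ge ⟨y, rfl⟩) with hγ0
    have hγ0F : γ0 ∈ F.Hom N := F.comp_mem haNF (h.sub _ hρ) _
    have hγr : γ0.range = N := by
      refine range_eq_of_le hγ0F (hNT.trans h.closed.1) (fun y => hρr.le ⟨_, rfl⟩) le_rfl
    set γ : MulAut N := toAut hγ0F hγr with hγdef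
    have hψγ : ∀ x : N, ψ (γ x) = aN x := fun x => by
      have := hρi' ⟨aN x, hran.ge ⟨x, rfl⟩⟩ (hρr.le ⟨_, rfl⟩)
      exact (congrArg ψ (Subtype.ext rfl)).trans this
    have hγfix : ∀ x : N, (x : Ω) ∈ R → γ x = x := fun x hx => by
      apply E.injective_of_mem hψ
      rw [hψγ]
      exact ((hae ⟨x, hx⟩ (hRT hx)).symm.trans (hψe x hx x.2).symm)
    have hγp : γ ∈ fixingTranslations F N R := by
      refine ⟨toAut_mem hγ0F hγr, hγfix, fun g => ?_⟩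
      refine isCentric_centralizerIn_le hR ⟨hNT (g⁻¹ * γ g).2, Subgroup.mem_centralizer_iff.2 fun r hr => ?_⟩
      have hr' : (g : Ω) * r * (g : Ω)⁻¹ ∈ R := (Subgroup.mem_normalizer_iff.1 g.2.2 r).1 hr
      have e1 := hγfix (g * ⟨r, hRN hr⟩ * g⁻¹) hr'
      rw [map_mul, map_mul, map_inv, hγfix ⟨r, hRN hr⟩ hr] at e1
      have e3 := congrArg Subtype.val e1
      simp only [Subgroup.coe_mul, Subgroup.coe_inv] at e3
      show r * ((g : Ω)⁻¹ * ((γ g : N) : Ω)) = (g : Ω)⁻¹ * ((γ g : N) : Ω) * r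
      calc r * ((g : Ω)⁻¹ * ((γ g : N) : Ω))
          = (g : Ω)⁻¹ * ((g : Ω) * r * (g : Ω)⁻¹) * ((γ g : N) : Ω) := by group
        _ = (g : Ω)⁻¹ * ((γ g : Ω) * r * (γ g : Ω)⁻¹) * ((γ g : N) : Ω) := by rw [e3]
        _ = (g : Ω)⁻¹ * ((γ g : N) : Ω) * r := by group
    obtain ⟨k, hk⟩ := isPGroup_fixingTranslations (R := R) hS (hNT.trans h.closed.1) ⟨γ, hγp⟩
    obtain ⟨a', ha', e', he', hγe⟩ :=
      h.exists_of_pElement hS hNT hγp.1 (k := k) (congrArg Subtype.val hk)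
    obtain ⟨χ, hχ, hχv⟩ := h.transports.exists_map hψ (inv_mem (h.le ha')) (P' := e'.range) (by
      rintro _ ⟨y, rfl⟩
      refine ⟨γ y, ?_⟩
      rw [show (⟨((γ y : N) : Ω), dom_le hψ (γ y).2⟩ : T) = a' ⟨e' y, apply_mem he' y⟩ from
        Subtype.ext (hγe y _), MulAut.inv_apply_self])
    have hN' : E.IsCentric N := isCentric_of_le hR hRN hNT
    have hkey : a'⁻¹ * a ∈ K := by
      refine ih N (by omega) hN' _ (mul_mem (inv_mem (h.le ha')) ha) _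
        (E.comp_mem he' hχ fun y => ⟨y, rfl⟩) fun x hx => ?_
      have h0 : ((a'⁻¹ ⟨((γ x : N) : Ω), dom_le hψ (γ x).2⟩ : T) : Ω) = e' x := by
        rw [show (⟨((γ x : N) : Ω), dom_le hψ (γ x).2⟩ : T) = a' ⟨e' x, apply_mem he' x⟩ from
          Subtype.ext (hγe x _), MulAut.inv_apply_self]
      refine (congrArg χ (Subtype.ext h0.symm)).trans ((hχv (γ x) (apply_mem hψ _) (h0 ▸ ⟨x, rfl⟩)).trans ?_)
      rw [MulAut.mul_apply]
      exact congrArg (fun t : T => ((a'⁻¹ t : T) : Ω)) (Subtype.ext (hψγ x))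
    simpa using mul_mem ha' hkey

/-- An automorphism of `T` relating two maps of `E` on an `E`-centric subgroup is in `K`. -/
theorem mem_of_rel [Finite S] [Fact p.Prime] (h : RelData F E p K) (hS : IsPGroup p S)
    {R : Subgroup Ω} (hR : E.IsCentric R) {e₀ e₁ : R →* Ω} (h₀ : e₀ ∈ E.Hom R) (h₁ : e₁ ∈ E.Hom R)
    {a : MulAut T} (ha : a ∈ F.autGroup T)
    (he : ∀ x : R, ((a ⟨e₀ x, apply_mem h₀ x⟩ : T) : Ω) = e₁ x) : a ∈ K := by
  obtain ⟨η, hη, hηr, hηi, -⟩ := exists_inverse h₀ (rfl : e₀.range = e₀.range)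
  refine h.mem_of_agree hS (Nat.card T) e₀.range (by omega)
    (isCentric_of_isConj hR ⟨e₀, h₀, rfl⟩) a ha _ (E.comp_mem hη h₁ fun y => hηr.le ⟨y, rfl⟩) ?_
  rintro ⟨_, x, rfl⟩ hx
  exact (congrArg e₁ (Subtype.ext (hηi x ⟨x, rfl⟩))).trans (he x).symm

/-- A map carries an `E`-centric subgroup of `T` to an `E`-centric one. -/
theorem isCentric_image [Finite S] (h : RelData F E p K) {R : Subgroup Ω} (hR : E.IsCentric R)
    {φ : R →* Ω} (hφ : φ ∈ F.Hom R) : E.IsCentric φ.range := by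
  obtain ⟨α, hα, φ₀, hφ₀, hdec⟩ := h.frattini R hR.1 φ hφ
  have hR' := isCentric_of_isConj hR ⟨φ₀, hφ₀, rfl⟩
  refine ⟨?_, ?_⟩
  · rintro _ ⟨x, rfl⟩
    exact h.closed.2 R hR.1 φ hφ x
  rintro Q ⟨e, he, rfl⟩
  intro d hd
  obtain ⟨χ, hχ, hχv⟩ := h.transports.exists_map he (inv_mem hα) (P' := φ₀.range) (by
    rintro _ ⟨x, rfl⟩
    refine ⟨⟨φ x, x, rfl⟩, ?_⟩
    rw [show (⟨φ x, dom_le he ⟨x, rfl⟩⟩ : T) = α ⟨φ₀ x, apply_mem hφ₀ x⟩ from
      Subtype.ext (hdec x _), MulAut.inv_apply_self])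
  have hv : ∀ x : R, χ ⟨φ₀ x, x, rfl⟩ = ((α⁻¹ ⟨e ⟨φ x, x, rfl⟩, apply_mem he _⟩ : T) : Ω) := by
    intro x
    have h0 : ((α⁻¹ ⟨φ x, dom_le he ⟨x, rfl⟩⟩ : T) : Ω) = φ₀ x := by
      rw [show (⟨φ x, dom_le he ⟨x, rfl⟩⟩ : T) = α ⟨φ₀ x, apply_mem hφ₀ x⟩ from
        Subtype.ext (hdec x _), MulAut.inv_apply_self]
    exact (congrArg χ (Subtype.ext h0.symm)).trans (hχv ⟨φ x, x, rfl⟩ (apply_mem he _) (h0 ▸ ⟨x, rfl⟩))
  have hd' : ((α⁻¹ ⟨d, hd.1⟩ : T) : Ω) ∈ centralizerIn T χ.range := by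
    refine ⟨Subtype.property _, Subgroup.mem_centralizer_iff.2 ?_⟩
    rintro _ ⟨⟨_, x, rfl⟩, rfl⟩
    rw [hv x, ← Subgroup.coe_mul, ← Subgroup.coe_mul, ← map_mul, ← map_mul]
    exact congrArg (fun t : T => ((α⁻¹ t : T) : Ω))
      (Subtype.ext (Subgroup.mem_centralizer_iff.1 hd.2 _ ⟨_, rfl⟩))
  obtain ⟨⟨_, x, rfl⟩, hx⟩ := hR'.2 _ ⟨χ, hχ, rfl⟩ hd'
  rw [hv x] at hx
  have h3 := congrArg Subtype.val (α⁻¹.injective (Subtype.ext hx))
  exact ⟨_, h3⟩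

end RelData

end Cfsg.Agent.Fusion
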