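import Cfsg.Agent.Lib.Fusion.NormalCriteria
import Cfsg.Agent.Lib.Fusion.Hyperfocal
import Cfsg.Agent.Lib.Fusion.Stabilizer
import Cfsg.Agent.Lib.Fusion.Nilpotent
import Cfsg.Agent.Lib.PGroup.Critical
import Cfsg.Agent.Lib.PGroup.Class2
import Cfsg.Agent.Lib.PGroup.Frattini

/-!
Elements of order `p` (or 4) in the hyperfocal subgroup control `p`-closedness of the automizers:
a characteristic subgroup `D` of exponent `p` (or 4) detecting automorphisms of order prime to `p`,
and the criterion for `S` to be normal.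
-/

set_option autoImplicit false

namespace Cfsg.Agent.Fusion.Small

open Cfsg Cfsg.FusionSystem Cfsg.Agent.Fusion
open scoped commutatorElement

/-- `4` for `p = 2`, else `p`. -/
def smallExp (p : ℕ) : ℕ := if p = 2 then 4 else p

theorem pow_smallExp_of_pow {G : Type*} [Group G] {p : ℕ} {x : G} (h : x ^ p = 1) :
    x ^ smallExp p = 1 := by
  unfold smallExp
  split_ifs with h2
  · subst h2
    rw [show 4 = 2 * 2 from rfl, pow_mul, h, one_pow]
  · exact h

theorem pow_smallExp_cases {G : Type*} [Group G] {p : ℕ} {x : G} (h : x ^ smallExp p = 1) :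
    x ^ p = 1 ∨ p = 2 ∧ x ^ 4 = 1 := by
  unfold smallExp at h
  split_ifs at h with h2
  · exact Or.inr ⟨h2, h⟩
  · exact Or.inl h

theorem card_zpowers_small {G : Type*} [Group G] {p : ℕ} [hp : Fact p.Prime] {x : G}
    (hx : x ^ smallExp p = 1) (hne : x ≠ 1) :
    Nat.card (Subgroup.zpowers x) = p ∨ Nat.card (Subgroup.zpowers x) = 4 := by
  rw [Nat.card_zpowers]
  rcases pow_smallExp_cases hx with h | ⟨rfl, h⟩
  · exact Or.inl (orderOf_eq_prime h hne)
  · obtain ⟨k, hk, he⟩ := (Nat.dvd_prime_pow Nat.prime_two).1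
      (orderOf_dvd_of_pow_eq_one (show x ^ 2 ^ 2 = 1 from h))
    interval_cases k
    · exact absurd (orderOf_eq_one_iff.1 he) hne
    · exact Or.inl he
    · exact Or.inr he

/-- A characteristic subgroup of exponent `p` (`4` for `p = 2`) detecting automorphisms of order
prime to `p`. -/
theorem exists_detecting {H : Type*} [Group H] [Finite H] {p : ℕ} [hp : Fact p.Prime]
    (hH : IsPGroup p H) :
    ∃ D : Subgroup H, D.Characteristic ∧ (∀ x ∈ D, x ^ smallExp p = 1) ∧
      ∀ φ : MulAut H, (orderOf φ).Coprime p → (∀ x ∈ D, φ x = x) → φ = 1 := by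
  obtain ⟨C, hC, hfr, hcomm, hcent⟩ := PGroup.exists_critical hH
  have hZ : ∀ a ∈ C, ∀ b : H, ⁅a, b⁆ ∈ C ∧ ∀ c ∈ C, c * ⁅a, b⁆ = ⁅a, b⁆ * c := fun a ha b =>
    have h := hcomm (Subgroup.commutator_mem_commutator ha (Subgroup.mem_top b))
    ⟨h.1, fun c hc => h.2 c hc⟩
  -- work inside `C`
  have hcl : ∀ x y : C, ⁅y, x⁆ ∈ Subgroup.center C := fun x y => Subgroup.mem_center_iff.2
    fun c => Subtype.ext ((hZ y y.2 x).2 c c.2)
  have hCp : IsPGroup p C := hH.to_subgroup C
  have hpowc : ∀ x : C, x ^ p ∈ Subgroup.center C := fun x => by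
    have hm : x ^ p ∈ frattini C := PGroup.pow_mem_frattini hCp x
    exact Subgroup.mem_center_iff.2 fun c => Subtype.ext
      (hfr (Subgroup.mem_map_of_mem C.subtype hm) c c.2)
  have hcp : ∀ x y : C, ⁅y, x⁆ ^ p = 1 := fun x y => by
    rw [← PGroup.commutator_pow_left (hcl x y), commutatorElement_eq_one_iff_mul_comm]
    exact (Subgroup.mem_center_iff.1 (hpowc y) x).symm
  have hce : ∀ x y : C, ⁅y, x⁆ ^ (smallExp p).choose 2 = 1 := fun x y => by
    unfold smallExp
    split_ifs with h2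
    · subst h2
      rw [show (4 : ℕ).choose 2 = 2 * 3 from rfl, pow_mul, hcp, one_pow]
    · obtain ⟨k, hk⟩ := PGroup.dvd_choose_two hp.out h2
      rw [hk, pow_mul, hcp, one_pow]
  let D₀ : Subgroup C :=
    { carrier := {x | x ^ smallExp p = 1}
      one_mem' := one_pow _
      mul_mem' := fun {x y} (hx : x ^ _ = 1) (hy : y ^ _ = 1) => by
        show (x * y) ^ _ = 1
        rw [PGroup.mul_pow_of_central (hcl x y), hx, hy, hce, one_mul, one_mul]
      inv_mem' := fun {x} (hx : x ^ _ = 1) => by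
        show x⁻¹ ^ _ = 1
        rw [inv_pow, hx, inv_one] }
  have hinv : ∀ (φ : MulAut H) (x : H), x ∈ C → φ x ∈ C := fun φ x hx =>
    Subgroup.characteristic_iff_map_le.1 hC φ (Subgroup.mem_map_of_mem _ hx)
  refine ⟨D₀.map C.subtype, ?_, ?_, ?_⟩
  · rw [Subgroup.characteristic_iff_map_le]
    rintro φ _ ⟨_, ⟨x, hx, rfl⟩, rfl⟩
    refine ⟨⟨φ x, hinv φ x x.2⟩, ?_, rfl⟩
    refine Subtype.ext ?_
    show (φ (x : H)) ^ smallExp p = 1
    rw [← map_pow, show (x : H) ^ smallExp p = 1 from congrArg Subtype.val (show x ^ _ = 1 from hx),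
      map_one]
  · rintro _ ⟨x, hx, rfl⟩
    exact congrArg Subtype.val (show x ^ _ = 1 from hx)
  · intro φ hco hfix
    have : C.Normal := inferInstance
    refine PGroup.aut_eq_one_of_centralizer_le hH C hcent φ hco ?_
    suffices hk : ∀ (k : ℕ) (x : C), (x : C) ^ p ^ k = 1 → φ x = x by
      intro x hx
      obtain ⟨k, hk'⟩ := hCp ⟨x, hx⟩
      exact hk k ⟨x, hx⟩ hk'
    intro k
    induction k with
    | zero =>
      intro x hx
      rw [pow_zero, pow_one] at hx
      rw [hx]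
      exact map_one φ
    | succ k ih =>
      intro x hx
      rw [pow_succ', pow_mul] at hx
      have hxp := ih (x ^ p) hx
      set y : C := x⁻¹ * ⟨φ x, hinv φ x x.2⟩ with hy
      have hmul : (x * y) ^ p = x ^ p := by
        rw [hy, mul_inv_cancel_left]
        apply Subtype.ext
        show (φ (x : H)) ^ p = (x : H) ^ p
        rw [← map_pow]
        exact hxp
      rw [PGroup.mul_pow_of_central (hcl x y), mul_assoc, mul_eq_left] at hmul
      have hyD : y ∈ D₀ := by
        show y ^ smallExp p = 1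
        unfold smallExp
        split_ifs with h2
        · subst h2
          rw [Nat.choose_self, pow_one] at hmul
          rw [show 4 = 2 * 2 from rfl, pow_mul, eq_inv_of_mul_eq_one_left hmul, inv_pow, hcp, inv_one]
        · obtain ⟨m, hm⟩ := PGroup.dvd_choose_two hp.out h2
          rw [hm, pow_mul, hcp, one_pow, mul_one] at hmul
          exact hmul
      exact eq_self_of_translate hH hco (hfix _ ⟨y, hyD, rfl⟩)

variable {Ω : Type*} [Group Ω] {S : Subgroup Ω} [Finite S] {p : ℕ} [Fact p.Prime]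
  {F : FusionSystem S}

/-- Elements of order prime to `p` lie in the residual. -/
theorem mem_pResidual {A : Type*} [Group A] {a : A} (ha : (orderOf a).Coprime p) :
    a ∈ pResidual p A := Subgroup.subset_closure ha

theorem apply_mem_of_char {P : Subgroup Ω} (H : Subgroup P) (D : Subgroup H) [hD : D.Characteristic]
    (a : MulAut P) (hH : ∀ x : P, x ∈ H → a x ∈ H) (x : P) (hx : x ∈ D.map H.subtype)
    (hsurj : ∀ x : P, x ∈ H → a⁻¹ x ∈ H) : a x ∈ D.map H.subtype := by
  obtain ⟨d, hd, rfl⟩ := hx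
  let β : MulAut H :=
    { toFun := fun h => ⟨a h, hH h h.2⟩
      invFun := fun h => ⟨a⁻¹ h, hsurj h h.2⟩
      left_inv := fun h => Subtype.ext (MulAut.inv_apply_self P a h)
      right_inv := fun h => Subtype.ext (MulAut.apply_inv_self P a h)
      map_mul' := fun h k => Subtype.ext (map_mul a _ _) }
  exact ⟨β d, Subgroup.characteristic_iff_map_le.1 hD β (Subgroup.mem_map_of_mem _ hd), rfl⟩

/-- The stabilizer of a series, inside the small elements of `hyp(F) ∩ P`, is a `p`-group. -/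
theorem exists_detecting_in (hS : IsPGroup p S) (hF : F.IsSaturated p) {P : Subgroup Ω}
    (hP : P ≤ S) :
    ∃ D : Subgroup Ω, D ≤ P ∧ D ≤ F.hyperfocalSubgroup p ∧ (∀ x ∈ D, x ^ smallExp p = 1) ∧
      (∀ α ∈ F.autGroup P, ∀ x : P, (x : Ω) ∈ D → ((α x : P) : Ω) ∈ D) ∧
      ∀ α : F.autGroup P, (orderOf α).Coprime p →
        (∀ x : P, (x : Ω) ∈ D → (α : MulAut P) x = x) → α = 1 := by
  have := finite_of_le (Ω := Ω) hP
  set H : Subgroup P := (F.hyperfocalSubgroup p).subgroupOf P with hH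
  have hsc := stronglyClosed_hyperfocal hS hF
  have hinvH : ∀ α ∈ F.autGroup P, ∀ x : P, x ∈ H → α x ∈ H := fun α hα x hx =>
    apply_mem_of_stronglyClosed hsc hP hα hx
  have hHp : IsPGroup p H := (hS.to_le hP).to_subgroup H
  obtain ⟨D, hD, hDe, hDd⟩ := exists_detecting hHp
  refine ⟨(D.map H.subtype).map P.subtype, Subgroup.map_subtype_le _, ?_, ?_, ?_, ?_⟩
  · rintro _ ⟨_, ⟨d, -, rfl⟩, rfl⟩
    exact d.2
  · rintro _ ⟨_, ⟨d, hd, rfl⟩, rfl⟩
    exact congrArg (fun z : H => ((z : P) : Ω)) (hDe d hd)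
  · intro α hα x hx
    obtain ⟨x', hx', he⟩ := hx
    obtain rfl : x' = x := Subtype.ext he
    exact ⟨α x', apply_mem_of_char H D α (hinvH α hα) x' hx'
      (hinvH α⁻¹ (inv_mem hα)), rfl⟩
  · intro α hco hfix
    let β : MulAut H :=
      { toFun := fun h => ⟨(α : MulAut P) h, hinvH _ α.2 h h.2⟩
        invFun := fun h => ⟨(α : MulAut P)⁻¹ h, hinvH _ (inv_mem α.2) h h.2⟩
        left_inv := fun h => Subtype.ext (MulAut.inv_apply_self P _ h)
        right_inv := fun h => Subtype.ext (MulAut.apply_inv_self P _ h)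
        map_mul' := fun h k => Subtype.ext (map_mul (α : MulAut P) _ _) }
    have hpow : ∀ (n : ℕ) (h : H), (((β ^ n) h : H) : P) = ((α : MulAut P) ^ n) h := by
      intro n
      induction n with
      | zero => intro h; rfl
      | succ n ih =>
        intro h
        rw [pow_succ', pow_succ', MulAut.mul_apply, MulAut.mul_apply, ← ih]
        rfl
    have hord : (orderOf β).Coprime p := by
      refine hco.coprime_dvd_left (orderOf_dvd_of_pow_eq_one (MulEquiv.ext fun h => Subtype.ext ?_))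
      rw [hpow, ← Subgroup.orderOf_coe, pow_orderOf_eq_one]
      rfl
    have hβ : β = 1 := hDd β hord fun d hd => Subtype.ext (hfix d ⟨d, ⟨d, hd, rfl⟩, rfl⟩)
    apply Subtype.ext
    refine MulEquiv.ext fun x => ?_
    have hy : x⁻¹ * (α : MulAut P) x ∈ H :=
      inv_mul_apply_mem_hyperfocal hP (mem_pResidual hco) x
    exact eq_self_of_translate (hS.to_le hP) (by rwa [Subgroup.orderOf_coe])
      (congrArg Subtype.val (DFunLike.congr_fun hβ ⟨_, hy⟩))

/-- The stabilizer of a chain exhausting a detecting subgroup is a `p`-group. -/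
theorem isPGroup_stabilizer (hS : IsPGroup p S) {P D : Subgroup Ω} (hP : P ≤ S)
    (hdet : ∀ α : F.autGroup P, (orderOf α).Coprime p →
      (∀ x : P, (x : Ω) ∈ D → (α : MulAut P) x = x) → α = 1)
    {T : ℕ → Subgroup Ω} {m : ℕ} (hT0 : T 0 = ⊥) (hTm : D ≤ T m)
    (K : Subgroup (F.autGroup P))
    (hK : ∀ a ∈ K, ∀ i < m, ∀ x : P, (x : Ω) ∈ T (i + 1) →
      ((x⁻¹ * (a : MulAut P) x : P) : Ω) ∈ T i) : IsPGroup p K := by
  have := finite_autGroup (F := F) hP
  refine isPGroup_of_coprime_orderOf_eq_one fun a ha => Subtype.ext ?_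
  refine hdet a (by rwa [Subgroup.orderOf_coe]) fun x hx => ?_
  have hco : (orderOf ((a : F.autGroup P) : MulAut P)).Coprime p := by
    rwa [Subgroup.orderOf_coe, Subgroup.orderOf_coe]
  refine eq_self_of_series (hS.to_le hP) hco (T := fun i => (T i).subgroupOf P) (m := m) ?_
    (fun i hi x hx => hK a a.2 i hi x hx) x (hTm hx)
  simp [hT0]

/-- Criterion for `S` to be normal. -/
theorem isNormal_of_small_chains (hS : IsPGroup p S) (hF : F.IsSaturated p)
    (h : ∀ (P D : Subgroup Ω), P ≤ S → D ≤ P → D ≤ F.hyperfocalSubgroup p →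
      (∀ x ∈ D, x ^ smallExp p = 1) →
      (∀ α ∈ F.autGroup P, ∀ x : P, (x : Ω) ∈ D → ((α x : P) : Ω) ∈ D) →
      ∃ (T : ℕ → Subgroup Ω) (m : ℕ), T 0 = ⊥ ∧ D ≤ T m ∧
        (∀ α ∈ F.autGroup P, ∀ (i : ℕ) (x : P), (x : Ω) ∈ T i → ((α x : P) : Ω) ∈ T i) ∧
        ∀ g ∈ S, g ∈ Subgroup.normalizer (P : Set Ω) → ∀ i, ∀ x ∈ T (i + 1), x ∈ P →
          x⁻¹ * (g * x * g⁻¹) ∈ T i) : F.IsNormal S := by
  refine isNormal_self_of_pClosed hS hF fun P hPn _ _ => ?_
  have hP := hPn.1
  have := finite_autGroup (F := F) hP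
  obtain ⟨D, hDP, hDK, hDe, hDinv, hdet⟩ := exists_detecting_in hS hF hP
  obtain ⟨T, m, hT0, hTm, hTinv, hTg⟩ := h P D hP hDP hDK hDe hDinv
  let K := seriesStabilizer (F.autGroup P) (fun i => (T i).subgroupOf P)
    (fun a i x hx => hTinv a a.2 i x hx)
  have hKn : K.Normal := seriesStabilizer_normal _ _ _
  have hKp : IsPGroup p K :=
    isPGroup_stabilizer hS hP hdet hT0 hTm K fun a ha i _ x hx => ha i x hx
  obtain ⟨-, R, hR⟩ := isFullyAutomized_of_fullyNormalized hS hF hPn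
  have hle : (R : Subgroup (F.autGroup P)) ≤ K := by
    intro a ha i x hx
    rw [hR, Subgroup.mem_subgroupOf] at ha
    obtain ⟨g, hg, hgx⟩ := mem_autInducedBy_iff.1 ha
    show ((x⁻¹ * (a : MulAut P) x : P) : Ω) ∈ T i
    rw [Subgroup.coe_mul, hgx, Subgroup.coe_inv]
    exact hTg g hg (mem_normalizer_of_aut hgx) i x hx x.2
  exact ⟨R, (R.is_maximal' hKp hle) ▸ hKn⟩

/-- The upper central series of `S`, in the ambient group. -/
def upperIn (S : Subgroup Ω) (i : ℕ) : Subgroup Ω := (Subgroup.upperCentralSeries S i).map S.subtype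

omit [Finite S] in
theorem upperIn_zero : upperIn S 0 = ⊥ := by
  rw [upperIn, Subgroup.upperCentralSeries_zero, Subgroup.map_bot]

theorem upperIn_top (hS : IsPGroup p S) : ∃ m, upperIn S m = S := by
  have : Group.IsNilpotent ↥S := hS.isNilpotent
  obtain ⟨m, hm⟩ := Group.IsNilpotent.nilpotent (G := ↥S)
  refine ⟨m, ?_⟩
  rw [upperIn, hm, ← MonoidHom.range_eq_map, Subgroup.range_subtype]

omit [Finite S] in
theorem upperIn_step {i : ℕ} {x g : Ω} (hx : x ∈ upperIn S (i + 1)) (hg : g ∈ S) :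
    x⁻¹ * (g * x * g⁻¹) ∈ upperIn S i := by
  obtain ⟨x, hx, rfl⟩ := hx
  refine ⟨x⁻¹ * (⟨g, hg⟩ * x * ⟨g, hg⟩⁻¹), ?_, rfl⟩
  have h := Subgroup.mem_upperCentralSeries_succ_iff.1 (inv_mem hx) ⟨g, hg⟩
  simpa [mul_assoc, commutatorElement_def] using h

omit [Finite S] in
theorem apply_upperIn (ψ : MulAut S) {i : ℕ} {x : S} (hx : (x : Ω) ∈ upperIn S i) :
    ((ψ x : S) : Ω) ∈ upperIn S i := by
  obtain ⟨x', hx', he⟩ := hx
  obtain rfl : x' = x := Subtype.ext he
  exact ⟨_, Subgroup.characteristic_iff_map_le.1 inferInstance ψ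
    (Subgroup.mem_map_of_mem _ hx'), rfl⟩

end Cfsg.Agent.Fusion.Small
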