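import Cfsg.Agent.Lib.Fusion.SmallElements
import Cfsg.Agent.Lib.Fusion.KNormalizer
import Cfsg.Agent.Lib.Fusion.Alperin
import Cfsg.Agent.Lib.PGroup.Basic

/-!
Small exponent abelian subgroups of the hyperfocal subgroup control fusion (Benson–Grodal–Henke):
a saturated subsystem on `S` with the same maps on these subgroups is the whole system.

* `mem_of_fix`: a map normalizing and fixing such a subgroup `A` lies in the subsystem;
* `eq_of_agree`.
-/

set_option autoImplicit false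
set_option linter.unusedSectionVars false

namespace Cfsg.Agent.Fusion.SmallControl

open Cfsg Cfsg.FusionSystem Cfsg.Agent.Fusion
open scoped commutatorElement Pointwise

universe u

variable {Ω : Type u} [Group Ω] {S : Subgroup Ω} {F E : FusionSystem S} {p : ℕ}

theorem mem_normalizer_fin {H : Subgroup Ω} [Finite H] {g : Ω}
    (h : ∀ y ∈ H, g * y * g⁻¹ ∈ H) : g ∈ Subgroup.normalizer (H : Set Ω) := by
  refine Subgroup.mem_normalizer_iff_map_conj_eq.2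
    (Subgroup.eq_of_le_of_card_ge ?_ (Subgroup.card_map_of_injective (MulAut.conj g).injective).ge)
  rintro _ ⟨y, hy, rfl⟩
  exact h y hy

theorem apply_mem_sc {S₀ R : Subgroup Ω} (hS₀ : F.StronglyClosed S₀) {ψ : R →* Ω}
    (hψ : ψ ∈ F.Hom R) (x : R) (hx : (x : Ω) ∈ S₀) : ψ x ∈ S₀ :=
  hS₀.2 (R ⊓ S₀) inf_le_right _ (restrict_mem hψ inf_le_left) ⟨x, x.2, hx⟩

/-- Abelian of exponent `p` (`4` for `p = 2`). -/
def IsSmallAb (p : ℕ) (A : Subgroup Ω) : Prop :=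
  IsMulCommutative A ∧ ∀ a ∈ A, a ^ Small.smallExp p = 1

/-- `E` has all maps of `F` on the small exponent abelian subgroups of `H`. -/
def Agree (E F : FusionSystem S) (p : ℕ) (H : Subgroup Ω) : Prop :=
  ∀ A : Subgroup Ω, A ≤ H → IsSmallAb p A → ∀ ρ ∈ F.Hom A, ρ ∈ E.Hom A

theorem agree_of_homSet [Finite S] [Fact p.Prime] (hS : IsPGroup p S) (hF : F.IsSaturated p)
    (h : ∀ A B : Subgroup Ω, A ≤ F.hyperfocalSubgroup p → B ≤ F.hyperfocalSubgroup p →
      IsSmallAb p A → IsSmallAb p B → E.homSet A B = F.homSet A B) :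
    Agree E F p (F.hyperfocalSubgroup p) := by
  intro A hA hsm ρ hρ
  have hB : ρ.range ≤ F.hyperfocalSubgroup p := by
    rintro _ ⟨x, rfl⟩
    exact (stronglyClosed_hyperfocal hS hF).2 A hA ρ hρ x
  have hsB : IsSmallAb p ρ.range := by
    obtain ⟨hc, he⟩ := hsm
    refine ⟨⟨⟨fun a b => ?_⟩⟩, ?_⟩
    · obtain ⟨x, hx⟩ := a.2
      obtain ⟨y, hy⟩ := b.2
      refine Subtype.ext ?_
      show (a : Ω) * b = b * a
      rw [← hx, ← hy, ← map_mul, ← map_mul, hc.is_comm.comm x y]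
    · rintro _ ⟨x, rfl⟩
      rw [← map_pow, show x ^ Small.smallExp p = 1 from Subtype.ext (he x x.2), map_one]
  exact ((h A ρ.range hA hB hsm hsB).ge ⟨hρ, fun x => ⟨x, rfl⟩⟩).1

/-- `φ` extends to `P ⊔ A` acting on `A` by an element of `K`. -/
def ExtK (F : FusionSystem S) (A : Subgroup Ω) (K : Subgroup (MulAut A)) (P : Subgroup Ω)
    (φ : P →* Ω) : Prop :=
  ∃ ψ ∈ F.Hom (P ⊔ A), (∀ x : P, ψ (Subgroup.inclusion le_sup_left x) = φ x) ∧
    ∃ k ∈ K, ∀ x : A, ψ (Subgroup.inclusion le_sup_right x) = (k x : Ω)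

theorem map_eq_of_onA {A P : Subgroup Ω} {ψ : ↥(P ⊔ A) →* Ω} {k : MulAut A}
    (h : ∀ x : A, ψ (Subgroup.inclusion le_sup_right x) = (k x : Ω)) :
    (A.subgroupOf (P ⊔ A)).map ψ = A := by
  ext y
  constructor
  · rintro ⟨⟨z, hz⟩, hzA, rfl⟩
    rw [show ψ ⟨z, hz⟩ = _ from h ⟨z, hzA⟩]
    exact Subtype.property _
  · intro hy
    refine ⟨Subgroup.inclusion le_sup_right (k.symm ⟨y, hy⟩), (k.symm ⟨y, hy⟩).2, ?_⟩
    rw [h, MulEquiv.apply_symm_apply]

/-- The `Aut_S(A)`-normalizer system. -/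
def kSystem (F : FusionSystem S) (A : Subgroup Ω) (hA : A ≤ S) :
    FusionSystem (normalizerIn S A) :=
  subsystemOf (normalizerSystem F A hA) (ExtK F A (autInducedBy S A))
    (fun P g hP hg => ⟨conjHom (P ⊔ A) g,
      F.conj_mem (sup_le (hP.trans inf_le_left) hA) hg.1, fun _ => rfl,
      conjAut hg.2, conjAut_mem_autInducedBy hg.1 hg.2, fun _ => rfl⟩)
    (by
      rintro P Q φ χ - - ⟨φ', hφ', hφe, k, hk, hkφ⟩ ⟨χ', hχ', hχe, l, hl, hlχ⟩ h
      have hmem : ∀ x, φ' x ∈ Q ⊔ A := forall_sup_mem φ'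
        (fun x => Subgroup.mem_sup_left (by rw [hφe]; exact h x))
        (fun x => Subgroup.mem_sup_right (by rw [hkφ]; exact (k x).2))
      refine ⟨_, F.comp_mem hφ' hχ' hmem, fun x => ?_, l * k, Subgroup.mul_mem _ hl hk, fun x => ?_⟩
      · show χ' ⟨φ' _, _⟩ = χ ⟨φ x, h x⟩
        rw [← hχe ⟨φ x, h x⟩]
        exact congrArg χ' (Subtype.ext (hφe x))
      · show χ' ⟨φ' _, _⟩ = _
        rw [MulAut.mul_apply, ← hlχ (k x)]
        exact congrArg χ' (Subtype.ext (hkφ x)))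
    (by
      rintro P φ ψ - ⟨φ', hφ', hφe, k, hk, hkφ⟩ - hi
      have hr := range_sup_eq hφe (map_eq_of_onA hkφ)
      obtain ⟨χ, hχ, -, hχi, -⟩ := exists_inverse hφ' hr
      refine ⟨χ, hχ, ?_, k⁻¹, Subgroup.inv_mem _ hk, fun y => ?_⟩
      · rintro ⟨_, x, rfl⟩
        rw [hi x]
        refine Eq.trans (congrArg χ (Subtype.ext ?_))
          (hχi (Subgroup.inclusion le_sup_left x) ?_)
        · exact (hφe x).symm
        rw [hφe x]
        exact Subgroup.mem_sup_left ⟨x, rfl⟩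
      · refine Eq.trans (congrArg χ (Subtype.ext ?_))
          (hχi (Subgroup.inclusion le_sup_right (k⁻¹ y)) (hr.le ⟨_, rfl⟩))
        exact ((hkφ (k⁻¹ y)).trans (congrArg Subtype.val (MulAut.apply_inv_self A k y))).symm)

theorem mem_kSystem {A : Subgroup Ω} {hA : A ≤ S} {P : Subgroup Ω} {φ : P →* Ω} :
    φ ∈ (kSystem F A hA).Hom P ↔ φ ∈ F.Hom P ∧ P ≤ normalizerIn S A ∧
      (∀ x, φ x ∈ normalizerIn S A) ∧ ExtK F A (autInducedBy S A) P φ := by
  constructor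
  · rintro ⟨⟨h1, h2, h3, -⟩, h4⟩
    exact ⟨h1, h2, h3, h4⟩
  · rintro ⟨h1, h2, h3, h4⟩
    obtain ⟨ψ, hψ, he, k, hk, hkψ⟩ := h4
    exact ⟨⟨h1, h2, h3, ψ, hψ, he, map_eq_of_onA hkψ⟩, ψ, hψ, he, k, hk, hkψ⟩

theorem kSystem_isNormal {A : Subgroup Ω} (hA : A ≤ S) : (kSystem F A hA).IsNormal A := by
  refine ⟨le_normalizerIn hA, fun P φ hφ => ?_⟩
  obtain ⟨-, hP, hφT, ψ, hψ, he, k, hk, hkψ⟩ := mem_kSystem.1 hφ
  refine ⟨ψ, mem_kSystem.2 ⟨hψ, sup_le hP (le_normalizerIn hA), ?_, ?_⟩, he, map_eq_of_onA hkψ⟩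
  · exact forall_sup_mem ψ (fun x => by rw [he]; exact hφT x)
      fun x => le_normalizerIn hA (by rw [hkψ]; exact (k x).2)
  · have hle : P ⊔ A ⊔ A ≤ P ⊔ A := sup_le le_rfl le_sup_right
    exact ⟨_, restrict_mem hψ hle, fun x => rfl, k, hk, fun x => hkψ x⟩

variable [Finite S] [Fact p.Prime]

theorem kSystem_saturated (hS : IsPGroup p S) (hF : F.IsSaturated p) {A : Subgroup Ω}
    (hA : F.IsFullyNormalized A) : (kSystem F A hA.1).IsSaturated p := by
  refine KNorm.saturated (F := F)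
    { Q := A, K := autInducedBy S A, T := _, E := kSystem F A hA.1,
      receptive := isReceptive_of_fullyNormalized hS hF hA,
      sylow := ?_, mem_T := ?_, mem_E := ?_ } hS hF
  · intro V hV _
    exact ⟨1, Subgroup.one_mem _, fun v hv => by simpa using (hV hv).2⟩
  · exact fun g => ⟨fun h => ⟨h.1, h.2, conjAut_mem_autInducedBy h.1 h.2⟩, fun h => ⟨h.1, h.2.1⟩⟩
  · exact fun P φ => mem_kSystem

/-- A subgroup containing a Sylow `p`-subgroup and every element of order prime to `p` is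
everything. -/
theorem eq_top_of_coprime_mem {X : Type*} [Group X] [Finite X] {H : Subgroup X} (T : Sylow p X)
    (hT : (T : Subgroup X) ≤ H) (h : ∀ x : X, (orderOf x).Coprime p → x ∈ H) : H = ⊤ := by
  refine Subgroup.index_eq_one.1 ?_
  by_contra hne
  obtain ⟨q, hq, hqd⟩ := Nat.exists_prime_and_dvd hne
  have : Fact q.Prime := ⟨hq⟩
  by_cases hqp : q = p
  · subst hqp
    exact T.not_dvd_index (hqd.trans (Subgroup.index_dvd_of_le hT))
  · obtain ⟨Q⟩ : Nonempty (Sylow q X) := inferInstance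
    refine Q.not_dvd_index (hqd.trans (Subgroup.index_dvd_of_le fun x hx => h x ?_))
    obtain ⟨k, hk⟩ := Q.isPGroup' ⟨x, hx⟩
    exact Nat.Coprime.coprime_dvd_left
      (orderOf_dvd_of_pow_eq_one (congrArg Subtype.val hk :))
      (Nat.Coprime.pow_left k ((Nat.coprime_primes hq Fact.out).2 hqp))

/-- A map of `F` on `R` normalizing the small abelian `B`, mapped onto a fully normalized
subgroup, agrees on `B` with a map of `E`. -/
theorem exists_agree (hS : IsPGroup p S) (hE : E.IsSaturated p) (hle : E ≤ F) {H : Subgroup Ω}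
    (hag : Agree E F p H) {B R : Subgroup Ω} (hBH : B ≤ H) (hB : IsSmallAb p B) (hBR : B ≤ R)
    (hR : R ≤ Subgroup.normalizer (B : Set Ω)) {f : R →* Ω} (hf : f ∈ F.Hom R) {B' : Subgroup Ω}
    (hfB : (B.subgroupOf R).map f = B') (hn : F.IsFullyNormalized B') :
    ∃ χ ∈ E.Hom R, ∀ x : R, (x : Ω) ∈ B → χ x = f x := by
  have hρ := hag B hBH hB _ (restrict_mem hf hBR)
  have hn' : E.IsFullyNormalized B' := ⟨hn.1, fun Q ⟨φ, hφ, hr⟩ => hn.2 Q ⟨φ, hle _ hφ, hr⟩⟩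
  have hr : (f.comp (Subgroup.inclusion hBR)).range = B' := by
    rw [MonoidHom.range_comp, Subgroup.inclusion_range, hfB]
  have hRe : R ≤ extender S B (f.comp (Subgroup.inclusion hBR)) := fun g hg =>
    mem_extender_iff.2 ⟨dom_le hf hg, hR hg, f ⟨g, hg⟩, apply_mem hf _, fun x hx => by
      show f _ = f ⟨g, hg⟩ * f (Subgroup.inclusion hBR x) * (f ⟨g, hg⟩)⁻¹
      rw [← map_inv, ← map_mul, ← map_mul]
      rfl⟩
  obtain ⟨χ, hχ, hχe⟩ := exists_extension (isReceptive_of_fullyNormalized hS hE hn') hρ hr hRe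
  exact ⟨χ, hχ, fun x hx => hχe x hx x.2⟩

/-- Conjugating a map fixing `A` by a map of `E`. -/
theorem mem_of_conj_mem (hle : E ≤ F) {N : Subgroup Ω} {χ : N →* Ω} (hχ : χ ∈ E.Hom N)
    {P : Subgroup Ω} (hPN : P ≤ N) {φ : P →* Ω} (hφ : φ ∈ F.Hom P) (hφN : ∀ x, φ x ∈ N)
    (h : ∀ κ ∈ F.Hom (χ.comp (Subgroup.inclusion hPN)).range,
      (∀ x : P, κ ⟨χ (Subgroup.inclusion hPN x), x, rfl⟩ = χ ⟨φ x, hφN x⟩) →
        κ ∈ E.Hom (χ.comp (Subgroup.inclusion hPN)).range) :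
    φ ∈ E.Hom P := by
  obtain ⟨ρ, hρ, -, hρi, -⟩ := exists_inverse hχ (rfl : χ.range = χ.range)
  set χP := χ.comp (Subgroup.inclusion hPN) with hχP
  have hBle : χP.range ≤ χ.range := by rintro _ ⟨x, rfl⟩; exact ⟨_, rfl⟩
  have hρP : ∀ b : χP.range, ρ (Subgroup.inclusion hBle b) ∈ P := by
    rintro ⟨_, x, rfl⟩
    exact (hρi (Subgroup.inclusion hPN x) ⟨_, rfl⟩).symm ▸ x.2
  have h1 := F.comp_mem (restrict_mem (hle _ hρ) hBle) hφ hρP
  have hv : ∀ b : χP.range,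
      φ.comp ((ρ.comp (Subgroup.inclusion hBle)).codRestrict P hρP) b ∈ N := fun b => hφN _
  set κ := χ.comp ((φ.comp ((ρ.comp (Subgroup.inclusion hBle)).codRestrict P hρP)).codRestrict N hv)
    with hκdef
  have hκ : κ ∈ F.Hom χP.range := F.comp_mem h1 (hle _ hχ) hv
  have hκv : ∀ x : P, κ ⟨χP x, x, rfl⟩ = χ ⟨φ x, hφN x⟩ := fun x => by
    refine congrArg χ (Subtype.ext (congrArg φ (Subtype.ext ?_) : _ = φ x))
    exact hρi (Subgroup.inclusion hPN x) ⟨_, rfl⟩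
  have hκE := h κ hκ hκv
  have h2 := E.comp_mem (restrict_mem hχ hPN) hκE (fun x => ⟨x, rfl⟩)
  have h3 := E.comp_mem h2 hρ (fun x => ⟨_, rfl⟩)
  refine mem_of_le (F := E) h3 le_rfl fun x => ?_
  show φ x = ρ ⟨κ ⟨χP x, _⟩, _⟩
  exact (hρi ⟨φ x, hφN x⟩ ⟨_, rfl⟩).symm.trans (congrArg ρ (Subtype.ext (hκv x).symm))

set_option maxHeartbeats 1000000 in
/-- The inductive step: an automorphism of order prime to `p` fixing the fully normalized `A`. -/
theorem aut_mem_of_fix (hS : IsPGroup p S) (hF : F.IsSaturated p) (hE : E.IsSaturated p)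
    (hle : E ≤ F) (hag : Agree E F p (F.hyperfocalSubgroup p)) {A : Subgroup Ω}
    (hAH : A ≤ F.hyperfocalSubgroup p) (hA : IsSmallAb p A)
    (ih : ∀ B : Subgroup Ω, B ≤ F.hyperfocalSubgroup p → IsSmallAb p B → Nat.card A < Nat.card B →
      ∀ (P : Subgroup Ω) (φ : P →* Ω), φ ∈ F.Hom P → B ≤ P →
        P ≤ Subgroup.normalizer (B : Set Ω) → (∀ x : P, (x : Ω) ∈ B → φ x = x) → φ ∈ E.Hom P)
    {R : Subgroup Ω} (hRS : R ≤ S) (hAR : A ≤ R) (hRA : R ≤ Subgroup.normalizer (A : Set Ω))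
    (a : F.autGroup R) (hco : (orderOf a).Coprime p)
    (hfix : ∀ x : R, (x : Ω) ∈ A → (a : MulAut R) x = x) : (a : MulAut R) ∈ E.autGroup R := by
  have := finite_of_le (Ω := Ω) hRS
  set P₀ := R ⊓ Subgroup.centralizer (A : Set Ω) with hP₀
  have hP₀R : P₀ ≤ R := inf_le_left
  have hP₀S : P₀ ≤ S := hP₀R.trans hRS
  have := finite_autGroup (F := F) hP₀S
  obtain ⟨D, hDP, hDH, hDe, hDinv, hdet⟩ := Small.exists_detecting_in hS hF hP₀S
  obtain ⟨hφa, -⟩ := hom_of_mem_autGroup hRS a.2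
  have hmapP : ∀ x : P₀, (((a : MulAut R) ⟨x, hP₀R x.2⟩ : R) : Ω) ∈ P₀ := fun x => by
    refine ⟨((a : MulAut R) _).2, Subgroup.mem_centralizer_iff.2 fun c hc => ?_⟩
    have h1 : (a : MulAut R) (⟨c, hAR hc⟩ * ⟨x, hP₀R x.2⟩) =
        (a : MulAut R) (⟨x, hP₀R x.2⟩ * ⟨c, hAR hc⟩) :=
      congrArg _ (Subtype.ext (Subgroup.mem_centralizer_iff.1 x.2.2 c hc))
    rw [map_mul, map_mul, hfix ⟨c, hAR hc⟩ hc] at h1
    exact congrArg Subtype.val h1
  set f₀ := (R.subtype.comp (a : MulAut R).toMonoidHom).comp (Subgroup.inclusion hP₀R) with hf₀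
  have hf₀m : f₀ ∈ F.Hom P₀ := restrict_mem hφa hP₀R
  have hf₀r : f₀.range = P₀ := range_eq_of_le hf₀m hP₀S (fun x => hmapP x) le_rfl
  set a₀ : F.autGroup P₀ := ⟨toAut hf₀m hf₀r, toAut_mem hf₀m hf₀r⟩ with ha₀
  by_cases hDA : D ≤ A
  · -- `a` is trivial
    have hpow : ∀ (n : ℕ) (x : P₀), ((((a₀ ^ n : F.autGroup P₀) : MulAut P₀) x : P₀) : Ω) =
        ((((a ^ n : F.autGroup R) : MulAut R) ⟨x, hP₀R x.2⟩ : R) : Ω) := by
      intro n
      induction n with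
      | zero => intro x; rfl
      | succ n hn =>
        intro x
        rw [pow_succ' a, pow_succ' a₀]
        show ((toAut hf₀m hf₀r _ : P₀) : Ω) = (((a : MulAut R) _ : R) : Ω)
        rw [coe_toAut]
        show (((a : MulAut R) _ : R) : Ω) = _
        exact congrArg (fun t => (((a : MulAut R) t : R) : Ω)) (Subtype.ext (hn x))
    have hco₀ : (orderOf a₀).Coprime p := by
      refine hco.coprime_dvd_left (orderOf_dvd_of_pow_eq_one (Subtype.ext (MulEquiv.ext fun x =>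
        Subtype.ext ?_)))
      rw [hpow, pow_orderOf_eq_one]
      rfl
    have h0 : a₀ = 1 := hdet a₀ hco₀ fun x hx => Subtype.ext (by
      show ((toAut hf₀m hf₀r x : P₀) : Ω) = x
      rw [coe_toAut]
      exact congrArg Subtype.val (hfix ⟨x, hP₀R x.2⟩ (hDA hx)))
    have htriv : ∀ x : P₀, (a : MulAut R) ⟨x, hP₀R x.2⟩ = ⟨x, hP₀R x.2⟩ := fun x => by
      have h1 : ((toAut hf₀m hf₀r x : P₀) : Ω) = x :=
        congrArg (fun b : F.autGroup P₀ => (((b : MulAut P₀) x : P₀) : Ω)) h0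
      rw [coe_toAut] at h1
      exact Subtype.ext h1
    have h1 : a = 1 := by
      refine Subtype.ext (MulEquiv.ext fun x => ?_)
      refine eq_self_of_translate (hS.to_le hRS) (by rwa [Subgroup.orderOf_coe]) (x := x) ?_
      have hy : ((x⁻¹ * (a : MulAut R) x : R) : Ω) ∈ P₀ := by
        refine ⟨(x⁻¹ * (a : MulAut R) x : R).2, Subgroup.mem_centralizer_iff.2 fun c hc => ?_⟩
        have hxc : (x : Ω) * c * (x : Ω)⁻¹ ∈ A := (Subgroup.mem_normalizer_iff.1 (hRA x.2) c).1 hc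
        have h2 := hfix ⟨_, hAR hxc⟩ hxc
        rw [show (⟨(x : Ω) * c * (x : Ω)⁻¹, hAR hxc⟩ : R) = x * ⟨c, hAR hc⟩ * x⁻¹ from rfl, map_mul,
          map_mul, map_inv, hfix ⟨c, hAR hc⟩ hc] at h2
        have h3 := congrArg Subtype.val h2
        simp only [Subgroup.coe_mul, Subgroup.coe_inv] at h3
        rw [mul_inv_eq_iff_eq_mul] at h3
        simp only [Subgroup.coe_mul, Subgroup.coe_inv]
        calc c * ((x : Ω)⁻¹ * ((a : MulAut R) x : R))
            = (x : Ω)⁻¹ * ((x : Ω) * c * (x : Ω)⁻¹ * ((a : MulAut R) x : R)) := by group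
          _ = (x : Ω)⁻¹ * (((a : MulAut R) x : R) * c) := by rw [h3]
          _ = (x : Ω)⁻¹ * ((a : MulAut R) x : R) * c := by group
      exact htriv ⟨_, hy⟩
    rw [h1]
    exact one_mem _
  -- enlarge `A`
  have hDR : D ≤ R := hDP.trans hP₀R
  have hDn : ∀ g : R, ∀ d ∈ D, (g : Ω) * d * (g : Ω)⁻¹ ∈ D := by
    intro g d hd
    have := finite_of_le (Ω := Ω) hP₀S
    have hgN : (g : Ω) ∈ Subgroup.normalizer (P₀ : Set Ω) := by
      refine mem_normalizer_fin fun y hy => ⟨R.mul_mem (R.mul_mem g.2 hy.1) (R.inv_mem g.2),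
        Subgroup.mem_centralizer_iff.2 fun c hc => ?_⟩
      have hgc : (g : Ω)⁻¹ * c * ((g : Ω)⁻¹)⁻¹ ∈ A :=
        (Subgroup.mem_normalizer_iff.1 (hRA (R.inv_mem g.2)) c).1 hc
      have h2 := Subgroup.mem_centralizer_iff.1 hy.2 _ hgc
      calc c * ((g : Ω) * y * (g : Ω)⁻¹)
          = (g : Ω) * (((g : Ω)⁻¹ * c * ((g : Ω)⁻¹)⁻¹) * y) * (g : Ω)⁻¹ := by group
        _ = (g : Ω) * (y * ((g : Ω)⁻¹ * c * ((g : Ω)⁻¹)⁻¹)) * (g : Ω)⁻¹ := by rw [h2]
        _ = (g : Ω) * y * (g : Ω)⁻¹ * c := by group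
    exact hDinv (conjAut hgN)
      (autInducedBy_le_autGroup F hP₀S (conjAut_mem_autInducedBy (hRS g.2) hgN)) ⟨d, hDP hd⟩ hd
  obtain ⟨y, hyD, hyA, hyc⟩ : ∃ y ∈ D, y ∉ A ∧ ∀ g : R, (g : Ω) * y * (g : Ω)⁻¹ * y⁻¹ ∈ A := by
    let A' := A.subgroupOf R
    haveI : A'.Normal := ⟨fun c hc g => (Subgroup.mem_normalizer_iff.1 (hRA g.2) c).1 hc⟩
    let D' := D.subgroupOf R
    haveI : D'.Normal := ⟨fun d hd g => hDn g d hd⟩
    let π := QuotientGroup.mk' A'
    haveI : (D'.map π).Normal :=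
      (inferInstance : D'.Normal).map π (QuotientGroup.mk'_surjective A')
    have hne : D'.map π ≠ ⊥ := by
      intro h
      refine hDA fun d hd => ?_
      have h1 : π ⟨d, hDR hd⟩ ∈ D'.map π := ⟨_, hd, rfl⟩
      rw [h, Subgroup.mem_bot] at h1
      exact (QuotientGroup.eq_one_iff (⟨d, hDR hd⟩ : R)).1 h1
    have h2 := PGroup.inf_center_ne_bot ((hS.to_le hRS).to_quotient A') (D'.map π) hne
    obtain ⟨⟨z, hz⟩, hzne⟩ := Subgroup.ne_bot_iff_exists_ne_one.1 h2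
    obtain ⟨⟨y, hy, rfl⟩, hzc⟩ := hz
    refine ⟨y, hy, fun hyA => hzne (Subtype.ext ((QuotientGroup.eq_one_iff y).2 hyA)), fun g => ?_⟩
    have h3 : π (g * y * g⁻¹ * y⁻¹) = 1 := by
      rw [map_mul, map_mul, map_mul, map_inv, map_inv, Subgroup.mem_center_iff.1 hzc (π g),
        mul_inv_cancel_right, mul_inv_cancel]
    exact (QuotientGroup.eq_one_iff (g * y * g⁻¹ * y⁻¹)).1 h3
  set B := A ⊔ Subgroup.zpowers y with hB
  have hyR : y ∈ R := hDR hyD
  have hBR : B ≤ R := sup_le hAR (Subgroup.zpowers_le.2 hyR)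
  have hBH : B ≤ F.hyperfocalSubgroup p := sup_le hAH (Subgroup.zpowers_le.2 (hDH hyD))
  have hyC : y ∈ Subgroup.centralizer (A : Set Ω) := (hDP hyD).2
  have hBsm : IsSmallAb p B := by
    obtain ⟨hAc, hAe⟩ := hA
    have hBB : B ≤ Subgroup.centralizer (B : Set Ω) := by
      have hAA : A ≤ Subgroup.centralizer (A : Set Ω) := fun x hx =>
        Subgroup.mem_centralizer_iff.2 fun c hc =>
          congrArg Subtype.val (hAc.is_comm.comm (⟨c, hc⟩ : A) ⟨x, hx⟩)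
      have hyy : y ∈ Subgroup.centralizer (Subgroup.zpowers y : Set Ω) :=
        Subgroup.mem_centralizer_iff.2 fun c hc => by
          obtain ⟨n, rfl⟩ := hc
          exact ((Commute.refl y).zpow_left n).eq
      refine sup_le ?_ (Subgroup.zpowers_le.2 ?_)
      · refine Subgroup.le_centralizer_iff.1 (sup_le hAA (Subgroup.zpowers_le.2 hyC))
      · refine Subgroup.mem_centralizer_iff.2 fun c hc => ?_
        have h1 : B ≤ Subgroup.centralizer (Subgroup.zpowers y : Set Ω) :=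
          sup_le (Subgroup.le_centralizer_iff.1 (Subgroup.zpowers_le.2 hyC)) (Subgroup.zpowers_le.2 hyy)
        exact (Subgroup.mem_centralizer_iff.1 (h1 hc) y (Subgroup.mem_zpowers y)).symm
    refine ⟨⟨⟨fun b c => Subtype.ext (Subgroup.mem_centralizer_iff.1 (hBB c.2) b b.2)⟩⟩,
      fun b hb => ?_⟩
    obtain ⟨c, hc, d, hd, rfl⟩ : b ∈ (A : Set Ω) * (Subgroup.zpowers y : Set Ω) := by
      rw [← Subgroup.coe_mul_of_right_le_normalizer_left A (Subgroup.zpowers y)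
        ((Subgroup.zpowers_le.2 hyC).trans (Subgroup.centralizer_le_normalizer _))]
      exact hb
    obtain ⟨n, rfl⟩ := hd
    have hcomm : Commute c (y ^ n) :=
      (show Commute c y from Subgroup.mem_centralizer_iff.1 hyC c hc).zpow_right n
    show (c * y ^ n) ^ Small.smallExp p = 1
    rw [hcomm.mul_pow, hAe c hc, one_mul, ← zpow_natCast, ← zpow_mul, mul_comm, zpow_mul,
      zpow_natCast, hDe y hyD, one_zpow]
  have hRB : R ≤ Subgroup.normalizer (B : Set Ω) := by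
    intro g hg
    have := finite_of_le (Ω := Ω) (hBR.trans hRS)
    refine mem_normalizer_fin ?_
    intro x hx
    have hle : B ≤ B.comap (MulAut.conj g).toMonoidHom := by
      refine sup_le (fun c hc => Subgroup.mem_sup_left
        ((Subgroup.mem_normalizer_iff.1 (hRA hg) c).1 hc)) (Subgroup.zpowers_le.2 ?_)
      show g * y * g⁻¹ ∈ B
      have := Subgroup.mul_mem_sup (hyc ⟨g, hg⟩) (Subgroup.mem_zpowers y)
      simpa using this
    exact hle hx
  have hBcard : Nat.card A < Nat.card B := card_lt_of_lt (hBR.trans hRS)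
    (lt_of_le_of_ne le_sup_left fun he =>
      hyA (he.ge (Subgroup.mem_sup_right (Subgroup.mem_zpowers y))))
  obtain ⟨B', hBB', hB'⟩ := exists_fullyNormalized F (hBR.trans hRS)
  obtain ⟨ψ, hψ, hψN, hψB⟩ := exists_hom_fullyNormalized hS hF hB' hBB'
  have hRN : R ≤ normalizerIn S B := le_inf hRS hRB
  set f := ψ.comp (Subgroup.inclusion hRN) with hf
  have hfm : f ∈ F.Hom R := restrict_mem hψ hRN
  have hfB : (B.subgroupOf R).map f = B' := by
    rw [← hψB]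
    ext w
    constructor
    · rintro ⟨x, hx, rfl⟩; exact ⟨Subgroup.inclusion hRN x, hx, rfl⟩
    · rintro ⟨x, hx, rfl⟩; exact ⟨⟨x, hBR hx⟩, hx, rfl⟩
  have hB'H : B' ≤ F.hyperfocalSubgroup p := by
    intro w hw
    obtain ⟨x, hx, rfl⟩ := hfB.ge hw
    exact apply_mem_sc (stronglyClosed_hyperfocal hS hF) hfm x (hBH hx)
  have hB'sm : IsSmallAb p B' := by
    refine ⟨⟨⟨fun w v => ?_⟩⟩, fun w hw => ?_⟩
    · obtain ⟨x, hx, hxw⟩ := hfB.ge w.2
      obtain ⟨z, hz, hzv⟩ := hfB.ge v.2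
      refine Subtype.ext ?_
      show (w : Ω) * v = v * w
      rw [← hxw, ← hzv, ← map_mul, ← map_mul]
      exact congrArg f (Subtype.ext
        (congrArg Subtype.val (hBsm.1.is_comm.comm (⟨x, hx⟩ : B) ⟨z, hz⟩) :))
    · obtain ⟨x, hx, rfl⟩ := hfB.ge hw
      rw [← map_pow, show x ^ Small.smallExp p = 1 from Subtype.ext (hBsm.2 x hx), map_one]
  -- the two maps of `E`
  obtain ⟨χ, hχ, hχe⟩ := exists_agree hS hE hle hag hBH hBsm hBR hRB hfm hfB hB'
  let β : MulAut R := a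
  set B₁ := (B.subgroupOf R).map (R.subtype.comp β.toMonoidHom) with hB₁
  have hB₁R : B₁ ≤ R := by rintro _ ⟨x, -, rfl⟩; exact (β x).2
  have hB₁H : B₁ ≤ F.hyperfocalSubgroup p := by
    rintro _ ⟨x, hx, rfl⟩
    exact apply_mem_of_stronglyClosed (stronglyClosed_hyperfocal hS hF) hRS a.2 (hBH hx)
  have hB₁sm : IsSmallAb p B₁ := by
    refine ⟨⟨⟨fun w v => ?_⟩⟩, fun w hw => ?_⟩
    · obtain ⟨x, hx, hxw⟩ := w.2
      obtain ⟨z, hz, hzv⟩ := v.2
      refine Subtype.ext ?_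
      show (w : Ω) * v = v * w
      rw [← hxw, ← hzv, ← map_mul, ← map_mul]
      exact congrArg _ (Subtype.ext
        (congrArg Subtype.val (hBsm.1.is_comm.comm (⟨x, hx⟩ : B) ⟨z, hz⟩) :))
    · obtain ⟨x, hx, rfl⟩ := hw
      rw [← map_pow, show x ^ Small.smallExp p = 1 from Subtype.ext (hBsm.2 x hx), map_one]
  have hRB₁ : R ≤ Subgroup.normalizer (B₁ : Set Ω) := by
    intro g hg
    have := finite_of_le (Ω := Ω) (hB₁R.trans hRS)
    refine mem_normalizer_fin ?_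
    rintro _ ⟨x, hx, rfl⟩
    obtain ⟨h, hh⟩ := β.surjective ⟨g, hg⟩
    refine ⟨h * x * h⁻¹, (Subgroup.mem_normalizer_iff.1 (hRB h.2) _).1 hx, ?_⟩
    rw [map_mul, map_mul, map_inv]
    show ((β h : R) : Ω) * _ * ((β h : R) : Ω)⁻¹ = _
    rw [hh]
  obtain ⟨hainv, -⟩ := hom_of_mem_autGroup hRS (inv_mem a.2 : β⁻¹ ∈ F.autGroup R)
  set f₁ := f.comp ((R.subtype.comp (β⁻¹).toMonoidHom).codRestrict R fun x => (β⁻¹ x).2) with hf₁
  have hf₁m : f₁ ∈ F.Hom R := F.comp_mem hainv hfm fun x => (β⁻¹ x).2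
  have hf₁v : ∀ x : R, f₁ (β x) = f x := fun x => by
    show f (⟨((β⁻¹ (β x) : R) : Ω), _⟩ : R) = f x
    exact congrArg f (MulAut.inv_apply_self R β x)
  have hf₁B : (B₁.subgroupOf R).map f₁ = B' := by
    rw [← hfB]
    ext w
    constructor
    · rintro ⟨v, ⟨x, hx, hxv⟩, rfl⟩
      exact ⟨x, hx, by rw [← hf₁v, show β x = v from Subtype.ext hxv]⟩
    · rintro ⟨x, hx, rfl⟩
      exact ⟨β x, ⟨x, hx, rfl⟩, hf₁v x⟩
  obtain ⟨χ₁, hχ₁, hχ₁e⟩ :=
    exists_agree hS hE hle hag hB₁H hB₁sm hB₁R hRB₁ hf₁m hf₁B hB'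
  -- `κ = χ₁ a χ⁻¹` fixes `B'`
  obtain ⟨ρ, hρ, -, hρi, -⟩ := exists_inverse hχ (rfl : χ.range = χ.range)
  obtain ⟨ρ₁, hρ₁, -, hρ₁i, -⟩ := exists_inverse hχ₁ (rfl : χ₁.range = χ₁.range)
  have hρR : ∀ b : χ.range, ρ b ∈ R := by
    rintro ⟨_, x, rfl⟩
    exact (hρi x ⟨x, rfl⟩).symm ▸ x.2
  have h1 := F.comp_mem (hle _ hρ) hφa hρR
  set g₁ := (R.subtype.comp β.toMonoidHom).comp (ρ.codRestrict R hρR) with hg₁
  have hg₁R : ∀ b, g₁ b ∈ R := fun b => (β _).2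
  set κ := χ₁.comp (g₁.codRestrict R hg₁R) with hκdef
  have hκm : κ ∈ F.Hom χ.range := F.comp_mem h1 (hle _ hχ₁) hg₁R
  have hκv : ∀ x : R, κ ⟨χ x, x, rfl⟩ = χ₁ (β x) := fun x => by
    refine congrArg χ₁ (Subtype.ext ?_)
    exact congrArg (fun t : R => ((β t : R) : Ω)) (Subtype.ext (hρi x ⟨x, rfl⟩))
  have hB'χ : ∀ w ∈ B', ∃ x : R, (x : Ω) ∈ B ∧ χ x = w := fun w hw => by
    obtain ⟨x, hx, rfl⟩ := hfB.ge hw
    exact ⟨x, hx, hχe x hx⟩
  have hκE : κ ∈ E.Hom χ.range := by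
    refine ih B' hB'H hB'sm ?_ _ κ hκm ?_ ?_ ?_
    · rw [isConj_card hBB']; exact hBcard
    · intro w hw
      obtain ⟨x, -, rfl⟩ := hB'χ w hw
      exact ⟨x, rfl⟩
    · have := finite_of_le (Ω := Ω) hB'.1
      rintro _ ⟨g, rfl⟩
      refine mem_normalizer_fin fun w hw => ?_
      obtain ⟨x, hx, rfl⟩ := hB'χ w hw
      have hgx : (g : Ω) * x * (g : Ω)⁻¹ ∈ B := (Subgroup.mem_normalizer_iff.1 (hRB g.2) _).1 hx
      rw [← map_inv, ← map_mul, ← map_mul, hχe (g * x * g⁻¹) hgx]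
      exact hfB.le ⟨_, hgx, rfl⟩
    · rintro ⟨_, x, rfl⟩ hx'
      obtain ⟨z, hz, hzx⟩ := hB'χ _ hx'
      have hxz : z = x := E.injective_of_mem hχ hzx
      subst hxz
      exact (hκv z).trans (((hχ₁e (β z) ⟨z, hz, rfl⟩).trans (hf₁v z)).trans (hχe z hz).symm)
  have h2 := E.comp_mem hχ hκE (fun x => ⟨x, rfl⟩)
  have h3 := E.comp_mem h2 hρ₁ (fun x => ⟨_, rfl⟩)
  refine (mem_autGroup_iff hRS).2 (mem_of_le (F := E) h3 le_rfl fun x => ?_)
  show ((β x : R) : Ω) = ρ₁ ⟨κ ⟨χ x, _⟩, _⟩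
  exact (hρ₁i (β x) ⟨_, rfl⟩).symm.trans (congrArg ρ₁ (Subtype.ext (hκv x).symm))

set_option maxHeartbeats 1000000 in
/-- A map normalizing and fixing a small abelian subgroup of `hyp(F)` lies in `E`. -/
theorem mem_of_fix (hS : IsPGroup p S) (hF : F.IsSaturated p) (hE : E.IsSaturated p)
    (hle : E ≤ F) (hag : Agree E F p (F.hyperfocalSubgroup p)) (m : ℕ) :
    ∀ A : Subgroup Ω, Nat.card S - Nat.card A = m → A ≤ F.hyperfocalSubgroup p → IsSmallAb p A →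
      ∀ (P : Subgroup Ω) (φ : P →* Ω), φ ∈ F.Hom P → A ≤ P →
        P ≤ Subgroup.normalizer (A : Set Ω) → (∀ x : P, (x : Ω) ∈ A → φ x = x) → φ ∈ E.Hom P := by
  induction m using Nat.strong_induction_on with
  | _ m ih =>
  have ih' : ∀ A B : Subgroup Ω, Nat.card S - Nat.card A = m → B ≤ F.hyperfocalSubgroup p →
      IsSmallAb p B → Nat.card A < Nat.card B →
      ∀ (P : Subgroup Ω) (φ : P →* Ω), φ ∈ F.Hom P → B ≤ P →
        P ≤ Subgroup.normalizer (B : Set Ω) → (∀ x : P, (x : Ω) ∈ B → φ x = x) → φ ∈ E.Hom P :=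
    fun A B hm hB hsm hlt => ih _ (by
      have := card_le_of_le le_rfl (hB.trans (hyperfocal_le F p))
      omega) B rfl hB hsm
  -- the fully normalized case
  have hfn : ∀ A : Subgroup Ω, Nat.card S - Nat.card A = m → A ≤ F.hyperfocalSubgroup p →
      IsSmallAb p A → F.IsFullyNormalized A →
      ∀ (P : Subgroup Ω) (φ : P →* Ω), φ ∈ F.Hom P → A ≤ P →
        P ≤ Subgroup.normalizer (A : Set Ω) → (∀ x : P, (x : Ω) ∈ A → φ x = x) → φ ∈ E.Hom P := by
    intro A hm hAH hA hAn P φ hφ hAP hPA hfix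
    have hAS := hAn.1
    have := finite_of_le (Ω := Ω) hAS
    have hT := normalizerIn_le S A
    have := finite_of_le (Ω := Ω) hT
    have hφT : ∀ x, φ x ∈ normalizerIn S A := fun x => by
      refine ⟨apply_mem hφ x, mem_normalizer_fin fun c hc => ?_⟩
      have hxc : (x : Ω) * c * (x : Ω)⁻¹ ∈ A := (Subgroup.mem_normalizer_iff.1 (hPA x.2) c).1 hc
      have h2 := hfix ⟨_, hAP hxc⟩ hxc
      rw [show (⟨(x : Ω) * c * (x : Ω)⁻¹, hAP hxc⟩ : P) = x * ⟨c, hAP hc⟩ * x⁻¹ from rfl, map_mul,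
        map_mul, map_inv, hfix ⟨c, hAP hc⟩ hc] at h2
      rw [h2]
      exact hxc
    have hφK : φ ∈ (kSystem F A hAS).Hom P := mem_kSystem.2 ⟨hφ, le_inf (dom_le hφ) hPA, hφT,
      _, restrict_mem hφ (sup_le le_rfl hAP), fun x => rfl, 1, one_mem _,
      fun x => hfix ⟨x, hAP x.2⟩ x.2⟩
    refine alperin_induction (C := fun P φ => φ ∈ E.Hom P) (hS.to_le hT)
      (kSystem_saturated hS hF hAn) ?_ ?_ ?_ ?_ hφK
    · exact fun P g hP hg => E.conj_mem (hP.trans hT) hg.1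
    · exact fun P Q φ ψ _ _ hφ hψ h => E.comp_mem hφ hψ h
    · intro P φ ψ _ hφ _ hi
      obtain ⟨ψ', hψ', hi'⟩ := E.inv_mem hφ
      rw [show ψ = ψ' from MonoidHom.ext fun ⟨_, x, hx⟩ => by
        subst hx; exact (hi x).trans (hi' x).symm]
      exact hψ'
    intro R hRn hRc hRr α hα
    have hAR : A ≤ R := le_of_isNormal (hS.to_le hT) (kSystem_isNormal hAS) hRc hRr
    have hRS : R ≤ S := hRn.1.trans hT
    have := finite_autGroup (F := kSystem F A hAS) hRn.1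
    obtain ⟨-, T, hTR⟩ := isFullyAutomized_of_fullyNormalized (hS.to_le hT)
      (kSystem_saturated hS hF hAn) hRn
    suffices htop : (E.autGroup R).subgroupOf ((kSystem F A hAS).autGroup R) = ⊤ from
      (mem_autGroup_iff hRS).1 (htop.ge (Subgroup.mem_top ⟨α, hα⟩))
    refine eq_top_of_coprime_mem T ?_ fun a hco => ?_
    · intro t ht
      rw [hTR] at ht
      exact autInducedBy_le_autGroup E hRS (autInducedBy_mono hT (Subgroup.mem_subgroupOf.1 ht))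
    obtain ⟨haF, -, -, ψ, hψ, hψe, k, hk, hkψ⟩ :=
      mem_kSystem.1 ((mem_autGroup_iff hRn.1).1 a.2)
    have hak : ∀ x : A, (((a : MulAut R) ⟨x, hAR x.2⟩ : R) : Ω) = (k x : Ω) := fun x => by
      rw [← hkψ x]
      exact ((hψe ⟨x, hAR x.2⟩).symm : _ = _)
    have hpow : ∀ (n : ℕ) (x : A),
        ((((a : MulAut R) ^ n) ⟨x, hAR x.2⟩ : R) : Ω) = ((k ^ n) x : Ω) := by
      intro n
      induction n with
      | zero => intro x; rfl
      | succ n hn =>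
        intro x
        rw [pow_succ' (a : MulAut R), pow_succ' k, MulAut.mul_apply, MulAut.mul_apply,
          show ((a : MulAut R) ^ n) ⟨x, hAR x.2⟩ = ⟨((k ^ n) x : Ω), hAR ((k ^ n) x).2⟩ from
            Subtype.ext (hn x)]
        exact hak _
    have hk1 : k = 1 := by
      obtain ⟨j, hj⟩ := isPGroup_autInducedBy hS A ⟨k, hk⟩
      have h1 : k ^ orderOf a = 1 := MulEquiv.ext fun x => Subtype.ext (by
        rw [← hpow, ← SubgroupClass.coe_pow, pow_orderOf_eq_one]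
        rfl)
      exact orderOf_eq_one_iff.1 (Nat.eq_one_of_dvd_coprimes (Nat.Coprime.pow_right j hco)
        (orderOf_dvd_of_pow_eq_one h1)
        (orderOf_dvd_of_pow_eq_one (congrArg Subtype.val hj :)))
    refine Subgroup.mem_subgroupOf.2 (aut_mem_of_fix hS hF hE hle hag hAH hA
      (fun B => ih' A B hm) hRS hAR (hRn.1.trans inf_le_right)
      ⟨(a : MulAut R), (mem_autGroup_iff hRS).2 haF⟩ ?_ ?_)
    · rw [← Subgroup.orderOf_coe]
      rwa [← Subgroup.orderOf_coe] at hco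
    · intro x hx
      apply Subtype.ext
      show (((a : MulAut R) ⟨x, hAR hx⟩ : R) : Ω) = x
      rw [hak ⟨x, hx⟩, hk1]
      rfl
  -- the general case
  intro A hm hAH hA P φ hφ hAP hPA hfix
  have hAS : A ≤ S := hAP.trans (dom_le hφ)
  have := finite_of_le (Ω := Ω) hAS
  obtain ⟨A', hAA', hA'⟩ := exists_fullyNormalized F hAS
  obtain ⟨ψ, hψ, hψN, hψA⟩ := exists_hom_fullyNormalized hS hF hA' hAA'
  obtain ⟨χ, hχ, hχe⟩ :=
    exists_agree hS hE hle hag hAH hA (le_normalizerIn hAS) inf_le_right hψ hψA hA'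
  have hPN : P ≤ normalizerIn S A := le_inf (dom_le hφ) hPA
  have hφN : ∀ x, φ x ∈ normalizerIn S A := fun x => by
    refine ⟨apply_mem hφ x, mem_normalizer_fin fun c hc => ?_⟩
    have hxc : (x : Ω) * c * (x : Ω)⁻¹ ∈ A := (Subgroup.mem_normalizer_iff.1 (hPA x.2) c).1 hc
    have h2 := hfix ⟨_, hAP hxc⟩ hxc
    rw [show (⟨(x : Ω) * c * (x : Ω)⁻¹, hAP hxc⟩ : P) = x * ⟨c, hAP hc⟩ * x⁻¹ from rfl, map_mul,
      map_mul, map_inv, hfix ⟨c, hAP hc⟩ hc] at h2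
    rw [h2]
    exact hxc
  refine mem_of_conj_mem hle hχ hPN hφ hφN fun κ hκ hκv => ?_
  have hA'χ : ∀ w ∈ A', ∃ x : P, (x : Ω) ∈ A ∧ χ (Subgroup.inclusion hPN x) = w := fun w hw => by
    obtain ⟨x, hx, rfl⟩ := hψA.ge hw
    exact ⟨⟨x, hAP hx⟩, hx, hχe x hx⟩
  have hA'H : A' ≤ F.hyperfocalSubgroup p := by
    intro w hw
    obtain ⟨x, hx, rfl⟩ := hψA.ge hw
    exact apply_mem_sc (stronglyClosed_hyperfocal hS hF) hψ x (hAH hx)
  have hA'sm : IsSmallAb p A' := by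
    refine ⟨⟨⟨fun w v => ?_⟩⟩, fun w hw => ?_⟩
    · obtain ⟨x, hx, hxw⟩ := hψA.ge w.2
      obtain ⟨z, hz, hzv⟩ := hψA.ge v.2
      refine Subtype.ext ?_
      show (w : Ω) * v = v * w
      rw [← hxw, ← hzv, ← map_mul, ← map_mul]
      exact congrArg ψ (Subtype.ext
        (congrArg Subtype.val (hA.1.is_comm.comm (⟨x, hx⟩ : A) ⟨z, hz⟩) :))
    · obtain ⟨x, hx, rfl⟩ := hψA.ge hw
      rw [← map_pow, show x ^ Small.smallExp p = 1 from Subtype.ext (hA.2 x hx), map_one]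
  have := finite_of_le (Ω := Ω) hA'.1
  refine hfn A' (by rw [isConj_card hAA']; exact hm) hA'H hA'sm hA' _ κ hκ ?_ ?_ ?_
  · intro w hw
    obtain ⟨x, -, rfl⟩ := hA'χ w hw
    exact ⟨x, rfl⟩
  · rintro _ ⟨g, rfl⟩
    refine mem_normalizer_fin fun w hw => ?_
    obtain ⟨x, hx, rfl⟩ := hA'χ w hw
    have hgx : (g : Ω) * x * (g : Ω)⁻¹ ∈ A := (Subgroup.mem_normalizer_iff.1 (hPA g.2) _).1 hx
    show χ _ * χ _ * (χ _)⁻¹ ∈ A'
    rw [← map_inv, ← map_mul, ← map_mul, hχe _ hgx]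
    exact hψA.le ⟨_, hgx, rfl⟩
  · rintro ⟨_, x, rfl⟩ hx'
    obtain ⟨z, hz, hzx⟩ := hA'χ _ hx'
    have hxz : z = x := Subgroup.inclusion_injective hPN (E.injective_of_mem hχ hzx)
    subst hxz
    exact (hκv z).trans (congrArg χ (Subtype.ext (hfix z hz)))

/-- Small exponent abelian subgroups of the hyperfocal subgroup control fusion. -/
theorem eq_of_agree (hS : IsPGroup p S) (hF : F.IsSaturated p) (hE : E.IsSaturated p)
    (hle : E ≤ F) (hag : Agree E F p (F.hyperfocalSubgroup p)) (P : Subgroup Ω) :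
    E.Hom P = F.Hom P := by
  refine Set.Subset.antisymm (hle P) fun φ hφ =>
    mem_of_fix hS hF hE hle hag _ ⊥ rfl bot_le ?_ P φ hφ bot_le ?_ ?_
  · refine ⟨⟨⟨fun a b => ?_⟩⟩, fun a ha => by rw [Subgroup.mem_bot.1 ha, one_pow]⟩
    exact Subsingleton.elim _ _
  · intro g _
    refine Subgroup.mem_normalizer_iff.2 fun y => ?_
    rw [Subgroup.mem_bot, Subgroup.mem_bot, mul_inv_eq_one, mul_eq_left]
  · intro x hx
    rw [Subgroup.mem_bot] at hx
    rw [show x = 1 from Subtype.ext hx, map_one, OneMemClass.coe_one]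

end Cfsg.Agent.Fusion.SmallControl
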