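import Cfsg.Agent.Lib.Fusion.NormalCriteria
import Cfsg.Agent.Lib.Fusion.Factor
import Cfsg.Agent.Lib.Fusion.Constructions
import Cfsg.Prelude.Def_FusionComponents

/-!
Solvable systems: chains of strongly closed subgroups with abelian quotients.
-/

set_option autoImplicit false
set_option linter.unusedSectionVars false

namespace Cfsg.Agent.Fusion.SolvableChain

open Cfsg Cfsg.FusionSystem Cfsg.Agent.Fusion
open scoped commutatorElement

variable {Ω : Type*} [Group Ω] {S : Subgroup Ω} [Finite S] {p : ℕ} [Fact p.Prime] {F : FusionSystem S}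

section Quot

variable (R : Subgroup Ω) [(R.subgroupOf S).Normal]

/-- The quotient map. -/
abbrev π : S →* S ⧸ R.subgroupOf S := QuotientGroup.mk' (R.subgroupOf S)

theorem π_eq_one (s : S) : π R s = 1 ↔ (s : Ω) ∈ R := by
  rw [QuotientGroup.mk'_apply, QuotientGroup.eq_one_iff]; rfl

theorem π_range : (π (S := S) R).range = ⊤ :=
  MonoidHom.range_eq_top.2 (QuotientGroup.mk'_surjective _)

end Quot

variable (hS : IsPGroup p S) (hF : F.IsSaturated p)
include hS hF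

theorem factor_facts {R : Subgroup Ω} [(R.subgroupOf S).Normal] (hR : F.StronglyClosed R)
    {E : FusionSystem (⊤ : Subgroup (S ⧸ R.subgroupOf S))} (hE : F.IsFactorSystem R (π R) E) :
    Finite (⊤ : Subgroup (S ⧸ R.subgroupOf S)) ∧ IsPGroup p (⊤ : Subgroup (S ⧸ R.subgroupOf S)) ∧
      E.IsSaturated p :=
  ⟨inferInstance, (hS.to_quotient _).to_subgroup _, isSaturated_factorSystem hS hF hR hE⟩

/-- One step up. -/
theorem exists_step (hsol : F.IsSolvableSystem) {R : Subgroup Ω} (hR : F.StronglyClosed R) (hne : R ≠ S) :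
    ∃ R' : Subgroup Ω, F.StronglyClosed R' ∧ R < R' ∧ ⁅R', R'⁆ ≤ R := by
  have hn : (R.subgroupOf S).Normal :=
    (Subgroup.normal_subgroupOf_iff_le_normalizer hR.1).2 (le_normalizer_of_stronglyClosed' hR)
  set E := factorSystem F hR (π R) (π_eq_one R) (π_range R) with hEdef
  have hE : F.IsFactorSystem R (π R) E := factorSystem_spec F hR _ _ _
  obtain ⟨hfin, hp, hsat⟩ := factor_facts hS hF hR hE
  obtain ⟨Q, hQne, hQab, hQ⟩ := (core_ne_bot_iff_abelian hp hsat).1 (hsol R hR hne E hE)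
  set R' := preimageAlong (π R) Q with hR'
  have hle : R ≤ R' := ker_le_preimage (π_eq_one R) hR.1 Q
  refine ⟨R', ⟨preimageAlong_le _ _, fun X hX φ hφ x => ?_⟩, lt_of_le_of_ne hle fun he => hQne ?_, ?_⟩
  · obtain ⟨φ', hφ', hP, hφS, hP', hind⟩ := exists_induced hS hF hR hE hφ
    have hXQ : imageAlong (π R) X ≤ Q := fun y hy => by
      obtain ⟨s, hs, rfl⟩ := mem_imageAlong_iff.1 hy
      exact (mem_preimageAlong.1 (hX hs)).2
    refine mem_preimageAlong.2 ⟨hφS x, ?_⟩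
    rw [← hind x]
    exact hQ.2 _ hXQ φ' hφ' _
  · rw [← image_preimage (π_range R) (le_top : Q ≤ ⊤), ← hR', ← he, eq_bot_iff]
    intro y hy
    obtain ⟨s, hs, rfl⟩ := mem_imageAlong_iff.1 hy
    exact Subgroup.mem_bot.2 ((π_eq_one R s).2 hs)
  · refine Subgroup.commutator_le.2 fun x hx y hy => ?_
    obtain ⟨hxS, hxQ⟩ := mem_preimageAlong.1 hx
    obtain ⟨hyS, hyQ⟩ := mem_preimageAlong.1 hy
    refine (π_eq_one R ⁅(⟨x, hxS⟩ : S), ⟨y, hyS⟩⁆).1 ?_
    rw [map_commutatorElement, commutatorElement_eq_one_iff_mul_comm]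
    exact congrArg Subtype.val (hQab.is_comm.comm (⟨_, hxQ⟩ : Q) ⟨_, hyQ⟩)
where
  le_normalizer_of_stronglyClosed' {T : Subgroup Ω} (hT : F.StronglyClosed T) :
      S ≤ Subgroup.normalizer (T : Set Ω) := by
    intro g hg
    refine Subgroup.mem_normalizer_iff.2 fun y => ⟨fun hy => ?_, fun hy => ?_⟩
    · exact hT.2 T le_rfl _ (F.conj_mem hT.1 hg) ⟨y, hy⟩
    · have h := hT.2 T le_rfl _ (F.conj_mem hT.1 (S.inv_mem hg)) ⟨_, hy⟩
      rw [conjHom_apply] at h
      simpa [mul_assoc] using h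

theorem exists_chain (hsol : F.IsSolvableSystem) : ∀ (d : ℕ) (R : Subgroup Ω), F.StronglyClosed R →
    Nat.card S - Nat.card R ≤ d →
    ∃ (n : ℕ) (T : Fin (n + 1) → Subgroup Ω), T 0 = R ∧ T (Fin.last n) = S ∧ Monotone T ∧
      (∀ i, F.StronglyClosed (T i)) ∧ ∀ i : Fin n, ⁅T i.succ, T i.succ⁆ ≤ T (Fin.castSucc i) := by
  intro d
  induction d with
  | zero =>
    intro R hR hd
    have : R = S := Subgroup.eq_of_le_of_card_ge hR.1 (Nat.sub_eq_zero_iff_le.1 (Nat.le_zero.1 hd))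
    exact ⟨0, fun _ => R, rfl, this, monotone_const, fun _ => hR, fun i => i.elim0⟩
  | succ d ih =>
    intro R hR hd
    by_cases hne : R = S
    · exact ⟨0, fun _ => R, rfl, hne, monotone_const, fun _ => hR, fun i => i.elim0⟩
    obtain ⟨R', hR', hlt, hcomm⟩ := exists_step hS hF hsol hR hne
    have hfin : Finite R' := finite_of_le hR'.1
    have h1 : Nat.card R < Nat.card R' :=
      Set.ncard_lt_ncard (show (R : Set Ω) ⊂ R' from hlt) (Set.toFinite (R' : Set Ω))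
    have h2 : Nat.card R' ≤ Nat.card S := Nat.le_of_dvd Nat.card_pos (Subgroup.card_dvd_of_le hR'.1)
    obtain ⟨n, T, hT0, hTn, hmono, hcl, hab⟩ := ih R' hR' (by omega)
    refine ⟨n + 1, Fin.cons R T, rfl, ?_, ?_, ?_, ?_⟩
    · rw [← Fin.succ_last, Fin.cons_succ, hTn]
    · refine Fin.monotone_iff_le_succ.2 fun i => ?_
      refine Fin.cases ?_ (fun j => ?_) i
      · rw [Fin.castSucc_zero, Fin.cons_zero, Fin.cons_succ, hT0]
        exact hlt.le
      · rw [← Fin.succ_castSucc, Fin.cons_succ, Fin.cons_succ]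
        exact hmono (Fin.castSucc_lt_succ (i := j)).le
    · exact Fin.cases hR hcl
    · intro i
      refine Fin.cases ?_ (fun j => ?_) i
      · rw [Fin.castSucc_zero, Fin.cons_zero, Fin.cons_succ, hT0]
        exact hcomm
      · rw [← Fin.succ_castSucc, Fin.cons_succ, Fin.cons_succ]
        exact hab j

theorem solvable_of_chain {n : ℕ} {T : Fin (n + 1) → Subgroup Ω} (h0 : T 0 = ⊥) (hn : T (Fin.last n) = S)
    (hcl : ∀ i, F.StronglyClosed (T i))
    (hab : ∀ i : Fin n, ⁅T i.succ, T i.succ⁆ ≤ T (Fin.castSucc i)) : F.IsSolvableSystem := by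
  intro R hR hne _ E hE
  obtain ⟨hfin, hp, hsat⟩ := factor_facts hS hF hR hE
  obtain ⟨i, hi1, hi2⟩ : ∃ i : Fin n, T (Fin.castSucc i) ≤ R ∧ ¬ T i.succ ≤ R := by
    by_contra hc
    have hall : ∀ i : Fin (n + 1), T i ≤ R := by
      refine Fin.induction (h0 ▸ bot_le) fun i hi => ?_
      by_contra h'
      exact hc ⟨i, hi, h'⟩
    exact hne (le_antisymm hR.1 (hn ▸ hall _))
  refine (core_ne_bot_iff_abelian hp hsat).2 ⟨imageAlong (π R) (T i.succ), fun hb => hi2 ?_, ?_, ?_⟩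
  · intro x hx
    have h1 : π R ⟨x, (hcl _).1 hx⟩ ∈ imageAlong (π R) (T i.succ) :=
      mem_imageAlong_iff.2 ⟨_, hx, rfl⟩
    rw [hb, Subgroup.mem_bot] at h1
    exact (π_eq_one R ⟨x, (hcl _).1 hx⟩).1 h1
  · refine ⟨⟨fun a b => Subtype.ext ?_⟩⟩
    obtain ⟨x, hx, hxa⟩ := mem_imageAlong_iff.1 a.2
    obtain ⟨y, hy, hyb⟩ := mem_imageAlong_iff.1 b.2
    rw [Subgroup.coe_mul, Subgroup.coe_mul, ← hxa, ← hyb, ← commutatorElement_eq_one_iff_mul_comm,
      ← map_commutatorElement]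
    exact (π_eq_one R _).2 (hi1 (hab i (Subgroup.commutator_mem_commutator hx hy)))
  · refine ⟨le_top, fun X hX φ' hφ' x => ?_⟩
    obtain ⟨-, φ, hφ, hP, hφS, hP', hind⟩ := (hE.2.2.2 X φ').1 hφ'
    have hle : preimageAlong (π R) X ≤ T i.succ ⊔ R := by
      intro z hz
      obtain ⟨hzS, hz'⟩ := mem_preimageAlong.1 hz
      have h1 : z ∈ preimageAlong (π R) (imageAlong (π R) (T i.succ)) := mem_preimageAlong.2 ⟨hzS, hX hz'⟩
      rwa [preimage_image (π_eq_one R) hR.1 (hcl _).1] at h1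
    obtain ⟨⟨s, hs⟩, hsx⟩ := (π_range R).ge (Subgroup.mem_top (x : S ⧸ R.subgroupOf S))
    have hsm : s ∈ preimageAlong (π R) X := mem_preimageAlong.2 ⟨hs, hsx ▸ x.2⟩
    obtain rfl : x = ⟨π R ⟨s, hs⟩, hP' ⟨s, hsm⟩⟩ := Subtype.ext hsx.symm
    rw [hind ⟨s, hsm⟩]
    have h1 := (stronglyClosed_sup hS hF (hcl i.succ) hR).2 _ hle φ hφ ⟨s, hsm⟩
    rw [← preimage_image (π_eq_one R) hR.1 (hcl i.succ).1] at h1
    exact (mem_preimageAlong.1 h1).2

/-- The characterisation. -/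
theorem iff_chain : F.IsSolvableSystem ↔ ∃ (n : ℕ) (T : Fin (n + 1) → Subgroup Ω), T 0 = ⊥ ∧
    T (Fin.last n) = S ∧ Monotone T ∧ (∀ i, F.StronglyClosed (T i)) ∧
      ∀ i : Fin n, ⁅T i.succ, T i.succ⁆ ≤ T (Fin.castSucc i) :=
  ⟨fun h => exists_chain hS hF h _ ⊥ stronglyClosed_bot le_rfl,
    fun ⟨_, _, h0, hn, _, hcl, hab⟩ => solvable_of_chain hS hF h0 hn hcl hab⟩

end Cfsg.Agent.Fusion.SolvableChain
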