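import Cfsg.Agent.Lib.Fusion.SolvableChain
import Cfsg.Agent.Lib.Fusion.Supplemented
import Cfsg.Agent.Lib.Fusion.Invariant
import Cfsg.Agent.Lib.Fusion.Constrained

/-!
Solvability passes between a system, an invariant subsystem on `T` and the factor system modulo `T`.
-/

set_option autoImplicit false
set_option linter.unusedSectionVars false

namespace Cfsg.Agent.Fusion.SolvableExtension

open Cfsg Cfsg.FusionSystem Cfsg.Agent.Fusion
open scoped commutatorElement

variable {Ω : Type*} [Group Ω] {S T : Subgroup Ω} {F : FusionSystem S} {E : FusionSystem T}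

/-- Every nontrivial strongly closed `X` contains a smaller one containing `[X,X]`. -/
def Criterion' (F : FusionSystem S) : Prop :=
  ∀ X : Subgroup Ω, F.StronglyClosed X → X ≠ ⊥ →
    ∃ Y : Subgroup Ω, F.StronglyClosed Y ∧ Y < X ∧ ⁅X, X⁆ ≤ Y

theorem criterion_of_chain {n : ℕ} {A : Fin (n + 1) → Subgroup Ω} (h0 : A 0 = ⊥)
    (hn : A (Fin.last n) = S) (_hcl : ∀ i, F.StronglyClosed (A i))
    (hab : ∀ i : Fin n, ⁅A i.succ, A i.succ⁆ ≤ A (Fin.castSucc i)) {X : Subgroup Ω} (hX : X ≤ S)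
    (hne : X ≠ ⊥) : ∃ i : Fin n, ¬ X ≤ A (Fin.castSucc i) ∧
      ⁅X, X⁆ ≤ A (Fin.castSucc i) := by
  obtain ⟨i, hi1, hi2⟩ : ∃ i : Fin n, ¬ X ≤ A (Fin.castSucc i) ∧ X ≤ A i.succ := by
    by_contra hc
    have hall : ∀ i : Fin (n + 1), ¬ X ≤ A i := by
      refine Fin.induction (fun h => hne (le_bot_iff.1 (h0 ▸ h))) fun i hi h => hc ⟨i, hi, h⟩
    exact hall (Fin.last n) (hn ▸ hX)
  exact ⟨i, hi1, (Subgroup.commutator_mono hi2 hi2).trans (hab i)⟩

theorem exists_chain_of_criterion [Finite S] (h : Criterion' F) : ∀ (d : ℕ) (X : Subgroup Ω),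
    F.StronglyClosed X → Nat.card X ≤ d →
    ∃ (n : ℕ) (A : Fin (n + 1) → Subgroup Ω), A 0 = ⊥ ∧ A (Fin.last n) = X ∧
      (∀ i, F.StronglyClosed (A i)) ∧ ∀ i : Fin n, ⁅A i.succ, A i.succ⁆ ≤ A (Fin.castSucc i) := by
  intro d
  induction d with
  | zero =>
    intro X hX hd
    have := finite_of_le (Ω := Ω) hX.1
    exact absurd hd (not_le.2 Nat.card_pos)
  | succ d ih =>
    intro X hX hd
    by_cases hne : X = ⊥
    · exact ⟨0, fun _ => X, hne, rfl, fun _ => hX, fun i => i.elim0⟩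
    obtain ⟨Y, hY, hlt, hcomm⟩ := h X hX hne
    have h1 := card_lt_of_lt hX.1 hlt
    obtain ⟨n, A, h0, hn, hcl, hab⟩ := ih Y hY (by omega)
    refine ⟨n + 1, Fin.snoc A X, ?_, Fin.snoc_last _ _, fun i => ?_, fun i => ?_⟩
    · rw [show (0 : Fin (n + 2)) = Fin.castSucc 0 from rfl, Fin.snoc_castSucc, h0]
    · refine Fin.lastCases ?_ (fun j => ?_) i
      · rw [Fin.snoc_last]; exact hX
      · rw [Fin.snoc_castSucc]; exact hcl j
    · refine Fin.lastCases ?_ (fun j => ?_) i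
      · rw [Fin.succ_last, Fin.snoc_last, Fin.snoc_castSucc, hn]
        exact hcomm
      · rw [Fin.succ_castSucc, Fin.snoc_castSucc, Fin.snoc_castSucc]
        exact hab j

/-- A strongly closed subgroup of `E` stable under `Aut_F(T)` is strongly closed in `F`. -/
theorem stronglyClosed_of_invariant (hE : E.IsInvariantIn F) {Y : Subgroup Ω}
    (hY : E.StronglyClosed Y)
    (hinv : ∀ α ∈ F.autGroup T, ∀ y : T, (y : Ω) ∈ Y → ((α y : T) : Ω) ∈ Y) :
    F.StronglyClosed Y := by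
  obtain ⟨-, hT, -, hfr⟩ := hE
  refine ⟨hY.1.trans hT.1, fun R hR φ hφ x => ?_⟩
  obtain ⟨α, hα, φ₀, hφ₀, he⟩ := hfr R (hR.trans hY.1) φ hφ
  rw [he x (apply_mem hφ₀ x)]
  exact hinv α hα _ (hY.2 R hR φ₀ hφ₀ x)

variable {p : ℕ} [Fact p.Prime] [Finite S]

theorem isSolvableSystem_iff (hS : IsPGroup p S) (hF : F.IsSaturated p) (hE : E.IsInvariantIn F)
    (hEs : E.IsSaturated p) {Ω' : Type*} [Group Ω'] {S' : Subgroup Ω'} {θ : S →* Ω'}
    {D : FusionSystem S'} (hD : F.IsFactorSystem T θ D) :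
    F.IsSolvableSystem ↔ (E.IsSolvableSystem ∧ D.IsSolvableSystem) := by
  have hT := hE.2.1
  have hTS := hT.1
  have hpT : IsPGroup p T := hS.to_le hTS
  have := finite_of_le (Ω := Ω) hTS
  obtain ⟨hker, hr⟩ := And.intro hD.2.1 hD.2.2.1
  have hpS' : IsPGroup p S' := by
    rw [← hr]
    exact hS.of_surjective θ.rangeRestrict θ.rangeRestrict_surjective
  have : Finite S' := by rw [← hr]; exact Finite.of_surjective _ θ.rangeRestrict_surjective
  have hDs : D.IsSaturated p := isSaturated_factorSystem hS hF hT hD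
  rw [SolvableChain.iff_chain hS hF, SolvableChain.iff_chain hpT hEs,
    SolvableChain.iff_chain hpS' hDs]
  constructor
  · rintro ⟨n, A, h0, hn, hmono, hcl, hab⟩
    refine ⟨⟨n, fun i => A i ⊓ T, ?_, ?_, fun i j hij => inf_le_inf_right _ (hmono hij), fun i => ?_,
      fun i => ?_⟩, ⟨n, fun i => imageAlong θ (A i), ?_, ?_, fun i j hij => ?_, fun i => ?_,
      fun i => ?_⟩⟩
    · show A 0 ⊓ T = ⊥
      rw [h0, bot_inf_eq]
    · show A (Fin.last n) ⊓ T = T
      rw [hn, inf_eq_right.2 hTS]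
    · exact ⟨inf_le_right, fun R hR φ hφ x =>
        ⟨(hcl i).2 R (hR.trans inf_le_left) φ (hE.1 R hφ) x, apply_mem hφ x⟩⟩
    · exact le_inf ((Subgroup.commutator_mono inf_le_left inf_le_left).trans (hab i))
        ((Subgroup.commutator_mono inf_le_right inf_le_right).trans (Subgroup.commutator_le_self T))
    · show imageAlong θ (A 0) = ⊥
      rw [h0, imageAlong]
      simp
    · show imageAlong θ (A (Fin.last n)) = S'
      rw [hn, imageAlong, Subgroup.subgroupOf_self, ← MonoidHom.range_eq_map, hr]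
    · intro y hy
      obtain ⟨s, hs, rfl⟩ := mem_imageAlong_iff.1 hy
      exact mem_imageAlong_iff.2 ⟨s, hmono hij hs, rfl⟩
    · have heq : imageAlong θ (A i) = imageAlong θ (A i ⊔ T) := by
        rw [imageAlong, imageAlong, Subgroup.subgroupOf_sup (hcl i).1 hTS, Subgroup.map_sup]
        refine (sup_eq_left.2 ?_).symm
        rintro _ ⟨t, ht, rfl⟩
        rw [(hker t).2 ht]
        exact one_mem _
      show D.StronglyClosed (imageAlong θ (A i))
      rw [heq]
      exact stronglyClosed_imageAlong hD (stronglyClosed_sup hS hF (hcl i) hT) le_sup_right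
    · refine Subgroup.commutator_le.2 fun a ha b hb => ?_
      obtain ⟨x, hx, rfl⟩ := mem_imageAlong_iff.1 ha
      obtain ⟨y, hy, rfl⟩ := mem_imageAlong_iff.1 hb
      exact mem_imageAlong_iff.2
        ⟨⁅x, y⁆, hab i (Subgroup.commutator_mem_commutator hx hy), map_commutatorElement θ x y⟩
  · rintro ⟨⟨n, A, hA0, hAn, -, hAcl, hAab⟩, ⟨m, B, hB0, hBm, -, hBcl, hBab⟩⟩
    have hcrit : Criterion' F := by
      intro X hX hne
      by_cases hXT : X ≤ T
      · -- the least strongly closed subgroup of `E` containing the commutators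
        set 𝒴 := {Y : Subgroup Ω | E.StronglyClosed Y ∧ ⁅X, X⁆ ≤ Y} with h𝒴
        have hTmem : T ∈ 𝒴 := ⟨⟨le_rfl, fun _ _ _ hφ x => apply_mem hφ x⟩,
          (Subgroup.commutator_mono hXT hXT).trans (Subgroup.commutator_le_self T)⟩
        have hinf : E.StronglyClosed (sInf 𝒴) := ⟨sInf_le hTmem, fun R hR φ hφ x =>
          Subgroup.mem_sInf.2 fun Y hY => hY.1.2 R (hR.trans (sInf_le hY)) φ hφ x⟩
        have hcomm : ⁅X, X⁆ ≤ sInf 𝒴 := le_sInf fun Y hY => hY.2
        have hXE : E.StronglyClosed X := ⟨hXT, fun R hR φ hφ x => hX.2 R hR φ (hE.1 R hφ) x⟩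
        obtain ⟨i, hi, hic⟩ := criterion_of_chain hA0 hAn hAcl hAab hXT hne
        have hle : sInf 𝒴 ≤ X ⊓ A (Fin.castSucc i) :=
          sInf_le ⟨stronglyClosed_inf hXE (hAcl _), le_inf (Subgroup.commutator_le_self X) hic⟩
        refine ⟨sInf 𝒴, stronglyClosed_of_invariant hE hinf fun α hα => ?_,
          lt_of_le_of_ne (hle.trans inf_le_left) fun he => hi ((he ▸ hle).trans inf_le_right), hcomm⟩
        obtain ⟨Y', hY'def⟩ : ∃ Y' : Subgroup Ω,
            Y' = (((sInf 𝒴).subgroupOf T).comap α.toMonoidHom).map T.subtype := ⟨_, rfl⟩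
        have hmem : ∀ z : Ω, z ∈ Y' ↔ ∃ hz : z ∈ T, ((α ⟨z, hz⟩ : T) : Ω) ∈ sInf 𝒴 := fun z => by
          subst hY'def
          exact ⟨fun ⟨w, hw, he⟩ => ⟨he ▸ w.2, by subst he; exact hw⟩,
            fun ⟨hz, h⟩ => ⟨⟨z, hz⟩, h, rfl⟩⟩
        have hY' : Y' ∈ 𝒴 := by
          refine ⟨⟨fun z hz => ((hmem z).1 hz).1, fun R hR φ hφ x => ?_⟩, ?_⟩
          · obtain ⟨χ, hχ, hv⟩ := hE.2.2.1 R (dom_le hφ) φ hφ α hα
            refine (hmem _).2 ⟨apply_mem hφ x, ?_⟩
            rw [← hv x (apply_mem hφ x) ⟨⟨x, dom_le hφ x.2⟩, x.2, rfl⟩]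
            refine hinf.2 _ ?_ χ hχ _
            rintro _ ⟨⟨z, hzT⟩, hz, rfl⟩
            exact ((hmem z).1 (hR hz)).2
          · refine Subgroup.commutator_le.2 fun a ha b hb => (hmem _).2 ?_
            refine ⟨(⁅(⟨a, hXT ha⟩ : T), (⟨b, hXT hb⟩ : T)⁆ : T).2, ?_⟩
            have hmap : ∀ z : T, (z : Ω) ∈ X → ((α z : T) : Ω) ∈ X := fun z hz =>
              hX.2 X le_rfl _ (restrict_mem ((mem_autGroup_iff hTS).1 hα) hXT) ⟨z, hz⟩
            show ((α ⁅(⟨a, hXT ha⟩ : T), ⟨b, hXT hb⟩⁆ : T) : Ω) ∈ sInf 𝒴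
            rw [map_commutatorElement]
            exact hcomm (Subgroup.commutator_mem_commutator (hmap _ ha) (hmap _ hb))
        exact fun y hy => ((hmem y).1 (sInf_le hY' hy)).2
      · have hXne : imageAlong θ X ≠ ⊥ := fun h => hXT fun x hx => by
          have h1 : θ ⟨x, hX.1 hx⟩ ∈ imageAlong θ X := mem_imageAlong_iff.2 ⟨_, hx, rfl⟩
          rw [h, Subgroup.mem_bot] at h1
          exact (hker _).1 h1
        obtain ⟨i, hi, hic⟩ := criterion_of_chain hB0 hBm hBcl hBab (X := imageAlong θ X)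
          (fun y hy => by obtain ⟨s, -, rfl⟩ := mem_imageAlong_iff.1 hy; exact hr.le ⟨s, rfl⟩) hXne
        have hP : F.StronglyClosed (preimageAlong θ (B (Fin.castSucc i))) := by
          refine ⟨preimageAlong_le _ _, fun R hR φ hφ x => ?_⟩
          obtain ⟨φ', hφ', hP, hφS, hP', hind⟩ := exists_induced hS hF hT hD hφ
          refine mem_preimageAlong.2 ⟨hφS x, ?_⟩
          rw [← hind x]
          refine (hBcl _).2 _ ?_ φ' hφ' _
          intro y hy
          obtain ⟨s, hs, rfl⟩ := mem_imageAlong_iff.1 hy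
          exact (mem_preimageAlong.1 (hR hs)).2
        refine ⟨X ⊓ preimageAlong θ (B (Fin.castSucc i)), stronglyClosed_inf hX hP,
          lt_of_le_of_ne inf_le_left fun he => hi ?_, le_inf (Subgroup.commutator_le_self X) ?_⟩
        · intro y hy
          obtain ⟨s, hs, rfl⟩ := mem_imageAlong_iff.1 hy
          exact (mem_preimageAlong.1 (he.ge hs).2).2
        · refine Subgroup.commutator_le.2 fun a ha b hb => mem_preimageAlong.2
            ⟨(⁅(⟨a, hX.1 ha⟩ : S), (⟨b, hX.1 hb⟩ : S)⁆ : S).2, hic ?_⟩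
          show θ ⁅(⟨a, hX.1 ha⟩ : S), ⟨b, hX.1 hb⟩⁆ ∈ _
          rw [map_commutatorElement]
          exact Subgroup.commutator_mem_commutator (mem_imageAlong_iff.2 ⟨_, ha, rfl⟩)
            (mem_imageAlong_iff.2 ⟨_, hb, rfl⟩)
    obtain ⟨k, C, hC0, hCk, hCcl, hCab⟩ :=
      exists_chain_of_criterion hcrit (Nat.card S) S ⟨le_rfl, fun _ _ _ hφ x => apply_mem hφ x⟩ le_rfl
    exact (SolvableChain.iff_chain hS hF).1 (SolvableChain.solvable_of_chain hS hF hC0 hCk hCcl hCab)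

end Cfsg.Agent.Fusion.SolvableExtension
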