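import Cfsg.Agent.Lib.Fusion.Hyperfocal
import Cfsg.Agent.Lib.Fusion.Nilpotent
import Cfsg.Agent.Lib.Fusion.StrongInduction
import Cfsg.Agent.Lib.SylowCount.Basic

/-!
Maps of the system modulo a strongly closed subgroup `T`: a homomorphism `ψ` on `S` trivial on `T`
is intertwined by every map up to conjugation, once this holds at the subgroups containing `T`.
-/

set_option autoImplicit false

namespace Cfsg.Agent.Fusion

open Cfsg Cfsg.FusionSystem

variable {Ω : Type*} [Group Ω] {S : Subgroup Ω} {F : FusionSystem S} {p : ℕ}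

theorem le_normalizer_of_stronglyClosed {T : Subgroup Ω} (hT : F.StronglyClosed T) :
    S ≤ Subgroup.normalizer (T : Set Ω) := by
  intro g hg
  refine Subgroup.mem_normalizer_iff.2 fun y => ⟨fun hy => ?_, fun hy => ?_⟩
  · exact hT.2 T le_rfl _ (F.conj_mem hT.1 hg) ⟨y, hy⟩
  · have h := hT.2 T le_rfl _ (F.conj_mem hT.1 (S.inv_mem hg)) ⟨_, hy⟩
    rw [conjHom_apply] at h
    simpa [mul_assoc] using h

/-- A homomorphism trivial on a strongly closed `T` is intertwined up to conjugation by all maps if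
it is so by the automorphisms of the subgroups containing `T`. -/
theorem exists_intertwiner [Finite S] [Fact p.Prime] (hS : IsPGroup p S) (hF : F.IsSaturated p)
    {T : Subgroup Ω} (hT : F.StronglyClosed T) {L : Type*} [Group L] (ψ : S →* L)
    (hker : ∀ (t : Ω) (ht : t ∈ T), ψ ⟨t, hT.1 ht⟩ = 1)
    (haut : ∀ (R : Subgroup Ω) (hRS : R ≤ S), T ≤ R → ∀ α ∈ F.autGroup R,
      ∃ l : L, ∀ x : R, ψ ⟨(α x : R), hRS (α x).2⟩ = l * ψ ⟨x, hRS x.2⟩ * l⁻¹)
    {P : Subgroup Ω} {φ : P →* Ω} (hφ : φ ∈ F.Hom P) :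
    ∃ l : L, ∀ (x : P) (h1 : φ x ∈ S) (h2 : (x : Ω) ∈ S),
      ψ ⟨φ x, h1⟩ = l * ψ ⟨x, h2⟩ * l⁻¹ := by
  have hTn := le_normalizer_of_stronglyClosed hT
  refine alperin_strong_induction hS hF (C := fun P φ => ∃ l : L,
    ∀ (x : P) (h1 : φ x ∈ S) (h2 : (x : Ω) ∈ S), ψ ⟨φ x, h1⟩ = l * ψ ⟨x, h2⟩ * l⁻¹)
    ?_ ?_ ?_ ?_ hφ
  · intro P g _ hg
    refine ⟨ψ ⟨g, hg⟩, fun x h1 h2 => ?_⟩
    rw [← map_inv, ← map_mul, ← map_mul]
    exact congrArg ψ (Subtype.ext rfl)
  · rintro P Q φ χ hφ hχ ⟨l, hl⟩ ⟨k, hk⟩ h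
    refine ⟨k * l, fun x h1 h2 => ?_⟩
    have h3 : φ x ∈ S := apply_mem hφ x
    exact (hk ⟨φ x, h x⟩ h1 h3).trans (by rw [hl x h3 h2]; group)
  · rintro P φ χ hφ ⟨l, hl⟩ _ hi
    refine ⟨l⁻¹, ?_⟩
    rintro ⟨_, x, rfl⟩ h1 h2
    have h3 : (x : Ω) ∈ S := dom_le hφ x.2
    rw [show (⟨χ ⟨φ x, ⟨x, rfl⟩⟩, h1⟩ : S) = ⟨x, h3⟩ from Subtype.ext (hi x)]
    rw [hl x h2 h3]
    group
  · intro R hRn _ _ hbig α hα
    have hRS := hRn.1
    suffices h : ∃ l : L, ∀ x : R, ψ ⟨(α x : R), hRS (α x).2⟩ = l * ψ ⟨x, hRS x.2⟩ * l⁻¹ by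
      obtain ⟨l, hl⟩ := h
      exact ⟨l, fun x _ _ => hl x⟩
    by_cases hTR : T ≤ R
    · exact haut R hRS hTR α hα
    have : Finite (MulAut R) := finite_mulAut hRS
    -- automorphisms trivial on `R` modulo `T`
    let Y : Subgroup (F.autGroup R) :=
      { carrier := {a | ∀ x : R, (x : Ω)⁻¹ * (((a : MulAut R) x : R) : Ω) ∈ T}
        one_mem' := fun x => by simp [T.one_mem]
        mul_mem' := fun {a b} ha hb x => by
          have := T.mul_mem (hb x) (ha ((b : MulAut R) x))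
          show (x : Ω)⁻¹ * (((a : MulAut R) ((b : MulAut R) x) : R) : Ω) ∈ T
          simpa [mul_assoc] using this
        inv_mem' := fun {a} ha x => by
          have := T.inv_mem (ha ((a : MulAut R)⁻¹ x))
          rw [MulAut.apply_inv_self, mul_inv_rev, inv_inv] at this
          exact this }
    have hY : Y.Normal := ⟨fun a ha b x => by
      set y := (b : MulAut R)⁻¹ x with hy
      have h2 : ((y⁻¹ * (a : MulAut R) y : R) : Ω) ∈ T := ha y
      have h1 := (restrict_mem ((mem_autGroup_iff hRS).1 b.2) (inf_le_left : R ⊓ T ≤ R))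
      have h3 := hT.2 (R ⊓ T) inf_le_right _ h1 ⟨_, (y⁻¹ * (a : MulAut R) y).2, h2⟩
      have h4 : (b : MulAut R) y = x := by rw [hy, MulAut.apply_inv_self]
      change (((b : MulAut R) (y⁻¹ * (a : MulAut R) y) : R) : Ω) ∈ T at h3
      rw [map_mul, map_inv, h4] at h3
      exact h3⟩
    obtain ⟨-, P₀, hP₀⟩ := isFullyAutomized_of_fullyNormalized hS hF hRn
    obtain ⟨Q, hQ⟩ := Cfsg.Agent.SylowCount.exists_sylow_inf P₀ Y
    have hsup := Sylow.normalizer_sup_eq_top Q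
    rw [hQ, Subgroup.subgroupOf_map_subtype, sup_comm] at hsup
    have ha : (⟨α, hα⟩ : F.autGroup R) ∈ ((Y ⊔ Subgroup.normalizer
        (((P₀ : Subgroup (F.autGroup R)) ⊓ Y : Subgroup (F.autGroup R)) : Set (F.autGroup R)) :
        Subgroup (F.autGroup R)) : Set (F.autGroup R)) := by rw [hsup]; trivial
    rw [Subgroup.normal_mul] at ha
    obtain ⟨y, hy, m, hm, hym⟩ := Set.mem_mul.1 ha
    obtain ⟨hφm, hrm⟩ := hom_of_mem_autGroup hRS m.2
    -- the extender of `m` is larger than `R`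
    obtain ⟨g, hgN, hgR⟩ : ∃ g, g ∈ extender S R (R.subtype.comp (m : MulAut R).toMonoidHom) ∧
        g ∉ R := by
      have hRT : R ⊔ T ≤ S := sup_le hRS hT.1
      have hlt : R < R ⊔ T := lt_of_le_of_ne le_sup_left fun h => hTR (h ▸ le_sup_right)
      have : Finite (R ⊔ T : Subgroup Ω) := finite_of_le hRT
      obtain ⟨g, hg, hgR⟩ := SetLike.exists_of_lt (lt_normalizerIn (hS.to_le hRT) hlt)
      obtain ⟨r, hr, t, ht, rfl⟩ : ∃ r ∈ R, ∃ t ∈ T, r * t = g := by
        have h : g ∈ ((R ⊔ T : Subgroup Ω) : Set Ω) := hg.1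
        rwa [Subgroup.coe_mul_of_left_le_normalizer_right R T (hRS.trans hTn), Set.mem_mul] at h
      have htR : t ∉ R := fun h => hgR (R.mul_mem hr h)
      have htN : t ∈ Subgroup.normalizer (R : Set Ω) := by
        simpa using Subgroup.mul_mem _ (Subgroup.inv_mem _ (Subgroup.le_normalizer hr)) hg.2
      refine ⟨t, ?_, htR⟩
      have hc : conjAut htN ∈ F.autGroup R :=
        autInducedBy_le_autGroup F hRS (conjAut_mem_autInducedBy (hT.1 ht) htN)
      have hcY : (⟨_, hc⟩ : F.autGroup R) ∈ (P₀ : Subgroup (F.autGroup R)) ⊓ Y := by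
        refine ⟨?_, fun x => ?_⟩
        · rw [hP₀]
          exact conjAut_mem_autInducedBy (hT.1 ht) htN
        · rw [coe_conjAut]
          have h1 := (Subgroup.mem_normalizer_iff.1 (hTn (S.inv_mem (hRS x.2))) t).1 ht
          have h2 := T.mul_mem h1 (T.inv_mem ht)
          simpa [mul_assoc] using h2
      have h4 := ((Subgroup.mem_normalizer_iff.1 hm _).1 hcY).1
      rw [hP₀] at h4
      obtain ⟨k, hk, hkx⟩ := mem_autInducedBy_iff.1 (Subgroup.mem_subgroupOf.1 h4)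
      refine mem_extender_iff.2 ⟨hT.1 ht, htN, k, hk, fun x hx' => ?_⟩
      have h5 := hkx ((m : MulAut R) x)
      simp only [Subgroup.coe_mul, Subgroup.coe_inv, MulAut.mul_apply,
        MulAut.inv_apply_self] at h5
      exact h5
    obtain ⟨χ, hχ, hχe⟩ := exists_extension (isReceptive_of_fullyNormalized hS hF hRn) hφm hrm
      (le_refl (extender S R (R.subtype.comp (m : MulAut R).toMonoidHom)))
    have hRE : R ≤ extender S R (R.subtype.comp (m : MulAut R).toMonoidHom) :=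
      le_extender hRS (apply_mem hφm)
    have hcard : Nat.card R <
        Nat.card (extender S R (R.subtype.comp (m : MulAut R).toMonoidHom)) :=
      card_lt_of_lt ((extender_le _ _ _).trans (normalizerIn_le S R))
        (lt_of_le_of_ne hRE fun h => hgR (h ▸ hgN))
    obtain ⟨l, hl⟩ := hbig _ hcard χ hχ
    refine ⟨l, fun x => ?_⟩
    have hm' : χ ⟨x, hRE x.2⟩ = ((m : MulAut R) x : Ω) := hχe x x.2 (hRE x.2)
    have h6 := hl ⟨x, hRE x.2⟩ (by rw [hm']; exact hRS ((m : MulAut R) x).2) (hRS x.2)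
    refine Eq.trans ?_ h6
    set z := (m : MulAut R) x with hz
    have h7 : α x = (y : MulAut R) z := by
      rw [show α = ((y * m : F.autGroup R) : MulAut R) from congrArg Subtype.val hym.symm]
      rfl
    have h8 := hker _ (hy z)
    rw [show (⟨(z : Ω)⁻¹ * ((y : MulAut R) z : R), hT.1 (hy z)⟩ : S) =
      ⟨z, hRS z.2⟩⁻¹ * ⟨((y : MulAut R) z : R), hRS ((y : MulAut R) z).2⟩ from Subtype.ext rfl,
      map_mul, map_inv, inv_mul_eq_one] at h8
    rw [show (⟨(α x : Ω), hRS (α x).2⟩ : S) = ⟨((y : MulAut R) z : R), hRS ((y : MulAut R) z).2⟩ from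
      Subtype.ext (show ((α x : R) : Ω) = _ by rw [h7]), ← h8]
    exact congrArg ψ (Subtype.ext hm'.symm)

end Cfsg.Agent.Fusion
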