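import Cfsg.Agent.Lib.Fusion.ConstrainedSubsystem
import Cfsg.Agent.Lib.ZJControl.Complement

/-!
For odd `p` and strongly closed `D`, a saturated system not of inner type moves inside the
normalizer of `Z(J(D))`.
-/

set_option autoImplicit false

universe u

namespace Cfsg.Agent.Fusion

open Cfsg Cfsg.FusionSystem

variable {Ω : Type u} [Group Ω] {S : Subgroup Ω} {F : FusionSystem S} {p : ℕ}

/-- `S` normalizes `Z(J(D))` for strongly closed `D`. -/
theorem le_normalizer_centerThompsonAOf_of_stronglyClosed {D : Subgroup Ω}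
    (hD : F.StronglyClosed D) : S ≤ Subgroup.normalizer (centerThompsonAOf D : Set Ω) := by
  intro g hg
  have h0 := Subgroup.mem_normalizer_iff.1 (le_normalizer_of_stronglyClosed hD hg)
  have hT : D.map (MulAut.conj g).toMonoidHom = D := by
    ext z
    refine ⟨?_, fun hz => ⟨g⁻¹ * z * g, (h0 _).2 (by simpa [mul_assoc] using hz), ?_⟩⟩
    · rintro ⟨w, hw, rfl⟩
      exact (h0 w).1 hw
    · simp [mul_assoc]
  have h := Replacement.centerThompsonAOf_map_equiv (MulAut.conj g) D
  rw [hT] at h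
  refine Subgroup.mem_normalizer_iff.2 fun y => ?_
  conv_rhs => rw [h]
  refine ⟨fun hy => ⟨y, hy, rfl⟩, fun ⟨z, hz, hzy⟩ => ?_⟩
  have h' : g * z * g⁻¹ = g * y * g⁻¹ := hzy
  exact (mul_left_cancel (mul_right_cancel h') : z = y) ▸ hz

variable [Finite S] [Fact p.Prime] {G : Type u} [Group G] {ι : S →* G}

omit [Fact p.Prime] [Finite S] in
theorem pushSub_centerThompsonA_of_le (hι : Function.Injective ι) {D : Subgroup Ω} (hD : D ≤ S) :
    pushSub ι (centerThompsonAOf D) = centerThompsonAOf (pushSub ι D) := by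
  have h1 : centerThompsonAOf D = (centerThompsonAOf (D.subgroupOf S)).map S.subtype := by
    rw [← Replacement.centerThompsonAOf_map_injOn S.subtype
      (fun x _ hx => S.subtype_injective (hx.trans (map_one S.subtype).symm)),
      Subgroup.map_subgroupOf_eq_of_le hD]
  rw [pushSub, pushSub, h1, Subgroup.subgroupOf,
    Subgroup.comap_map_eq_self_of_injective S.subtype_injective,
    Replacement.centerThompsonAOf_map_injOn ι (fun x _ hx => hι (hx.trans (map_one ι).symm))]

/-- The constrained case. -/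
theorem moves_centerThompsonA_stronglyClosed_of_isConstrained (hS : IsPGroup p S) (hp : p ≠ 2)
    (hF : F.IsConstrained p) (hne : ¬ IsInnerType F p) {D : Subgroup Ω}
    (hD : F.StronglyClosed D) : Moves F p (centerThompsonAOf D) := by
  obtain ⟨hs, Q, hn, hc⟩ := hF
  obtain ⟨G, _, ι, hM⟩ := Model.exists_model hS hs hn hc
  have hG := not_complement_of_model hS hs hM hne
  have hW : centerThompsonAOf D ≤ S := (centerThompsonAOf_le D).trans hD.1
  by_contra hno
  have hfin := hM.1
  have hι := hM.2.1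
  obtain ⟨T, hT⟩ := hM.2.2.1
  have hcl : Cfsg.IsStronglyClosed (pushSub ι D) (T : Subgroup G) := by
    refine ⟨hT.symm ▸ pushSub_le ι D, ?_⟩
    rintro _ ⟨x, hx, rfl⟩ g hg
    rw [hT] at hg
    obtain ⟨y, hy⟩ := hg
    have hP : Subgroup.zpowers (x : Ω) ≤ S := Subgroup.zpowers_le.2 x.2
    have hgmem : ∀ z : Subgroup.zpowers (x : Ω), g * ι ⟨z, hP z.2⟩ * g⁻¹ ∈ ι.range := by
      rintro ⟨_, i, rfl⟩
      refine ⟨y ^ i, ?_⟩
      rw [map_zpow, hy, conj_zpow, ← map_zpow]
      exact congrArg (fun w => g * ι w * g⁻¹) (Subtype.ext (by simp))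
    have hφ := pullHom_mem hι hP g hgmem
    have h1 := hD.2 (Subgroup.zpowers (x : Ω)) (Subgroup.zpowers_le.2 hx) _ hφ
      ⟨x, Subgroup.mem_zpowers _⟩
    refine ⟨⟨_, apply_mem hφ ⟨x, Subgroup.mem_zpowers _⟩⟩, h1, ?_⟩
    rw [apply_pullHom]
  refine hG (ZJControl.hasNormalPComplement_of_normalizer (ZJControl.isZJLike_A hp) hp T hcl ?_)
  by_contra hN
  refine hno (moves_of_not_complement hS hM hW ?_)
  rw [pushSub_centerThompsonA_of_le hι.1 hD.1]
  exact hN

theorem moves_centerThompsonA_stronglyClosed (hS : IsPGroup p S) (hp : p ≠ 2)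
    (hF : F.IsSaturated p) (hne : ¬ IsInnerType F p) {D : Subgroup Ω} (hD : F.StronglyClosed D) :
    Moves F p (centerThompsonAOf D) := by
  obtain ⟨E, hle, hc, hEne⟩ := exists_constrained hS hF (Or.inl hp) hne
  refine (moves_centerThompsonA_stronglyClosed_of_isConstrained hS hp hc hEne
    ⟨hD.1, fun R hR φ hφ x => hD.2 R hR φ (hle R hφ) x⟩).mono hle

end Cfsg.Agent.Fusion
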