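import Cfsg.Agent.Lib.Fusion.NormalCriteria
import Cfsg.Agent.Lib.Fusion.Realized
import Mathlib.GroupTheory.SchurZassenhaus
import Mathlib.GroupTheory.SemidirectProduct
import Mathlib.FieldTheory.Finite.Basic
import Mathlib.LinearAlgebra.Eigenspace.Minpoly

/-!
Supersoluble fusion systems: a chain of strongly closed subgroups with cyclic steps can be refined
to a central one with steps of order `p`; coprime automorphisms stabilising such a chain form an
abelian group of exponent dividing `p - 1`, and conversely.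
-/

set_option autoImplicit false
set_option linter.unusedSectionVars false

namespace Cfsg.Agent.Fusion.Supersoluble

open Cfsg Cfsg.FusionSystem Cfsg.Agent.Fusion

variable {p : ℕ} [Fact p.Prime]

/-- In a finite `p`-group an element of order dividing `p` whose cyclic group is invariant under
`q` commutes with `q`. -/
theorem commute_of_conj_mem {Q : Type*} [Group Q] (hQ : IsPGroup p Q) {q z : Q} (hz : z ^ p = 1)
    (h : q * z * q⁻¹ ∈ Subgroup.zpowers z) : q * z * q⁻¹ = z := by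
  by_cases hz1 : z = 1
  · simp [hz1]
  have hfin : IsOfFinOrder z := isOfFinOrder_iff_pow_eq_one.2 ⟨p, (Fact.out : p.Prime).pos, hz⟩
  obtain ⟨n, hn : z ^ n = q * z * q⁻¹⟩ := (IsOfFinOrder.mem_powers_iff_mem_zpowers hfin).2 h
  have hit : ∀ m : ℕ, q ^ m * z * (q ^ m)⁻¹ = z ^ (n ^ m) := by
    intro m
    induction m with
    | zero => simp
    | succ m ih =>
      have hc : ∀ k : ℕ, q * z ^ k * q⁻¹ = (q * z * q⁻¹) ^ k := fun k => (conj_pow).symm
      rw [pow_succ', mul_inv_rev, show q * q ^ m * z * ((q ^ m)⁻¹ * q⁻¹) =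
        q * (q ^ m * z * (q ^ m)⁻¹) * q⁻¹ by group, ih, hc, ← hn, ← pow_mul, pow_succ']
  obtain ⟨k, hk⟩ := hQ q
  have h1 := hit (p ^ k)
  rw [hk, one_mul, inv_one, mul_one] at h1
  have hord : orderOf z = p := orderOf_eq_prime hz hz1
  have h2 : z ^ (n ^ p ^ k) = z ^ 1 := by rw [← h1, pow_one]
  rw [pow_eq_pow_iff_modEq, hord] at h2
  rw [← hn]
  refine (pow_eq_pow_iff_modEq.2 ?_).trans (pow_one z)
  rw [hord]
  have h3 : ((n ^ p ^ k : ℕ) : ZMod p) = ((1 : ℕ) : ZMod p) := (ZMod.natCast_eq_natCast_iff _ _ _).2 h2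
  refine (ZMod.natCast_eq_natCast_iff _ _ _).1 ?_
  rwa [Nat.cast_pow, ZMod.pow_card_pow] at h3

section Refine

variable {Ω : Type*} [Group Ω] {S : Subgroup Ω} {F : FusionSystem S}

/-- `D` ends a chain of strongly closed subgroups with central steps of order dividing `p`. -/
def Reach (p : ℕ) (F : FusionSystem S) (D : Subgroup Ω) : Prop :=
  ∃ (n : ℕ) (T : ℕ → Subgroup Ω), T 0 = ⊥ ∧ T n = D ∧ (∀ i, F.StronglyClosed (T i)) ∧
    ∀ i < n, T i ≤ T (i + 1) ∧ (∀ s ∈ S, ∀ y ∈ T (i + 1), s * y * s⁻¹ * y⁻¹ ∈ T i) ∧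
      ∃ z ∈ T (i + 1), z ^ p ∈ T i ∧ ∀ y ∈ T (i + 1), ∃ j : ℕ, (z ^ j)⁻¹ * y ∈ T i

theorem reach_bot : Reach p F ⊥ :=
  ⟨0, fun _ => ⊥, rfl, rfl, fun _ => stronglyClosed_bot, fun i hi => absurd hi (by omega)⟩

theorem reach_snoc {D D' : Subgroup Ω} (hD : Reach p F D) (hD' : F.StronglyClosed D') (hle : D ≤ D')
    (hc : ∀ s ∈ S, ∀ y ∈ D', s * y * s⁻¹ * y⁻¹ ∈ D) {z : Ω} (hz : z ∈ D') (hzp : z ^ p ∈ D)
    (hg : ∀ y ∈ D', ∃ j : ℕ, (z ^ j)⁻¹ * y ∈ D) : Reach p F D' := by
  obtain ⟨n, T, hT0, hTn, hcl, hst⟩ := hD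
  refine ⟨n + 1, fun i => if i ≤ n then T i else D', by simpa using hT0, by simp, fun i => ?_,
    fun i hi => ?_⟩
  · dsimp only
    split_ifs
    exacts [hcl i, hD']
  · rcases Nat.lt_or_eq_of_le (Nat.lt_succ_iff.1 hi) with h | rfl
    · simpa [h.le, Nat.succ_le_of_lt h] using hst i h
    · simp only [le_refl, if_true, Nat.not_succ_le_self, if_false, hTn]
      exact ⟨hle, hc, z, hz, hzp, hg⟩

theorem reach_step [Finite S] (hS : IsPGroup p S) {C : Subgroup Ω} (hC : F.StronglyClosed C)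
    {x : Ω} (hx : x ∈ S) :
    ∀ (m : ℕ) (D : Subgroup Ω), Nat.card C - Nat.card D = m → F.StronglyClosed D →
      C = D ⊔ Subgroup.zpowers x → Reach p F D → Reach p F C := by
  intro m
  induction m using Nat.strong_induction_on with
  | _ m ih =>
  intro D hm hD hCD hR
  have hnorm : (D.subgroupOf S).Normal :=
    (Subgroup.normal_subgroupOf_iff_le_normalizer hD.1).2 (le_normalizer_of_stronglyClosed hD)
  set π := QuotientGroup.mk' (D.subgroupOf S)
  set a := π ⟨x, hx⟩ with ha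
  have hxC : x ∈ C := hCD ▸ Subgroup.mem_sup_right (Subgroup.mem_zpowers x)
  have hDC : D ≤ C := hCD ▸ le_sup_left
  have hmemC : ∀ y : S, (y : Ω) ∈ C ↔ π y ∈ Subgroup.zpowers a := by
    intro y
    constructor
    · intro hy
      have h1 : C ≤ ((Subgroup.zpowers a).comap π).map S.subtype := by
        rw [hCD]
        refine sup_le (fun d hd => ⟨⟨d, hD.1 hd⟩, ?_, rfl⟩)
          ((Subgroup.zpowers_le).2 ⟨⟨x, hx⟩, Subgroup.mem_zpowers a, rfl⟩)
        show π ⟨d, hD.1 hd⟩ ∈ Subgroup.zpowers a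
        rw [show π ⟨d, hD.1 hd⟩ = 1 from (QuotientGroup.eq_one_iff _).2 hd]
        exact Subgroup.one_mem _
      obtain ⟨w, hw, hwy⟩ := h1 hy
      rwa [← (Subtype.ext hwy : w = y)]
    · rintro ⟨j, hj⟩
      have h1 : (⟨x, hx⟩ : S) ^ j * 1 = ⟨x, hx⟩ ^ j := mul_one _
      have h2 : ((⟨x, hx⟩ : S) ^ j)⁻¹ * y ∈ D.subgroupOf S :=
        QuotientGroup.eq.1 (show π ((⟨x, hx⟩ : S) ^ j) = π y by rw [map_zpow]; exact hj)
      have h3 : x ^ j * ((x ^ j)⁻¹ * (y : Ω)) ∈ C :=
        C.mul_mem (C.zpow_mem hxC j) (hDC (by simpa [Subgroup.mem_subgroupOf] using h2))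
      rwa [mul_inv_cancel_left] at h3
  by_cases ha1 : a = 1
  · have : C = D := by
      refine le_antisymm ?_ hDC
      rw [hCD]
      refine sup_le le_rfl (Subgroup.zpowers_le.2 ?_)
      exact (QuotientGroup.eq_one_iff (⟨x, hx⟩ : S)).1 ha1
    rwa [this]
  have hQ : IsPGroup p (S ⧸ D.subgroupOf S) := hS.to_quotient _
  obtain ⟨k, hk⟩ := IsPGroup.iff_orderOf.1 hQ a
  obtain ⟨k, rfl⟩ : ∃ k', k = k' + 1 := ⟨k - 1, by
    rcases k with - | k
    · rw [pow_zero, orderOf_eq_one_iff] at hk; exact absurd hk ha1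
    · rfl⟩
  set w := a ^ (p ^ k) with hw
  have hwp : w ^ p = 1 := by rw [hw, ← pow_mul, ← pow_succ, ← hk, pow_orderOf_eq_one]
  have hw1 : w ≠ 1 := pow_ne_one_of_lt_orderOf (pow_ne_zero _ (Fact.out : p.Prime).ne_zero)
    (by rw [hk]; exact Nat.pow_lt_pow_right (Fact.out : p.Prime).one_lt k.lt_succ_self)
  have hsoc : ∀ b ∈ Subgroup.zpowers a, b ^ p = 1 → b ∈ Subgroup.zpowers w := by
    rintro _ ⟨j, rfl⟩ hb
    change (a ^ j) ^ p = 1 at hb
    rw [← zpow_natCast, ← zpow_mul, ← orderOf_dvd_iff_zpow_eq_one, hk, pow_succ] at hb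
    push_cast at hb
    have h1 : ((p : ℤ) ^ k) ∣ j :=
      Int.dvd_of_mul_dvd_mul_right (by exact_mod_cast (Fact.out : p.Prime).ne_zero) hb
    obtain ⟨l, rfl⟩ := h1
    exact ⟨l, by show w ^ l = _; rw [hw, ← zpow_natCast, ← zpow_mul]; push_cast; rfl⟩
  set E := ((Subgroup.zpowers w).comap π).map S.subtype with hE
  have hmemE : ∀ y : S, (y : Ω) ∈ E ↔ π y ∈ Subgroup.zpowers w := fun y =>
    ⟨fun ⟨u, hu, hy⟩ => (Subtype.ext hy : u = y) ▸ hu, fun h => ⟨y, h, rfl⟩⟩
  have hwa : Subgroup.zpowers w ≤ Subgroup.zpowers a :=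
    Subgroup.zpowers_le.2 (Subgroup.pow_mem _ (Subgroup.mem_zpowers a) _)
  have hEC : E ≤ C := by
    rintro _ ⟨u, hu, rfl⟩
    exact (hmemC u).2 (hwa hu)
  have hDE : D ≤ E := fun d hd => (hmemE ⟨d, hD.1 hd⟩).2 (by
    rw [show π ⟨d, hD.1 hd⟩ = 1 from (QuotientGroup.eq_one_iff _).2 hd]
    exact Subgroup.one_mem _)
  set z : S := ⟨x, hx⟩ ^ (p ^ k) with hz
  have hπz : π z = w := by rw [hz, map_pow]
  have hEcl : F.StronglyClosed E := by
    refine ⟨Subgroup.map_subtype_le _, fun P hP φ hφ y => ?_⟩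
    have hPS : P ≤ S := hP.trans (Subgroup.map_subtype_le _)
    have hyS := apply_mem hφ y
    refine (hmemE ⟨φ y, hyS⟩).2 (hsoc _ ((hmemC ⟨φ y, hyS⟩).1 (hC.2 P (hP.trans hEC) φ hφ y)) ?_)
    have hyp : ((y ^ p : P) : Ω) ∈ D := by
      have h1 := (hmemE ⟨y, hPS y.2⟩).1 (hP y.2)
      obtain ⟨l, hl⟩ := h1
      have : π (⟨y, hPS y.2⟩ ^ p) = 1 := by
        rw [map_pow, ← hl]
        show (w ^ l) ^ p = 1
        rw [← zpow_natCast, zpow_comm, zpow_natCast, hwp, one_zpow]
      exact (QuotientGroup.eq_one_iff ((⟨y, hPS y.2⟩ : S) ^ p)).1 this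
    have h2 := hD.2 (P ⊓ D) inf_le_right _ (restrict_mem hφ inf_le_left) ⟨_, (y ^ p).2, hyp⟩
    rw [← map_pow]
    refine (QuotientGroup.eq_one_iff _).2 ?_
    show ((φ y) ^ p : Ω) ∈ D
    rw [← map_pow]
    exact h2
  refine ih (Nat.card C - Nat.card E) ?_ E rfl hEcl ?_ (reach_snoc hR hEcl hDE ?_
    ((hmemE z).2 (hπz ▸ Subgroup.mem_zpowers w)) ?_ ?_)
  · have := finite_of_le hC.1
    have := finite_of_le hEcl.1
    have h1 : Nat.card D < Nat.card E := Set.Finite.card_lt_card (Set.toFinite _) (s := (D : Set Ω))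
      (lt_of_le_of_ne hDE fun he => hw1 (by
        rw [← hπz]
        refine (QuotientGroup.eq_one_iff z).2 (show (z : Ω) ∈ (D : Set Ω) from ?_)
        rw [show (D : Set Ω) = (E : Set Ω) from he]
        exact (hmemE z).2 (hπz ▸ Subgroup.mem_zpowers w)))
    have h2 := Subgroup.card_le_of_le hEC
    omega
  · exact le_antisymm (hCD.le.trans (sup_le_sup_right hDE _))
      (sup_le hEC (Subgroup.zpowers_le.2 hxC))
  · intro s hs y hy
    have hyS : y ∈ S := hEcl.1 hy
    have h1 : π ⟨s, hs⟩ * π ⟨y, hyS⟩ * (π ⟨s, hs⟩)⁻¹ = π ⟨y, hyS⟩ := by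
      obtain ⟨l, hl⟩ := (hmemE ⟨y, hyS⟩).1 hy
      have hc : π ⟨s, hs⟩ * w * (π ⟨s, hs⟩)⁻¹ = w := by
        refine commute_of_conj_mem hQ hwp ?_
        rw [← hπz, ← map_inv, ← map_mul, ← map_mul]
        refine hπz ▸ hsoc _ ((hmemC _).1 ?_) ?_
        · exact (Subgroup.mem_normalizer_iff.1 (le_normalizer_of_stronglyClosed hC hs) _).1
            (hEC ((hmemE z).2 (hπz ▸ Subgroup.mem_zpowers w)))
        · rw [map_mul, map_mul, map_inv, hπz, conj_pow, hwp, mul_one, mul_inv_cancel]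
      rw [← hl]
      show _ * w ^ l * _ = w ^ l
      rw [← conj_zpow, hc]
    refine Subgroup.mem_subgroupOf.1 (show
      (⟨s, hs⟩ * ⟨y, hyS⟩ * ⟨s, hs⟩⁻¹ * ⟨y, hyS⟩⁻¹ : S) ∈ D.subgroupOf S from ?_)
    refine (QuotientGroup.eq_one_iff _).1 (show π _ = 1 from ?_)
    rw [map_mul, map_mul, map_mul, map_inv, map_inv, h1, mul_inv_cancel]
  · exact (QuotientGroup.eq_one_iff (z ^ p)).1 (show π _ = 1 by rw [map_pow, hπz, hwp])
  · intro y hy
    have hyS : y ∈ S := hEcl.1 hy
    have hfin : IsOfFinOrder w := isOfFinOrder_of_finite w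
    obtain ⟨j, hj : w ^ j = π ⟨y, hyS⟩⟩ :=
      (IsOfFinOrder.mem_powers_iff_mem_zpowers hfin).2 ((hmemE ⟨y, hyS⟩).1 hy)
    refine ⟨j, ?_⟩
    exact Subgroup.mem_subgroupOf.1 (QuotientGroup.eq.1 (show π (z ^ j) = π ⟨y, hyS⟩ by rw [map_pow, hπz, hj]))

/-- A chain of strongly closed subgroups with cyclic steps refines to a central one. -/
theorem reach_top [Finite S] (hS : IsPGroup p S) {m : ℕ} {c : Fin (m + 1) → Subgroup Ω}
    (h0 : c 0 = ⊥) (hl : c (Fin.last m) = S) (hcl : ∀ i, F.StronglyClosed (c i))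
    (hst : ∀ i : Fin m, c i.castSucc ≤ c i.succ ∧
      ∃ x ∈ S, c i.succ = c i.castSucc ⊔ Subgroup.zpowers x) : Reach p F S := by
  have key : ∀ i : Fin (m + 1), Reach p F (c i) := by
    intro i
    induction i using Fin.induction with
    | zero => exact h0 ▸ reach_bot
    | succ i ih =>
      obtain ⟨-, x, hx, he⟩ := hst i
      exact reach_step hS (hcl _) hx _ _ rfl (hcl _) he ih
  have h := key (Fin.last m)
  rwa [hl] at h

theorem isNormal_of_reach [Finite S] (hS : IsPGroup p S) (hF : F.IsSaturated p)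
    (h : Reach p F S) : F.IsNormal S := by
  obtain ⟨n, T, hT0, hTn, hcl, hst⟩ := h
  refine isNormal_of_chain hS hF hT0 hTn (fun i _ => hcl i) fun i hi => ?_
  exact Subgroup.commutator_le.2 fun s hs y hy => (hst i hi).2.1 s hs y hy

end Refine

/-- Coprime automorphisms of a finite `p`-group stabilising a series with steps of order `p`
form an abelian group of exponent dividing `p - 1`. -/
theorem abelian_exponent_of_series {G : Type*} [Group G] [Finite G] (hG : IsPGroup p G)
    (H : Subgroup (MulAut G)) (hH : (Nat.card H).Coprime p) {n : ℕ} {T : ℕ → Subgroup G}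
    (hT0 : T 0 = ⊥) (hTn : T n = ⊤) (hN : ∀ i, (T i).Normal)
    (hinv : ∀ h : H, ∀ i, ∀ x ∈ T i, (h : MulAut G) x ∈ T i)
    (hst : ∀ i < n, ∃ z ∈ T (i + 1), z ^ p ∈ T i ∧ ∀ y ∈ T (i + 1), ∃ j : ℕ, (z ^ j)⁻¹ * y ∈ T i) :
    IsMulCommutative H ∧ ∀ h ∈ H, h ^ (p - 1) = 1 := by
  let U : ℕ → Subgroup G := fun i => if i ≤ n then T i else ⊤
  have hU : ∀ (a : H) (i : ℕ), ∀ x ∈ U i, (a : MulAut G) x ∈ U i := by
    intro a i x hx
    simp only [U] at hx ⊢
    split_ifs with h
    · exact hinv a i x (by simpa [h] using hx)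
    · exact Subgroup.mem_top _
  have hbot : seriesStabilizer H U hU = ⊥ := by
    refine Subgroup.card_eq_one.1 ?_
    obtain ⟨k, hk⟩ := IsPGroup.iff_card.1
      (isPGroup_seriesStabilizer hG H U hU (by simp [U, hT0]) (m := n) (by simp [U, hTn]))
    rw [hk]
    have hd : p ^ k ∣ Nat.card H := hk ▸ Subgroup.card_subgroup_dvd_card _
    rcases k with - | k
    · rfl
    · exact absurd ((dvd_pow_self p k.succ_ne_zero).trans hd)
        ((Fact.out : p.Prime).coprime_iff_not_dvd.1 hH.symm)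
  -- the action on a step
  have hsc : ∀ i < n, ∃ z ∈ T (i + 1), ∀ h : H, ∃ c : ℕ, ¬ p ∣ c ∧
      ∀ x ∈ T (i + 1), QuotientGroup.mk' (T i) ((h : MulAut G) x) =
        QuotientGroup.mk' (T i) x ^ c := by
    intro i hi
    obtain ⟨z, hz, hzp, hg⟩ := hst i hi
    refine ⟨z, hz, fun h => ?_⟩
    by_cases hzi : z ∈ T i
    · refine ⟨1, (Fact.out : p.Prime).not_dvd_one, fun x hx => ?_⟩
      obtain ⟨j, hj⟩ := hg x hx
      have hxi : x ∈ T i := by
        have := (T i).mul_mem ((T i).pow_mem hzi j) hj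
        rwa [mul_inv_cancel_left] at this
      rw [pow_one, show QuotientGroup.mk' (T i) x = 1 from (QuotientGroup.eq_one_iff _).2 hxi,
        show QuotientGroup.mk' (T i) ((h : MulAut G) x) = 1 from
          (QuotientGroup.eq_one_iff _).2 (hinv h i x hxi)]
    obtain ⟨c, hc⟩ := hg _ (hinv h (i + 1) z hz)
    have e : QuotientGroup.mk' (T i) ((h : MulAut G) z) = QuotientGroup.mk' (T i) z ^ c :=
      ((QuotientGroup.eq.2 hc : QuotientGroup.mk' (T i) (z ^ c) = QuotientGroup.mk' (T i) _)).symm.trans (map_pow (QuotientGroup.mk' (T i)) _ _)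
    have hall : ∀ x ∈ T (i + 1), QuotientGroup.mk' (T i) ((h : MulAut G) x) =
        QuotientGroup.mk' (T i) x ^ c := by
      intro x hx
      obtain ⟨j, hj⟩ := hg x hx
      have e1 : QuotientGroup.mk' (T i) x = QuotientGroup.mk' (T i) z ^ j :=
        ((QuotientGroup.eq.2 hj : QuotientGroup.mk' (T i) (z ^ j) = QuotientGroup.mk' (T i) _)).symm.trans (map_pow (QuotientGroup.mk' (T i)) _ _)
      have h2 := hinv h i _ hj
      rw [map_mul, map_inv, map_pow] at h2
      have e2 : QuotientGroup.mk' (T i) ((h : MulAut G) x) =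
          QuotientGroup.mk' (T i) ((h : MulAut G) z) ^ j :=
        ((QuotientGroup.eq.2 h2 : QuotientGroup.mk' (T i) (((h : MulAut G) z) ^ j) =
          QuotientGroup.mk' (T i) _)).symm.trans
          (map_pow (QuotientGroup.mk' (T i)) _ _)
      rw [e2, e, e1, ← pow_mul, ← pow_mul, mul_comm]
    refine ⟨c, ?_, hall⟩
    rintro ⟨d, hd⟩
    have h1 : (h : MulAut G) z ∈ T i := by
      refine (QuotientGroup.eq_one_iff _).1 (show QuotientGroup.mk' (T i) _ = 1 from ?_)
      rw [e, hd, pow_mul, ← map_pow, show QuotientGroup.mk' (T i) (z ^ p) = 1 from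
        (QuotientGroup.eq_one_iff _).2 hzp, one_pow]
    have h2 := hinv h⁻¹ i _ h1
    rw [Subgroup.coe_inv, MulAut.inv_apply_self] at h2
    exact hzi h2
  refine ⟨⟨⟨fun a b => ?_⟩⟩, fun h hh => ?_⟩
  · have hk : a * b * (b * a)⁻¹ ∈ seriesStabilizer H U hU := by
      intro i x hx
      by_cases hi : i < n
      · obtain ⟨z, hz, hsc'⟩ := hsc i hi
        simp only [U, Nat.succ_le_of_lt hi, hi.le, if_true] at hx ⊢
        set y := (((b * a)⁻¹ : H) : MulAut G) x with hy
        have hym : y ∈ T (i + 1) := hinv _ _ _ hx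
        have hxy : x = ((b * a : H) : MulAut G) y := by
          rw [hy, Subgroup.coe_inv, MulAut.apply_inv_self]
        have hab : ((a * b * (b * a)⁻¹ : H) : MulAut G) x = ((a * b : H) : MulAut G) y := by
          rw [hy]; rfl
        refine QuotientGroup.eq.1 (show QuotientGroup.mk' (T i) x = QuotientGroup.mk' (T i) _ from ?_)
        obtain ⟨ca, -, hca⟩ := hsc' a
        obtain ⟨cb, -, hcb⟩ := hsc' b
        rw [hab, hxy, Subgroup.coe_mul, Subgroup.coe_mul, MulAut.mul_apply, MulAut.mul_apply,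
          hcb _ (hinv a _ _ hym), hca _ hym, hca _ (hinv b _ _ hym), hcb _ hym, ← pow_mul,
          ← pow_mul, mul_comm]
      · simp only [U] at hx ⊢
        by_cases hi' : i = n
        · subst hi'; rw [if_pos le_rfl, hTn]; exact Subgroup.mem_top _
        · rw [if_neg (by omega)]; exact Subgroup.mem_top _
    rw [hbot, Subgroup.mem_bot, mul_inv_eq_one] at hk
    exact hk
  · have hk : (⟨h, hh⟩ : H) ^ (p - 1) ∈ seriesStabilizer H U hU := by
      intro i x hx
      by_cases hi : i < n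
      · obtain ⟨z, hz, hsc'⟩ := hsc i hi
        obtain ⟨c, hc, hall⟩ := hsc' ⟨h, hh⟩
        simp only [U, Nat.succ_le_of_lt hi, hi.le, if_true] at hx ⊢
        refine QuotientGroup.eq.1 (show QuotientGroup.mk' (T i) x = QuotientGroup.mk' (T i) _ from ?_)
        have hit : ∀ m : ℕ, (h ^ m) x ∈ T (i + 1) ∧ QuotientGroup.mk' (T i) ((h ^ m) x) =
            QuotientGroup.mk' (T i) x ^ (c ^ m) := by
          intro m
          induction m with
          | zero => simpa using hx
          | succ m ih =>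
            rw [pow_succ', MulAut.mul_apply]
            exact ⟨hinv ⟨h, hh⟩ _ _ ih.1, by rw [hall _ ih.1, ih.2, ← pow_mul, ← pow_succ]⟩
        rw [Subgroup.coe_pow, (hit _).2]
        obtain ⟨z', hz', hzp', hg'⟩ := hst i hi
        obtain ⟨j, hj⟩ := hg' x hx
        have hord : QuotientGroup.mk' (T i) x ^ p = 1 := by
          rw [← show QuotientGroup.mk' (T i) (z' ^ j) = QuotientGroup.mk' (T i) x from QuotientGroup.eq.2 hj, ← map_pow,
            ← pow_mul, mul_comm, pow_mul, map_pow,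
            show QuotientGroup.mk' (T i) (z' ^ p) = 1 from (QuotientGroup.eq_one_iff _).2 hzp',
            one_pow]
        have hmod : c ^ (p - 1) ≡ 1 [MOD p] := by
          have := Nat.ModEq.pow_totient ((Fact.out : p.Prime).coprime_iff_not_dvd.2 hc).symm
          rwa [Nat.totient_prime (Fact.out : p.Prime)] at this
        conv_lhs => rw [← pow_one (QuotientGroup.mk' (T i) x)]
        refine pow_eq_pow_iff_modEq.2 (Nat.ModEq.of_dvd ?_ hmod.symm)
        exact orderOf_dvd_of_pow_eq_one hord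
      · simp only [U] at hx ⊢
        by_cases hi' : i = n
        · subst hi'; rw [if_pos le_rfl, hTn]; exact Subgroup.mem_top _
        · rw [if_neg (by omega)]; exact Subgroup.mem_top _
    rw [hbot, Subgroup.mem_bot] at hk
    exact congrArg Subtype.val hk

section System

variable {Ω : Type*} [Group Ω] {S : Subgroup Ω}

/-- The saturated system of `S ⋊ H` for a group `H` of coprime automorphisms of `S`. -/
theorem exists_saturated_containing [Finite S] (hS : IsPGroup p S) (H : Subgroup (MulAut S))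
    (hH : (Nat.card H).Coprime p) :
    ∃ F : FusionSystem S, F.IsSaturated p ∧
      ∀ h ∈ H, S.subtype.comp (MulEquiv.toMonoidHom h) ∈ F.Hom S := by
  have := Finite.of_equiv _ (SemidirectProduct.equivProd (φ := H.subtype)).symm
  let ι : S →* S ⋊[H.subtype] H := SemidirectProduct.inl
  have hι : Function.Injective ι := SemidirectProduct.inl_injective
  have hr := inducedSystem_realized ι hι
  refine ⟨inducedSystem ι hι, isSaturated_of_realized hr ?_, fun h hh => ?_⟩
  · have h1 : IsPGroup p ι.range := hS.of_surjective ι.rangeRestrict ι.rangeRestrict_surjective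
    have h2 : ι.range.index = Nat.card H := by
      rw [show ι.range = (SemidirectProduct.rightHom (φ := H.subtype)).ker from
        SemidirectProduct.range_inl_eq_ker_rightHom, Subgroup.index_ker,
        MonoidHom.range_eq_top.2 SemidirectProduct.rightHom_surjective,
        Nat.card_congr Subgroup.topEquiv.toEquiv]
    exact ⟨h1.toSylow (h2 ▸ (Fact.out : p.Prime).coprime_iff_not_dvd.1 hH.symm), rfl⟩
  · refine (realized_hom_iff hr).2 ⟨le_rfl, fun x => (h x).2,
      SemidirectProduct.inr ⟨h, hh⟩, fun x => ?_⟩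
    exact (SemidirectProduct.inl_aut (φ := H.subtype) ⟨h, hh⟩ x).trans (by rw [map_inv])

end System

section Chain

/-- A commuting family of endomorphisms `e` with `e ^ p = e` of a nonzero space over `ZMod p`
has a common eigenvector. -/
theorem exists_common_eigenvector {M : Type*} [AddCommGroup M] [Module (ZMod p) M] [Finite M]
    [Nontrivial M] {ι : Type*} (e : ι → Module.End (ZMod p) M) (hc : ∀ i j, Commute (e i) (e j))
    (he : ∀ i, e i ^ p = e i) (s : Finset ι) :
    ∃ W : Submodule (ZMod p) M, W ≠ ⊥ ∧ (∀ j, ∀ v ∈ W, e j v ∈ W) ∧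
      ∀ i ∈ s, ∃ c : ZMod p, ∀ v ∈ W, e i v = c • v := by
  classical
  induction s using Finset.induction with
  | empty => exact ⟨⊤, top_ne_bot, fun _ _ _ => trivial, fun i hi => absurd hi (by simp)⟩
  | @insert a s ha ih =>
    obtain ⟨W, hW, hinv, hsc⟩ := ih
    have : Nontrivial W := Submodule.nontrivial_iff_ne_bot.2 hW
    set f := (e a).restrict (hinv a)
    have hf : f ^ p = f := by
      refine LinearMap.ext fun v => Subtype.ext ?_
      rw [Module.End.pow_restrict p (hinv a)]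
      exact LinearMap.congr_fun (he a) v
    have hroot : ∃ c : ZMod p, (minpoly (ZMod p) f).IsRoot c := by
      have hint : IsIntegral (ZMod p) f := Algebra.IsIntegral.isIntegral f
      have hdvd : minpoly (ZMod p) f ∣ Polynomial.X ^ p - Polynomial.X :=
        minpoly.dvd _ _ (by simp [hf])
      have hne : (Polynomial.X ^ p - Polynomial.X : Polynomial (ZMod p)) ≠ 0 :=
        FiniteField.X_pow_card_sub_X_ne_zero _ (Fact.out : p.Prime).one_lt
      have hsp : (Polynomial.X ^ p - Polynomial.X : Polynomial (ZMod p)).Splits :=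
        Polynomial.splits_iff_card_roots.2 (by
          rw [FiniteField.X_pow_card_sub_X_natDegree_eq _ (Fact.out : p.Prime).one_lt]
          have := FiniteField.roots_X_pow_card_sub_X (ZMod p)
          rw [ZMod.card] at this
          rw [this, ← Finset.card_def, Finset.card_univ, ZMod.card])
      exact (hsp.of_dvd hne hdvd).exists_eval_eq_zero (minpoly.degree_pos hint).ne'
    obtain ⟨c, hroot⟩ := hroot
    obtain ⟨v, hv, hv0⟩ := (Module.End.hasEigenvalue_of_isRoot hroot).exists_hasEigenvector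
    refine ⟨W ⊓ LinearMap.ker (e a - c • LinearMap.id), ?_, fun j w hw => ⟨hinv j w hw.1, ?_⟩, ?_⟩
    · refine (Submodule.ne_bot_iff _).2 ⟨v, ⟨v.2, ?_⟩, fun h => hv0 (Subtype.ext h)⟩
      have h1 := congrArg Subtype.val (Module.End.mem_eigenspace_iff.1 hv)
      exact LinearMap.mem_ker.2 (sub_eq_zero.2 h1)
    · have h1 : e a w = c • w := by simpa [sub_eq_zero] using hw.2
      have h2 : e a (e j w) = e j (e a w) := LinearMap.congr_fun (hc a j).eq w
      simp [h2, h1, map_smul]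
    · intro i hi
      rcases Finset.mem_insert.1 hi with rfl | hi
      · exact ⟨c, fun w hw => by simpa [sub_eq_zero] using hw.2⟩
      · obtain ⟨d, hd⟩ := hsc i hi
        exact ⟨d, fun w hw => hd w hw.1⟩

/-- Additive form of `exists_power_vector`. -/
theorem exists_multiple_vector {M : Type*} [AddCommGroup M] [Finite M] [Nontrivial M]
    (hV : ∀ v : M, p • v = 0) {ι : Type*} [Finite ι] (e : ι → M →+ M)
    (hc : ∀ i j v, e i (e j v) = e j (e i v)) (he : ∀ i v, (e i)^[p - 1] v = v) :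
    ∃ v : M, v ≠ 0 ∧ ∀ i, ∃ c : ℕ, e i v = c • v := by
  let : Module (ZMod p) M := AddCommGroup.zmodModule hV
  let f : ι → Module.End (ZMod p) M := fun i => (e i).toZModLinearMap p
  have := Fintype.ofFinite ι
  obtain ⟨W, hW, -, hsc⟩ := exists_common_eigenvector (p := p) f
    (fun i j => LinearMap.ext fun v => hc i j v)
    (fun i => LinearMap.ext fun v => by
      have h1 : ∀ m : ℕ, (f i ^ m) v = (e i)^[m] v := by
        intro m
        induction m with
        | zero => rfl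
        | succ m ih => rw [pow_succ', Function.iterate_succ_apply', ← ih]; rfl
      have hp : (e i)^[p - 1 + 1] v = e i v := by
        rw [Function.iterate_succ_apply, he]
      rw [Nat.sub_add_cancel (Fact.out : p.Prime).one_le] at hp
      exact (h1 p).trans hp) Finset.univ
  obtain ⟨v, hv, hv0⟩ := (Submodule.ne_bot_iff W).1 hW
  refine ⟨v, hv0, fun i => ?_⟩
  obtain ⟨c, hc'⟩ := hsc i (Finset.mem_univ _)
  refine ⟨c.val, (hc' v hv).trans ?_⟩
  rw [← Nat.cast_smul_eq_nsmul (ZMod p), ZMod.natCast_zmod_val]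

/-- A commuting family of endomorphisms of exponent dividing `p - 1` of a nontrivial elementary
abelian `p`-group has a common vector sent to powers of itself. -/
theorem exists_power_vector {V : Type*} [CommGroup V] [Finite V] [Nontrivial V]
    (hV : ∀ v : V, v ^ p = 1) {ι : Type*} [Finite ι] (e : ι → V →* V)
    (hc : ∀ i j v, e i (e j v) = e j (e i v)) (he : ∀ i v, (e i)^[p - 1] v = v) :
    ∃ v : V, v ≠ 1 ∧ ∀ i, ∃ c : ℕ, e i v = v ^ c := by
  have : Finite (Additive V) := Finite.of_equiv V Additive.ofMul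
  obtain ⟨v, hv, h⟩ := exists_multiple_vector (M := Additive V)
    (fun v => Additive.toMul.injective (hV v.toMul)) (fun i => MonoidHom.toAdditive (e i))
    (fun i j v => Additive.toMul.injective (hc i j v.toMul))
    (fun i v => Additive.toMul.injective (he i v.toMul))
  exact ⟨v.toMul, fun h0 => hv (Additive.toMul.injective h0),
    fun i => (h i).imp fun c hc => congrArg Additive.toMul hc⟩

variable {S : Type*} [Group S] [Finite S]

/-- Next step of an invariant chain. -/
theorem exists_step (hS : IsPGroup p S) (A : Subgroup (MulAut S)) (H : Subgroup (MulAut S))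
    (hA : ∀ a ∈ A, ∃ s : S, ∃ h ∈ H, a = MulAut.conj s * h) (hH : IsMulCommutative H)
    (hexp : ∀ h ∈ H, h ^ (p - 1) = 1) (hHA : H ≤ A) {D : Subgroup S} [D.Normal]
    (hinv : ∀ a ∈ A, ∀ x ∈ D, a x ∈ D) (hD : D ≠ ⊤) :
    ∃ E : Subgroup S, D < E ∧ E.Normal ∧ (∀ a ∈ A, ∀ x ∈ E, a x ∈ E) ∧
      ∃ z : S, E = D ⊔ Subgroup.zpowers z := by
  classical
  set π := QuotientGroup.mk' D
  let V : Subgroup (S ⧸ D) :=
    { carrier := {v | v ∈ Subgroup.center (S ⧸ D) ∧ v ^ p = 1}
      one_mem' := ⟨Subgroup.one_mem _, one_pow _⟩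
      mul_mem' := fun {a b} ha hb => ⟨Subgroup.mul_mem _ ha.1 hb.1, by
        rw [(show Commute a b from Subgroup.mem_center_iff.1 hb.1 a).mul_pow, ha.2, hb.2, mul_one]⟩
      inv_mem' := fun {a} ha => ⟨Subgroup.inv_mem _ ha.1, by rw [inv_pow, ha.2, inv_one]⟩ }
  have hQ : IsPGroup p (S ⧸ D) := hS.to_quotient D
  have hVne : Nontrivial V := by
    have : Nontrivial (S ⧸ D) := by rwa [QuotientGroup.nontrivial_iff]
    have := hQ.center_nontrivial
    obtain ⟨z, hz⟩ := exists_prime_orderOf_dvd_card' (G := Subgroup.center (S ⧸ D)) p (by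
      obtain ⟨n, hn⟩ := IsPGroup.iff_card.1 (hQ.to_subgroup (Subgroup.center (S ⧸ D)))
      rcases n with - | n
      · exact absurd hn (by rw [pow_zero]; exact Finite.one_lt_card.ne')
      · exact hn ▸ dvd_pow_self p n.succ_ne_zero)
    have hz' : (z : S ⧸ D) ^ p = 1 := by rw [← Subgroup.coe_pow, ← hz, pow_orderOf_eq_one]; rfl
    exact nontrivial_of_ne (⟨z, z.2, hz'⟩ : V) 1 fun h => by
      have : z = 1 := Subtype.ext (congrArg (fun v : V => (v : S ⧸ D)) h)
      rw [this, orderOf_one] at hz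
      exact (Fact.out : p.Prime).ne_one hz.symm
  let ψ : H → (S ⧸ D) →* (S ⧸ D) := fun h =>
    QuotientGroup.map D D (h : MulAut S).toMonoidHom fun x hx => hinv _ (hHA h.2) x hx
  have hψs : ∀ h : H, Function.Surjective (ψ h) := fun h y => by
    obtain ⟨x, rfl⟩ := QuotientGroup.mk_surjective y
    exact ⟨π (((h : MulAut S)).symm x), congrArg π ((h : MulAut S).apply_symm_apply x)⟩
  have hψV : ∀ (h : H), ∀ v ∈ V, ψ h v ∈ V := fun h v hv =>
    ⟨Subgroup.mem_center_iff.2 fun y => by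
      obtain ⟨u, rfl⟩ := hψs h y
      rw [← map_mul, ← map_mul, Subgroup.mem_center_iff.1 hv.1 u],
      by rw [← map_pow, hv.2, map_one]⟩
  have hcomm : ∀ a b : V, a * b = b * a := fun a b =>
    Subtype.ext (Subgroup.mem_center_iff.1 b.2.1 a)
  let : CommGroup V := { (inferInstance : Group V) with mul_comm := hcomm }
  obtain ⟨v, hv0, hsc⟩ := exists_power_vector (p := p) (fun v : V => Subtype.ext v.2.2)
    (fun h => ((ψ h).comp V.subtype).codRestrict V fun v => hψV h v v.2)
    (fun a b v => by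
      refine Subtype.ext ?_
      obtain ⟨x, hx⟩ := QuotientGroup.mk_surjective ((v : V) : S ⧸ D)
      show ψ a (ψ b (v : S ⧸ D)) = ψ b (ψ a (v : S ⧸ D))
      rw [← hx]
      exact congrArg π (congrArg (fun g : MulAut S => g x)
        (congrArg Subtype.val (hH.1.1 a b))))
    (fun a v => by
      refine Subtype.ext ?_
      obtain ⟨x, hx⟩ := QuotientGroup.mk_surjective ((v : V) : S ⧸ D)
      have hit : ∀ m : ℕ, ((fun w : V => (((ψ a).comp V.subtype).codRestrict V
          fun v => hψV a v v.2) w)^[m] v : S ⧸ D) = π (((a : MulAut S) ^ m) x) := by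
        intro m
        induction m with
        | zero => exact hx.symm
        | succ m ih =>
          rw [Function.iterate_succ_apply', pow_succ', MulAut.mul_apply]
          exact (congrArg (ψ a) ih).trans rfl
      rw [hit, hexp _ a.2]
      exact hx)
  set q : S ⧸ D := (v : S ⧸ D) with hq
  obtain ⟨z, hz⟩ := QuotientGroup.mk_surjective q
  set E := (Subgroup.zpowers q).comap π with hE
  have hzE : z ∈ E := by show π z ∈ Subgroup.zpowers q; exact hz ▸ Subgroup.mem_zpowers q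
  have hDE : D ≤ E := fun d hd => by
    show π d ∈ Subgroup.zpowers q
    rw [show π d = 1 from (QuotientGroup.eq_one_iff d).2 hd]
    exact Subgroup.one_mem _
  have hqc : q ∈ Subgroup.center (S ⧸ D) := v.2.1
  have hEN : E.Normal := ⟨fun x hx g => by
    show π (g * x * g⁻¹) ∈ Subgroup.zpowers q
    obtain ⟨j, hj : q ^ j = π x⟩ := hx
    rw [map_mul, map_mul, map_inv, ← hj, Subgroup.mem_center_iff.1
      (Subgroup.zpow_mem _ hqc j) (π g), mul_inv_cancel_right]
    exact ⟨j, rfl⟩⟩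
  have hHE : ∀ h : H, ∀ x ∈ E, (h : MulAut S) x ∈ E := by
    intro h x hx
    obtain ⟨j, hj : q ^ j = π x⟩ := hx
    show π ((h : MulAut S) x) ∈ Subgroup.zpowers q
    rw [show π ((h : MulAut S) x) = ψ h (π x) from rfl, ← hj, map_zpow]
    refine Subgroup.zpow_mem _ ?_ _
    obtain ⟨c, hc⟩ := hsc h
    exact ⟨(c : ℤ), by
      show q ^ (c : ℤ) = ψ h q
      rw [zpow_natCast]; exact (congrArg Subtype.val hc).symm.trans rfl⟩
  refine ⟨E, lt_of_le_of_ne hDE fun he => ?_, hEN, fun a ha x hx => ?_, z, le_antisymm ?_ ?_⟩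
  · refine hv0 (Subtype.ext ?_)
    show q = 1
    rw [← hz]
    exact (QuotientGroup.eq_one_iff z).2 (he ▸ hzE)
  · obtain ⟨s, h, hh, rfl⟩ := hA a ha
    exact hEN.conj_mem _ (hHE ⟨h, hh⟩ x hx) s
  · intro x hx
    obtain ⟨j, hj : q ^ j = π x⟩ := hx
    have h1 : (z ^ j)⁻¹ * x ∈ D := QuotientGroup.eq.1 (show π (z ^ j) = π x by
      rw [map_zpow, ← hj]; exact congrArg (· ^ j) hz)
    have h2 := Subgroup.mul_mem (D ⊔ Subgroup.zpowers z)
      (Subgroup.mem_sup_right (Subgroup.zpow_mem _ (Subgroup.mem_zpowers z) j))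
      (Subgroup.mem_sup_left h1)
    rwa [mul_inv_cancel_left] at h2
  · exact sup_le hDE (Subgroup.zpowers_le.2 hzE)

/-- An invariant chain from `⊥` to `⊤` with cyclic steps. -/
theorem exists_chain (hS : IsPGroup p S) (A : Subgroup (MulAut S)) (H : Subgroup (MulAut S))
    (hA : ∀ a ∈ A, ∃ s : S, ∃ h ∈ H, a = MulAut.conj s * h) (hH : IsMulCommutative H)
    (hexp : ∀ h ∈ H, h ^ (p - 1) = 1) (hHA : H ≤ A) :
    ∃ c : ℕ → Subgroup S, c 0 = ⊥ ∧ c (Nat.card S) = ⊤ ∧ (∀ i, ∀ a ∈ A, ∀ x ∈ c i, a x ∈ c i) ∧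
      ∀ i, c i ≤ c (i + 1) ∧ ∃ z : S, c (i + 1) = c i ⊔ Subgroup.zpowers z := by
  classical
  have hn : ∀ D : {D : Subgroup S // D.Normal ∧ ∀ a ∈ A, ∀ x ∈ D, a x ∈ D},
      ∃ E : {D : Subgroup S // D.Normal ∧ ∀ a ∈ A, ∀ x ∈ D, a x ∈ D},
        (D.1 < E.1 ∨ D.1 = ⊤) ∧ D.1 ≤ E.1 ∧ ∃ z : S, E.1 = D.1 ⊔ Subgroup.zpowers z := by
    intro D
    by_cases hD : D.1 = ⊤
    · exact ⟨D, Or.inr hD, le_rfl, 1, by simp⟩
    · have := D.2.1
      obtain ⟨E, hlt, hE, hi, hz⟩ := exists_step hS A H hA hH hexp hHA D.2.2 hD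
      exact ⟨⟨E, hE, hi⟩, Or.inl hlt, hlt.le, hz⟩
  choose f hf using hn
  let c : ℕ → {D : Subgroup S // D.Normal ∧ ∀ a ∈ A, ∀ x ∈ D, a x ∈ D} := fun i =>
    f^[i] ⟨⊥, inferInstance, fun a _ x hx => by
      rw [Subgroup.mem_bot] at hx ⊢; rw [hx, map_one]⟩
  have hsucc : ∀ i, c (i + 1) = f (c i) := fun i => Function.iterate_succ_apply' _ _ _
  refine ⟨fun i => (c i).1, rfl, ?_, fun i => (c i).2.2, fun i => ?_⟩
  · have key : ∀ i, (c i).1 = ⊤ ∨ i < Nat.card (c i).1 := by
      intro i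
      induction i with
      | zero => exact Or.inr Nat.card_pos
      | succ i ih =>
        rw [hsucc]
        rcases (hf (c i)).1 with h | h
        · rcases ih with ih | ih
          · exact absurd (ih ▸ h) not_top_lt
          · have := Set.Finite.card_lt_card (Set.toFinite _) (s := ((c i).1 : Set S)) h
            exact Or.inr (by simp only [SetLike.coe_sort_coe] at this; omega)
        · exact Or.inl (top_le_iff.1 (h ▸ (hf (c i)).2.1))
    rcases key (Nat.card S) with h | h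
    · exact h
    · exact absurd (Subgroup.card_le_card_group (c (Nat.card S)).1) (by omega)
  · dsimp only
    rw [hsucc]
    exact (hf (c i)).2

end Chain

end Cfsg.Agent.Fusion.Supersoluble
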