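import Cfsg.Agent.Lib.Fusion.SympBlocks
import Cfsg.Agent.Lib.PSL2.SylowTwoNormalizer
import Cfsg.Agent.Lib.PSL2.CentralProduct
import Cfsg.Agent.Lib.Forms.Symp
import Cfsg.Agent.Lib.GL.Basic
import Cfsg.Agent.Lib.Forms.SylowTwoRankTwo

/-!
`SL₂ × SL₂` and the swap in `Sp₄`, and the Sylow 2-subgroup `(Q × Q) ⋊ 2` in odd characteristic.
-/

set_option autoImplicit false
set_option linter.unusedSectionVars false

open Matrix
open scoped MatrixGroups

namespace Cfsg.Agent.Fusion.SympFour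

variable {F : Type*} [Field F]

/-- The block matrix of a pair of `2 × 2` matrices acting on the two hyperbolic planes. -/
def diaM (A B : Matrix (Fin 2) (Fin 2) F) : Matrix (Fin 2 ⊕ Fin 2) (Fin 2 ⊕ Fin 2) F :=
  fromBlocks (diagonal ![A 0 0, B 0 0]) (diagonal ![A 0 1, B 0 1]) (diagonal ![A 1 0, B 1 0])
    (diagonal ![A 1 1, B 1 1])

theorem diaM_mul (A B C D : Matrix (Fin 2) (Fin 2) F) : diaM (A * C) (B * D) = diaM A B * diaM C D := by
  rw [diaM, diaM, diaM, fromBlocks_multiply]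
  congr 1 <;> simp only [diagonal_mul_diagonal, diagonal_add] <;> congr 1 <;> funext i <;> fin_cases i <;>
    simp [mul_apply, Fin.sum_univ_two]

theorem diaM_one : diaM (1 : Matrix (Fin 2) (Fin 2) F) 1 = 1 := by
  rw [diaM, ← fromBlocks_one]
  congr 1 <;> ext i j <;> fin_cases i <;> fin_cases j <;> simp

theorem diaM_add (A B C D : Matrix (Fin 2) (Fin 2) F) : diaM (A + C) (B + D) = diaM A B + diaM C D := by
  rw [diaM, diaM, diaM, fromBlocks_add]
  congr 1 <;> rw [diagonal_add] <;> congr 1 <;> funext i <;> fin_cases i <;> simp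

theorem diaM_smul (c : F) (A B : Matrix (Fin 2) (Fin 2) F) : diaM (c • A) (c • B) = c • diaM A B := by
  rw [diaM, diaM, fromBlocks_smul]
  congr 1 <;> rw [← diagonal_smul] <;> congr 1 <;> funext i <;> fin_cases i <;> simp

theorem diaM_neg (A B : Matrix (Fin 2) (Fin 2) F) : diaM (-A) (-B) = -diaM A B := by
  rw [← neg_one_smul F A, ← neg_one_smul F B, diaM_smul, neg_one_smul]

theorem diaM_injective {A B C D : Matrix (Fin 2) (Fin 2) F} (h : diaM A B = diaM C D) : A = C ∧ B = D := by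
  obtain ⟨h1, h2, h3, h4⟩ := fromBlocks_inj.1 h
  constructor
  · ext i j; fin_cases i <;> fin_cases j
    · simpa using congrFun (diagonal_injective h1) 0
    · simpa using congrFun (diagonal_injective h2) 0
    · simpa using congrFun (diagonal_injective h3) 0
    · simpa using congrFun (diagonal_injective h4) 0
  · ext i j; fin_cases i <;> fin_cases j
    · simpa using congrFun (diagonal_injective h1) 1
    · simpa using congrFun (diagonal_injective h2) 1
    · simpa using congrFun (diagonal_injective h3) 1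
    · simpa using congrFun (diagonal_injective h4) 1

/-- `SL₂ × SL₂ → Sp₄`. -/
def dia : SL(2, F) × SL(2, F) →* Matrix.symplecticGroup (Fin 2) F where
  toFun p := ⟨diaM p.1.1 p.2.1, by
    rw [diaM]
    refine SymplecticGroup.fromBlocks_mem_iff.2 ⟨?_, ?_, ?_⟩
    · simp only [diagonal_transpose, diagonal_mul_diagonal, mul_comm]
    · simp only [diagonal_transpose, diagonal_mul_diagonal, mul_comm]
    · rw [diagonal_transpose, diagonal_transpose, diagonal_mul_diagonal, diagonal_mul_diagonal,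
        diagonal_sub, ← diagonal_one]
      congr 1
      funext i
      have h1 := p.1.2
      have h2 := p.2.2
      rw [det_fin_two] at h1 h2
      fin_cases i
      · simp; linear_combination h1
      · simp; linear_combination h2⟩
  map_one' := Subtype.ext (by simp [diaM_one])
  map_mul' p r := Subtype.ext (by simp [diaM_mul])

theorem dia_val (a b : SL(2, F)) : (dia (a, b)).1 = diaM a.1 b.1 := rfl

theorem dia_injective : Function.Injective (dia : SL(2, F) × SL(2, F) → _) := fun p r h => by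
  obtain ⟨h1, h2⟩ := diaM_injective (congrArg Subtype.val h)
  exact Prod.ext (Subtype.ext h1) (Subtype.ext h2)

theorem dia_inj {a b c d : SL(2, F)} : dia (a, b) = dia (c, d) ↔ a = c ∧ b = d := by
  rw [dia_injective.eq_iff, Prod.mk.injEq]

theorem dia_mul (a b c d : SL(2, F)) : dia (a, b) * dia (c, d) = dia (a * c, b * d) := by
  rw [← map_mul, Prod.mk_mul_mk]

theorem dia_inv (a b : SL(2, F)) : (dia (a, b))⁻¹ = dia (a⁻¹, b⁻¹) := by rw [← map_inv, Prod.inv_mk]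

/-- `[[0, 1], [1, 0]]` -/
def perm2 : Matrix (Fin 2) (Fin 2) F := !![0, 1; 1, 0]

theorem perm2_sq : (perm2 : Matrix (Fin 2) (Fin 2) F) * perm2 = 1 := by
  ext i j; fin_cases i <;> fin_cases j <;> simp [perm2, mul_apply, Fin.sum_univ_two]

theorem perm2_transpose : (perm2 : Matrix (Fin 2) (Fin 2) F)ᵀ = perm2 := by
  ext i j; fin_cases i <;> fin_cases j <;> simp [perm2]

/-- The swap of the two planes. -/
def sw : Matrix.symplecticGroup (Fin 2) F :=
  ⟨fromBlocks perm2 0 0 perm2, SymplecticGroup.fromBlocks_mem_iff.2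
    ⟨by simp, by simp, by simp [perm2_transpose, perm2_sq]⟩⟩

theorem sw_sq : (sw : Matrix.symplecticGroup (Fin 2) F) * sw = 1 := by
  refine Subtype.ext ?_
  show fromBlocks perm2 0 0 perm2 * fromBlocks perm2 0 0 perm2 = 1
  rw [fromBlocks_multiply, ← fromBlocks_one]
  simp [perm2_sq]

theorem sw_inv : (sw : Matrix.symplecticGroup (Fin 2) F)⁻¹ = sw := inv_eq_of_mul_eq_one_left sw_sq

theorem sw_mul_dia (a b : SL(2, F)) : sw * dia (a, b) = dia (b, a) * sw := by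
  refine Subtype.ext ?_
  show fromBlocks perm2 0 0 perm2 * diaM a.1 b.1 = diaM b.1 a.1 * fromBlocks perm2 0 0 perm2
  rw [diaM, diaM, fromBlocks_multiply, fromBlocks_multiply]
  congr 1 <;> simp only [Matrix.mul_zero, Matrix.zero_mul, add_zero, zero_add] <;> ext i j <;>
    simp only [Matrix.mul_diagonal, Matrix.diagonal_mul] <;>
    fin_cases i <;> fin_cases j <;> simp [perm2]

theorem sw_conj (a b : SL(2, F)) : sw * dia (a, b) * sw⁻¹ = dia (b, a) := by
  rw [sw_mul_dia, mul_inv_cancel_right]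

theorem dia_ne_mul_sw (a b c d : SL(2, F)) : dia (a, b) ≠ dia (c, d) * sw := by
  intro h
  have h' : diaM a.1 b.1 = diaM c.1 d.1 * fromBlocks perm2 0 0 perm2 := congrArg Subtype.val h
  rw [diaM, diaM, fromBlocks_multiply] at h'
  obtain ⟨h1, -, h3, -⟩ := fromBlocks_inj.1 h'
  have e1 := congrFun (congrFun h1 0) 0
  have e3 := congrFun (congrFun h3 0) 0
  simp [perm2, mul_apply, Fin.sum_univ_two] at e1 e3
  have := a.2
  rw [det_fin_two, e1, e3] at this
  simp at this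

/-- `-1` in `Sp₄`. -/
def z0 : Matrix.symplecticGroup (Fin 2) F := dia (-1, -1)

/-- `diag (-1, 1)` on the planes. -/
def z1 : Matrix.symplecticGroup (Fin 2) F := dia (-1, 1)

theorem z0_val : (z0 : Matrix.symplecticGroup (Fin 2) F).1 = -1 := by
  rw [z0, dia_val]
  show diaM (-1 : Matrix (Fin 2) (Fin 2) F) (-1) = -1
  rw [diaM_neg, diaM_one]

theorem z0_comm (g : Matrix.symplecticGroup (Fin 2) F) : z0 * g = g * z0 := by
  refine Subtype.ext ?_
  rw [Submonoid.coe_mul, Submonoid.coe_mul, z0_val, neg_one_mul, mul_neg_one]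

theorem z0_sq : (z0 : Matrix.symplecticGroup (Fin 2) F) * z0 = 1 := by
  rw [z0, dia_mul, neg_mul_neg, one_mul]
  exact map_one dia

/-- Elements commuting with `z1` preserve the two planes. -/
theorem exists_dia_of_commute (h2 : (2 : F) ≠ 0) {g : Matrix.symplecticGroup (Fin 2) F}
    (h : g * z1 = z1 * g) : ∃ a b, g = dia (a, b) := by
  obtain ⟨A, B, C, D, hg⟩ : ∃ A B C D, g.1 = fromBlocks A B C D := ⟨_, _, _, _, (fromBlocks_toBlocks g.1).symm⟩
  have h' : g.1 * (z1 : Matrix.symplecticGroup (Fin 2) F).1 = (z1 : Matrix.symplecticGroup (Fin 2) F).1 * g.1 :=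
    congrArg Subtype.val h
  have hz : (z1 : Matrix.symplecticGroup (Fin 2) F).1 = fromBlocks (diagonal ![-1, 1]) 0 0 (diagonal ![-1, 1]) := by
    rw [z1, dia_val, diaM]
    congr 1 <;> ext i j <;> fin_cases i <;> fin_cases j <;> simp
  rw [hg, hz, fromBlocks_multiply, fromBlocks_multiply] at h'
  simp only [Matrix.mul_zero, Matrix.zero_mul, add_zero, zero_add] at h'
  obtain ⟨hA, hB, hC, hD⟩ := fromBlocks_inj.1 h'
  have key : ∀ M : Matrix (Fin 2) (Fin 2) F, M * diagonal ![-1, 1] = diagonal ![-1, 1] * M →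
      M 0 1 = 0 ∧ M 1 0 = 0 := by
    intro M hM
    constructor
    · have e := congrFun (congrFun hM 0) 1
      simp [mul_apply, Fin.sum_univ_two] at e
      exact (mul_eq_zero.1 (show (2 : F) * M 0 1 = 0 by linear_combination e)).resolve_left h2
    · have e := congrFun (congrFun hM 1) 0
      simp [mul_apply, Fin.sum_univ_two] at e
      exact (mul_eq_zero.1 (show (2 : F) * M 1 0 = 0 by linear_combination -e)).resolve_left h2
  obtain ⟨a01, a10⟩ := key A hA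
  obtain ⟨b01, b10⟩ := key B hB
  obtain ⟨c01, c10⟩ := key C hC
  obtain ⟨d01, d10⟩ := key D hD
  obtain ⟨-, -, h3⟩ := SymplecticGroup.fromBlocks_mem_iff.1 (hg ▸ g.2)
  have e0 := congrFun (congrFun h3 0) 0
  have e1 := congrFun (congrFun h3 1) 1
  simp [mul_apply, Fin.sum_univ_two, a10, a01, b10, b01, c10, c01, d10, d01] at e0 e1
  refine ⟨⟨!![A 0 0, B 0 0; C 0 0, D 0 0], by rw [det_fin_two_of]; linear_combination e0⟩,
    ⟨!![A 1 1, B 1 1; C 1 1, D 1 1], by rw [det_fin_two_of]; linear_combination e1⟩, Subtype.ext ?_⟩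
  rw [hg]
  show fromBlocks A B C D = diaM !![A 0 0, B 0 0; C 0 0, D 0 0] !![A 1 1, B 1 1; C 1 1, D 1 1]
  rw [diaM]
  congr 1 <;> ext i j <;> fin_cases i <;> fin_cases j <;>
    simp [a10, a01, b10, b01, c10, c01, d10, d01]

/-! ### The subgroup `(Q × Q) ⋊ 2` -/

/-- `(Q × Q) ⋊ 2`. -/
def wr (Q : Subgroup SL(2, F)) : Subgroup (Matrix.symplecticGroup (Fin 2) F) where
  carrier := {g | ∃ a ∈ Q, ∃ b ∈ Q, g = dia (a, b) ∨ g = dia (a, b) * sw}
  one_mem' := ⟨1, Q.one_mem, 1, Q.one_mem, Or.inl (by rw [Prod.mk_one_one, map_one])⟩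
  mul_mem' := by
    rintro x y ⟨a, ha, b, hb, hx⟩ ⟨c, hc, d, hd, hy⟩
    rcases hx with rfl | rfl <;> rcases hy with rfl | rfl
    · exact ⟨_, Q.mul_mem ha hc, _, Q.mul_mem hb hd, Or.inl (dia_mul a b c d)⟩
    · exact ⟨_, Q.mul_mem ha hc, _, Q.mul_mem hb hd, Or.inr (by rw [← mul_assoc, dia_mul])⟩
    · exact ⟨_, Q.mul_mem ha hd, _, Q.mul_mem hb hc,
        Or.inr (by rw [mul_assoc (dia (a, b)), sw_mul_dia, ← mul_assoc, dia_mul])⟩
    · exact ⟨_, Q.mul_mem ha hd, _, Q.mul_mem hb hc,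
        Or.inl (by rw [mul_assoc (dia (a, b)), ← mul_assoc sw, sw_mul_dia, mul_assoc (dia (d, c)), sw_sq,
          mul_one, dia_mul])⟩
  inv_mem' := by
    rintro x ⟨a, ha, b, hb, rfl | rfl⟩
    · exact ⟨_, Q.inv_mem ha, _, Q.inv_mem hb, Or.inl (dia_inv a b)⟩
    · exact ⟨_, Q.inv_mem hb, _, Q.inv_mem ha, Or.inr (by rw [_root_.mul_inv_rev, sw_inv, dia_inv, sw_mul_dia])⟩

theorem mem_wr {Q : Subgroup SL(2, F)} {g : Matrix.symplecticGroup (Fin 2) F} :
    g ∈ wr Q ↔ ∃ a ∈ Q, ∃ b ∈ Q, g = dia (a, b) ∨ g = dia (a, b) * sw := Iff.rfl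

theorem dia_mem_wr {Q : Subgroup SL(2, F)} {a b : SL(2, F)} : dia (a, b) ∈ wr Q ↔ a ∈ Q ∧ b ∈ Q := by
  refine ⟨?_, fun h => ⟨a, h.1, b, h.2, Or.inl rfl⟩⟩
  rintro ⟨c, hc, d, hd, h | h⟩
  · obtain ⟨rfl, rfl⟩ := dia_inj.1 h
    exact ⟨hc, hd⟩
  · exact absurd h (dia_ne_mul_sw a b c d)

theorem sw_mem_wr (Q : Subgroup SL(2, F)) : sw ∈ wr Q :=
  ⟨1, Q.one_mem, 1, Q.one_mem, Or.inr (by rw [Prod.mk_one_one, map_one, one_mul])⟩

theorem dia_mul_sw_mem_wr {Q : Subgroup SL(2, F)} {a b : SL(2, F)} :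
    dia (a, b) * sw ∈ wr Q ↔ a ∈ Q ∧ b ∈ Q := by
  rw [Subgroup.mul_mem_cancel_right _ (sw_mem_wr Q), dia_mem_wr]

theorem card_wr (Q : Subgroup SL(2, F)) : Nat.card (wr Q) = Nat.card Q * Nat.card Q * 2 := by
  let f : Q × Q × Bool → wr Q := fun p => match p with
    | (a, b, false) => ⟨dia (a.1, b.1), dia_mem_wr.2 ⟨a.2, b.2⟩⟩
    | (a, b, true) => ⟨dia (a.1, b.1) * sw, dia_mul_sw_mem_wr.2 ⟨a.2, b.2⟩⟩
  have hf : Function.Bijective f := by
    refine ⟨?_, ?_⟩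
    · rintro ⟨a, b, e⟩ ⟨c, d, e'⟩ h
      cases e <;> cases e' <;> simp only [f, Subtype.mk.injEq] at h
      · obtain ⟨h1, h2⟩ := dia_inj.1 h
        rw [Subtype.ext h1, Subtype.ext h2]
      · exact absurd h (dia_ne_mul_sw _ _ _ _)
      · exact absurd h.symm (dia_ne_mul_sw _ _ _ _)
      · obtain ⟨h1, h2⟩ := dia_inj.1 (mul_right_cancel h)
        rw [Subtype.ext h1, Subtype.ext h2]
    · rintro ⟨g, a, ha, b, hb, rfl | rfl⟩
      · exact ⟨(⟨a, ha⟩, ⟨b, hb⟩, false), rfl⟩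
      · exact ⟨(⟨a, ha⟩, ⟨b, hb⟩, true), rfl⟩
  rw [← Nat.card_congr (Equiv.ofBijective f hf), Nat.card_prod, Nat.card_prod, Nat.card_eq_fintype_card (α := Bool),
    Fintype.card_bool, mul_assoc]

variable [Fintype F]

/-- `(Q × Q) ⋊ 2` is a Sylow 2-subgroup. -/
theorem exists_sylow (hodd : Fintype.card F % 2 = 1) (Q : Sylow 2 SL(2, F)) :
    ∃ U : Sylow 2 (Matrix.symplecticGroup (Fin 2) F), (U : Subgroup _) = wr Q.toSubgroup := by
  refine ⟨Sylow.ofCard (wr Q.toSubgroup) ?_, rfl⟩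
  rw [card_wr, Q.card_eq_multiplicity, Forms.card_symplecticGroup, GL.card_SL2]
  generalize hq : Fintype.card F = q at *
  have hq3 : 3 ≤ q := by have := Fintype.one_lt_card (α := F); omega
  obtain ⟨k, hk⟩ : ∃ k, q = 2 * k + 1 := ⟨q / 2, by omega⟩
  have hsq : 1 < q ^ 2 := by nlinarith
  have e : q ^ (2 ^ 2) * ∏ i ∈ Finset.range 2, (q ^ (2 * (i + 1)) - 1) =
      (q * (q ^ 2 - 1)) * (q * (q ^ 2 - 1)) * 2 * (q ^ 2 * (2 * k * k + 2 * k + 1)) := by
    have e4 : q ^ (2 * (1 + 1)) - 1 = (q ^ 2 - 1) * (2 * (2 * k * k + 2 * k + 1)) := by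
      rw [show q ^ (2 * (1 + 1)) = (q ^ 2) ^ 2 by ring, show (q ^ 2) ^ 2 - 1 = (q ^ 2 + 1) * (q ^ 2 - 1) by
        rw [← Nat.sq_sub_sq, one_pow], show q ^ 2 + 1 = 2 * (2 * k * k + 2 * k + 1) by rw [hk]; ring, mul_comm]
    rw [Finset.prod_range_succ, Finset.prod_range_one, e4]
    ring
  have hodd2 : Odd (q ^ 2 * (2 * k * k + 2 * k + 1)) :=
    (Odd.pow ⟨k, hk⟩).mul ⟨k * k + k, by ring⟩
  have h0 : q * (q ^ 2 - 1) ≠ 0 := Nat.mul_ne_zero (by omega) (by omega)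
  rw [e, Nat.factorization_mul (by positivity) hodd2.pos.ne', Nat.factorization_mul (Nat.mul_ne_zero h0 h0) (by norm_num),
    Nat.factorization_mul h0 h0]
  simp only [Finsupp.add_apply, Forms.factorization_two_of_odd hodd2, Nat.prime_two.factorization_self]
  ring

/-! ### Facts about the Sylow 2-subgroups of `SL(2, q)` -/

theorem sq_eq_neg_one (h2 : (2 : F) ≠ 0) {g : SL(2, F)} (h : orderOf g = 4) : g * g = -1 := by
  refine PSL2.eq_neg_one_of_orderOf_eq_two h2 ?_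
  rw [← pow_two, orderOf_pow_of_dvd two_ne_zero (h ▸ by norm_num), h]

theorem neg_one_mem_sylow (h2 : (2 : F) ≠ 0) (Q : Sylow 2 SL(2, F)) : (-1 : SL(2, F)) ∈ Q.toSubgroup := by
  have hz : IsPGroup 2 (Subgroup.zpowers (-1 : SL(2, F))) :=
    Forms.isPGroup_zpowers (n := 1) ((pow_one 2).symm ▸ PSL2.orderOf_neg_one h2)
  obtain ⟨g, hg⟩ := Forms.exists_conj_into_sylow Q hz
  have h := hg _ (Subgroup.mem_zpowers (-1 : SL(2, F)))
  rwa [show g * (-1 : SL(2, F)) = (-1) * g by rw [mul_neg_one, neg_one_mul], mul_inv_cancel_right] at h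

/-- Generators of a Sylow 2-subgroup of `SL(2, q)`. -/
theorem exists_quat_pair (h2 : (2 : F) ≠ 0) (Q : Sylow 2 SL(2, F)) :
    ∃ k, 1 ≤ k ∧ Nat.card Q = 2 ^ (k + 2) ∧ ∃ a b, a ∈ Q.toSubgroup ∧ b ∈ Q.toSubgroup ∧
      orderOf a = 2 ^ (k + 1) ∧ b * b = -1 ∧ b * a * b⁻¹ = a⁻¹ ∧ a ^ 2 ^ k = -1 ∧
      ∀ g ∈ Q.toSubgroup, ∃ r : ℕ, g = a ^ r ∨ g = b * a ^ r := by
  obtain ⟨k, hk, hcard, ⟨e⟩⟩ := PSL2.sylow_two_quaternion h2 Q
  have : NeZero (2 ^ k) := ⟨by positivity⟩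
  have : NeZero (2 * 2 ^ k) := ⟨by positivity⟩
  have hord : orderOf ((e.symm (QuaternionGroup.a 1) : ↥Q.toSubgroup) : SL(2, F)) = 2 ^ (k + 1) := by
    rw [Subgroup.orderOf_coe, MulEquiv.orderOf_eq, QuaternionGroup.orderOf_a_one, pow_succ']
  have hb4 : orderOf ((e.symm (QuaternionGroup.xa 0) : ↥Q.toSubgroup) : SL(2, F)) = 4 := by
    rw [Subgroup.orderOf_coe, MulEquiv.orderOf_eq, QuaternionGroup.orderOf_xa]
  refine ⟨k, hk, hcard, _, _, (e.symm (QuaternionGroup.a 1)).2, (e.symm (QuaternionGroup.xa 0)).2, hord,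
    sq_eq_neg_one h2 hb4, ?_, ?_, ?_⟩
  · rw [← Subgroup.coe_inv, ← Subgroup.coe_inv, ← Subgroup.coe_mul, ← Subgroup.coe_mul]
    congr 1
    rw [← map_inv, ← map_inv, ← map_mul, ← map_mul, EmbeddingLike.apply_eq_iff_eq]
    rw [mul_inv_eq_iff_eq_mul, eq_inv_mul_iff_mul_eq, QuaternionGroup.xa_mul_a, QuaternionGroup.a_mul_xa]
    simp
  · refine PSL2.eq_neg_one_of_orderOf_eq_two h2 ?_
    rw [orderOf_pow_of_dvd (by positivity) (by rw [hord]; exact pow_dvd_pow 2 (by omega)), hord, pow_succ',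
      Nat.mul_div_cancel _ (by positivity)]
  · intro g hg
    obtain ⟨w, hw⟩ := e.symm.surjective ⟨g, hg⟩
    have hcast : ∀ i : ZMod (2 * 2 ^ k), ((i.val : ℕ) : ZMod (2 * 2 ^ k)) = i := fun i => ZMod.natCast_zmod_val i
    cases w with
    | a i =>
      refine ⟨i.val, Or.inl ?_⟩
      rw [← Subgroup.coe_pow, ← map_pow, QuaternionGroup.a_one_pow, hcast, hw]
    | xa i =>
      refine ⟨i.val, Or.inr ?_⟩
      rw [← Subgroup.coe_pow, ← Subgroup.coe_mul, ← map_pow, ← map_mul, QuaternionGroup.a_one_pow, hcast,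
        QuaternionGroup.xa_mul_a, zero_add, hw]

/-- Two anticommuting square roots of `-1` in a Sylow 2-subgroup. -/
theorem exists_anticomm_pair (h2 : (2 : F) ≠ 0) (Q : Sylow 2 SL(2, F)) :
    ∃ i j, i ∈ Q.toSubgroup ∧ j ∈ Q.toSubgroup ∧ i * i = -1 ∧ j * j = -1 ∧ j * i = -(i * j) := by
  obtain ⟨k, hk, -, a, b, ha, hb, -, hb2, hrel, ha2, -⟩ := exists_quat_pair h2 Q
  have hi : a ^ 2 ^ (k - 1) * a ^ 2 ^ (k - 1) = -1 := by
    rw [← pow_add, ← two_mul, ← pow_succ', show k - 1 + 1 = k by omega, ha2]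
  refine ⟨_, b, Subgroup.pow_mem _ ha _, hb, hi, hb2, ?_⟩
  have h : b * a ^ 2 ^ (k - 1) * b⁻¹ = (a ^ 2 ^ (k - 1))⁻¹ := by rw [← conj_pow, hrel, inv_pow]
  rw [show (a ^ 2 ^ (k - 1))⁻¹ = -(a ^ 2 ^ (k - 1)) from inv_eq_of_mul_eq_one_right (by rw [mul_neg, hi, neg_neg]),
    mul_inv_eq_iff_eq_mul, neg_mul] at h
  exact h

/-- An element centralising two anticommuting roots of `-1` is central. -/
theorem pm_of_commute_pair (h2 : (2 : F) ≠ 0) {i j c : SL(2, F)}
    (hanti : j * i = -(i * j)) (hci : Commute c i) (hcj : Commute c j) : c = 1 ∨ c = -1 := by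
  refine PSL2.mem_center_iff_pm.1 ?_
  by_contra hc
  have h := (PSL2.cent_comm hc hci.symm hcj.symm).eq
  rw [hanti] at h
  have h' : (i * j).1 = -(i * j).1 := by rw [← SpecialLinearGroup.coe_neg]; exact congrArg Subtype.val h
  have hd := (i * j).2
  have e : ∀ r s, (i * j).1 r s = 0 := fun r s => by
    have := congrFun (congrFun h' r) s
    rw [Matrix.neg_apply] at this
    exact (mul_eq_zero.1 (show (2 : F) * (i * j).1 r s = 0 by linear_combination this)).resolve_left h2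
  rw [det_fin_two, e, e, e, e] at hd
  simp at hd

/-- Quotients of two roots of `-1` generate the Sylow 2-subgroup. -/
theorem sylow_le_of_quotients (h2 : (2 : F) ≠ 0) (Q : Sylow 2 SL(2, F)) {K : Subgroup SL(2, F)}
    (hK : ∀ i ∈ Q.toSubgroup, ∀ j ∈ Q.toSubgroup, i * i = -1 → j * j = -1 → j * i⁻¹ ∈ K) :
    Q.toSubgroup ≤ K := by
  obtain ⟨k, hk, -, a, b, ha, hb, -, hb2, hrel, ha2, hgen⟩ := exists_quat_pair h2 Q
  have hconj : b * a = a⁻¹ * b := by rw [← mul_inv_eq_iff_eq_mul, hrel]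
  have hba : ∀ r : ℕ, (b * a ^ r) * (b * a ^ r) = -1 := by
    intro r
    have h : b * a ^ r = (a ^ r)⁻¹ * b := by rw [← inv_pow, ← hrel, conj_pow, inv_mul_cancel_right]
    calc b * a ^ r * (b * a ^ r) = b * a ^ r * ((a ^ r)⁻¹ * b) := by rw [← h]
      _ = -1 := by rw [← mul_assoc, mul_inv_cancel_right, hb2]
  have hmem : ∀ r : ℕ, b * a ^ r ∈ Q.toSubgroup := fun r => Subgroup.mul_mem _ hb (Subgroup.pow_mem _ ha r)
  have hbr : ∀ r : ℕ, b * a ^ r * b⁻¹ = (a ^ r)⁻¹ := fun r => by rw [← conj_pow, hrel, inv_pow]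
  have hK1 : ∀ r : ℕ, a ^ r ∈ K := fun r => by
    have := hK b hb _ (hmem r) hb2 (hba r)
    rw [hbr] at this
    exact inv_mem_iff.1 this
  have hi : a ^ 2 ^ (k - 1) * a ^ 2 ^ (k - 1) = -1 := by
    rw [← pow_add, ← two_mul, ← pow_succ', show k - 1 + 1 = k by omega, ha2]
  have hbK : b ∈ K := by
    have := hK _ (Subgroup.pow_mem _ ha (2 ^ (k - 1))) b hb hi hb2
    exact (Subgroup.mul_mem_cancel_right _ (K.inv_mem (hK1 _))).1 this
  intro g hg
  obtain ⟨r, rfl | rfl⟩ := hgen g hg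
  · exact hK1 r
  · exact K.mul_mem hbK (hK1 r)

end Cfsg.Agent.Fusion.SympFour
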