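import Cfsg.Agent.Lib.Fusion.SympFourBasic
import Cfsg.Agent.Lib.Fusion.GroupSimple
import Cfsg.Agent.Lib.Fusion.Group
import Cfsg.Agent.Lib.PGroup.Basic

/-!
The 2-fusion system of `PSp₄(q)`, `q` odd, is simple. For `q ≡ ±3 (mod 8)` the automorphism of order three
of the Sylow 2-subgroup comes from the group generated by the Clifford elements `(1 + X)(1 + Y) / 2` of
`2^{1+4}.A₅`.
-/

set_option autoImplicit false
set_option linter.unusedSectionVars false

open Matrix Cfsg Cfsg.FusionSystem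
open Cfsg.Agent.Fusion.GroupSimple (pElts)
open scoped MatrixGroups

namespace Cfsg.Agent.Fusion.SympFour

variable {F : Type*} [Field F] [Fintype F]

/-- Commutation up to the central involution. -/
def Pm (x y : Matrix.symplecticGroup (Fin 2) F) : Prop := x * y = y * x ∨ x * y = z0 * (y * x)

theorem Pm.symm {x y : Matrix.symplecticGroup (Fin 2) F} (h : Pm x y) : Pm y x := by
  rcases h with h | h
  · exact Or.inl h.symm
  · exact Or.inr (by rw [h, ← mul_assoc, z0_sq, one_mul])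

theorem pm_one (y : Matrix.symplecticGroup (Fin 2) F) : Pm 1 y := Or.inl (by rw [one_mul, mul_one])

theorem Pm.mul {x x' y : Matrix.symplecticGroup (Fin 2) F} (h : Pm x y) (h' : Pm x' y) : Pm (x * x') y := by
  rcases h with h | h <;> rcases h' with h' | h'
  · exact Or.inl (by rw [mul_assoc, h', ← mul_assoc, h, mul_assoc])
  · exact Or.inr (by
      rw [mul_assoc x, h', ← mul_assoc x, ← z0_comm, mul_assoc z0, ← mul_assoc x, h, mul_assoc y])
  · exact Or.inr (by rw [mul_assoc x, h', ← mul_assoc x, h, mul_assoc z0, mul_assoc y])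
  · exact Or.inl (by
      rw [mul_assoc x, h', ← mul_assoc x, ← z0_comm, mul_assoc z0, ← mul_assoc x, h, mul_assoc z0,
        ← mul_assoc z0, z0_sq, one_mul, mul_assoc y])

theorem Pm.inv {x y : Matrix.symplecticGroup (Fin 2) F} (h : Pm x y) : Pm x⁻¹ y := by
  rcases h with h | h
  · exact Or.inl ((show Commute x y from h).inv_left.eq)
  · refine Or.inr (mul_left_cancel (a := x) ?_)
    rw [mul_inv_cancel_left, ← mul_assoc x, ← z0_comm, mul_assoc z0, ← mul_assoc x, h, mul_assoc z0,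
      ← mul_assoc z0, z0_sq, one_mul, mul_inv_cancel_right]

theorem neg_ne_self (h2 : (2 : F) ≠ 0) (x : SL(2, F)) : -x ≠ x := by
  intro h
  refine PSL2.neg_one_ne_one h2 (mul_right_cancel (b := x) ?_)
  rw [neg_one_mul, one_mul, h]

theorem z0_mul_dia (a b : SL(2, F)) : z0 * dia (a, b) = dia (-a, -b) := by
  rw [z0, dia_mul, neg_one_mul, neg_one_mul]

theorem pm_z1 (h2 : (2 : F) ≠ 0) {Q : Subgroup SL(2, F)} {u : Matrix.symplecticGroup (Fin 2) F}
    (hu : u ∈ wr Q) : Pm z1 u := by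
  obtain ⟨a, -, b, -, rfl | rfl⟩ := hu
  · left
    rw [z1, dia_mul, dia_mul, neg_one_mul, mul_neg_one, one_mul, mul_one]
  · right
    rw [z1, ← mul_assoc, dia_mul, mul_assoc (dia (a, b)), sw_mul_dia, ← mul_assoc (dia (a, b)), dia_mul,
      ← mul_assoc, z0_mul_dia]
    simp

/-- The centre of `(Q × Q) ⋊ 2` modulo `±1`. -/
theorem central_mod (h2 : (2 : F) ≠ 0) (Q : Sylow 2 SL(2, F)) {x : Matrix.symplecticGroup (Fin 2) F}
    (hx : x ∈ wr Q.toSubgroup) (hc : ∀ u ∈ wr Q.toSubgroup, Pm x u) :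
    x = 1 ∨ x = z0 ∨ x = z1 ∨ x = z0 * z1 := by
  obtain ⟨i, j, hi, hj, hi2, -, hanti⟩ := exists_anticomm_pair h2 Q
  obtain ⟨a, ha, b, hb, rfl | rfl⟩ := hx
  · have key : ∀ c ∈ Q.toSubgroup, a * c = c * a ∧ b * c = c * b := by
      intro c hcQ
      constructor
      · rcases hc _ (dia_mem_wr.2 ⟨hcQ, Q.toSubgroup.one_mem⟩) with h | h
        · rw [dia_mul, dia_mul] at h; exact (dia_inj.1 h).1
        · rw [dia_mul, dia_mul, z0_mul_dia, mul_one, one_mul] at h
          exact absurd (dia_inj.1 h).2.symm (neg_ne_self h2 b)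
      · rcases hc _ (dia_mem_wr.2 ⟨Q.toSubgroup.one_mem, hcQ⟩) with h | h
        · rw [dia_mul, dia_mul] at h; exact (dia_inj.1 h).2
        · rw [dia_mul, dia_mul, z0_mul_dia, mul_one, one_mul] at h
          exact absurd (dia_inj.1 h).1.symm (neg_ne_self h2 a)
    rcases pm_of_commute_pair h2 hanti (key i hi).1 (key j hj).1 with rfl | rfl <;>
      rcases pm_of_commute_pair h2 hanti (key i hi).2 (key j hj).2 with rfl | rfl
    · exact Or.inl (map_one dia)
    · exact Or.inr (Or.inr (Or.inr (by rw [z1, z0_mul_dia, neg_neg])))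
    · exact Or.inr (Or.inr (Or.inl rfl))
    · exact Or.inr (Or.inl rfl)
  · exfalso
    rcases hc _ (dia_mem_wr.2 ⟨hi, Q.toSubgroup.one_mem⟩) with h | h
    · rw [mul_assoc (dia (a, b)), sw_mul_dia, ← mul_assoc, dia_mul, ← mul_assoc, dia_mul, mul_one, one_mul] at h
      have h1 := (dia_inj.1 (mul_right_cancel h)).1
      nth_rewrite 1 [← one_mul a] at h1
      rw [← mul_right_cancel h1, one_mul] at hi2
      exact PSL2.neg_one_ne_one h2 hi2.symm
    · rw [mul_assoc (dia (a, b)), sw_mul_dia, ← mul_assoc, dia_mul, ← mul_assoc (dia (i, 1)), dia_mul,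
        ← mul_assoc, z0_mul_dia, mul_one, one_mul] at h
      have h1 := (dia_inj.1 (mul_right_cancel h)).1
      rw [← neg_mul] at h1
      nth_rewrite 1 [← one_mul a] at h1
      rw [neg_eq_iff_eq_neg.1 (mul_right_cancel h1).symm, neg_mul_neg, one_mul] at hi2
      exact PSL2.neg_one_ne_one h2 hi2.symm

/-- The conjugator from `diag (1, -1)` to the swap. -/
def swapper (h2 : (2 : F) ≠ 0) : Matrix.symplecticGroup (Fin 2) F :=
  ⟨fromBlocks !![1, 1; 1, -1] 0 0 !![2⁻¹, 2⁻¹; 2⁻¹, -2⁻¹], SymplecticGroup.fromBlocks_mem_iff.2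
    ⟨by simp, by simp, by
      rw [Matrix.transpose_zero, Matrix.zero_mul, sub_zero]
      ext i j
      fin_cases i <;> fin_cases j <;> simp [mul_apply, Fin.sum_univ_two] <;> field_simp <;> ring⟩⟩

theorem sw_mul_swapper (h2 : (2 : F) ≠ 0) : sw * swapper h2 = swapper h2 * (z0 * z1) := by
  refine Subtype.ext ?_
  rw [z1, z0_mul_dia]
  show fromBlocks perm2 0 0 perm2 * fromBlocks _ 0 0 _ = fromBlocks _ 0 0 _ * diaM (-(-1 : SL(2, F))).1 (-(1 : SL(2, F))).1
  rw [diaM, fromBlocks_multiply, fromBlocks_multiply]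
  congr 1 <;> simp only [Matrix.mul_zero, Matrix.zero_mul, add_zero, zero_add] <;> ext i j <;>
    simp only [Matrix.mul_diagonal, Matrix.diagonal_mul] <;>
    fin_cases i <;> fin_cases j <;> simp [perm2, mul_apply, Fin.sum_univ_two]

variable {G : Type*} [Group G] [Finite G] {π : Matrix.symplecticGroup (Fin 2) F →* G}
  (hker : ∀ g, π g = 1 ↔ g = 1 ∨ g = z0)
include hker

omit [Finite G] in
theorem map_z0 : π z0 = 1 := (hker z0).2 (Or.inr rfl)

omit [Finite G] in
theorem eq_cases {g h : Matrix.symplecticGroup (Fin 2) F} (e : π g = π h) : g = h ∨ g = z0 * h := by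
  rcases (hker (g * h⁻¹)).1 (by rw [map_mul, map_inv, e, mul_inv_cancel]) with h' | h'
  · exact Or.inl (mul_inv_eq_one.1 h')
  · exact Or.inr (mul_inv_eq_iff_eq_mul.1 h')

omit [Finite G] in
theorem pm_of_map {g h : Matrix.symplecticGroup (Fin 2) F} (e : π g * π h = π h * π g) : Pm g h :=
  eq_cases hker (by rw [map_mul, map_mul, e])

omit [Finite G] in
theorem map_of_pm {g h : Matrix.symplecticGroup (Fin 2) F} (e : Pm g h) : π g * π h = π h * π g := by
  rcases e with e | e <;> rw [← map_mul, e, map_mul]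
  rw [map_z0 hker, one_mul, map_mul]

omit [Finite G] in
theorem mem_of_map_mem {W : Subgroup (Matrix.symplecticGroup (Fin 2) F)} (hz : z0 ∈ W)
    {g : Matrix.symplecticGroup (Fin 2) F} (hg : π g ∈ W.map π) : g ∈ W := by
  obtain ⟨w, hw, e⟩ := hg
  rcases eq_cases hker e.symm with rfl | rfl
  · exact hw
  · exact W.mul_mem hz hw

variable (h2 : (2 : F) ≠ 0) (Q : Sylow 2 SL(2, F)) {P : Sylow 2 G}
  (hP : (P : Subgroup G) = (wr Q.toSubgroup).map π)
include h2 hP

omit [Finite G] hker hP in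
theorem z0_mem : z0 ∈ wr Q.toSubgroup := dia_mem_wr.2 ⟨neg_one_mem_sylow h2 Q, neg_one_mem_sylow h2 Q⟩

omit [Finite G] hker hP in
theorem z1_mem : z1 ∈ wr Q.toSubgroup := dia_mem_wr.2 ⟨neg_one_mem_sylow h2 Q, Q.toSubgroup.one_mem⟩

omit [Finite G] hker hP in
theorem z1_ne : (z1 : Matrix.symplecticGroup (Fin 2) F) ≠ 1 ∧ (z1 : Matrix.symplecticGroup (Fin 2) F) ≠ z0 :=
  ⟨fun h => PSL2.neg_one_ne_one h2 (dia_inj.1 (h.trans (map_one dia).symm)).1,
    fun h => PSL2.neg_one_ne_one h2 (dia_inj.1 (show dia (-1, 1) = dia (-1, -1) from h)).2.symm⟩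

theorem stronglyClosed_trivial (T : Subgroup G)
    (hT : (groupFusionSystem (P : Subgroup G)).StronglyClosed T) : T = ⊥ ∨ T = P := by
  by_cases hT0 : T = ⊥
  · exact Or.inl hT0
  refine Or.inr (le_antisymm hT.1 ?_)
  have hfus : ∀ x ∈ T, ∀ g : G, g * x * g⁻¹ ∈ (P : Subgroup G) → g * x * g⁻¹ ∈ T := by
    intro x hx g hg
    refine hT.2 (Subgroup.zpowers x) (Subgroup.zpowers_le.mpr hx) (conjHom _ g) ⟨?_, ?_, g, fun y => rfl⟩
      ⟨x, Subgroup.mem_zpowers x⟩
    · exact Subgroup.zpowers_le.mpr (hT.1 hx)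
    · rintro ⟨y, m, rfl⟩
      show g * x ^ m * g⁻¹ ∈ _
      rw [← conj_zpow]
      exact Subgroup.zpow_mem _ hg m
  set V := wr Q.toSubgroup ⊓ T.comap π with hVdef
  have hz0V : z0 ∈ V := ⟨z0_mem h2 Q, by show π z0 ∈ T; rw [map_z0 hker]; exact T.one_mem⟩
  have hV : ∀ x ∈ V, ∀ g, g * x * g⁻¹ ∈ wr Q.toSubgroup → g * x * g⁻¹ ∈ V := by
    intro x hx g hg
    refine ⟨hg, ?_⟩
    show π (g * x * g⁻¹) ∈ T
    rw [map_mul, map_mul, map_inv]
    refine hfus _ hx.2 _ ?_
    rw [← map_inv, ← map_mul, ← map_mul, hP]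
    exact ⟨_, hg, rfl⟩
  have hz1V : z1 ∈ V := by
    let N := T.subgroupOf (P : Subgroup G)
    have : N.Normal := ⟨fun n hn g => hfus _ hn g (g * n * g⁻¹).2⟩
    have hN : N ≠ ⊥ := by
      intro h
      rw [Subgroup.subgroupOf_eq_bot, disjoint_iff, inf_eq_left.2 hT.1] at h
      exact hT0 h
    obtain ⟨⟨c, hcN, hcZ⟩, hc1⟩ :=
      Subgroup.ne_bot_iff_exists_ne_one.1 (PGroup.inf_center_ne_bot P.2 N hN)
    obtain ⟨x, hx, hxc⟩ := hP.le c.2
    have hxV : x ∈ V := ⟨hx, by show π x ∈ T; rw [hxc]; exact hcN⟩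
    have hcen := central_mod h2 Q hx fun u hu => pm_of_map hker (by
      have h := congrArg Subtype.val (Subgroup.mem_center_iff.1 hcZ ⟨π u, hP.ge ⟨u, hu, rfl⟩⟩)
      simp only [Subgroup.coe_mul] at h
      rw [hxc]; exact h.symm)
    have hne : π x ≠ 1 := fun e => hc1 (Subtype.ext (Subtype.ext (hxc.symm.trans e)))
    rcases hcen with rfl | rfl | rfl | rfl
    · exact absurd (map_one π) hne
    · exact absurd (map_z0 hker) hne
    · exact hxV
    · have := V.mul_mem hz0V hxV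
      rwa [← mul_assoc, z0_sq, one_mul] at this
  have hswV : sw ∈ V := by
    have e : swapper h2 * (z0 * z1) * (swapper h2)⁻¹ = sw := by rw [← sw_mul_swapper, mul_inv_cancel_right]
    have h := hV _ (V.mul_mem hz0V hz1V) (swapper h2)
    rw [e] at h
    exact h (sw_mem_wr _)
  have hinv : ∀ c ∈ Q.toSubgroup, dia (c, c⁻¹) ∈ V := by
    intro c hc
    have hm : dia (c, 1) ∈ wr Q.toSubgroup := dia_mem_wr.2 ⟨hc, Q.toSubgroup.one_mem⟩
    have h := V.mul_mem (hV _ hswV (dia (c, 1))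
      ((wr _).mul_mem ((wr _).mul_mem hm (sw_mem_wr _)) ((wr _).inv_mem hm))) hswV
    rwa [mul_assoc (dia (c, 1)), dia_inv, inv_one, sw_mul_dia, ← mul_assoc, mul_assoc _ sw sw, sw_sq, mul_one,
      dia_mul, mul_one, one_mul] at h
  have hpair : ∀ i ∈ Q.toSubgroup, ∀ j ∈ Q.toSubgroup, i * i = -1 → j * j = -1 → dia (i, j) ∈ V := by
    intro i hi j hj hi2 hj2
    have hii : i⁻¹ * i⁻¹ = -1 := by
      rw [← _root_.mul_inv_rev, hi2]
      exact inv_eq_of_mul_eq_one_right (by rw [neg_mul_neg, one_mul])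
    obtain ⟨g, hg⟩ := isConj_iff.1 (PSL2.isConj_of_sq_neg_one h2 hii hj2)
    have e : dia (1, g) * dia (i, i⁻¹) * (dia (1, g))⁻¹ = dia (i, j) := by
      rw [dia_inv, dia_mul, dia_mul, inv_one, one_mul, mul_one, hg]
    have h := hV _ (hinv i hi) (dia (1, g))
    rw [e] at h
    exact h (dia_mem_wr.2 ⟨hi, hj⟩)
  have hsnd : Q.toSubgroup ≤ V.comap (dia.comp (MonoidHom.inr SL(2, F) SL(2, F))) := by
    refine sylow_le_of_quotients h2 Q fun i hi j hj hi2 hj2 => ?_
    have h := V.mul_mem (hpair i hi j hj hi2 hj2) (V.inv_mem (hpair i hi i hi hi2 hi2))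
    rw [dia_inv, dia_mul, mul_inv_cancel] at h
    exact h
  have hfst : ∀ a ∈ Q.toSubgroup, dia (a, 1) ∈ V := fun a ha => by
    have h := hV _ (show dia (1, a) ∈ V from hsnd ha) sw
    rw [sw_conj] at h
    exact h (dia_mem_wr.2 ⟨ha, Q.toSubgroup.one_mem⟩)
  have hall : wr Q.toSubgroup ≤ V := by
    rintro g ⟨a, ha, b, hb, rfl | rfl⟩
    all_goals
      have hab : dia (a, b) ∈ V := by
        have := V.mul_mem (hfst a ha) (show dia (1, b) ∈ V from hsnd hb)
        rwa [dia_mul, mul_one, one_mul] at this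
    · exact hab
    · exact V.mul_mem hab hswV
  intro y hy
  obtain ⟨u, hu, rfl⟩ := hP.le hy
  exact (hall hu).2

variable (hπ : Function.Surjective π)
include hπ

/-- The normaliser of the Sylow subgroup lifts to `wr Q · Δ(N(Q))`. -/
theorem exists_lift {y : G} (hy : y ∈ Subgroup.normalizer ((P : Subgroup G) : Set G)) :
    ∃ u ∈ wr Q.toSubgroup, ∃ b ∈ Subgroup.normalizer (Q.toSubgroup : Set SL(2, F)),
      y = π u * π (dia (b, b)) := by
  obtain ⟨g, rfl⟩ := hπ y
  have hg : ∀ u, u ∈ wr Q.toSubgroup ↔ g * u * g⁻¹ ∈ wr Q.toSubgroup := by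
    intro u
    have h := Subgroup.mem_normalizer_iff.1 hy (π u)
    rw [← map_inv, ← map_mul, ← map_mul] at h
    constructor
    · intro hu
      exact mem_of_map_mem hker (z0_mem h2 Q) (hP ▸ h.1 (hP.ge ⟨u, hu, rfl⟩))
    · intro hu
      exact mem_of_map_mem hker (z0_mem h2 Q) (hP ▸ h.2 (hP.ge ⟨_, hu, rfl⟩))
  have hcm := central_mod h2 Q ((hg z1).1 (z1_mem h2 Q)) (fun v hv => by
    have hv' : g⁻¹ * v * g ∈ wr Q.toSubgroup :=
      (hg _).2 (by rwa [show g * (g⁻¹ * v * g) * g⁻¹ = v by group])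
    have h := map_of_pm hker (pm_z1 h2 hv')
    refine pm_of_map hker ?_
    simp only [map_mul, map_inv] at h ⊢
    calc π g * π z1 * (π g)⁻¹ * π v = π g * (π z1 * ((π g)⁻¹ * π v * π g)) * (π g)⁻¹ := by group
      _ = π g * ((π g)⁻¹ * π v * π g * π z1) * (π g)⁻¹ := by rw [h]
      _ = _ := by group)
  have key : ∃ e ∈ wr Q.toSubgroup, (e * g) * z1 = z1 * (e * g) := by
    rcases hcm with h | h | h | h
    · exact absurd (conj_eq_one_iff.1 h) (z1_ne h2).1
    · refine absurd ?_ (z1_ne h2).2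
      calc z1 = g⁻¹ * (g * z1 * g⁻¹) * g := by group
        _ = g⁻¹ * z0 * g := by rw [h]
        _ = z0 := by rw [mul_assoc, z0_comm g, inv_mul_cancel_left]
    · exact ⟨1, (wr _).one_mem, by rw [one_mul]; exact mul_inv_eq_iff_eq_mul.1 h⟩
    · refine ⟨sw, sw_mem_wr _, ?_⟩
      have e : g * z1 = z0 * z1 * g := mul_inv_eq_iff_eq_mul.1 h
      rw [mul_assoc sw g, e, ← mul_assoc, z1, z0_mul_dia, sw_mul_dia, mul_assoc]
      simp
  obtain ⟨e, he, hec⟩ := key
  obtain ⟨a, b, hab⟩ := exists_dia_of_commute h2 hec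
  have hn : ∀ u ∈ wr Q.toSubgroup, dia (a, b) * u * (dia (a, b))⁻¹ ∈ wr Q.toSubgroup := fun u hu => by
    rw [← hab, show e * g * u * (e * g)⁻¹ = e * (g * u * g⁻¹) * e⁻¹ by group]
    exact (wr _).mul_mem ((wr _).mul_mem he ((hg u).1 hu)) ((wr _).inv_mem he)
  have hbN : b ∈ Subgroup.normalizer (Q.toSubgroup : Set SL(2, F)) := by
    refine Subgroup.mem_normalizer_iff_map_conj_eq.mpr (Subgroup.eq_of_le_of_card_ge ?_ ?_)
    · rintro _ ⟨c, hc, rfl⟩
      have h := hn _ (dia_mem_wr.2 ⟨Q.toSubgroup.one_mem, hc⟩)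
      rw [dia_inv, dia_mul, dia_mul, dia_mem_wr] at h
      exact h.2
    · exact (Subgroup.card_map_of_injective (MulAut.conj b).injective).ge
  have hab' : a * b⁻¹ ∈ Q.toSubgroup := by
    have h := hn _ (sw_mem_wr _)
    rw [mul_assoc, dia_inv, sw_mul_dia, ← mul_assoc, dia_mul, dia_mul_sw_mem_wr] at h
    exact h.1
  refine ⟨e⁻¹ * dia (a * b⁻¹, 1), (wr _).mul_mem ((wr _).inv_mem he)
    (dia_mem_wr.2 ⟨hab', Q.toSubgroup.one_mem⟩), b, hbN, ?_⟩
  rw [← map_mul, mul_assoc, dia_mul, inv_mul_cancel_right, one_mul, ← hab, inv_mul_cancel_left]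

theorem fullyNormalized_centric_sylow :
    (groupFusionSystem (P : Subgroup G)).IsFullyNormalized (P : Subgroup G) ∧
      (groupFusionSystem (P : Subgroup G)).IsCentric (P : Subgroup G) := by
  refine ⟨⟨le_rfl, fun R _ => ?_⟩, le_rfl, ?_⟩
  · refine le_trans (Subgroup.card_le_of_le (inf_le_left : normalizerIn (P : Subgroup G) R ≤ P)) (le_of_eq ?_)
    exact congrArg (fun H : Subgroup G => Nat.card H) (le_antisymm (le_inf le_rfl Subgroup.le_normalizer) inf_le_left)
  · rintro R ⟨φ, ⟨-, hφ, g, hg⟩, rfl⟩ y ⟨hy, -⟩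
    have hle : φ.range ≤ (P : Subgroup G) := by rintro _ ⟨x, rfl⟩; exact hφ x
    have heq : φ.range = (P : Subgroup G) := by
      refine Subgroup.eq_of_le_of_card_ge hle (le_of_eq ?_)
      refine Nat.card_congr (MonoidHom.ofInjective (f := φ) fun x x' h => Subtype.ext ?_).toEquiv
      rw [hg, hg] at h
      exact mul_left_cancel (mul_right_cancel h)
    rw [heq]; exact hy

/-- `q ≡ ±3 (mod 8)`: the element of order three. -/
theorem exists_radical {i j : SL(2, F)} (hiQ : i ∈ Q.toSubgroup) (hjQ : j ∈ Q.toSubgroup)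
    (hi : i * i = -1) (hj : j * j = -1) (hanti : j * i = -(i * j))
    (hQ : Q.toSubgroup ≤ Subgroup.closure {i, j}) {t : SL(2, F)}
    (ht : t.1 = (2 : F)⁻¹ • ((1 + i.1) * (1 + j.1))) :
    ∃ R : Subgroup G, ((groupFusionSystem (P : Subgroup G)).IsFullyNormalized R ∧
      (groupFusionSystem (P : Subgroup G)).IsCentric R) ∧ π (dia (t, t)) ∈ pElts 2 R := by
  let I : Matrix.symplecticGroup (Fin 2) F := dia (i, i)
  let J : Matrix.symplecticGroup (Fin 2) F := dia (j, j)
  let C : Matrix.symplecticGroup (Fin 2) F := z1 * sw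
  let R₀ := Subgroup.closure ({z1, sw, I, J} : Set (Matrix.symplecticGroup (Fin 2) F))
  have g1 : z1 ∈ R₀ := Subgroup.subset_closure (by simp)
  have g2 : sw ∈ R₀ := Subgroup.subset_closure (by simp)
  have g3 : I ∈ R₀ := Subgroup.subset_closure (by simp)
  have g4 : J ∈ R₀ := Subgroup.subset_closure (by simp)
  have hI2 : I * I = z0 := by show dia _ * dia _ = _; rw [dia_mul, hi]; rfl
  have hJ2 : J * J = z0 := by show dia _ * dia _ = _; rw [dia_mul, hj]; rfl
  have hz0R : z0 ∈ R₀ := hI2 ▸ R₀.mul_mem g3 g3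
  have hC : C ∈ R₀ := R₀.mul_mem g1 g2
  have hC2 : C * C = z0 := by
    show z1 * sw * (z1 * sw) = z0
    rw [← mul_assoc, mul_assoc z1 sw z1, z1, sw_mul_dia, ← mul_assoc, dia_mul, mul_assoc, sw_sq, mul_one,
      one_mul, mul_one]
    rfl
  have hdiag : ∀ c ∈ Q.toSubgroup, dia (c, c) ∈ R₀ := by
    refine fun c hc => (show Subgroup.closure {i, j} ≤
      R₀.comap (dia.comp ((MonoidHom.id SL(2, F)).prod (MonoidHom.id SL(2, F)))) from ?_) (hQ hc)
    rw [Subgroup.closure_le]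
    rintro x (rfl | rfl)
    · exact g3
    · exact g4
  have hsub : R₀ ≤ wr Q.toSubgroup := by
    rw [Subgroup.closure_le]
    rintro x (rfl | rfl | rfl | rfl)
    · exact z1_mem h2 Q
    · exact sw_mem_wr _
    · exact dia_mem_wr.2 ⟨hiQ, hiQ⟩
    · exact dia_mem_wr.2 ⟨hjQ, hjQ⟩
  have hswd : ∀ c : SL(2, F), Pm sw (dia (c, c)) := fun c => Or.inl (by rw [sw_mul_dia])
  have hzd : ∀ c ∈ Q.toSubgroup, Pm z1 (dia (c, c)) := fun c hc => pm_z1 h2 (dia_mem_wr.2 ⟨hc, hc⟩)
  have hIJ : Pm I J := Or.inr (by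
    show dia _ * dia _ = z0 * (dia _ * dia _)
    rw [dia_mul, dia_mul, z0_mul_dia, hanti, neg_neg])
  -- elements of `R₀` commute up to the centre
  have hpm : ∀ x ∈ R₀, ∀ y ∈ R₀, Pm x y := by
    have h1 : ∀ x ∈ ({z1, sw, I, J} : Set (Matrix.symplecticGroup (Fin 2) F)),
        ∀ y ∈ ({z1, sw, I, J} : Set (Matrix.symplecticGroup (Fin 2) F)), Pm x y := by
      have refl : ∀ x : Matrix.symplecticGroup (Fin 2) F, Pm x x := fun x => Or.inl rfl
      have hzs : Pm z1 sw := pm_z1 h2 (sw_mem_wr Q.toSubgroup)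
      rintro x (rfl | rfl | rfl | rfl) y (rfl | rfl | rfl | rfl)
      exacts [refl _, hzs, hzd i hiQ, hzd j hjQ, hzs.symm, refl _, hswd i, hswd j,
        (hzd i hiQ).symm, (hswd i).symm, refl _, hIJ, (hzd j hjQ).symm, (hswd j).symm, hIJ.symm, refl _]
    have h3 : ∀ x ∈ R₀, ∀ y ∈ ({z1, sw, I, J} : Set (Matrix.symplecticGroup (Fin 2) F)), Pm x y := by
      intro x hx y hy
      induction hx using Subgroup.closure_induction with
      | mem a ha => exact h1 a ha y hy
      | one => exact pm_one y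
      | mul a b _ _ iha ihb => exact iha.mul ihb
      | inv a _ iha => exact iha.inv
    intro x hx y hy
    refine Pm.symm ?_
    induction hy using Subgroup.closure_induction with
    | mem a ha => exact (h3 x hx a ha).symm
    | one => exact pm_one x
    | mul a b _ _ iha ihb => exact iha.mul ihb
    | inv a _ iha => exact iha.inv
  -- the Clifford elements
  have hcast : ∀ X : Matrix.symplecticGroup (Fin 2) F, X * X = z0 → X.1 * X.1 = -1 := fun X hX => by
    rw [← Submonoid.coe_mul, hX, z0_val]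
  have hsymp : ∀ X : Matrix.symplecticGroup (Fin 2) F, X * X = z0 →
      (1 + X.1) * Matrix.J (Fin 2) F * (1 + X.1)ᵀ = (2 : F) • Matrix.J (Fin 2) F := by
    intro X hX
    have h := SymplecticGroup.mem_iff.1 X.2
    have h' : X.1 * Matrix.J (Fin 2) F + Matrix.J (Fin 2) F * X.1ᵀ = 0 := by
      have e : X.1 * (X.1 * Matrix.J (Fin 2) F * X.1ᵀ) = X.1 * Matrix.J (Fin 2) F := by rw [h]
      rw [← Matrix.mul_assoc, ← Matrix.mul_assoc, hcast X hX, neg_one_mul, Matrix.neg_mul] at e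
      rw [← e, neg_add_cancel]
    rw [Matrix.transpose_add, Matrix.transpose_one, Matrix.add_mul, Matrix.one_mul, Matrix.add_mul,
      Matrix.mul_add, Matrix.mul_add, Matrix.mul_one, Matrix.mul_one, h, two_smul]
    calc Matrix.J (Fin 2) F + Matrix.J (Fin 2) F * X.1ᵀ + (X.1 * Matrix.J (Fin 2) F + Matrix.J (Fin 2) F) =
          Matrix.J (Fin 2) F + Matrix.J (Fin 2) F +
            (X.1 * Matrix.J (Fin 2) F + Matrix.J (Fin 2) F * X.1ᵀ) := by abel
      _ = _ := by rw [h', add_zero]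
  have hh : (2 : F)⁻¹ * (2 : F)⁻¹ * (2 * 2) = 1 := by field_simp
  let mk : ∀ X Y : Matrix.symplecticGroup (Fin 2) F, X * X = z0 → Y * Y = z0 →
      Matrix.symplecticGroup (Fin 2) F := fun X Y hX hY =>
    ⟨(2 : F)⁻¹ • ((1 + X.1) * (1 + Y.1)), by
      rw [SymplecticGroup.mem_iff, Matrix.transpose_smul, Matrix.transpose_mul, Matrix.smul_mul, Matrix.smul_mul,
        Matrix.mul_smul, smul_smul,
        show (1 + X.1) * (1 + Y.1) * Matrix.J (Fin 2) F * ((1 + Y.1)ᵀ * (1 + X.1)ᵀ) =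
          (1 + X.1) * ((1 + Y.1) * Matrix.J (Fin 2) F * (1 + Y.1)ᵀ) * (1 + X.1)ᵀ by simp only [Matrix.mul_assoc],
        hsymp Y hY, Matrix.mul_smul, Matrix.smul_mul, hsymp X hX, smul_smul, smul_smul, mul_assoc, hh, one_smul]⟩
  have hstep : ∀ Y ∈ R₀, Y * Y = z0 → ∀ Z ∈ R₀, ∃ W ∈ R₀, (1 + Y.1) * Z.1 = W.1 * (1 + Y.1) := by
    intro Y hY hY2 Z hZ
    rcases hpm Z hZ Y hY with h | h
    · refine ⟨Z, hZ, ?_⟩
      have h' : Z.1 * Y.1 = Y.1 * Z.1 := congrArg Subtype.val h
      rw [Matrix.add_mul, Matrix.one_mul, Matrix.mul_add, Matrix.mul_one, h']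
    · refine ⟨Y * Z, R₀.mul_mem hY hZ, ?_⟩
      have h' : Z.1 * Y.1 = -(Y.1 * Z.1) := by
        rw [← Submonoid.coe_mul, h, Submonoid.coe_mul, z0_val, neg_one_mul]
        rfl
      rw [Submonoid.coe_mul, Matrix.add_mul, Matrix.one_mul, Matrix.mul_add, Matrix.mul_one,
        Matrix.mul_assoc Y.1 Z.1, h', Matrix.mul_neg, ← Matrix.mul_assoc Y.1 Y.1, hcast Y hY2, neg_one_mul,
        neg_neg, add_comm]
  have hnorm : ∀ g, (∀ Z ∈ R₀, ∃ W ∈ R₀, g * Z = W * g) →
      π g ∈ Subgroup.normalizer ((R₀.map π : Subgroup G) : Set G) := by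
    intro g hg
    refine Subgroup.le_normalizer_map π ⟨g, ?_, rfl⟩
    refine Subgroup.mem_normalizer_iff_map_conj_eq.mpr (Subgroup.eq_of_le_of_card_ge ?_ ?_)
    · rintro _ ⟨Z, hZ, rfl⟩
      obtain ⟨W, hW, e⟩ := hg Z hZ
      show g * Z * g⁻¹ ∈ R₀
      rwa [e, mul_inv_cancel_right]
    · exact (Subgroup.card_map_of_injective (MulAut.conj g).injective).ge
  have hmk : ∀ X Y (hX : X * X = z0) (hY : Y * Y = z0), X ∈ R₀ → Y ∈ R₀ → X * Y = Y * X →
      π (mk X Y hX hY) ∈ pElts 2 (R₀.map π) := by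
    intro X Y hX hY hXR hYR hXY
    refine Subgroup.subset_closure ⟨hnorm _ fun Z hZ => ?_, ?_⟩
    · obtain ⟨W, hW, e⟩ := hstep Y hYR hY Z hZ
      obtain ⟨W', hW', e'⟩ := hstep X hXR hX W hW
      refine ⟨W', hW', Subtype.ext ?_⟩
      show (2 : F)⁻¹ • ((1 + X.1) * (1 + Y.1)) * Z.1 = W'.1 * (2 : F)⁻¹ • ((1 + X.1) * (1 + Y.1))
      rw [Matrix.smul_mul, Matrix.mul_smul, Matrix.mul_assoc, e, ← Matrix.mul_assoc, e', Matrix.mul_assoc]
    · have hsq : ∀ W : Matrix.symplecticGroup (Fin 2) F, W * W = z0 → (1 + W.1) * (1 + W.1) = (2 : F) • W.1 := by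
        intro W hW
        rw [Matrix.add_mul, Matrix.one_mul, Matrix.mul_add, Matrix.mul_one, hcast W hW, two_smul]
        abel
      have hXY' : Commute X.1 Y.1 := congrArg Subtype.val hXY
      have hg2 : mk X Y hX hY * mk X Y hX hY = X * Y := by
        refine Subtype.ext ?_
        show ((2 : F)⁻¹ • ((1 + X.1) * (1 + Y.1))) * ((2 : F)⁻¹ • ((1 + X.1) * (1 + Y.1))) = X.1 * Y.1
        have hc : Commute (1 + Y.1) (1 + X.1) :=
          (Commute.one_left _).add_left ((Commute.one_right _).add_right hXY'.symm)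
        rw [smul_mul_smul_comm, hc.mul_mul_mul_comm, hsq X hX, hsq Y hY, smul_mul_smul_comm, smul_smul, hh,
          one_smul]
      have h4 : (π (mk X Y hX hY)) ^ 2 ^ 2 = 1 := by
        rw [← map_pow, show (2 : ℕ) ^ 2 = 2 + 2 from rfl, pow_add, sq, hg2,
          (show Commute Y X from hXY.symm).mul_mul_mul_comm, hX, hY, z0_sq, map_one]
      obtain ⟨r, -, hr⟩ := (Nat.dvd_prime_pow Nat.prime_two).1 (orderOf_dvd_of_pow_eq_one h4)
      exact ⟨r, hr⟩
  have hRP : R₀.map π ≤ (P : Subgroup G) := hP ▸ Subgroup.map_mono hsub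
  refine ⟨R₀.map π, ⟨⟨hRP, fun Q' _ => ?_⟩, hRP, ?_⟩, ?_⟩
  · -- fully normalised
    refine le_trans (Subgroup.card_le_of_le (inf_le_left : normalizerIn (P : Subgroup G) Q' ≤ P)) (le_of_eq ?_)
    refine congrArg (fun H : Subgroup G => Nat.card H) (le_antisymm (le_inf le_rfl ?_) inf_le_left)
    intro y hy
    obtain ⟨u, hu, rfl⟩ := hP.le hy
    suffices h : wr Q.toSubgroup ≤ Subgroup.normalizer (R₀ : Set (Matrix.symplecticGroup (Fin 2) F)) from
      Subgroup.le_normalizer_map π ⟨u, h hu, rfl⟩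
    have hgen : ∀ x ∈ ({i, j} : Set SL(2, F)),
        dia (x, 1) ∈ Subgroup.normalizer (R₀ : Set (Matrix.symplecticGroup (Fin 2) F)) := by
      intro x hx
      refine Subgroup.mem_normalizer_iff_map_conj_eq.mpr (Subgroup.eq_of_le_of_card_ge ?_ ?_)
      · show (Subgroup.closure _).map _ ≤ R₀
        rw [MonoidHom.map_closure, Subgroup.closure_le]
        have hxQ : x ∈ Q.toSubgroup := by rcases hx with rfl | rfl <;> assumption
        have hx2 : x * x = -1 := by rcases hx with rfl | rfl <;> assumption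
        have hxi : x⁻¹ = -x := inv_eq_of_mul_eq_one_right (by rw [mul_neg, hx2, neg_neg])
        have hflip : ∀ c ∈ Q.toSubgroup, c = x * c * x⁻¹ ∨ -c = x * c * x⁻¹ →
            dia (x * c * x⁻¹, c) ∈ R₀ := by
          rintro c hc (h | h) <;> rw [← h]
          · exact hdiag c hc
          · have := R₀.mul_mem g1 (hdiag c hc)
            rwa [z1, dia_mul, neg_one_mul, one_mul] at this
        rintro _ ⟨y, hy, rfl⟩
        show dia (x, 1) * y * (dia (x, 1))⁻¹ ∈ R₀
        rw [dia_inv, inv_one]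
        rcases hy with rfl | rfl | rfl | rfl
        · rw [z1, dia_mul, dia_mul, mul_neg_one, neg_mul, mul_inv_cancel, mul_one, one_mul]; exact g1
        · rw [mul_assoc, sw_mul_dia, ← mul_assoc, dia_mul, mul_one, one_mul, hxi]
          have e : dia (x, -x) = dia (x, x) * (z0 * z1) := by
            rw [z1, z0_mul_dia, dia_mul, neg_neg, mul_one, mul_neg_one]
          rw [e]
          exact R₀.mul_mem (R₀.mul_mem (hdiag x hxQ) (R₀.mul_mem hz0R g1)) g2
        · show dia (x, 1) * dia (i, i) * _ ∈ R₀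
          rw [dia_mul, dia_mul, one_mul, mul_one]
          refine hflip i hiQ ?_
          rcases hx with rfl | rfl
          · exact Or.inl (by rw [mul_inv_cancel_right])
          · exact Or.inr (eq_mul_inv_iff_mul_eq.2 (by rw [neg_mul, hanti]))
        · show dia (x, 1) * dia (j, j) * _ ∈ R₀
          rw [dia_mul, dia_mul, one_mul, mul_one]
          refine hflip j hjQ ?_
          rcases hx with rfl | rfl
          · exact Or.inr (eq_mul_inv_iff_mul_eq.2 (by rw [neg_mul, hanti, neg_neg]))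
          · exact Or.inl (by rw [mul_inv_cancel_right])
      · exact (Subgroup.card_map_of_injective (MulAut.conj (dia (x, 1))).injective).ge
    have hswN : sw ∈ Subgroup.normalizer (R₀ : Set (Matrix.symplecticGroup (Fin 2) F)) := Subgroup.le_normalizer g2
    have hfst : ∀ a ∈ Q.toSubgroup, dia (a, 1) ∈ Subgroup.normalizer (R₀ : Set (Matrix.symplecticGroup (Fin 2) F)) :=
      fun a ha => ((Subgroup.closure_le ((Subgroup.normalizer (R₀ : Set (Matrix.symplecticGroup (Fin 2) F))).comap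
        (dia.comp (MonoidHom.inl SL(2, F) SL(2, F))))).2 hgen) (hQ ha)
    rintro g ⟨a, ha, b, hb, rfl | rfl⟩
    all_goals
      have hab : dia (a, b) ∈ Subgroup.normalizer (R₀ : Set (Matrix.symplecticGroup (Fin 2) F)) := by
        have := Subgroup.mul_mem _ (hfst a ha) (Subgroup.mul_mem _ (Subgroup.mul_mem _ hswN (hfst b hb))
          (Subgroup.inv_mem _ hswN))
        rwa [sw_conj, dia_mul, mul_one, one_mul] at this
    · exact hab
    · exact Subgroup.mul_mem _ hab hswN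
  · -- centric
    have hCen : Subgroup.centralizer ((R₀.map π : Subgroup G) : Set G) ≤ R₀.map π := by
      intro c hc
      obtain ⟨g, rfl⟩ := hπ c
      refine ⟨g, ?_, rfl⟩
      have hgR : ∀ Z ∈ R₀, Pm g Z := fun Z hZ =>
        pm_of_map hker (Subgroup.mem_centralizer_iff.1 hc (π Z) ⟨Z, hZ, rfl⟩).symm
      have flip : ∀ (g f y : Matrix.symplecticGroup (Fin 2) F), g * y = z0 * (y * g) → f * y = z0 * (y * f) →
          f * g * y = y * (f * g) := fun g f y h h' => by
        rw [mul_assoc f, h, ← mul_assoc f, ← z0_comm, mul_assoc z0, ← mul_assoc f, h', mul_assoc z0,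
          ← mul_assoc z0, z0_sq, one_mul, mul_assoc y]
      -- make it commute with `z1`
      obtain ⟨r, hr, hrz⟩ : ∃ r ∈ R₀, r * g * z1 = z1 * (r * g) := by
        rcases hgR z1 g1 with h | h
        · exact ⟨1, R₀.one_mem, by rw [one_mul]; exact h⟩
        · refine ⟨sw, g2, flip g sw z1 h ?_⟩
          rw [z1, sw_mul_dia, ← mul_assoc, z0_mul_dia, neg_neg]
      obtain ⟨a, b, hab⟩ := exists_dia_of_commute h2 hrz
      have hdR : ∀ Z ∈ R₀, Pm (dia (a, b)) Z := fun Z hZ => hab ▸ (hpm r hr Z hZ).mul (hgR Z hZ)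
      suffices hd : dia (a, b) ∈ R₀ from (R₀.mul_mem_cancel_left hr).1 (hab ▸ hd)
      have hb : b = a ∨ b = -a := by
        rcases hdR sw g2 with h | h
        · rw [sw_mul_dia] at h
          exact Or.inl (dia_inj.1 (mul_right_cancel h)).1.symm
        · rw [sw_mul_dia, ← mul_assoc, z0_mul_dia] at h
          exact Or.inr (neg_eq_iff_eq_neg.1 (dia_inj.1 (mul_right_cancel h)).1.symm)
      have hpmSL : ∀ x ∈ ({i, j} : Set SL(2, F)), a * x = x * a ∨ a * x = -(x * a) := by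
        intro x hx
        have hxR : dia (x, x) ∈ R₀ := by rcases hx with rfl | rfl <;> assumption
        rcases hdR _ hxR with h | h <;> rw [dia_mul, dia_mul] at h
        · exact Or.inl (dia_inj.1 h).1
        · rw [z0_mul_dia] at h
          exact Or.inr (dia_inj.1 h).1
      have flip2 : ∀ a f y : SL(2, F), a * y = -(y * a) → f * y = -(y * f) → f * a * y = y * (f * a) :=
        fun a f y h h' => by
          rw [mul_assoc, h, mul_neg, ← mul_assoc, h', neg_mul, neg_neg, mul_assoc]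
      have haQ : a ∈ Q.toSubgroup := by
        obtain ⟨f, hfQ, hfi, hfj⟩ : ∃ f ∈ Q.toSubgroup, f * a * i = i * (f * a) ∧
            (f * a * j = j * (f * a) ∨ f * a * j = -(j * (f * a))) := by
          rcases hpmSL i (Or.inl rfl) with h | h
          · exact ⟨1, Q.toSubgroup.one_mem, by rw [one_mul]; exact h,
              by rw [one_mul]; exact hpmSL j (Or.inr rfl)⟩
          · refine ⟨j, hjQ, flip2 a j i h hanti, ?_⟩
            rcases hpmSL j (Or.inr rfl) with h' | h'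
            · exact Or.inl (by rw [mul_assoc j a, h'])
            · exact Or.inr (by rw [mul_assoc j a, h', mul_neg])
        rcases hfj with h | h
        · rcases pm_of_commute_pair h2 hanti hfi h with e | e <;>
            refine (Q.toSubgroup.mul_mem_cancel_left hfQ).1 ?_ <;> rw [e]
          · exact Q.toSubgroup.one_mem
          · exact neg_one_mem_sylow h2 Q
        · have hia : i * (f * a) * i = i * (i * (f * a)) := by rw [mul_assoc i, hfi]
          have hja : i * (f * a) * j = j * (i * (f * a)) :=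
            flip2 _ i j h (by rw [hanti, neg_neg])
          rcases pm_of_commute_pair h2 hanti hia hja with e | e <;>
            refine (Q.toSubgroup.mul_mem_cancel_left hfQ).1 ((Q.toSubgroup.mul_mem_cancel_left hiQ).1 ?_) <;>
            rw [e]
          · exact Q.toSubgroup.one_mem
          · exact neg_one_mem_sylow h2 Q
      rcases hb with hb' | hb' <;> rw [hb']
      · exact hdiag a haQ
      · have := R₀.mul_mem (R₀.mul_mem hz0R g1) (hdiag a haQ)
        rwa [z1, z0_mul_dia, dia_mul, neg_neg, one_mul, neg_one_mul] at this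
    rintro R' ⟨φ, ⟨-, -, g, hg⟩, rfl⟩ y ⟨-, hy⟩
    have : g⁻¹ * y * g ∈ Subgroup.centralizer ((R₀.map π : Subgroup G) : Set G) := by
      refine Subgroup.mem_centralizer_iff.mpr fun r hr => ?_
      have h1 : φ ⟨r, hr⟩ * y = y * φ ⟨r, hr⟩ := Subgroup.mem_centralizer_iff.mp hy _ ⟨_, rfl⟩
      rw [hg] at h1
      calc r * (g⁻¹ * y * g) = g⁻¹ * (g * r * g⁻¹ * y) * g := by group
        _ = _ := by rw [h1]; group
    refine ⟨⟨g⁻¹ * y * g, hCen this⟩, ?_⟩
    rw [hg]
    group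
  · -- the element of order three
    have hIC : I * C = C * I := by
      show dia (i, i) * (z1 * sw) = z1 * sw * dia (i, i)
      rw [mul_assoc z1 sw, sw_mul_dia, ← mul_assoc, ← mul_assoc, z1, dia_mul, dia_mul]
      simp
    have hJC : J * C = C * J := by
      show dia (j, j) * (z1 * sw) = z1 * sw * dia (j, j)
      rw [mul_assoc z1 sw, sw_mul_dia, ← mul_assoc, ← mul_assoc, z1, dia_mul, dia_mul]
      simp
    have e : mk I C hI2 hC2 * mk C J hC2 hJ2 = C * dia (t, t) := by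
      refine Subtype.ext ?_
      show ((2 : F)⁻¹ • ((1 + I.1) * (1 + C.1))) * ((2 : F)⁻¹ • ((1 + C.1) * (1 + J.1))) = C.1 * diaM t.1 t.1
      have hT : diaM t.1 t.1 = (2 : F)⁻¹ • ((1 + I.1) * (1 + J.1)) := by
        show _ = (2 : F)⁻¹ • ((1 + diaM i.1 i.1) * (1 + diaM j.1 j.1))
        rw [ht, diaM_smul, diaM_mul, diaM_add, diaM_add, diaM_one]
      have hsq : (1 + C.1) * (1 + C.1) = (2 : F) • C.1 := by
        rw [Matrix.add_mul, Matrix.one_mul, Matrix.mul_add, Matrix.mul_one, hcast C hC2, two_smul]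
        abel
      have hIC' : C.1 * I.1 = I.1 * C.1 := congrArg Subtype.val hIC.symm
      rw [smul_mul_smul_comm, show (1 + I.1) * (1 + C.1) * ((1 + C.1) * (1 + J.1)) =
          (1 + I.1) * ((1 + C.1) * (1 + C.1)) * (1 + J.1) by simp only [Matrix.mul_assoc], hsq, hT,
        Matrix.mul_smul, Matrix.smul_mul, Matrix.mul_smul, smul_smul,
        show (2 : F)⁻¹ * (2 : F)⁻¹ * 2 = (2 : F)⁻¹ by field_simp, ← Matrix.mul_assoc]
      congr 2
      rw [Matrix.add_mul, Matrix.one_mul, Matrix.mul_add, Matrix.mul_one, hIC']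
    have hCp : π C ∈ pElts 2 (R₀.map π) := by
      refine Subgroup.subset_closure ⟨Subgroup.le_normalizer ⟨C, hC, rfl⟩, ?_⟩
      have h4 : (π C) ^ 2 ^ 1 = 1 := by rw [pow_one, sq, ← map_mul, hC2, map_z0 hker]
      obtain ⟨r, -, hr⟩ := (Nat.dvd_prime_pow Nat.prime_two).1 (orderOf_dvd_of_pow_eq_one h4)
      exact ⟨r, hr⟩
    have := Subgroup.mul_mem _ (Subgroup.inv_mem _ hCp)
      (Subgroup.mul_mem _ (hmk I C hI2 hC2 g3 hC hIC) (hmk C J hC2 hJ2 hC g4 hJC.symm))
    rwa [← map_mul, e, map_mul π C, inv_mul_cancel_left] at this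

/-- The fusion system of the quotient by `±1` is simple. -/
theorem isSimple_image (hodd : Fintype.card F % 2 = 1) :
    (groupFusionSystem (P : Subgroup G)).IsSimple 2 := by
  refine GroupSimple.isSimple P (groupFusionSystem_saturated P) ?_
    (stronglyClosed_trivial hker h2 Q hP) fun y hy => ?_
  · intro hb
    have h : π z1 ∈ (P : Subgroup G) := hP.ge ⟨z1, z1_mem h2 Q, rfl⟩
    rw [hb, Subgroup.mem_bot, hker] at h
    exact h.elim (z1_ne h2).1 (z1_ne h2).2
  set K := ((⨆ (R : Subgroup G) (_ : (groupFusionSystem (P : Subgroup G)).IsFullyNormalized R ∧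
      (groupFusionSystem (P : Subgroup G)).IsCentric R),
    pElts 2 R ⊓ Subgroup.normalizer ((P : Subgroup G) : Set G)) ⊔
      Subgroup.centralizer ((P : Subgroup G) : Set G)) with hK
  have hPK : (P : Subgroup G) ≤ K := by
    refine le_trans ?_ le_sup_left
    refine le_iSup₂_of_le (P : Subgroup G) (fullyNormalized_centric_sylow hker h2 Q hP hπ) (le_inf ?_ Subgroup.le_normalizer)
    intro x hx
    obtain ⟨r, hr⟩ := IsPGroup.iff_orderOf.1 P.2 ⟨x, hx⟩
    exact Subgroup.subset_closure ⟨Subgroup.le_normalizer hx, r, by rw [← hr, Subgroup.orderOf_mk]⟩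
  have hwrK : ∀ u ∈ wr Q.toSubgroup, π u ∈ K := fun u hu => hPK (hP.ge ⟨u, hu, rfl⟩)
  obtain ⟨u, hu, b, hb, rfl⟩ := exists_lift hker h2 Q hP hπ hy
  refine K.mul_mem (hwrK u hu) ?_
  rcases (show (Fintype.card F % 8 = 1 ∨ Fintype.card F % 8 = 7) ∨
      (Fintype.card F % 8 = 3 ∨ Fintype.card F % 8 = 5) by omega) with h8 | h8
  · rw [PSL2.normalizer_sylow_two_eight h8] at hb
    exact hwrK _ (dia_mem_wr.2 ⟨hb, hb⟩)
  have hN := PSL2.card_normalizer_sylow_two_three h8 Q
  obtain ⟨k, hk, hcardQ, a, c, ha, hc, hord, hc2, hrel, ha2, hgen⟩ := exists_quat_pair h2 Q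
  have hk1 : k = 1 := by
    have h := Q.card_eq_multiplicity.symm.trans hcardQ
    rw [GL.card_SL2] at h
    generalize hq : Fintype.card F = q at *
    have hq1 : 1 < q := hq ▸ Fintype.one_lt_card
    have e : q * (q ^ 2 - 1) = 2 ^ 3 * (q * ((q ^ 2 - 1) / 8)) := by
      have : 8 ∣ q ^ 2 - 1 := by
        have : q ^ 2 % 8 = 1 := by rw [Nat.pow_mod]; rcases h8 with h | h <;> simp [h]
        omega
      obtain ⟨m, hm⟩ := this
      rw [hm, Nat.mul_div_cancel_left _ (by norm_num)]; ring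
    have ho : Odd ((q ^ 2 - 1) / 8) := by
      rw [Nat.odd_iff]
      have : q ^ 2 % 16 = 9 := by
        have : q % 16 = 3 ∨ q % 16 = 5 ∨ q % 16 = 11 ∨ q % 16 = 13 := by omega
        rw [Nat.pow_mod]; rcases this with h | h | h | h <;> simp [h]
      omega
    have ho' := (Nat.odd_iff.2 hodd).mul ho
    rw [e, Nat.factorization_mul (by norm_num) ho'.pos.ne', Finsupp.add_apply,
      Forms.factorization_two_of_odd ho', Nat.prime_two.factorization_pow, Finsupp.single_eq_same, add_zero] at h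
    have := Nat.pow_right_injective le_rfl h
    omega
  subst hk1
  have hai : a * a = -1 := by rw [← sq]; simpa using ha2
  have hainv : a⁻¹ = -a := inv_eq_of_mul_eq_one_right (by rw [mul_neg, hai, neg_neg])
  have hanti : c * a = -(a * c) := by
    rw [hainv, mul_inv_eq_iff_eq_mul, neg_mul] at hrel
    exact hrel
  have hQcl : Q.toSubgroup ≤ Subgroup.closure {a, c} := fun g hg => by
    obtain ⟨r, rfl | rfl⟩ := hgen g hg
    · exact Subgroup.pow_mem _ (Subgroup.subset_closure (by simp)) _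
    · exact Subgroup.mul_mem _ (Subgroup.subset_closure (by simp))
        (Subgroup.pow_mem _ (Subgroup.subset_closure (by simp)) _)
  have hdet : ∀ x : SL(2, F), x * x = -1 → (1 + x.1).det = 2 := fun x hx => by
    have htr := PSL2.tr_eq_zero_of_mul_self_eq_neg_one hx
    have hd := x.2
    rw [det_fin_two] at hd ⊢
    simp only [PSL2.tr, Matrix.trace_fin_two] at htr
    simp
    linear_combination htr + hd
  have hh : (2 : F)⁻¹ * 2 = 1 := inv_mul_cancel₀ h2
  let t : SL(2, F) := ⟨(2 : F)⁻¹ • ((1 + a.1) * (1 + c.1)), by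
    rw [det_smul, det_mul, hdet a hai, hdet c hc2, Fintype.card_fin, sq, mul_mul_mul_comm, hh, one_mul]⟩
  have am : a.1 * a.1 = -1 := congrArg Subtype.val hai
  have cm : c.1 * c.1 = -1 := congrArg Subtype.val hc2
  have acm : c.1 * a.1 = -(a.1 * c.1) := congrArg Subtype.val hanti
  have aca : a.1 * c.1 * a.1 = c.1 := by
    rw [Matrix.mul_assoc, acm, Matrix.mul_neg, ← Matrix.mul_assoc, am, neg_one_mul, neg_neg]
  have cac : c.1 * a.1 * c.1 = a.1 := by
    rw [acm, Matrix.neg_mul, Matrix.mul_assoc, cm, mul_neg_one, neg_neg]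
  have ta : t * a = c * t := Subtype.ext (by
    show ((2 : F)⁻¹ • ((1 + a.1) * (1 + c.1))) * a.1 = c.1 * ((2 : F)⁻¹ • ((1 + a.1) * (1 + c.1)))
    rw [Matrix.smul_mul, Matrix.mul_smul]
    congr 1
    simp only [Matrix.add_mul, Matrix.mul_add, Matrix.one_mul, Matrix.mul_one, am, cm, aca, cac,
      ← Matrix.mul_assoc]
    rw [acm]
    abel)
  have tc : t * c = a * c * t := Subtype.ext (by
    show ((2 : F)⁻¹ • ((1 + a.1) * (1 + c.1))) * c.1 = a.1 * c.1 * ((2 : F)⁻¹ • ((1 + a.1) * (1 + c.1)))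
    rw [Matrix.smul_mul, Matrix.mul_smul]
    congr 1
    simp only [Matrix.add_mul, Matrix.mul_add, Matrix.one_mul, Matrix.mul_one, ← Matrix.mul_assoc, aca,
      Matrix.mul_assoc _ c.1 c.1, cm, mul_neg_one]
    abel)
  have htN : t ∈ Subgroup.normalizer (Q.toSubgroup : Set SL(2, F)) := by
    refine Subgroup.mem_normalizer_iff_map_conj_eq.mpr (Subgroup.eq_of_le_of_card_ge ?_ ?_)
    · refine le_trans (Subgroup.map_mono hQcl) ?_
      rw [MonoidHom.map_closure, Subgroup.closure_le]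
      rintro _ ⟨x, rfl | rfl, rfl⟩
      · show t * x * t⁻¹ ∈ Q.toSubgroup
        rw [ta, mul_inv_cancel_right]; exact hc
      · show t * x * t⁻¹ ∈ Q.toSubgroup
        rw [tc, mul_inv_cancel_right]; exact Q.toSubgroup.mul_mem ha hc
    · exact (Subgroup.card_map_of_injective (MulAut.conj t).injective).ge
  have htQ : t ∉ Q.toSubgroup := by
    intro ht
    have hca : c ≠ a ∧ c ≠ -a := by
      refine ⟨fun e => neg_ne_self h2 (a * a) ?_, fun e => neg_ne_self h2 (a * a) ?_⟩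
      · rw [e] at hanti; exact hanti.symm
      · rw [e, neg_mul, mul_neg, neg_neg] at hanti; exact hanti
    obtain ⟨r, hr⟩ := hgen t ht
    have hcomm : ∀ m : ℕ, a ^ m * a = a * a ^ m := fun m => (Commute.pow_self a m).eq
    rcases hr with hr | hr
    · rw [hr, hcomm] at ta
      exact hca.1 (mul_right_cancel ta).symm
    · rw [hr, mul_assoc, hcomm, ← mul_assoc, hanti, neg_mul, mul_assoc, ← neg_mul] at ta
      exact hca.2 (mul_right_cancel ta).symm
  obtain ⟨R, hR, htR⟩ := exists_radical hker h2 Q hP hπ ha hc hai hc2 hanti hQcl (t := t) rfl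
  have htP : π (dia (t, t)) ∈ Subgroup.normalizer ((P : Subgroup G) : Set G) := by
    rw [hP]
    refine Subgroup.le_normalizer_map π ⟨_, ?_, rfl⟩
    refine Subgroup.mem_normalizer_iff_map_conj_eq.mpr (Subgroup.eq_of_le_of_card_ge ?_ ?_)
    · rintro _ ⟨v, ⟨x, hx, y, hy, rfl | rfl⟩, rfl⟩
      all_goals
        show dia (t, t) * _ * (dia (t, t))⁻¹ ∈ wr Q.toSubgroup
        simp only [dia_inv, ← mul_assoc, dia_mul]
      · exact dia_mem_wr.2 ⟨(Subgroup.mem_normalizer_iff.1 htN x).1 hx, (Subgroup.mem_normalizer_iff.1 htN y).1 hy⟩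
      · rw [mul_assoc, sw_mul_dia, ← mul_assoc, dia_mul]
        exact dia_mul_sw_mem_wr.2 ⟨(Subgroup.mem_normalizer_iff.1 htN x).1 hx, (Subgroup.mem_normalizer_iff.1 htN y).1 hy⟩
    · exact (Subgroup.card_map_of_injective (MulAut.conj (dia (t, t))).injective).ge
  have htK : π (dia (t, t)) ∈ K := by
    refine Subgroup.mem_sup_left ?_
    exact (le_iSup₂_of_le R hR le_rfl : pElts 2 R ⊓ Subgroup.normalizer ((P : Subgroup G) : Set G) ≤ _) ⟨htR, htP⟩
  -- `N(Q) = Q ⊔ ⟨t⟩`
  let H := Q.toSubgroup ⊔ Subgroup.zpowers t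
  have hHN : H ≤ Subgroup.normalizer (Q.toSubgroup : Set SL(2, F)) :=
    sup_le Subgroup.le_normalizer (Subgroup.zpowers_le.2 htN)
  have hHeq : H = Subgroup.normalizer (Q.toSubgroup : Set SL(2, F)) := by
    refine Subgroup.eq_of_le_of_card_ge hHN ?_
    obtain ⟨m, hm⟩ := Subgroup.card_dvd_of_le (le_sup_left : Q.toSubgroup ≤ H)
    have hd := Subgroup.card_dvd_of_le hHN
    rw [hN, hm, mul_comm 3] at hd
    have hpos : 0 < Nat.card Q.toSubgroup := Nat.card_pos
    rcases (Nat.dvd_prime Nat.prime_three).1 (Nat.dvd_of_mul_dvd_mul_left hpos hd) with rfl | rfl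
    · exfalso
      rw [mul_one] at hm
      have := Subgroup.eq_of_le_of_card_ge (le_sup_left : Q.toSubgroup ≤ H) hm.le
      exact htQ (this.symm ▸ Subgroup.mem_sup_right (Subgroup.mem_zpowers t))
    · rw [hN, hm, mul_comm]
  have hcomap : H ≤ K.comap (π.comp (dia.comp ((MonoidHom.id SL(2, F)).prod (MonoidHom.id SL(2, F))))) :=
    sup_le (fun x hx => hwrK _ (dia_mem_wr.2 ⟨hx, hx⟩)) (Subgroup.zpowers_le.2 htK)
  exact hcomap (hHeq.ge hb)

end Cfsg.Agent.Fusion.SympFour
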