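import Cfsg.Agent.Lib.Fusion.SympNormalizer
import Cfsg.Agent.Lib.Fusion.CoverSimple

/-!
The defining characteristic fusion system of the projective symplectic group is simple.
-/

set_option autoImplicit false
set_option linter.unusedSectionVars false

namespace Cfsg.Agent.Fusion.SympBlocks

open Matrix Cfsg.Agent.Fusion.UniTri Cfsg.Agent.Fusion.GroupSimple

variable {m : ℕ} {F : Type*} [Field F] [Fintype F]

local notation "Mm" => Matrix (Fin m) (Fin m) F
local notation "Sp" => Matrix.symplecticGroup (Fin m) F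

/-- The symmetric matrices whose Siegel element lies in `T`. -/
def shSet (T : Subgroup Sp) : AddSubgroup Mm where
  carrier := {S | ∃ h : Sᵀ = S, sh S h ∈ T}
  zero_mem' := ⟨transpose_zero, by rw [sh_zero]; exact T.one_mem⟩
  add_mem' := by
    rintro S S' ⟨hS, h⟩ ⟨hS', h'⟩
    exact ⟨_, sh_mul hS hS' ▸ T.mul_mem h h'⟩
  neg_mem' := by
    rintro S ⟨hS, h⟩
    exact ⟨_, sh_inv hS ▸ T.inv_mem h⟩

/-- `[[0, -1], [1, 0]]` -/
def weylSL : Matrix.SpecialLinearGroup (Fin 2) F := ⟨!![0, -1; 1, 0], by simp [det_fin_two]⟩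

theorem weylSL_00 : (weylSL : Matrix.SpecialLinearGroup (Fin 2) F).1 0 0 = 0 := rfl
theorem weylSL_01 : (weylSL : Matrix.SpecialLinearGroup (Fin 2) F).1 0 1 = -1 := rfl
theorem weylSL_10 : (weylSL : Matrix.SpecialLinearGroup (Fin 2) F).1 1 0 = 1 := rfl
theorem weylSL_11 : (weylSL : Matrix.SpecialLinearGroup (Fin 2) F).1 1 1 = 0 := rfl

theorem addSubgroup_eq_univ_of_squares (K : AddSubgroup F) (p : ℕ) [Fact p.Prime] [CharP F p]
    (h : ∀ a : F, a * a ∈ K) (x : F) : x ∈ K := by
  by_cases h2 : p = 2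
  · subst h2
    obtain ⟨y, rfl⟩ := FiniteField.isSquare_of_char_two (ringChar.eq F 2) x
    exact h y
  · have hx2 : x + x ∈ K := by
      have e : x + x = (x + 1) * (x + 1) - x * x - 1 * 1 := by ring
      rw [e]
      exact K.sub_mem (K.sub_mem (h _) (h _)) (h _)
    obtain ⟨r, hr⟩ := (Fact.out : p.Prime).odd_of_ne_two h2
    have e : x = (r + 1) • (x + x) := by
      rw [nsmul_eq_mul, Nat.cast_add, Nat.cast_one]
      have : ((p : ℕ) : F) = 0 := CharP.cast_eq_zero F p
      rw [hr] at this
      push_cast at this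
      linear_combination (-x) * this
    exact e ▸ K.nsmul_mem hx2 _

section Closed

variable {T : Subgroup (Matrix.symplecticGroup (Fin m) F)}
  (hTU : T ≤ spUni) (hfus : ∀ x ∈ T, ∀ g, g * x * g⁻¹ ∈ spUni → g * x * g⁻¹ ∈ T)
include hTU hfus

theorem congr_mem (A : GL (Fin m) F) {S : Mm} (h : S ∈ shSet T) :
    (A : Mm) * S * (A : Mm)ᵀ ∈ shSet T := by
  obtain ⟨hS, hT⟩ := h
  refine ⟨congr_symm hS _, ?_⟩
  have := hfus _ hT (lev A) (by rw [lev_conj_sh]; exact sh_mem_spUni _)
  rwa [lev_conj_sh] at this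

theorem smul_mem (p : ℕ) [Fact p.Prime] [CharP F p] (c : F) {S : Mm} (h : S ∈ shSet T) :
    c • S ∈ shSet T := by
  let K : AddSubgroup F :=
    { carrier := {c | c • S ∈ shSet T}
      zero_mem' := by show (0 : F) • S ∈ shSet T; rw [zero_smul]; exact zero_mem _
      add_mem' := fun {a b} ha hb => by show (a + b) • S ∈ shSet T; rw [add_smul]; exact add_mem ha hb
      neg_mem' := fun {a} ha => by show (-a) • S ∈ shSet T; rw [neg_smul]; exact neg_mem ha }
  refine addSubgroup_eq_univ_of_squares K p (fun a => ?_) c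
  show (a * a) • S ∈ shSet T
  by_cases ha : a = 0
  · simp [ha, zero_mem]
  · have := congr_mem hTU hfus (GeneralLinearGroup.mkOfDetNeZero (a • (1 : Mm)) (by simp [det_smul, ha])) h
    rw [GeneralLinearGroup.mkOfDetNeZero] at this
    simpa [smul_smul] using this

theorem diff_mem {i j : Fin m} (hij : i ≠ j) (c : F) {S : Mm} (h : S ∈ shSet T) :
    c • (single i j 1 * S + S * single j i 1) + (c * c * S j j) • dE i ∈ shSet T := by
  have h1 := congr_mem hTU hfus (SpecialLinearGroup.toGL (SpecialLinearGroup.transvection hij c)) h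
  have h2 := sub_mem h1 h
  convert h2 using 1
  simp only [Matrix.SpecialLinearGroup.coe_GL_coe_matrix, SpecialLinearGroup.transvection_coe]
  rw [transpose_add, transpose_one, transpose_single]
  have e1 : single i j c = c • single i j (1 : F) := by simp
  have e2 : single j i c = c • single j i (1 : F) := by simp
  have key : single i j (1 : F) * S * single j i (1 : F) = S j j • dE i := by
    rw [Matrix.single_mul_mul_single, dE, smul_single]
    simp
  rw [e1, e2]
  simp only [add_mul, mul_add, one_mul, mul_one, Matrix.smul_mul, Matrix.mul_smul, smul_smul, smul_add, key]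
  module

theorem pair_of_row {k i j : Fin m} (hkj : k ≠ j) {S : Mm} (h : S ∈ shSet T) {s : F}
    (hrow : ∀ b, S j b = if b = i then s else 0) (hij : i ≠ j) : s • pr k i ∈ shSet T := by
  have h0 : S j j = 0 := by rw [hrow, if_neg (Ne.symm hij)]
  have h1 := diff_mem hTU hfus hkj 1 h
  rw [h0, mul_zero, zero_smul, add_zero, one_smul] at h1
  convert h1 using 1
  have hsym : Sᵀ = S := h.1
  ext a b
  have hcol : S a j = if a = i then s else 0 := by
    rw [← hsym, transpose_apply, hrow]
  simp only [pr, Matrix.smul_apply, Matrix.add_apply, smul_eq_mul]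
  by_cases ha : a = k <;> by_cases hb : b = k
  · subst ha; subst hb
    simp [hrow, hcol, Matrix.single_apply, mul_add, eq_comm]
  · subst ha
    simp [Matrix.mul_single_apply_of_ne (hbj := hb), hrow, Matrix.single_apply, Ne.symm hb, @eq_comm _ i b]
  · subst hb
    simp [Matrix.single_mul_apply_of_ne (h := ha), hcol, Matrix.single_apply, Ne.symm ha, eq_comm]
  · simp [Matrix.single_mul_apply_of_ne (h := ha), Matrix.mul_single_apply_of_ne (hbj := hb),
      Matrix.single_apply, Ne.symm ha, Ne.symm hb]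

theorem exists_pair (p : ℕ) [Fact p.Prime] [CharP F p] (hm : 2 ≤ m) (hex : m = 2 → 3 ≤ Fintype.card F)
    {S : Mm} (h : S ∈ shSet T) (hne : S ≠ 0) :
    (∃ i j : Fin m, i ≠ j ∧ pr i j ∈ shSet T) ∨ ∃ i, dE i ∈ shSet T := by
  have hsym : ∀ a b, S a b = S b a := fun a b => by conv_lhs => rw [← h.1, transpose_apply]
  have third : ∀ a b : Fin m, 3 ≤ m → ∃ k, k ≠ a ∧ k ≠ b := fun a b h3 => by
    obtain ⟨k, hk⟩ := Finset.exists_mem_notMem_of_card_lt_card
      (show ({a, b} : Finset (Fin m)).card < (Finset.univ : Finset (Fin m)).card by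
        rw [Finset.card_univ, Fintype.card_fin]; exact lt_of_le_of_lt Finset.card_le_two h3)
    exact ⟨k, by simpa using hk.2⟩
  have hD : ∀ (i j : Fin m), i ≠ j → ∀ r, r ≠ i → ∀ b,
      ((1 : F) • (single i j 1 * S + S * single j i 1) + ((1 : F) * 1 * S j j) • dE i : Mm) r b =
        if b = i then S r j else 0 := by
    intro i j _ r hr b
    simp only [one_smul, Matrix.add_apply, Matrix.smul_apply, smul_eq_mul, dE,
      Matrix.single_mul_apply_of_ne (h := hr), Matrix.single_apply, Ne.symm hr, false_and, if_false,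
      mul_zero, add_zero, zero_add]
    by_cases hb : b = i
    · subst hb; simp
    · simp [hb, Matrix.mul_single_apply_of_ne (hbj := hb)]
  by_cases hdiag : ∃ j, S j j ≠ 0
  · obtain ⟨j, hj⟩ := hdiag
    by_cases h3 : 3 ≤ m
    · obtain ⟨i, hi, -⟩ := third j j h3
      obtain ⟨k, hki, hkj⟩ := third i j h3
      have hp := pair_of_row hTU hfus hkj (diff_mem hTU hfus hi 1 h) (hD i j hi j (Ne.symm hi)) hi
      refine Or.inl ⟨k, i, hki, ?_⟩
      have := smul_mem hTU hfus p (S j j)⁻¹ hp
      rwa [smul_smul, inv_mul_cancel₀ hj, one_smul] at this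
    · have hm2 : m = 2 := by omega
      obtain ⟨i, hi⟩ : ∃ i : Fin m, i ≠ j := by
        by_cases h0 : j = ⟨0, by omega⟩
        · exact ⟨⟨1, by omega⟩, by simp [h0, Fin.ext_iff]⟩
        · exact ⟨⟨0, by omega⟩, Ne.symm h0⟩
      obtain ⟨c, hc0, hc1⟩ : ∃ c : F, c ≠ 0 ∧ c ≠ 1 := by
        classical
        obtain ⟨c, -, hc⟩ := Finset.exists_mem_notMem_of_card_lt_card
          (show ({0, 1} : Finset F).card < (Finset.univ : Finset F).card by
            rw [Finset.card_univ]; exact lt_of_le_of_lt Finset.card_le_two (hex hm2))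
        exact ⟨c, by simpa using hc⟩
      have h1 := sub_mem (diff_mem hTU hfus hi c h)
        (smul_mem hTU hfus p c (diff_mem hTU hfus hi 1 h))
      have hcc : c * c - c ≠ 0 := by
        rw [show c * c - c = c * (c - 1) by ring]
        exact mul_ne_zero hc0 (sub_ne_zero.mpr hc1)
      refine Or.inr ⟨i, ?_⟩
      have h2 := smul_mem hTU hfus p ((c * c - c) * S j j)⁻¹ h1
      convert h2 using 1
      rw [show (c • (single i j 1 * S + S * single j i 1) + (c * c * S j j) • dE i -
          c • ((1 : F) • (single i j 1 * S + S * single j i 1) + ((1 : F) * 1 * S j j) • dE i) : Mm) =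
          ((c * c - c) * S j j) • dE i by module, smul_smul, inv_mul_cancel₀ (mul_ne_zero hcc hj), one_smul]
  · push Not at hdiag
    obtain ⟨j, l, hjl⟩ : ∃ j l, S j l ≠ 0 := by
      by_contra hcon
      push Not at hcon
      exact hne (Matrix.ext hcon)
    have hne' : j ≠ l := fun e => hjl (e ▸ hdiag j)
    by_cases h3 : 3 ≤ m
    · obtain ⟨i, hij, hil⟩ := third j l h3
      have hp := pair_of_row hTU hfus (Ne.symm (Ne.symm hne') : j ≠ l) (diff_mem hTU hfus hij 1 h)
        (hD i j hij l (Ne.symm hil)) hil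
      refine Or.inl ⟨j, i, Ne.symm hij, ?_⟩
      have := smul_mem hTU hfus p (S l j)⁻¹ hp
      rwa [smul_smul, inv_mul_cancel₀ (by rw [hsym]; exact hjl), one_smul] at this
    · refine Or.inl ⟨j, l, hne', ?_⟩
      have : S = S j l • pr j l := by
        ext a b
        have ha : a = j ∨ a = l := by
          have := a.2; have := j.2; have := l.2; have := Fin.val_ne_of_ne hne'
          simp only [Fin.ext_iff]; omega
        have hb : b = j ∨ b = l := by
          have := b.2; have := j.2; have := l.2; have := Fin.val_ne_of_ne hne'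
          simp only [Fin.ext_iff]; omega
        rcases ha with rfl | rfl <;> rcases hb with rfl | rfl <;>
          simp [pr, Matrix.single_apply, hdiag, hne', Ne.symm hne', hsym]
      have h4 := smul_mem hTU hfus p (S j l)⁻¹ h
      rw [this] at h4
      simpa [smul_smul, Matrix.smul_apply, pr, hne', hne'.symm, hjl] using h4

theorem levS_transvection_mem_of_pair {i j : Fin m} (hij : i < j) {a : F}
    (h : a • pr i j ∈ shSet T) : levS (SpecialLinearGroup.transvection hij.ne (-a)) ∈ T := by
  obtain ⟨hS, hT⟩ := h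
  let w : Sp := psi j weylSL
  have key : w * sh (a • pr i j) hS = levS (SpecialLinearGroup.transvection hij.ne (-a)) * w := by
    have hji : j ≠ i := hij.ne'
    refine ext_blocks ?_ ?_ ?_ ?_ <;>
      simp only [bA_mul, bB_mul, bC_mul, bD_mul, bA_levS, bB_levS, bD_levS_transvection, w, bA_psi, bB_psi,
        bC_psi, bD_psi, sh, bA_ofBlocks, bB_ofBlocks, bC_ofBlocks, bD_ofBlocks,
        show bC (levS (SpecialLinearGroup.transvection hij.ne (-a))) = 0 from bC_lev _,
        SpecialLinearGroup.transvection_coe, weylSL_00, weylSL_01, weylSL_10, weylSL_11] <;>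
      simp [dE, pr, add_mul, mul_add, smul_add, hij.ne, hji, smul_single, ← single_neg, neg_mul, mul_neg] <;>
      abel
  have h2 : w * sh (a • pr i j) hS * w⁻¹ = levS (SpecialLinearGroup.transvection hij.ne (-a)) := by
    rw [key, mul_inv_cancel_right]
  rw [← h2]
  refine hfus _ hT w ?_
  rw [h2]
  exact levS_mem_spUni (transvection_mem_uni hij _)

theorem dE_mem_of_pair (p : ℕ) [Fact p.Prime] [CharP F p] {i j : Fin m} (hij : i ≠ j) (h : pr i j ∈ shSet T) :
    ∃ k, dE k ∈ shSet T := by
  wlog hlt : i < j generalizing i j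
  · refine this hij.symm (by rwa [pr, add_comm, ← pr]) (lt_of_le_of_ne (not_lt.mp hlt) hij.symm)
  refine ⟨i, ?_⟩
  have hy : levS (SpecialLinearGroup.transvection hij (1 : F)) ∈ T := by
    have h1 := levS_transvection_mem_of_pair hTU hfus hlt (a := -1) (smul_mem hTU hfus p (-1) h)
    simpa using h1
  set y : Sp := levS (SpecialLinearGroup.transvection hij (1 : F))
  set u : Sp := sh (dE j) (dE_transpose j)
  have huy : u * y⁻¹ * u⁻¹ ∈ T :=
    hfus _ (inv_mem hy) u (mul_mem (mul_mem (sh_mem_spUni _) (hTU (inv_mem hy))) (inv_mem (sh_mem_spUni _)))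
  have hc := T.mul_mem hy huy
  rw [← mul_assoc, ← mul_assoc] at hc
  have h2 : single i j (1 : F) * dE j + dE j * single j i (1 : F) + dE i ∈ shSet T := by
    have e := lev_conj_sh (SpecialLinearGroup.toGL (SpecialLinearGroup.transvection hij (1 : F))) (dE_transpose j)
    change y * u * y⁻¹ = _ at e
    rw [e, sh_inv, sh_mul] at hc
    have h3 : _ ∈ shSet T := ⟨_, hc⟩
    convert h3 using 1
    simp only [Matrix.SpecialLinearGroup.coe_GL_coe_matrix, SpecialLinearGroup.transvection_coe]
    simp [dE, transpose_single, add_mul, mul_add]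
    abel
  have h3 : (pr i j : Mm) = single i j (1 : F) * dE j + dE j * single j i (1 : F) := by
    simp [dE, pr]
  rw [← h3] at h2
  simpa using sub_mem h2 h

theorem dE_all (p : ℕ) [Fact p.Prime] [CharP F p] {i : Fin m} (h : dE i ∈ shSet T) (k : Fin m) :
    dE k ∈ shSet T := by
  by_cases hki : k = i
  · exact hki ▸ h
  have h1 := congr_mem hTU hfus (SpecialLinearGroup.toGL (SpecialLinearGroup.transvection hki (1 : F))) h
  have h2 := congr_mem hTU hfus
    (SpecialLinearGroup.toGL (SpecialLinearGroup.transvection (Ne.symm hki) (-1 : F))) h1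
  convert h2 using 1
  simp only [Matrix.SpecialLinearGroup.coe_GL_coe_matrix, SpecialLinearGroup.transvection_coe]
  simp [dE, transpose_single, add_mul, mul_add, ← single_neg, hki, Ne.symm hki]

theorem pr_all (p : ℕ) [Fact p.Prime] [CharP F p] (hd : ∀ k, dE k ∈ shSet T) {i j : Fin m} (hij : i ≠ j) :
    pr i j ∈ shSet T := by
  have h1 := congr_mem hTU hfus (SpecialLinearGroup.toGL (SpecialLinearGroup.transvection hij (1 : F))) (hd j)
  have h2 := sub_mem (sub_mem h1 (hd j)) (hd i)
  convert h2 using 1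
  simp only [Matrix.SpecialLinearGroup.coe_GL_coe_matrix, SpecialLinearGroup.transvection_coe]
  simp [dE, pr, transpose_single, add_mul, mul_add]
  abel

theorem spUni_le_of_dE (p : ℕ) [Fact p.Prime] [CharP F p] (hd : ∀ k, dE k ∈ shSet T) : spUni ≤ T := by
  have hpr : ∀ i j, i ≠ j → pr i j ∈ shSet T := fun i j h => pr_all hTU hfus p hd h
  have hlev : ∀ g ∈ (uni : Subgroup (Matrix.SpecialLinearGroup (Fin m) F)), levS g ∈ T := by
    intro g hg
    have : (uni : Subgroup (Matrix.SpecialLinearGroup (Fin m) F)) ≤ T.comap levS := by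
      refine uni_le_of_transvection_mem fun i j hij c => ?_
      have := levS_transvection_mem_of_pair hTU hfus hij (a := -c) (smul_mem hTU hfus p (-c) (hpr i j hij.ne))
      rw [Subgroup.mem_comap]
      simpa using this
    exact this hg
  have hsh : ∀ S : Mm, Sᵀ = S → S ∈ shSet T := by
    intro S hS
    have hsum : ∀ f : Fin m → Fin m → F, (∑ i, ∑ j, single i j (f i j) : Mm) = Matrix.of f := fun f =>
      (matrix_eq_sum_single (Matrix.of f)).symm
    have e : S = ∑ i, S i i • dE i + ∑ i, ∑ j, (if i < j then S i j else 0) • pr i j := by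
      have e1 : (∑ i, S i i • dE i : Mm) = diagonal fun i => S i i := by
        ext a b
        by_cases hab : a = b
        · subst hab
          simp [Matrix.sum_apply, dE, Matrix.single_apply]
        · rw [diagonal_apply_ne _ hab, Matrix.sum_apply]
          refine Finset.sum_eq_zero fun c _ => ?_
          simp [dE, Matrix.single_apply]
          rintro rfl h'
          exact absurd h' hab
      have e2 : (∑ i, ∑ j, (if i < j then S i j else 0) • pr i j : Mm) =
          Matrix.of (fun i j => if i < j then S i j else 0) + Matrix.of (fun i j => if j < i then S j i else 0) := by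
        simp only [pr, smul_add, smul_single, smul_eq_mul, mul_one, Finset.sum_add_distrib]
        rw [hsum, Finset.sum_comm, hsum (fun i j => if j < i then S j i else 0)]
      rw [e1, e2]
      ext a b
      have hsym : S b a = S a b := by conv_lhs => rw [← hS, transpose_apply]
      rcases lt_trichotomy a b with hab | hab | hab
      · simp [hab, hab.ne, hab.not_gt]
      · subst hab; simp
      · simp [hab, hab.ne', hab.not_gt, hsym]
    rw [e]
    refine add_mem (sum_mem fun i _ => smul_mem hTU hfus p _ (hd i)) (sum_mem fun i _ => sum_mem fun j _ => ?_)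
    split_ifs with h
    · exact smul_mem hTU hfus p _ (hpr i j h.ne)
    · rw [zero_smul]; exact zero_mem _
  intro X hX
  set g := toSL hX
  have hs : (levS g)⁻¹ * X ∈ siegel := by
    refine ⟨mul_mem (inv_mem (levS_mem_spUni (toSL_mem hX))) hX, ?_⟩
    rw [bA_mul_bor hX.1]
    calc bA (levS g)⁻¹ * bA X = bA (levS g)⁻¹ * bA (levS g) := by rw [bA_levS]; rfl
      _ = 1 := bA_inv_mul (levS_mem_spUni (toSL_mem hX)).1
  obtain ⟨S, hS, he⟩ := exists_sh_of_mem_siegel hs
  obtain ⟨_, hST⟩ := hsh S hS
  rw [← mul_inv_cancel_left (levS g) X, he]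
  exact T.mul_mem (hlev g (toSL_mem hX)) hST

end Closed

theorem scal_pow_eq_one (p : ℕ) [Fact p.Prime] [CharP F p] [Fact (2 ≤ m)] {z : Sp}
    (hz : z ∈ Subgroup.center Sp) (k : ℕ) (h : z ^ p ^ k = 1) : z = 1 := by
  have hm := (Fact.out : 2 ≤ m)
  obtain ⟨a, ha, rfl⟩ := center_eq hz
  have hb : scal a ha ∈ (bor : Subgroup Sp) :=
    ⟨by simp [scal], fun i j hij => by simp [scal, one_apply_ne hij.ne']⟩
  have h1 := bor_diag_pow hb (p ^ k) ⟨0, by omega⟩
  rw [h, bA_one, one_apply_eq] at h1
  have h2 : a = 1 := by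
    have h3 : a ^ p ^ k = 1 := by simpa [scal] using h1.symm
    exact eq_of_pow_eq p (k := k) (by rw [h3, one_pow])
  subst h2
  exact ext_blocks (by simp [scal]) (by simp [scal]) (by simp [scal]) (by simp [scal])

/-- The last index. -/
def lastIdx (m : ℕ) (hm : 2 ≤ m) : Fin m := ⟨m - 1, by omega⟩

theorem le_lastIdx {m : ℕ} (hm : 2 ≤ m) (i : Fin m) : i ≤ lastIdx m hm := by
  rw [Fin.le_def]; simp [lastIdx]; omega

/-- The two radicals. -/
def rads (hm : 2 ≤ m) : Bool → Subgroup Sp
  | true => siegel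
  | false => longRad (lastIdx m hm) (le_lastIdx hm)

theorem setup (p : ℕ) [Fact p.Prime] [CharP F p] (hm : 2 ≤ m) (hex : m = 2 → 3 ≤ Fintype.card F) :
    CoverSimple.Setup p (spUni : Subgroup Sp) (Subgroup.center Sp) (rads hm) := by
  have := Fact.mk hm
  have hbor : ∀ x : Sp, x ∈ Subgroup.normalizer ((spUni : Subgroup Sp) : Set Sp) → x ∈ bor :=
    fun x => mem_bor_of_normalizer (by omega)
  refine ⟨le_rfl, fun z hz k h => scal_pow_eq_one p hz k h, spUni_isPGroup p, ?_, ?_, ?_, ?_, ?_, ?_, ?_⟩
  · intro h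
    have h1 : sh (dE ⟨0, by omega⟩) (dE_transpose _) ∈ (spUni : Subgroup Sp) := sh_mem_spUni _
    rw [h, Subgroup.mem_bot] at h1
    have h2 := congrArg (fun X : Sp => bB X ⟨0, by omega⟩ ⟨0, by omega⟩) h1
    simp [sh, dE] at h2
  · intro x hx k hk
    have hb := hbor x hx
    obtain ⟨a, ha, hz⟩ := center_eq hk
    have hdiag : ∀ i, bA x i i ^ p ^ k = a := fun i => by
      rw [← bor_diag_pow hb, hz]; simp [scal]
    set d := bA x ⟨0, by omega⟩ ⟨0, by omega⟩
    have hd : ∀ i, bA x i i = d := fun i => eq_of_pow_eq p (k := k) ((hdiag i).trans (hdiag _).symm)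
    have hdd : d * d = 1 := eq_of_pow_eq p (k := k) (by rw [mul_pow, hdiag, ha, one_pow])
    have hu : scal d hdd * x ∈ spUni := by
      refine ⟨⟨?_, fun i j hij => ?_⟩, fun i => ?_⟩
      · simp [scal, hb.1]
      · simp [scal, hb.1, hb.2 i j hij]
      · simp [scal, hb.1, hd i, hdd]
    have e : x = scal d hdd * (scal d hdd * x) := by rw [← mul_assoc, scal_mul_scal, one_mul]
    rw [e]
    exact Subgroup.mul_mem_sup (scal_central d hdd) hu
  · intro T hTU hne hfus
    obtain ⟨S, hS, hS0⟩ : ∃ S, S ∈ shSet T ∧ S ≠ 0 := by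
      have : (T.subgroupOf spUni).Normal :=
        ⟨fun t ht g => hfus _ ht g (mul_mem (mul_mem g.2 t.2) (inv_mem g.2))⟩
      have hne' : T.subgroupOf spUni ≠ ⊥ := by
        rw [Ne, Subgroup.subgroupOf_eq_bot, disjoint_iff, inf_of_le_left hTU]
        exact hne
      obtain ⟨⟨z, hzT, hzC⟩, hz1⟩ := Subgroup.ne_bot_iff_exists_ne_one.mp
        (PGroup.inf_center_ne_bot (spUni_isPGroup (m := m) (F := F) p) _ hne')
      have hcen : (z : Sp) ∈ Subgroup.centralizer ((siegel : Subgroup Sp) : Set Sp) := by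
        refine Subgroup.mem_centralizer_iff.mpr fun r hr => ?_
        exact congrArg Subtype.val (Subgroup.mem_center_iff.mp hzC ⟨r, hr.1⟩)
      obtain ⟨a, ha, hs⟩ := centralizer_siegel hcen
      have ha1 : a = 1 := by
        have h1 := hs.1.2 ⟨0, by omega⟩
        simpa [scal, z.2.1.1, z.2.2] using h1
      subst ha1
      rw [show scal (1 : F) ha = (1 : Sp) from
        ext_blocks (by simp [scal]) (by simp [scal]) (by simp [scal]) (by simp [scal]), one_mul] at hs
      obtain ⟨S, hS, he⟩ := exists_sh_of_mem_siegel hs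
      refine ⟨S, ⟨hS, he ▸ hzT⟩, fun h0 => hz1 (Subtype.ext (Subtype.ext ?_))⟩
      show (z : Sp) = 1
      rw [he, sh_congr hS transpose_zero h0, sh_zero]
    have hdE : ∃ k, dE k ∈ shSet T := by
      rcases exists_pair hTU hfus p hm hex hS hS0 with ⟨i, j, hij, h⟩ | h
      · exact dE_mem_of_pair hTU hfus p hij h
      · exact h
    obtain ⟨k, hk⟩ := hdE
    exact spUni_le_of_dE hTU hfus p (dE_all hTU hfus p hk)
  · rintro (_ | _)
    · exact fun X hX => hX.1
    · exact fun X hX => hX.1
  · rintro (_ | _)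
    · exact spUni_le_normalizer_longRad (hl := le_lastIdx hm)
    · exact spUni_le_normalizer_siegel
  · rintro (_ | _) X hX
    · obtain ⟨a, ha, hr⟩ := centralizer_longRad (hl := le_lastIdx hm) hX
      rw [← one_mul X, ← scal_mul_scal a ha, mul_assoc]
      exact Subgroup.mul_mem_sup (scal_central a ha) hr
    · obtain ⟨a, ha, hr⟩ := centralizer_siegel hX
      rw [← one_mul X, ← scal_mul_scal a ha, mul_assoc]
      exact Subgroup.mul_mem_sup (scal_central a ha) hr
  · intro x hx
    refine Subgroup.mem_sup_left ?_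
    set Y := ⨆ i, pElts p (rads (F := F) hm i) ⊓ Subgroup.normalizer ((spUni : Subgroup Sp) : Set Sp)
    have hY : ∀ i y, y ∈ pElts p (rads hm i) → y ∈ bor → y ∈ Y := fun i y h1 h2 =>
      Subgroup.mem_iSup_of_mem i ⟨h1, bor_le_normalizer h2⟩
    have hgen : ∀ i (y : Sp), y ∈ Subgroup.normalizer ((rads hm i : Subgroup Sp) : Set Sp) →
        (∃ k : ℕ, y ^ p ^ k = 1) → y ∈ pElts p (rads hm i) := fun i y h1 ⟨k, hk⟩ => by
      obtain ⟨j, -, hj⟩ := (Nat.dvd_prime_pow Fact.out).mp (orderOf_dvd_of_pow_eq_one hk)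
      exact Subgroup.subset_closure ⟨h1, j, hj⟩
    have hU : ∀ i, ∀ u ∈ (spUni : Subgroup Sp), u ∈ pElts p (rads hm i) := fun i u hu => by
      obtain ⟨k, hk⟩ := spUni_isPGroup (m := m) (F := F) p ⟨u, hu⟩
      refine hgen i u ?_ ⟨k, congrArg Subtype.val hk⟩
      cases i
      · exact spUni_le_normalizer_longRad (hl := le_lastIdx hm) hu
      · exact spUni_le_normalizer_siegel hu
    have hSL : ∀ g : Matrix.SpecialLinearGroup (Fin m) F, levS g ∈ pElts p (rads hm true) := by
      intro g
      have : (pElts p (rads (F := F) hm true)).comap levS = ⊤ := by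
        refine Cfsg.Agent.GL.SL_eq_top_of_transvection_mem fun i j hij c => hgen _ _ ?_ ⟨1, ?_⟩
        · exact lev_mem_normalizer_siegel _
        · rw [pow_one, ← map_pow, transvection_pow_char p hij c, map_one]
      exact (this ▸ Subgroup.mem_top g : g ∈ Subgroup.comap levS _)
    have hb := hbor x hx
    set l := lastIdx m hm
    set δ := ∏ i, bA x i i with hδ
    have hδ0 : δ ≠ 0 := Finset.prod_ne_zero_iff.mpr fun i _ => bA_diag_ne_zero hb i
    let hl2 : Matrix.SpecialLinearGroup (Fin 2) F := SpecialLinearGroup.diag2n zero_ne_one δ hδ0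
    set h : Sp := psi l hl2
    have hhbor : h ∈ bor := by
      refine ⟨?_, fun i j hij => ?_⟩
      · simp [h, hl2, SpecialLinearGroup.diag2n_coe]
      · simp [h, dE, Matrix.single_apply, one_apply_ne hij.ne']
        rintro rfl h'
        exact absurd h' hij.ne'
    have hhY : h ∈ Y := by
      refine hY false h ?_ hhbor
      refine psi_mem_closure_low l _ (fun c => hU false _ (sh_mem_spUni _)) (fun c => hgen _ _ ?_ ⟨1, ?_⟩) _
      · exact low_mem_normalizer_longRad (hl := le_lastIdx hm) c
      · rw [pow_one, low, ← map_pow, transvection_pow_char p _ c, map_one]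
    have hb' : h⁻¹ * x ∈ (bor : Subgroup Sp) := mul_mem (inv_mem hhbor) hb
    set d : Fin m → F := fun i => bA (h⁻¹ * x) i i
    have hd1 : ∏ i, d i = 1 := by
      have e : ∀ i, bA h i i * d i = bA x i i := fun i => by
        rw [← bor_diag_mul hhbor hb', mul_inv_cancel_left]
      have e2 : ∏ i, bA h i i = δ := by
        rw [Finset.prod_eq_single l]
        · simp [h, hl2, dE, SpecialLinearGroup.diag2n_coe]
        · intro i _ hi; simp [h, dE, Matrix.single_apply, Ne.symm hi]
        · simp
      have e3 := (Finset.prod_congr rfl fun i _ => e i : ∏ i, bA h i i * d i = δ)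
      rw [Finset.prod_mul_distrib, e2] at e3
      exact mul_left_cancel₀ hδ0 (e3.trans (mul_one δ).symm)
    have hgY : levS (diagSL d hd1) ∈ Y := by
      refine hY true _ (hSL _) (lev_mem_bor fun i j hij => ?_)
      show (diagSL d hd1 : Mm) i j = 0
      simp [diagSL, hij.ne']
    have hu : (levS (diagSL d hd1))⁻¹ * (h⁻¹ * x) ∈ spUni := by
      have hg : levS (diagSL d hd1) ∈ (bor : Subgroup Sp) := lev_mem_bor fun i j hij => by
        show (diagSL d hd1 : Mm) i j = 0
        simp [diagSL, hij.ne']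
      refine ⟨mul_mem (inv_mem hg) hb', fun i => ?_⟩
      rw [bor_diag_mul (inv_mem hg) hb']
      have hgd : bA (levS (diagSL d hd1) : Sp) i i = d i := by
        rw [bA_levS]; exact diagonal_apply_eq d i
      show _ * d i = 1
      rw [← hgd, bA_diag_inv hg]
    have e : x = h * (levS (diagSL d hd1) * ((levS (diagSL d hd1))⁻¹ * (h⁻¹ * x))) := by group
    rw [e]
    exact mul_mem hhY (mul_mem hgY (hY true _ (hU true _ hu) hu.1))

end Cfsg.Agent.Fusion.SympBlocks
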