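import Cfsg.Agent.Lib.Fusion.NormalCriteria
import Cfsg.Agent.Lib.Fusion.StrongInduction
import Cfsg.Agent.Lib.Fusion.KNormalizer
import Cfsg.Agent.Lib.PGroup.Thompson
import Cfsg.Agent.Lib.PGroup.QuadraticReplacement
import Cfsg.Agent.Lib.SylowCount.Basic

/-!
`F` is generated by `C_F(℧₁(Z(S)))` and `N_F(J(S))`.
-/

set_option autoImplicit false

namespace Cfsg.Agent.Fusion.ThompsonFactor

open Cfsg Cfsg.FusionSystem

variable {Ω : Type*} [Group Ω]

theorem centre_mem_of_surj {Q : Subgroup Ω} {f : Q →* Ω} (hf : f.range = Q) {x : Ω}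
    (hx : x ∈ Q ⊓ Subgroup.centralizer (Q : Set Ω)) :
    f ⟨x, hx.1⟩ ∈ Q ⊓ Subgroup.centralizer (Q : Set Ω) := by
  refine ⟨hf.le ⟨_, rfl⟩, Subgroup.mem_centralizer_iff.2 fun y hy => ?_⟩
  obtain ⟨w, rfl⟩ := hf.ge hy
  rw [← map_mul, ← map_mul]
  exact congrArg f (Subtype.ext (Subgroup.mem_centralizer_iff.1 hx.2 w w.2))

/-- The powers of the centre are invariant. -/
theorem powerClosure_centre_mem {p : ℕ} {Q : Subgroup Ω} {f : Q →* Ω} (hf : f.range = Q) {x : Ω}
    (hx : x ∈ powerClosure p 1 (Q ⊓ Subgroup.centralizer (Q : Set Ω))) (hxQ : x ∈ Q) :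
    f ⟨x, hxQ⟩ ∈ powerClosure p 1 (Q ⊓ Subgroup.centralizer (Q : Set Ω)) := by
  set P := powerClosure p 1 (Q ⊓ Subgroup.centralizer (Q : Set Ω)) with hP
  have hle : P ≤ ((P.comap f).map Q.subtype) := by
    refine (Subgroup.closure_le _).2 ?_
    rintro _ ⟨w, hw, rfl⟩
    refine ⟨⟨w, hw.1⟩ ^ p ^ 1, ?_, rfl⟩
    show f (⟨w, hw.1⟩ ^ p ^ 1) ∈ P
    rw [map_pow]
    exact Subgroup.subset_closure ⟨_, centre_mem_of_surj hf hw, rfl⟩
  obtain ⟨u, hu, hux⟩ := hle hx
  exact (Subtype.ext hux : u = ⟨x, hxQ⟩) ▸ hu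

/-- The Thompson subgroup is invariant. -/
theorem thompsonA_mem {Q : Subgroup Ω} [Finite Q] {f : Q →* Ω} (hfi : Function.Injective f)
    (hf : f.range = Q) {x : Ω} (hx : x ∈ thompsonSubgroupAOf Q) (hxQ : x ∈ Q) :
    f ⟨x, hxQ⟩ ∈ thompsonSubgroupAOf Q := by
  have hle : thompsonSubgroupAOf Q ≤ ((thompsonSubgroupAOf Q).comap f).map Q.subtype := by
    conv_lhs => rw [PGroup.thompsonSubgroupAOf_eq]
    refine sSup_le fun A hA => ?_
    intro a ha
    refine ⟨⟨a, hA.1 ha⟩, ?_, rfl⟩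
    show f ⟨a, hA.1 ha⟩ ∈ thompsonSubgroupAOf Q
    refine PGroup.le_thompsonSubgroupAOf (A := (A.subgroupOf Q).map f) ⟨?_, ?_, fun B hB hBc => ?_⟩
      ⟨⟨a, hA.1 ha⟩, ha, rfl⟩
    · rintro _ ⟨w, -, rfl⟩
      exact hf.le ⟨w, rfl⟩
    · exact PGroup.isMulCommutative_map
        (PGroup.isMulCommutative_comap hA.2.1 Q.subtype_injective) f
    · rw [Subgroup.card_map_of_injective hfi,
        Nat.card_congr (Subgroup.subgroupOfEquivOfLe hA.1).toEquiv]
      exact hA.2.2 B hB hBc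
  obtain ⟨u, hu, hux⟩ := hle hx
  exact (Subtype.ext hux : u = ⟨x, hxQ⟩) ▸ hu

theorem conj_thompsonA_mem {Q : Subgroup Ω} [Finite Q] {g : Ω}
    (hg : g ∈ Subgroup.normalizer (Q : Set Ω)) {x : Ω} (hx : x ∈ thompsonSubgroupAOf Q) :
    g * x * g⁻¹ ∈ thompsonSubgroupAOf Q := by
  refine thompsonA_mem (f := conjHom Q g) (fun a b h => ?_) ?_ hx (PGroup.thompsonSubgroupAOf_le Q hx)
  · exact Subtype.ext (mul_left_cancel (mul_right_cancel h))
  · ext y
    constructor
    · rintro ⟨w, rfl⟩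
      exact (Subgroup.mem_normalizer_iff.1 hg w).1 w.2
    · intro hy
      exact ⟨⟨g⁻¹ * y * g, (Subgroup.mem_normalizer_iff.1 hg _).2 (by simpa [mul_assoc] using hy)⟩,
        by simp [conjHom_apply, mul_assoc]⟩

theorem normalizer_le_normalizer_thompsonA (Q : Subgroup Ω) [Finite Q] :
    Subgroup.normalizer (Q : Set Ω) ≤ Subgroup.normalizer (thompsonSubgroupAOf Q : Set Ω) := by
  intro g hg
  refine Subgroup.mem_normalizer_iff.2 fun y => ⟨conj_thompsonA_mem hg, fun hy => ?_⟩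
  simpa [mul_assoc] using conj_thompsonA_mem (Subgroup.inv_mem _ hg) hy

/-- `Q ≤ M` with every abelian subgroup of largest order of `M` inside `Q`: the Thompson
subgroups agree. -/
theorem thompsonA_eq {M Q : Subgroup Ω} (hQM : Q ≤ M) [Finite M]
    (h : ∀ A, PGroup.IsMaxAb M A → A ≤ Q) : thompsonSubgroupAOf M = thompsonSubgroupAOf Q := by
  obtain ⟨A0, hA0⟩ : ∃ A, PGroup.IsMaxAb M A := by
    obtain ⟨A, hA, hmax⟩ := (Set.toFinite {A : Subgroup M | IsMulCommutative A}).exists_maximalFor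
      (fun A : Subgroup M => Nat.card ↥A) _ ⟨⊥, show IsMulCommutative _ from inferInstance⟩
    refine ⟨_, (PGroup.isMaxAb_map_subtype_iff M A).2 ⟨hA, fun B hB => ?_⟩⟩
    rcases le_total (Nat.card ↥B) (Nat.card ↥A) with h | h
    · exact h
    · exact hmax hB h
  rw [PGroup.thompsonSubgroupAOf_eq, PGroup.thompsonSubgroupAOf_eq]
  refine le_antisymm (sSup_le fun A hA => le_sSup ?_) (sSup_le fun A hA => le_sSup ?_)
  · exact ⟨h A hA, hA.2.1, fun B hB hBc => hA.2.2 B (hB.trans hQM) hBc⟩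
  · refine ⟨hA.1.trans hQM, hA.2.1, fun B hB hBc => ?_⟩
    exact (hA0.2.2 B hB hBc).trans (hA.2.2 A0 (h A0 hA0) hA0.2.1)

theorem measure_lt {a a' q q' s : ℕ} (hq : q ≤ s) (hq' : q' ≤ s) (ha' : a' ≤ s)
    (h : a < a' ∨ (a ≤ a' ∧ q < q')) :
    (s - a') * (s + 1) + (s - q') < (s - a) * (s + 1) + (s - q) := by
  rcases h with h | ⟨h, hqq⟩
  · have h1 : (s - a' + 1) * (s + 1) ≤ (s - a) * (s + 1) := Nat.mul_le_mul_right _ (by omega)
    rw [add_mul, one_mul] at h1
    omega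
  · have h1 : (s - a') * (s + 1) ≤ (s - a) * (s + 1) := Nat.mul_le_mul_right _ (by omega)
    omega

variable {S : Subgroup Ω} [Finite S] {p : ℕ} [hp : Fact p.Prime] {F E : FusionSystem S}

/-- The maps with source of order at least `n` of the normalizer system of `Q` lie in `E`. -/
theorem normalizerHom_le (hS : IsPGroup p S) (hF : F.IsSaturated p) {n : ℕ}
    (hbig : ∀ P : Subgroup Ω, n < Nat.card P → ∀ ψ ∈ F.Hom P, ψ ∈ E.Hom P)
    (hW : ∀ (R : Subgroup Ω) (φ : R →* Ω), φ ∈ F.Hom R →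
      powerClosure p 1 (S ⊓ Subgroup.centralizer (S : Set Ω)) ≤ R →
      (∀ x : R, (x : Ω) ∈ powerClosure p 1 (S ⊓ Subgroup.centralizer (S : Set Ω)) → φ x = x) →
      φ ∈ E.Hom R)
    (hJ : ∀ (R : Subgroup Ω) (φ : R →* Ω), φ ∈ F.Hom R → thompsonSubgroupAOf S ≤ R →
      (∀ x : R, (x : Ω) ∈ thompsonSubgroupAOf S → φ x ∈ thompsonSubgroupAOf S) → φ ∈ E.Hom R) :
    ∀ (d : ℕ) (Q : Subgroup Ω), F.IsFullyNormalized Q → F.IsCentric (normalizerIn S Q) →
      n < Nat.card (normalizerIn S Q) →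
      (∀ z ∈ normalizerIn S Q, (∀ x ∈ normalizerIn S Q, x * z = z * x) → z ∈ Q) →
      (Nat.card S - Nat.card (normalizerIn S Q)) * (Nat.card S + 1) +
        (Nat.card S - Nat.card Q) < d →
      ∀ (P : Subgroup Ω) (φ : P →* Ω), φ ∈ F.normalizerHom Q P → n ≤ Nat.card P →
        φ ∈ E.Hom P := by
  intro d
  induction d with
  | zero => intro Q _ _ _ _ h; omega
  | succ d ih =>
  intro Q hQfn hMc hMn hZQ hd P φ hφ hP
  have hQS : Q ≤ S := hQfn.1
  set F' := normalizerSystem F Q hQS with hF'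
  have hF's : F'.IsSaturated p :=
    normalizerSystem_saturated hS hF hQfn (normalizerSystem_spec F Q hQS)
  have hMS : normalizerIn S Q ≤ S := normalizerIn_le S Q
  have := finite_of_le (Ω := Ω) hMS
  have := finite_of_le (Ω := Ω) hQS
  have hMp : IsPGroup p (normalizerIn S Q) := hS.to_le hMS
  have hQn : F'.IsNormal Q := by
    refine ⟨le_normalizerIn hQS, fun P' φ' hφ' => ?_⟩
    obtain ⟨hφF, hP'M, hval, ψ, hψ, hψe, hψm⟩ := hφ'
    have hsup : P' ⊔ Q ≤ normalizerIn S Q := sup_le hP'M (le_normalizerIn hQS)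
    have hrv : ∀ x, ψ x ∈ normalizerIn S Q := fun x => by
      refine (range_sup_eq hψe hψm).trans_le (sup_le ?_ (le_normalizerIn hQS)) ⟨x, rfl⟩
      rintro _ ⟨y, rfl⟩
      exact hval y
    refine ⟨ψ, ⟨hψ, hsup, hrv, ?_⟩, hψe, hψm⟩
    have hle : (P' ⊔ Q) ⊔ Q ≤ P' ⊔ Q := sup_le le_rfl le_sup_right
    refine ⟨_, restrict_mem hψ hle, fun x => rfl, ?_⟩
    refine (map_subgroupOf_eq_iff (restrict_mem hψ hle) le_sup_right).2 fun x hx => ?_
    exact hψm.le ⟨⟨x, hle (Subgroup.mem_sup_right hx)⟩, hx, rfl⟩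
  refine alperin_strong_induction (F := F') (C := fun P φ => n ≤ Nat.card P → φ ∈ E.Hom P)
    hMp hF's ?_ ?_ ?_ ?_ (φ := φ) hφ hP
  · exact fun P g hP hg _ => E.conj_mem (hP.trans hMS) (hMS hg)
  · intro P Q' φ ψ hφ hψ hCφ hCψ h hn'
    refine E.comp_mem (hCφ hn') (hCψ ?_) h
    refine hn'.trans ?_
    rw [← card_range hφ.1]
    exact card_le_of_le (dom_le hψ.1) (by rintro _ ⟨x, rfl⟩; exact h x)
  · intro P φ ψ hφ hCφ hψ hi hn'
    exact inv_mem' (hCφ (card_range hφ.1 ▸ hn')) rfl fun x _ => hi x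
  intro R hRn hRc hRr hIH α hα hnR
  rcases hnR.eq_or_lt with heq | hlt
  swap
  · exact hbig R hlt _ ((mem_autGroup_iff hRn.1).1 hα).1
  have hRM : R ≤ normalizerIn S Q := hRn.1
  have hRS : R ≤ S := hRM.trans hMS
  have := finite_of_le (Ω := Ω) hRS
  have := finite_mulAut (Ω := Ω) hRS
  have hQR : Q ≤ R := le_of_isNormal hMp hQn hRc hRr
  -- each automorphism of `R` in `F'` restricts to `Q`
  have hresQ : ∀ a ∈ F'.autGroup R, ∃ f ∈ F.Hom Q, f.range = Q ∧
      ∀ (x : Q), f x = ((a ⟨x, hQR x.2⟩ : R) : Ω) := by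
    intro a ha
    have hmem := restrict_mem ((mem_autGroup_iff hRM).1 ha).1 hQR
    refine ⟨_, hmem, range_eq_of_le hmem hQS (fun x => ?_) le_rfl, fun x => rfl⟩
    exact apply_mem_of_stronglyClosed (stronglyClosed_of_isNormal hQn) hRM ha (x := ⟨x, hQR x.2⟩) x.2
  set V := powerClosure p 1 (Q ⊓ Subgroup.centralizer (Q : Set Ω)) with hVdef
  have hVQ : V ≤ Q := (Subgroup.closure_le _).2 (by
    rintro _ ⟨w, hw, rfl⟩; exact Q.pow_mem hw.1 _)
  have hVinv : ∀ a ∈ F'.autGroup R, ∀ x : R, (x : Ω) ∈ V → ((a x : R) : Ω) ∈ V := by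
    intro a ha x hx
    obtain ⟨f, -, hr, hv⟩ := hresQ a ha
    exact hv ⟨x, hVQ hx⟩ ▸ powerClosure_centre_mem hr hx (hVQ hx)
  have hWV : powerClosure p 1 (S ⊓ Subgroup.centralizer (S : Set Ω)) ≤ V := by
    refine (Subgroup.closure_le _).2 ?_
    rintro _ ⟨w, hw, rfl⟩
    have hwM : w ∈ normalizerIn S Q := ⟨hw.1, Subgroup.centralizer_le_normalizer _
      (Subgroup.centralizer_le hQS hw.2)⟩
    have hwQ := hZQ w hwM fun x hx => Subgroup.mem_centralizer_iff.1 hw.2 x (hMS hx)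
    exact Subgroup.subset_closure ⟨w, ⟨hwQ, Subgroup.centralizer_le hQS hw.2⟩, rfl⟩
  set T0 := normalizerIn S Q ⊓ Subgroup.centralizer (V : Set Ω) with hT0
  have hQT0 : Q ≤ T0 := by
    refine le_inf (le_normalizerIn hQS) fun q hq => ?_
    rw [hVdef, powerClosure, Subgroup.centralizer_closure]
    rintro _ ⟨w, hw, rfl⟩
    exact ((show Commute q w from Subgroup.mem_centralizer_iff.1 hw.2 q hq).pow_right _).eq.symm
  have hVn : ∀ g ∈ normalizerIn S Q, ∀ x ∈ V, g * x * g⁻¹ ∈ V := by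
    intro g hg x hx
    refine powerClosure_centre_mem (f := conjHom Q g) ?_ hx (hVQ hx)
    refine range_eq_of_le (F.conj_mem hQS hg.1) hQS (fun w => ?_) le_rfl
    exact (Subgroup.mem_normalizer_iff.1 hg.2 w).1 w.2
  have hT0n : ∀ g ∈ normalizerIn S Q, g ∈ Subgroup.normalizer (T0 : Set Ω) := by
    have h1 : ∀ g ∈ normalizerIn S Q, ∀ t ∈ T0, g * t * g⁻¹ ∈ T0 := by
      intro g hg t ht
      refine ⟨Subgroup.mul_mem _ (Subgroup.mul_mem _ hg ht.1) (Subgroup.inv_mem _ hg),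
        Subgroup.mem_centralizer_iff.2 fun v hv => ?_⟩
      have h2 := Subgroup.mem_centralizer_iff.1 ht.2 _ (hVn g⁻¹ (Subgroup.inv_mem _ hg) v hv)
      calc v * (g * t * g⁻¹) = g * (g⁻¹ * v * g⁻¹⁻¹ * t) * g⁻¹ := by group
        _ = g * t * g⁻¹ * v := by rw [h2]; group
    intro g hg
    refine Subgroup.mem_normalizer_iff.2 fun y => ⟨h1 g hg y, fun hy => ?_⟩
    simpa [mul_assoc] using h1 g⁻¹ (Subgroup.inv_mem _ hg) _ hy
  by_cases hT0R : T0 ≤ R
  swap
  · -- Frattini argument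
    let A := F'.autGroup R
    have hVR : V ≤ R := hVQ.trans hQR
    let K : Subgroup A :=
      { carrier := {a | ∀ x : R, (x : Ω) ∈ V → (a : MulAut R) x = x}
        one_mem' := fun x _ => rfl
        mul_mem' := fun {a b} ha hb x hx => by
          show (a : MulAut R) ((b : MulAut R) x) = x
          rw [hb x hx, ha x hx]
        inv_mem' := fun {a} ha x hx => by
          show (a : MulAut R)⁻¹ x = x
          conv_lhs => rw [← ha x hx]
          exact MulAut.inv_apply_self R (a : MulAut R) x }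
    have hKn : K.Normal := ⟨fun k hk a x hx => by
      show (a : MulAut R) ((k : MulAut R) ((a : MulAut R)⁻¹ x)) = x
      rw [hk _ (hVinv _ (Subgroup.inv_mem _ a.2) x hx), MulAut.apply_inv_self]⟩
    obtain ⟨-, T, hT⟩ := isFullyAutomized_of_fullyNormalized hMp hF's hRn
    obtain ⟨TK, hTK⟩ := SylowCount.exists_sylow_inf T K
    have hTKmap : (TK : Subgroup K).map K.subtype = (T : Subgroup A) ⊓ K := by
      rw [hTK, Subgroup.subgroupOf_map_subtype]
    -- an element of `T0` normalizing `R`, outside `R`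
    obtain ⟨g, hgT0, hgN, hgR⟩ : ∃ g ∈ T0, g ∈ Subgroup.normalizer (R : Set Ω) ∧ g ∉ R := by
      have hsup : R ⊔ T0 ≤ normalizerIn S Q := sup_le hRM inf_le_left
      have hlt : R < R ⊔ T0 := lt_of_le_of_ne le_sup_left fun he => hT0R (le_sup_right.trans he.ge)
      have := finite_of_le (Ω := Ω) (hsup.trans hMS)
      obtain ⟨g, ⟨hgm, hgN⟩, hgR⟩ :=
        SetLike.exists_of_lt (lt_normalizerIn (hMp.to_le hsup) hlt)
      have hgm' : g ∈ ((R ⊔ T0 : Subgroup Ω) : Set Ω) := hgm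
      rw [Subgroup.coe_mul_of_left_le_normalizer_right R T0 (fun r hr => hT0n r (hRM hr))] at hgm'
      obtain ⟨r, hr, t, ht, rfl⟩ := hgm'
      refine ⟨t, ht, ?_, fun htR => hgR (R.mul_mem hr htR)⟩
      have h1 := Subgroup.mul_mem _ (Subgroup.inv_mem _ (Subgroup.le_normalizer hr)) hgN
      simpa using h1
    let cg : A := ⟨conjAut hgN,
      autInducedBy_le_autGroup F' hRM (conjAut_mem_autInducedBy hgT0.1 hgN)⟩
    have hcg : cg ∈ (T : Subgroup A) ⊓ K := by
      refine ⟨?_, fun x hx => Subtype.ext ?_⟩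
      · rw [hT]; exact Subgroup.mem_subgroupOf.2 (conjAut_mem_autInducedBy hgT0.1 hgN)
      · show g * (x : Ω) * g⁻¹ = x
        rw [← Subgroup.mem_centralizer_iff.1 hgT0.2 x hx, mul_inv_cancel_right]
    have htop := Sylow.normalizer_sup_eq_top TK
    rw [hTKmap, sup_comm] at htop
    have hαmem : (⟨α, hα⟩ : A) ∈
        ((K ⊔ Subgroup.normalizer (((T : Subgroup A) ⊓ K : Subgroup A) : Set A) : Subgroup A) : Set A) := by
      rw [htop]; trivial
    rw [Subgroup.normal_mul] at hαmem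
    obtain ⟨k, hk, m, hm, hkm⟩ := hαmem
    -- `k` fixes `W`
    have hkE : R.subtype.comp (k : MulAut R).toMonoidHom ∈ E.Hom R :=
      hW R _ ((mem_autGroup_iff hRM).1 k.2).1 ((hWV.trans hVR)) fun x hx =>
        congrArg Subtype.val (hk x (hWV hx))
    -- `m` extends
    have hmE : R.subtype.comp (m : MulAut R).toMonoidHom ∈ E.Hom R := by
      obtain ⟨hφm, hrm⟩ := hom_of_mem_autGroup hRM m.2
      have h1 := ((Subgroup.mem_normalizer_iff.1 hm cg).1 hcg).1
      replace h1 : m * cg * m⁻¹ ∈ (T : Subgroup A) := h1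
      rw [hT, Subgroup.mem_subgroupOf] at h1
      obtain ⟨h, hh, hhv⟩ := mem_autInducedBy_iff.1 h1
      have hge : g ∈ extender (normalizerIn S Q) R (R.subtype.comp (m : MulAut R).toMonoidHom) := by
        refine mem_extender_iff.2 ⟨hgT0.1, hgN, h, hh, fun x hx => ?_⟩
        have h2 := hhv ((m : MulAut R) x)
        rw [show ((m * cg * m⁻¹ : A) : MulAut R) ((m : MulAut R) x) =
          (m : MulAut R) ((cg : MulAut R) ((m : MulAut R)⁻¹ ((m : MulAut R) x))) from rfl,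
          MulAut.inv_apply_self] at h2
        exact h2
      have hRe := le_extender (S := normalizerIn S Q) (φ := R.subtype.comp (m : MulAut R).toMonoidHom)
        hRM (fun x => hRM ((m : MulAut R) x).2)
      obtain ⟨ψ, hψ, hv⟩ := exists_extension (isReceptive_of_fullyNormalized hMp hF's hRn) hφm hrm
        (le_refl (extender (normalizerIn S Q) R (R.subtype.comp (m : MulAut R).toMonoidHom)))
      have hlt : Nat.card R < Nat.card
          ↥(extender (normalizerIn S Q) R (R.subtype.comp (m : MulAut R).toMonoidHom)) :=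
        card_lt_of_lt (dom_le hψ) (lt_of_le_of_ne hRe fun he => hgR (he ▸ hge))
      refine mem_of_le (hIH _ hlt ψ hψ (heq.le.trans hlt.le)) hRe fun x => ?_
      exact (hv x x.2 (hRe x.2)).symm
    refine comp_mem' hmE hkE (fun x => ((m : MulAut R) x).2) fun x => ?_
    show ((α x : R) : Ω) = _
    rw [← show ((k * m : A) : MulAut R) = α from congrArg Subtype.val hkm]
    rfl
  -- transport to the normalizer of a larger fully normalized subgroup
  have hstep : ∀ U : Subgroup Ω, U ≤ R → normalizerIn S Q ≤ normalizerIn S U →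
      (∀ x : R, (x : Ω) ∈ U → ((α x : R) : Ω) ∈ U) →
      (∀ z ∈ normalizerIn S Q, (∀ x ∈ normalizerIn S Q, x * z = z * x) → z ∈ U) →
      (Nat.card (normalizerIn S Q) < Nat.card (normalizerIn S U) ∨ Nat.card Q < Nat.card U) →
      R.subtype.comp α.toMonoidHom ∈ E.Hom R := by
    intro U hUR hMU hαU hZU hmeas
    obtain ⟨U', hconj, hU'⟩ := exists_fullyNormalized F (hUR.trans hRS)
    obtain ⟨χ, hχ, hχN, hχU⟩ := exists_hom_fullyNormalized hS hF hU' hconj
    have hNS := normalizerIn_le S U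
    have := finite_of_le (Ω := Ω) hNS
    have := finite_of_le (Ω := Ω) hU'.1
    have := finite_of_le (Ω := Ω) (normalizerIn_le S U')
    have hMle : Nat.card (normalizerIn S Q) ≤ Nat.card (normalizerIn S U) := card_le_of_le hNS hMU
    have hχE : χ ∈ E.Hom (normalizerIn S U) := hbig _ (hMn.trans_le hMle) χ hχ
    set χM := χ.comp (Subgroup.inclusion hMU) with hχM
    have hχMm : χM ∈ F.Hom (normalizerIn S Q) := restrict_mem hχ hMU
    have hM'c : F.IsCentric χM.range := isCentric_of_isConj hMc ⟨χM, hχMm, rfl⟩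
    have hχMle : χM.range ≤ normalizerIn S U' := by rintro _ ⟨x, rfl⟩; exact hχN _
    have hRU : R ≤ normalizerIn S U := hRM.trans hMU
    set φ1 := χ.comp (Subgroup.inclusion hRU) with hφ1
    have hφ1F : φ1 ∈ F.Hom R := restrict_mem hχ hRU
    have hφ1E : φ1 ∈ E.Hom R := restrict_mem hχE hRU
    obtain ⟨ψ1, hψ1, hψ1r, hψ1i, hψ1i'⟩ := exists_inverse hφ1F rfl
    have hψ1E : ψ1 ∈ E.Hom φ1.range := inv_mem' hφ1E rfl hψ1i
    have hmemR : ∀ y : φ1.range, ψ1 y ∈ R := fun y => hψ1r.le ⟨y, rfl⟩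
    set α' : φ1.range →* Ω := φ1.comp ((α.toMonoidHom).comp (ψ1.codRestrict R hmemR)) with hα'
    have hα'v : ∀ y, α' y = φ1 (α ⟨ψ1 y, hmemR y⟩) := fun y => rfl
    have hαF : R.subtype.comp α.toMonoidHom ∈ F.Hom R := ((mem_autGroup_iff hRM).1 hα).1
    have hα'F : α' ∈ F.Hom φ1.range :=
      comp_mem' (comp_mem' hψ1 hαF hmemR (χ := (R.subtype.comp α.toMonoidHom).comp
        (ψ1.codRestrict R hmemR)) fun y => rfl) hφ1F (fun y => (α _).2) fun y => rfl
    have hU'R : U' ≤ φ1.range := by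
      rw [← hχU]
      rintro _ ⟨⟨u, hu'⟩, hu, rfl⟩
      exact ⟨⟨u, hUR hu⟩, rfl⟩
    have hR'U : φ1.range ≤ normalizerIn S U' := by rintro _ ⟨x, rfl⟩; exact hχN _
    have hle : φ1.range ⊔ U' ≤ φ1.range := sup_le le_rfl hU'R
    have hnh : α' ∈ F.normalizerHom U' φ1.range := by
      refine ⟨hα'F, hR'U, fun y => hR'U ⟨_, rfl⟩,
        α'.comp (Subgroup.inclusion hle), restrict_mem hα'F hle, fun x => rfl, ?_⟩
      refine (map_subgroupOf_eq_iff (restrict_mem hα'F hle) le_sup_right).2 fun u hu => ?_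
      obtain ⟨⟨w, hw'⟩, hw, hwu⟩ := hχU.ge hu
      have hwR : w ∈ R := hUR hw
      have hu1 : u = φ1 ⟨w, hwR⟩ := hwu.symm
      show α' ⟨u, hU'R hu⟩ ∈ U'
      rw [hα'v, ← hχU]
      have hψu : (⟨ψ1 ⟨u, hU'R hu⟩, hmemR _⟩ : R) = ⟨w, hwR⟩ := Subtype.ext (by
        subst hu1; exact hψ1i _ _)
      rw [hψu]
      exact ⟨⟨_, hRU (α ⟨w, hwR⟩).2⟩, hαU ⟨w, hwR⟩ hw, rfl⟩
    have hcardR : Nat.card φ1.range = Nat.card R := card_range hφ1F
    have hcM' : Nat.card (normalizerIn S U) ≤ Nat.card (normalizerIn S U') := by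
      rw [← card_range hχ]
      exact card_le_of_le (normalizerIn_le S U') (by rintro _ ⟨x, rfl⟩; exact hχN x)
    have hα'E : α' ∈ E.Hom φ1.range := by
      refine ih U' hU' (isCentric_of_le hM'c hχMle (normalizerIn_le S U'))
        (hMn.trans_le (hMle.trans hcM')) ?_ ?_ φ1.range α' hnh (hcardR.symm ▸ heq.le)
      · intro z hz hzc
        have hzM : z ∈ χM.range := isCentric_centralizerIn_le hM'c (mem_centralizerIn.2
          ⟨normalizerIn_le S U' hz, fun y hy => hzc y (hχMle hy)⟩)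
        obtain ⟨w, rfl⟩ := hzM
        have hwU : (w : Ω) ∈ U := hZU w w.2 fun x hx => congrArg Subtype.val
          (F.injective_of_mem hχMm (a₁ := ⟨x, hx⟩ * w) (a₂ := w * ⟨x, hx⟩) (by
            rw [map_mul, map_mul]; exact hzc _ (hχMle ⟨_, rfl⟩)))
        exact hχU.le ⟨⟨w, hMU w.2⟩, hwU, rfl⟩
      · have hUc : Nat.card U' = Nat.card U := isConj_card hconj
        have := card_le_of_le (normalizerIn_le S U') (le_refl (normalizerIn S U'))
        have := card_le_of_le (le_refl S) (normalizerIn_le S U')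
        have := card_le_of_le (le_refl S) hU'.1
        have := card_le_of_le (le_refl S) hQS
        have := measure_lt (a := Nat.card (normalizerIn S Q)) (a' := Nat.card (normalizerIn S U'))
          (q := Nat.card Q) (q' := Nat.card U') (s := Nat.card S) (by omega) (by omega) (by omega)
          (by omega)
        omega
    have hv1 : ∀ x : R, ψ1 ⟨φ1 x, x, rfl⟩ = (x : Ω) := fun x => hψ1i x ⟨x, rfl⟩
    refine comp_mem' (comp_mem' hφ1E hα'E (fun x => ⟨x, rfl⟩)
      (χ := φ1.comp α.toMonoidHom) fun x => ?_) hψ1E (fun x => ⟨α x, rfl⟩) fun x => ?_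
    · rw [hα'v]
      show φ1 (α x) = _
      rw [show (⟨ψ1 ⟨φ1 x, x, rfl⟩, hmemR _⟩ : R) = x from Subtype.ext (hv1 x)]
    · exact (hv1 (α x)).symm
  by_cases hQT : T0 ≤ Q
  swap
  · refine hstep T0 hT0R (le_inf hMS fun g hg => hT0n g hg) ?_ ?_ (Or.inr ?_)
    · intro x hx
      refine ⟨hRM (α x).2, Subgroup.mem_centralizer_iff.2 fun v hv => ?_⟩
      have hv' := hVinv α⁻¹ (Subgroup.inv_mem _ hα) ⟨v, hVQ.trans hQR hv⟩ hv
      have h1 : (α⁻¹ ⟨v, hVQ.trans hQR hv⟩) * x = x * α⁻¹ ⟨v, hVQ.trans hQR hv⟩ :=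
        Subtype.ext (Subgroup.mem_centralizer_iff.1 hx.2 _ hv')
      have h2 := congrArg (fun y => ((α y : R) : Ω)) h1
      simpa using h2
    · exact fun z hz hzc => hQT0 (hZQ z hz hzc)
    · exact card_lt_of_lt (inf_le_left.trans hMS) (lt_of_le_not_ge hQT0 hQT)
  -- all abelian subgroups of largest order of `N_S(Q)` lie in `Q`
  have hmax : ∀ A, PGroup.IsMaxAb (normalizerIn S Q) A → A ≤ Q := by
    intro A hA
    have hA' := (PGroup.isMaxAb_map_subtype_iff _ (A.subgroupOf (normalizerIn S Q))).1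
      (by rwa [Subgroup.map_subgroupOf_eq_of_le hA.1])
    let V' : Subgroup (normalizerIn S Q) :=
      (Q ⊓ Subgroup.centralizer (Q : Set Ω)).subgroupOf (normalizerIn S Q)
    have : V'.Normal := by
      refine ⟨fun v hv g => Subgroup.mem_subgroupOf.2 ?_⟩
      have hr : (conjHom Q (g : Ω)).range = Q := range_eq_of_le (F.conj_mem hQS g.2.1) hQS
        (fun w => (Subgroup.mem_normalizer_iff.1 g.2.2 w).1 w.2) le_rfl
      exact centre_mem_of_surj hr (Subgroup.mem_subgroupOf.1 hv)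
    have hcQ : ∀ a : normalizerIn S Q, (a : Ω) ∈ T0 → a ∈ Subgroup.centralizer (V' : Set _) :=
      fun a ha => Subgroup.mem_centralizer_iff.2 fun v hv => Subtype.ext
        (Subgroup.mem_centralizer_iff.1 (Subgroup.mem_subgroupOf.1 hv).2 a (hQT ha)).symm
    by_cases hAC : A.subgroupOf (normalizerIn S Q) ≤ Subgroup.centralizer (V' : Set _)
    · refine le_trans ?_ hQT
      intro a ha
      refine ⟨hA.1 ha, ?_⟩
      rw [hVdef, powerClosure, Subgroup.centralizer_closure]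
      rintro _ ⟨w, hw, rfl⟩
      have hwM : w ∈ normalizerIn S Q := le_normalizerIn hQS hw.1
      have h := congrArg Subtype.val
        (Subgroup.mem_centralizer_iff.1 (hAC (show (⟨a, hA.1 ha⟩ : normalizerIn S Q) ∈ _ from ha))
          ⟨w, hwM⟩ (Subgroup.mem_subgroupOf.2 hw))
      exact ((show Commute a w from h.symm).pow_right _).eq.symm
    · exfalso
      obtain ⟨a, haC, hav⟩ := PGroup.exists_fixes_powers (p := p) hMp V'
        (fun u hu v hv => Subtype.ext (Subgroup.mem_centralizer_iff.1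
          (Subgroup.mem_subgroupOf.1 hv).2 u (Subgroup.mem_subgroupOf.1 hu).1)) hA' hAC
      refine haC (hcQ a ⟨a.2, ?_⟩)
      rw [hVdef, powerClosure, Subgroup.centralizer_closure]
      rintro _ ⟨w, hw, rfl⟩
      have h := congrArg Subtype.val
        (hav ⟨w, le_normalizerIn hQS hw.1⟩ (Subgroup.mem_subgroupOf.2 hw))
      rw [pow_one]
      exact h.symm
  have hJeq : thompsonSubgroupAOf (normalizerIn S Q) = thompsonSubgroupAOf Q :=
    thompsonA_eq (le_normalizerIn hQS) hmax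
  have hαJ : ∀ x : R, (x : Ω) ∈ thompsonSubgroupAOf Q → ((α x : R) : Ω) ∈ thompsonSubgroupAOf Q := by
    intro x hx
    obtain ⟨f, hf, hr, hv⟩ := hresQ α hα
    exact hv ⟨x, PGroup.thompsonSubgroupAOf_le Q hx⟩ ▸
      thompsonA_mem (F.injective_of_mem hf) hr hx (PGroup.thompsonSubgroupAOf_le Q hx)
  by_cases hMeq : normalizerIn S Q = S
  · rw [hMeq] at hJeq
    refine hJ R _ ((mem_autGroup_iff hRM).1 hα).1
      (hJeq ▸ (PGroup.thompsonSubgroupAOf_le Q).trans hQR) fun x hx => ?_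
    rw [hJeq] at hx ⊢
    exact hαJ x hx
  · refine hstep _ ((PGroup.thompsonSubgroupAOf_le Q).trans hQR)
      (le_inf hMS (inf_le_right.trans (normalizer_le_normalizer_thompsonA Q))) hαJ ?_ (Or.inl ?_)
    · intro z hz hzc
      obtain ⟨A, hA, hAm⟩ := (Set.toFinite {A : Subgroup Q | IsMulCommutative A}).exists_maximalFor
        (fun A : Subgroup Q => Nat.card ↥A) _ ⟨⊥, show IsMulCommutative _ from inferInstance⟩
      have hAmax : A ∈ maxAbelianSubgroups Q := ⟨hA, fun B hB => (le_total _ _).elim id (hAm hB)⟩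
      have hzQ := hZQ z hz hzc
      have hB : IsMulCommutative ↥(A ⊔ Subgroup.zpowers (⟨z, hzQ⟩ : Q)) := by
        refine PGroup.isMulCommutative_of_forall fun a ha b hb => ?_
        have h : A ⊔ Subgroup.zpowers (⟨z, hzQ⟩ : Q) ≤
            Subgroup.centralizer ((A ⊔ Subgroup.zpowers (⟨z, hzQ⟩ : Q) : Subgroup Q) : Set Q) := by
          refine sup_le (fun c hc => ?_) (Subgroup.zpowers_le.2 ?_)
          · refine Subgroup.mem_centralizer_iff.2 fun b hb => ?_
            have : A ⊔ Subgroup.zpowers (⟨z, hzQ⟩ : Q) ≤ Subgroup.centralizer {c} := sup_le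
              (fun c' hc' => Subgroup.mem_centralizer_singleton_iff.2
                (PGroup.mul_comm_of_isMulCommutative hA hc' hc))
              (Subgroup.zpowers_le.2 (Subgroup.mem_centralizer_singleton_iff.2
                (Subtype.ext (hzc c (le_normalizerIn hQS c.2)).symm)))
            exact Subgroup.mem_centralizer_singleton_iff.1 (this hb)
          · refine Subgroup.mem_centralizer_iff.2 fun b hb => Subtype.ext ?_
            exact hzc b (le_normalizerIn hQS b.2)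
        exact (Subgroup.mem_centralizer_iff.1 (h ha) b hb).symm
      have heqA : A = A ⊔ Subgroup.zpowers (⟨z, hzQ⟩ : Q) :=
        Subgroup.eq_of_le_of_card_ge le_sup_left (hAmax.2 _ hB)
      exact PGroup.le_thompsonSubgroupAOf ((PGroup.isMaxAb_map_subtype_iff Q A).2 hAmax)
        ⟨⟨z, hzQ⟩, heqA.ge (Subgroup.mem_sup_right (Subgroup.mem_zpowers _)), rfl⟩
    · refine (card_lt_of_lt (normalizerIn_le S _)
        (lt_normalizerIn hS (lt_of_le_of_ne hMS hMeq))).trans_le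
        (card_le_of_le (normalizerIn_le S _) (le_inf inf_le_left fun g hg => ?_))
      exact hJeq ▸ normalizer_le_normalizer_thompsonA _ hg.2

end Cfsg.Agent.Fusion.ThompsonFactor
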